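import Mathlib
import Groth.Agent.Lib.Helper84.LocalFlat

/-!
# The local criterion of flatness, Noetherian form (helper71)

`flat_of_relative_flat_pow`: `A` Noetherian, `𝔞 ⊆ A`, `B` a Noetherian `A`-algebra with
`𝔞 B ⊆ rad B`, `M` a finite `B`-module such that `- ⊗_A M` preserves injections between
`𝔞 ^ n`-torsion `A`-modules for all `n`.  Then `M` is flat over `A`.

`flat_of_flat_quotient_pow`: the same with the hypothesis `(A ⧸ 𝔞 ^ n) ⊗ M` flat over `A ⧸ 𝔞 ^ n`.
-/

set_option autoImplicit false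
universe u

open TensorProduct

namespace Groth.Agent.Lib.Helper71.LocalCritNoeth

section finite
variable {A : Type u} [CommRing A] {B : Type u} [CommRing B] [Algebra A B]
  (M : Type u) [AddCommGroup M] [Module A M] [Module B M] [IsScalarTower A B M]
  (N : Type u) [AddCommGroup N] [Module A N]

theorem finite_tensor [Module.Finite B M] [Module.Finite A N] : Module.Finite B (M ⊗[A] N) := by
  classical
  obtain ⟨s, hs⟩ := (inferInstance : Module.Finite B M).fg_top
  obtain ⟨t, ht⟩ := (inferInstance : Module.Finite A N).fg_top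
  refine ⟨⟨(s ×ˢ t).image (fun p => p.1 ⊗ₜ[A] p.2), eq_top_iff.mpr ?_⟩⟩
  rintro x -
  set S := Submodule.span B (((s ×ˢ t).image (fun p : M × N => p.1 ⊗ₜ[A] p.2) : Finset (M ⊗[A] N)) :
    Set (M ⊗[A] N)) with hS
  have hgen : ∀ m ∈ s, ∀ n ∈ t, m ⊗ₜ[A] n ∈ S := by
    intro m hm n hn
    apply Submodule.subset_span
    simp only [Finset.coe_image, Set.mem_image, Finset.mem_coe, Finset.mem_product]
    exact ⟨(m, n), ⟨hm, hn⟩, rfl⟩
  induction x with
  | zero => exact zero_mem _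
  | add x y hx hy => exact add_mem hx hy
  | tmul m n =>
    have hm : m ∈ Submodule.span B (s : Set M) := hs ▸ Submodule.mem_top
    have hn : n ∈ Submodule.span A (t : Set N) := ht ▸ Submodule.mem_top
    induction hm using Submodule.span_induction with
    | zero => rw [TensorProduct.zero_tmul]; exact zero_mem _
    | add m₁ m₂ _ _ h₁ h₂ => rw [TensorProduct.add_tmul]; exact add_mem h₁ h₂
    | smul b m₁ _ h₁ => rw [← TensorProduct.smul_tmul']; exact Submodule.smul_mem _ b h₁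
    | mem m₁ hm₁ =>
      induction hn using Submodule.span_induction with
      | zero => rw [TensorProduct.tmul_zero]; exact zero_mem _
      | add n₁ n₂ _ _ h₁ h₂ => rw [TensorProduct.tmul_add]; exact add_mem h₁ h₂
      | smul a n₁ _ h₁ =>
        rw [TensorProduct.tmul_smul, ← algebraMap_smul B a (m₁ ⊗ₜ[A] n₁)]
        exact Submodule.smul_mem _ _ h₁
      | mem n₁ hn₁ => exact hgen m₁ hm₁ n₁ hn₁

end finite

section main
variable {A : Type u} [CommRing A] [IsNoetherianRing A] (𝔞 : Ideal A)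
  {B : Type u} [CommRing B] [IsNoetherianRing B] [Algebra A B]
  (M : Type u) [AddCommGroup M] [Module A M] [Module B M] [IsScalarTower A B M]
  [Module.Finite B M]

theorem flat_of_relative_flat_pow (h𝔞 : 𝔞.map (algebraMap A B) ≤ Ideal.jacobson ⊥)
    (H : ∀ (n : ℕ) (N' N : Type u) [AddCommGroup N'] [AddCommGroup N] [Module A N'] [Module A N]
      (_ : Module.IsTorsionBySet A N' ((𝔞 ^ (n + 1) : Ideal A) : Set A))
      (_ : Module.IsTorsionBySet A N ((𝔞 ^ (n + 1) : Ideal A) : Set A))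
      (f : N' →ₗ[A] N), Function.Injective f → Function.Injective (f.rTensor M)) :
    Module.Flat A M := by
  rw [Module.Flat.iff_rTensor_injective']
  intro 𝔟
  rw [injective_iff_map_eq_zero]
  intro x hx
  -- Step 1: `x ∈ 𝔞 ^ k • ⊤` for all `k`.
  have key : ∀ k : ℕ, x ∈ 𝔞 ^ k • (⊤ : Submodule A (𝔟 ⊗[A] M)) := by
    intro k
    obtain ⟨c, hc⟩ := Ideal.exists_pow_inf_eq_pow_smul 𝔞 (M := A) (𝔟 : Submodule A A)
    set n := k + c with hn
    have hAR : (𝔞 ^ (n + 1) : Ideal A) ⊓ 𝔟 ≤ 𝔞 ^ k • (𝔟 : Submodule A A) := by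
      have h1 := hc (n + 1) (by omega)
      have h2 : (𝔞 ^ (n + 1) • (⊤ : Submodule A A)) = (𝔞 ^ (n + 1) : Ideal A) := by
        simp
      rw [h2] at h1
      rw [h1]
      have h3 : n + 1 - c = k + 1 := by omega
      rw [h3]
      calc 𝔞 ^ (k + 1) • (𝔞 ^ c • (⊤ : Submodule A A) ⊓ 𝔟)
          ≤ 𝔞 ^ (k + 1) • (𝔟 : Submodule A A) := Submodule.smul_mono le_rfl inf_le_right
        _ ≤ 𝔞 ^ k • (𝔟 : Submodule A A) :=
          Submodule.smul_mono_left (Ideal.pow_le_pow_right (Nat.le_succ k))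
    set In : Ideal A := 𝔞 ^ (n + 1) with hIn
    let K : Submodule A ↥𝔟 := Submodule.comap 𝔟.subtype In
    let j : (↥𝔟 ⧸ K) →ₗ[A] (A ⧸ In) := K.mapQ In 𝔟.subtype le_rfl
    have hjinj : Function.Injective j := by
      rw [injective_iff_map_eq_zero]
      intro y hy
      obtain ⟨b, rfl⟩ := K.mkQ_surjective y
      have : In.mkQ (𝔟.subtype b) = 0 := hy
      rw [Submodule.mkQ_apply, Submodule.Quotient.mk_eq_zero] at this
      rw [Submodule.mkQ_apply, Submodule.Quotient.mk_eq_zero]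
      exact this
    have t1 : Module.IsTorsionBySet A (↥𝔟 ⧸ K) ((In : Ideal A) : Set A) := by
      intro y a
      obtain ⟨b, rfl⟩ := K.mkQ_surjective y
      rw [Submodule.mkQ_apply, ← Submodule.Quotient.mk_smul, Submodule.Quotient.mk_eq_zero]
      change ((a : A) • b : ↥𝔟).1 ∈ In
      exact In.mul_mem_right _ a.2
    have t2 : Module.IsTorsionBySet A (A ⧸ In) ((In : Ideal A) : Set A) := by
      intro y a
      obtain ⟨r, rfl⟩ := In.mkQ_surjective y
      rw [Submodule.mkQ_apply, ← Submodule.Quotient.mk_smul, Submodule.Quotient.mk_eq_zero]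
      exact In.mul_mem_right _ a.2
    have hj := H n _ _ t1 t2 j hjinj
    have hcomp : j.comp K.mkQ = In.mkQ.comp 𝔟.subtype := by
      ext b; rfl
    have hqx : K.mkQ.rTensor M x = 0 := by
      apply hj
      rw [map_zero, ← LinearMap.rTensor_comp_apply, hcomp, LinearMap.rTensor_comp_apply, hx,
        map_zero]
    have hex : Function.Exact (K.subtype.rTensor M) (K.mkQ.rTensor M) :=
      rTensor_exact M (LinearMap.exact_subtype_mkQ K) (Submodule.mkQ_surjective K)
    obtain ⟨y, rfl⟩ := (hex x).mp hqx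
    -- elements of `𝔞 ^ k • 𝔟` give tensors in `𝔞 ^ k • ⊤`
    have claim2 : ∀ (b : A) (hb : b ∈ 𝔞 ^ k • (𝔟 : Submodule A A)) (m : M),
        (⟨b, Submodule.smul_le_right hb⟩ : 𝔟) ⊗ₜ[A] m ∈
          𝔞 ^ k • (⊤ : Submodule A (𝔟 ⊗[A] M)) := by
      intro b hb
      refine Submodule.smul_induction_on' (p := fun b hb => ∀ m : M,
        (⟨b, Submodule.smul_le_right hb⟩ : 𝔟) ⊗ₜ[A] m ∈
          𝔞 ^ k • (⊤ : Submodule A (𝔟 ⊗[A] M))) hb ?_ ?_
      · intro a ha b' hb' m
        have : (⟨a • b', Submodule.smul_le_right (Submodule.smul_mem_smul ha hb')⟩ : 𝔟) ⊗ₜ[A] m =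
            a • ((⟨b', hb'⟩ : 𝔟) ⊗ₜ[A] m) := by
          rw [TensorProduct.smul_tmul']; rfl
        rw [this]
        exact Submodule.smul_mem_smul ha Submodule.mem_top
      · intro b₁ hb₁ b₂ hb₂ h₁ h₂ m
        have : (⟨b₁ + b₂, Submodule.smul_le_right (add_mem hb₁ hb₂)⟩ : 𝔟) ⊗ₜ[A] m =
            (⟨b₁, Submodule.smul_le_right hb₁⟩ : 𝔟) ⊗ₜ[A] m +
              (⟨b₂, Submodule.smul_le_right hb₂⟩ : 𝔟) ⊗ₜ[A] m := by
          rw [← TensorProduct.add_tmul]; rfl
        rw [this]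
        exact add_mem (h₁ m) (h₂ m)
    have claim3 : ∀ y : ↥K ⊗[A] M, K.subtype.rTensor M y ∈
        𝔞 ^ k • (⊤ : Submodule A (𝔟 ⊗[A] M)) := by
      intro y
      induction y with
      | zero => simp
      | add y₁ y₂ h₁ h₂ => rw [map_add]; exact add_mem h₁ h₂
      | tmul b m =>
        obtain ⟨⟨b, hb⟩, hbK⟩ := b
        have hbI : b ∈ In := hbK
        exact claim2 b (hAR ⟨hbI, hb⟩) m
    exact claim3 y
  -- Step 2: Krull's intersection theorem over `B`.
  let e : 𝔟 ⊗[A] M ≃ₗ[A] M ⊗[A] 𝔟 := TensorProduct.comm A 𝔟 M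
  have hfin : Module.Finite B (M ⊗[A] 𝔟) := finite_tensor M ↥𝔟
  have hz : e x ∈ (⨅ i : ℕ, (𝔞.map (algebraMap A B)) ^ i • ⊤ : Submodule B (M ⊗[A] 𝔟)) := by
    rw [Submodule.mem_iInf]
    intro k
    have hk := key k
    refine Submodule.smul_induction_on hk ?_ ?_
    · intro a ha w _
      rw [map_smul, ← algebraMap_smul B a (e w)]
      refine Submodule.smul_mem_smul ?_ Submodule.mem_top
      rw [← Ideal.map_pow]
      exact Ideal.mem_map_of_mem _ ha
    · intro w₁ w₂ h₁ h₂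
      rw [map_add]
      exact add_mem h₁ h₂
  rw [Ideal.iInf_pow_smul_eq_bot_of_le_jacobson _ h𝔞, Submodule.mem_bot] at hz
  exact e.map_eq_zero_iff.mp hz

theorem flat_of_flat_quotient_pow (h𝔞 : 𝔞.map (algebraMap A B) ≤ Ideal.jacobson ⊥)
    (hfl : ∀ n : ℕ, Module.Flat (A ⧸ 𝔞 ^ (n + 1)) ((A ⧸ 𝔞 ^ (n + 1)) ⊗[A] M)) :
    Module.Flat A M := by
  refine flat_of_relative_flat_pow 𝔞 M h𝔞 ?_
  intro n N' N _ _ _ _ t1 t2 f hf
  have := hfl n
  exact Groth.Agent.Lib.Helper84.rTensor_injective_of_flat_quotient_of_torsion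
    (𝔞 ^ (n + 1)) M t1 t2 f hf

end main

end Groth.Agent.Lib.Helper71.LocalCritNoeth
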