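import Mathlib
import Groth.Agent.Lib.Helper71.LocalCritNoeth
import Groth.Agent.Lib.Helper98.LocalFlatNilp

/-!
# The local criterion of flatness and the fibre criterion, Noetherian case (helper71)

* `flat_of_rTensor_injective`: `A` Noetherian, `I ⊆ A`, `B` a Noetherian `A`-algebra with
  `I B ⊆ rad B`, `M` a finite `B`-module with `I ⊗ M → M` injective and `M / I M` flat over `A / I`.
  Then `M` is flat over `A`  (Stacks 00ML).
* `rTensor_injective_map`: if `M` is flat over `R` then `(𝔪 S) ⊗[S] M → M` is injective.
* `fibre_criterion`: critère de platitude par fibres, Noetherian case (Stacks 00MP).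
-/

set_option autoImplicit false
universe u

open TensorProduct

namespace Groth.Agent.Lib.Helper71.FibreCritNoeth

section local_criterion
variable {A : Type u} [CommRing A] [IsNoetherianRing A] (I : Ideal A)
  {B : Type u} [CommRing B] [IsNoetherianRing B] [Algebra A B]
  (M : Type u) [AddCommGroup M] [Module A M] [Module B M] [IsScalarTower A B M]
  [Module.Finite B M]

/-- The local criterion of flatness (Noetherian case). -/
theorem flat_of_rTensor_injective (hI : I.map (algebraMap A B) ≤ Ideal.jacobson ⊥)
    (hb : Function.Injective (I.subtype.rTensor M))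
    [Module.Flat (A ⧸ I) ((A ⧸ I) ⊗[A] M)] : Module.Flat A M :=
  Groth.Agent.Lib.Helper71.LocalCritNoeth.flat_of_flat_quotient_pow I M hI
    (fun n => Groth.Agent.Lib.Helper98.flat_quotient_pow I M hb (n + 1) (Nat.succ_le_succ (Nat.zero_le n)))

end local_criterion

section map
variable {R S : Type u} [CommRing R] [CommRing S] [Algebra R S] (𝔪 : Ideal R)
  (M : Type u) [AddCommGroup M] [Module R M] [Module S M] [IsScalarTower R S M]

/-- If `M` is flat over `R`, then `(𝔪 S) ⊗[S] M → S ⊗[S] M` is injective. -/
theorem rTensor_injective_map [Module.Flat R M] :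
    Function.Injective ((𝔪.map (algebraMap R S)).subtype.rTensor M) := by
  set I : Ideal S := 𝔪.map (algebraMap R S) with hI
  -- the comparison map `𝔪 ⊗[R] M → I ⊗[S] M`
  let α : 𝔪 ⊗[R] M →ₗ[R] I ⊗[S] M := TensorProduct.lift
    { toFun := fun a =>
        { toFun := fun m => (⟨algebraMap R S a, Ideal.mem_map_of_mem _ a.2⟩ : I) ⊗ₜ[S] m
          map_add' := fun m₁ m₂ => TensorProduct.tmul_add _ _ _
          map_smul' := fun r m => by
            rw [RingHom.id_apply, TensorProduct.tmul_smul] }
      map_add' := fun a₁ a₂ => by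
        ext m
        simp only [LinearMap.coe_mk, AddHom.coe_mk, LinearMap.add_apply]
        rw [← TensorProduct.add_tmul]
        congr 1
        ext
        simp
      map_smul' := fun r a => by
        ext m
        simp only [LinearMap.coe_mk, AddHom.coe_mk, RingHom.id_apply, LinearMap.smul_apply]
        rw [TensorProduct.smul_tmul']
        congr 1
        ext
        simp [Algebra.smul_def] }
  have hα : ∀ (a : 𝔪) (m : M), α (a ⊗ₜ[R] m) =
      (⟨algebraMap R S a, Ideal.mem_map_of_mem _ a.2⟩ : I) ⊗ₜ[S] m := fun a m => rfl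
  have hαs : Function.Surjective α := by
    intro x
    induction x with
    | zero => exact ⟨0, map_zero _⟩
    | add x y hx hy =>
      obtain ⟨x', rfl⟩ := hx
      obtain ⟨y', rfl⟩ := hy
      exact ⟨x' + y', map_add _ _ _⟩
    | tmul i m =>
      obtain ⟨i, hi⟩ := i
      revert m
      refine Submodule.span_induction (p := fun i hi => ∀ m : M, ∃ y, α y = (⟨i, hi⟩ : I) ⊗ₜ[S] m)
        ?_ ?_ ?_ ?_ hi
      · rintro _ ⟨a, ha, rfl⟩ m
        exact ⟨(⟨a, ha⟩ : 𝔪) ⊗ₜ[R] m, rfl⟩
      · intro m
        refine ⟨0, ?_⟩
        rw [map_zero]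
        have : (⟨0, Submodule.zero_mem _⟩ : I) = 0 := rfl
        rw [this, TensorProduct.zero_tmul]
      · intro x y hx hy h₁ h₂ m
        obtain ⟨y₁, h₁⟩ := h₁ m
        obtain ⟨y₂, h₂⟩ := h₂ m
        refine ⟨y₁ + y₂, ?_⟩
        rw [map_add, h₁, h₂, ← TensorProduct.add_tmul]
        rfl
      · intro s x hx h₁ m
        obtain ⟨y₁, h₁⟩ := h₁ (s • m)
        refine ⟨y₁, ?_⟩
        rw [h₁, ← TensorProduct.smul_tmul]
        rfl
  have hcomp : ∀ y : 𝔪 ⊗[R] M, TensorProduct.lid S M (I.subtype.rTensor M (α y)) =
      TensorProduct.lid R M (𝔪.subtype.rTensor M y) := by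
    intro y
    induction y with
    | zero => simp
    | add x y hx hy => simp only [map_add, hx, hy]
    | tmul a m =>
      rw [hα]
      simp only [LinearMap.rTensor_tmul, Submodule.subtype_apply, TensorProduct.lid_tmul]
      rw [algebraMap_smul]
  have hinj : Function.Injective (𝔪.subtype.rTensor M) :=
    Module.Flat.rTensor_preserves_injective_linearMap _ Subtype.val_injective
  rw [injective_iff_map_eq_zero]
  intro x hx
  obtain ⟨y, rfl⟩ := hαs x
  have h1 := hcomp y
  rw [hx, map_zero] at h1
  have h2 : 𝔪.subtype.rTensor M y = 0 := (TensorProduct.lid R M).injective (by rw [← h1, map_zero])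
  rw [hinj (by rw [h2, map_zero] : 𝔪.subtype.rTensor M y = 𝔪.subtype.rTensor M 0), map_zero]

end map

section quot
variable {S : Type u} [CommRing S] (I : Ideal S) (M : Type u) [AddCommGroup M] [Module S M]

/-- `(S ⧸ I) ⊗[S] M ≃ M ⧸ I M`, linearly over `S ⧸ I`. -/
noncomputable def quotTensorEquiv : ((S ⧸ I) ⊗[S] M) ≃ₗ[S ⧸ I] (M ⧸ (I • ⊤ : Submodule S M)) :=
  LinearEquiv.extendScalarsOfSurjective Ideal.Quotient.mk_surjective
    (TensorProduct.quotTensorEquivQuotSMul M I)

theorem flat_quot_tensor_iff :
    Module.Flat (S ⧸ I) ((S ⧸ I) ⊗[S] M) ↔ Module.Flat (S ⧸ I) (M ⧸ (I • ⊤ : Submodule S M)) :=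
  ⟨fun _ => Module.Flat.of_linearEquiv (quotTensorEquiv I M).symm,
    fun _ => Module.Flat.of_linearEquiv (quotTensorEquiv I M)⟩

end quot

section fibre

theorem map_maximalIdeal_le {R S : Type u} [CommRing R] [CommRing S] [IsLocalRing R]
    [IsLocalRing S] [Algebra R S] [IsLocalHom (algebraMap R S)] :
    (IsLocalRing.maximalIdeal R).map (algebraMap R S) ≤ IsLocalRing.maximalIdeal S := by
  rw [Ideal.map_le_iff_le_comap]
  intro a ha
  rw [Ideal.mem_comap, IsLocalRing.mem_maximalIdeal, mem_nonunits_iff]
  intro hu
  exact (IsLocalRing.mem_maximalIdeal a).mp ha (isUnit_of_map_unit (algebraMap R S) a hu)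

theorem smul_top_le {S S' : Type u} [CommRing S] [CommRing S'] [Algebra S S']
    (M : Type u) [AddCommGroup M] [Module S M] [Module S' M] [IsScalarTower S S' M]
    (J : Ideal S) (J' : Ideal S') (hJ : J.map (algebraMap S S') ≤ J') (x : M)
    (hx : x ∈ J • (⊤ : Submodule S M)) : x ∈ J' • (⊤ : Submodule S' M) := by
  refine Submodule.smul_induction_on hx ?_ ?_
  · intro a ha n _
    rw [← algebraMap_smul S' a n]
    exact Submodule.smul_mem_smul (hJ (Ideal.mem_map_of_mem _ ha)) Submodule.mem_top
  · intro x y hx hy
    exact add_mem hx hy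

/-- A nonzero finite `S'`-module which is flat over `S` is faithfully flat over `S`. -/
theorem faithfullyFlat_of_flat {S : Type u} (S' : Type u) [CommRing S] [CommRing S']
    [IsLocalRing S] [IsLocalRing S'] [Algebra S S'] [IsLocalHom (algebraMap S S')]
    (M : Type u) [AddCommGroup M] [Module S M] [Module S' M] [IsScalarTower S S' M]
    [Module.Finite S' M] [Nontrivial M] [Module.Flat S M] : Module.FaithfullyFlat S M := by
  refine ⟨?_⟩
  intro m hm htop
  have hm' : m = IsLocalRing.maximalIdeal S := IsLocalRing.eq_maximalIdeal hm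
  subst hm'
  have hle : (⊤ : Submodule S' M) ≤ IsLocalRing.maximalIdeal S' • (⊤ : Submodule S' M) := by
    intro x _
    refine smul_top_le M (IsLocalRing.maximalIdeal S) (IsLocalRing.maximalIdeal S')
      map_maximalIdeal_le x ?_
    rw [htop]
    exact Submodule.mem_top
  have hjac : IsLocalRing.maximalIdeal S' ≤ Ideal.jacobson ⊥ := by
    rw [IsLocalRing.jacobson_eq_maximalIdeal ⊥ bot_ne_top]
  have := Submodule.eq_bot_of_le_smul_of_le_jacobson_bot (IsLocalRing.maximalIdeal S')
    (⊤ : Submodule S' M) Module.Finite.fg_top hle hjac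
  exact top_ne_bot this

/-- Fibre criterion, first half: `M` is flat over `S`. -/
theorem flat_of_fibre {R S : Type u} (S' : Type u) [CommRing R] [CommRing S] [CommRing S']
    [IsLocalRing R] [IsLocalRing S] [IsLocalRing S'] [IsNoetherianRing S] [IsNoetherianRing S']
    [Algebra R S] [Algebra S S'] [IsLocalHom (algebraMap R S)] [IsLocalHom (algebraMap S S')]
    (M : Type u) [AddCommGroup M] [Module R M] [Module S M] [Module S' M]
    [IsScalarTower R S M] [IsScalarTower S S' M] [Module.Finite S' M] [Module.Flat R M]
    (hfib : Module.Flat (S ⧸ (IsLocalRing.maximalIdeal R).map (algebraMap R S))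
      (M ⧸ ((IsLocalRing.maximalIdeal R).map (algebraMap R S) • ⊤ : Submodule S M))) :
    Module.Flat S M := by
  have h1 : Module.Flat (S ⧸ (IsLocalRing.maximalIdeal R).map (algebraMap R S))
      ((S ⧸ (IsLocalRing.maximalIdeal R).map (algebraMap R S)) ⊗[S] M) :=
    (flat_quot_tensor_iff _ M).mpr hfib
  refine flat_of_rTensor_injective ((IsLocalRing.maximalIdeal R).map (algebraMap R S)) (B := S') M
    ?_ (rTensor_injective_map (IsLocalRing.maximalIdeal R) M)
  rw [IsLocalRing.jacobson_eq_maximalIdeal ⊥ bot_ne_top]
  exact le_trans (Ideal.map_mono map_maximalIdeal_le) map_maximalIdeal_le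

/-- Fibre criterion, second half: if `M` is flat over `R` and faithfully flat over `S`, then `S`
is flat over `R`. -/
theorem flat_base_of_faithfullyFlat {R S : Type u} [CommRing R] [CommRing S]
    [IsNoetherianRing R] [IsNoetherianRing S] [IsLocalRing R] [IsLocalRing S] [Algebra R S]
    [IsLocalHom (algebraMap R S)]
    (M : Type u) [AddCommGroup M] [Module R M] [Module S M] [IsScalarTower R S M]
    [Module.Flat R M] [Module.FaithfullyFlat S M] : Module.Flat R S := by
  have hfield : Module.Flat (R ⧸ IsLocalRing.maximalIdeal R)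
      ((R ⧸ IsLocalRing.maximalIdeal R) ⊗[R] S) := by
    let _ : Field (R ⧸ IsLocalRing.maximalIdeal R) :=
      Ideal.Quotient.field (IsLocalRing.maximalIdeal R)
    infer_instance
  refine flat_of_rTensor_injective (IsLocalRing.maximalIdeal R) (B := S) S ?_ ?_
  · rw [IsLocalRing.jacobson_eq_maximalIdeal ⊥ bot_ne_top]
    exact map_maximalIdeal_le
  · let g : S ⊗[R] (IsLocalRing.maximalIdeal R) →ₗ[S] S ⊗[R] R :=
      (IsLocalRing.maximalIdeal R).subtype.baseChange S
    have hg : Function.Injective g := by
      rw [← Module.FaithfullyFlat.lTensor_injective_iff_injective S M]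
      let e₁ := TensorProduct.AlgebraTensorModule.cancelBaseChange R S S M
        (IsLocalRing.maximalIdeal R)
      let e₂ := TensorProduct.AlgebraTensorModule.cancelBaseChange R S S M R
      have comm : ∀ x, e₂ (g.lTensor M x) =
          (IsLocalRing.maximalIdeal R).subtype.lTensor M (e₁ x) := by
        intro x
        induction x with
        | zero => simp
        | add x y hx hy => simp only [map_add, hx, hy]
        | tmul m y =>
          induction y with
          | zero => simp
          | add x y hx hy => simp only [TensorProduct.tmul_add, map_add, hx, hy]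
          | tmul s a =>
            simp [e₁, e₂, g, TensorProduct.AlgebraTensorModule.cancelBaseChange_tmul]
      have h1 : Function.Injective ((IsLocalRing.maximalIdeal R).subtype.lTensor M) :=
        Module.Flat.lTensor_preserves_injective_linearMap _ Subtype.val_injective
      intro x y hxy
      apply e₁.injective
      apply h1
      rw [← comm, ← comm, hxy]
    have comm2 : ∀ x : (IsLocalRing.maximalIdeal R) ⊗[R] S,
        TensorProduct.comm R R S ((IsLocalRing.maximalIdeal R).subtype.rTensor S x) =
          g (TensorProduct.comm R (IsLocalRing.maximalIdeal R) S x) := by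
      intro x
      induction x with
      | zero => simp
      | add x y hx hy => simp only [map_add, hx, hy]
      | tmul a s => rfl
    intro x y hxy
    apply (TensorProduct.comm R (IsLocalRing.maximalIdeal R) S).injective
    apply hg
    rw [← comm2, ← comm2, hxy]

/-- **Critère de platitude par fibres**, Noetherian case (Stacks 00MP). -/
theorem fibre_criterion {R S S' : Type u} [CommRing R] [CommRing S] [CommRing S']
    [IsLocalRing R] [IsLocalRing S] [IsLocalRing S']
    [IsNoetherianRing R] [IsNoetherianRing S] [IsNoetherianRing S']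
    [Algebra R S] [Algebra S S'] [IsLocalHom (algebraMap R S)] [IsLocalHom (algebraMap S S')]
    (M : Type u) [AddCommGroup M] [Module R M] [Module S M] [Module S' M]
    [IsScalarTower R S M] [IsScalarTower S S' M] [Module.Finite S' M] [Nontrivial M] :
    (Module.Flat R M ∧ Module.Flat (S ⧸ (IsLocalRing.maximalIdeal R).map (algebraMap R S))
      (M ⧸ ((IsLocalRing.maximalIdeal R).map (algebraMap R S) • ⊤ : Submodule S M))) ↔
    (Module.Flat R S ∧ Module.Flat S M) := by
  constructor
  · rintro ⟨hR, hfib⟩
    have hS : Module.Flat S M := flat_of_fibre S' M hfib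
    have hff : Module.FaithfullyFlat S M := faithfullyFlat_of_flat S' M
    exact ⟨flat_base_of_faithfullyFlat M, hS⟩
  · rintro ⟨hRS, hSM⟩
    refine ⟨Module.Flat.trans R S M, ?_⟩
    exact (flat_quot_tensor_iff _ M).mp inferInstance

end fibre

end Groth.Agent.Lib.Helper71.FibreCritNoeth
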