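import Mathlib
import Groth.Prelude.Def_FlatCA
import Groth.Agent.H76.FlatDescentGlobal

/-!
# Flatness at a directed colimit descends to a stage (helper71)

Derives EGA IV 11.2.6 (in the `FlatCA.IsDirectedColimitRing` form) from helper76's
`FlatDescentGlobal.exists_stage_flat_global`.
-/

set_option autoImplicit false
universe u
open TensorProduct

namespace Groth.Agent.Lib.Helper71.FlatColim

open Groth.Agent.H76.FlatKernel Groth.Agent.H76.FlatDescentLocal
  Groth.Agent.H76.FlatBaseChange Groth.Agent.H76.FlatDescentGlobal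

section factor

variable {ι : Type u} [Preorder ι] (G : ι → Type u) [∀ i, CommRing (G i)]
    (g : ∀ i j, i ≤ j → G i →+* G j) (A : Type u) [CommRing A] [∀ i, Algebra (G i) A]
    (hcolim : FlatCA.IsDirectedColimitRing G g A)

include hcolim

theorem g_comp_apply {i j k : ι} (hij : i ≤ j) (hjk : j ≤ k) (x : G i) :
    g j k hjk (g i j hij x) = g i k (hij.trans hjk) x := by
  obtain ⟨-, -, -, hcomp, -, -, -⟩ := hcolim
  exact congrArg (fun f : G i →+* G k => f x) (hcomp i j k hij hjk)

theorem algebraMap_g {i j : ι} (h : i ≤ j) (x : G i) :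
    algebraMap (G j) A (g i j h x) = algebraMap (G i) A x := by
  obtain ⟨-, -, -, -, hcompat, -, -⟩ := hcolim
  exact congrArg (fun f : G i →+* A => f x) (hcompat i j h)

theorem exists_ge_finite {κ : Type*} [Finite κ] (i₀ : ι) (f : κ → ι) :
    ∃ j, i₀ ≤ j ∧ ∀ k, f k ≤ j := by
  have hdir : IsDirected ι (· ≤ ·) := hcolim.1
  have hne : Nonempty ι := hcolim.2.1
  obtain ⟨j, hj⟩ := Finite.exists_le (fun o : Option κ => o.elim i₀ f)
  exact ⟨j, hj none, fun k => hj (some k)⟩

/-- Finitely many elements of a stage vanishing in the colimit vanish at a common later stage. -/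
theorem exists_stage_forall_eq_zero {i : ι} (s : Finset (G i))
    (hs : ∀ x ∈ s, algebraMap (G i) A x = 0) :
    ∃ j, ∃ h : i ≤ j, ∀ x ∈ s, g i j h x = 0 := by
  have hz : ∀ x : s, ∃ j, ∃ h : i ≤ j, g i j h x.1 = 0 := fun x =>
    hcolim.2.2.2.2.2.2 i x.1 (hs x.1 x.2)
  choose jx hjx hx using hz
  obtain ⟨j, hij, hj⟩ := exists_ge_finite G g A hcolim i jx
  refine ⟨j, hij, fun x hxs => ?_⟩
  have h1 := g_comp_apply G g A hcolim (hjx ⟨x, hxs⟩) (hj ⟨x, hxs⟩) x
  rw [← h1, hx ⟨x, hxs⟩, map_zero]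

/-- Finitely many elements of the colimit lift to a common stage. -/
theorem exists_stage_lift_finite {κ : Type*} [Finite κ] (a : κ → A) :
    ∃ i, ∃ y : κ → G i, ∀ k, algebraMap (G i) A (y k) = a k := by
  have hz : ∀ k, ∃ i, ∃ x : G i, algebraMap (G i) A x = a k := fun k =>
    hcolim.2.2.2.2.2.1 (a k)
  choose ik xk hxk using hz
  have hne : Nonempty ι := hcolim.2.1
  obtain ⟨j, -, hj⟩ := exists_ge_finite G g A hcolim hne.some ik
  refine ⟨j, fun k => g (ik k) j (hj k) (xk k), fun k => ?_⟩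
  rw [algebraMap_g G g A hcolim, hxk]

/-- A ring map from a finitely presented `ℤ`-algebra to the colimit factors through a stage. -/
theorem exists_factor (S : Type*) [CommRing S] [Algebra.FinitePresentation ℤ S] (f : S →+* A) :
    ∃ i, ∃ ψ : S →+* G i, (algebraMap (G i) A).comp ψ = f := by
  classical
  obtain ⟨n, π, hπ, hker⟩ := Algebra.FinitePresentation.out (R := ℤ) (A := S)
  obtain ⟨i, y, hy⟩ := exists_stage_lift_finite G g A hcolim (fun l : Fin n => f (π (MvPolynomial.X l)))
  let θ : MvPolynomial (Fin n) ℤ →+* G i := MvPolynomial.eval₂Hom (Int.castRingHom (G i)) y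
  have hθ : (algebraMap (G i) A).comp θ = f.comp π.toRingHom := by
    apply MvPolynomial.ringHom_ext
    · intro r
      simp
    · intro l
      simp [θ, hy]
  obtain ⟨T, hT⟩ := hker
  obtain ⟨j, hij, hj⟩ := exists_stage_forall_eq_zero G g A hcolim (T.image θ) (by
    intro x hx
    obtain ⟨t, ht, rfl⟩ := Finset.mem_image.mp hx
    have h1 : algebraMap (G i) A (θ t) = f (π t) := congrArg (fun φ : _ →+* A => φ t) hθ
    have h2 : t ∈ RingHom.ker π.toRingHom := by
      rw [← hT]; exact Ideal.subset_span ht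
    rw [h1]
    have h3 : π t = 0 := h2
    rw [h3, map_zero])
  have hle : RingHom.ker π.toRingHom ≤ RingHom.ker ((g i j hij).comp θ) := by
    rw [← hT, Ideal.span_le]
    intro t ht
    exact hj (θ t) (Finset.mem_image_of_mem θ ht)
  refine ⟨j, RingHom.liftOfSurjective π.toRingHom hπ ⟨(g i j hij).comp θ, hle⟩, ?_⟩
  apply RingHom.ext
  intro x
  obtain ⟨p, rfl⟩ := hπ x
  have h1 : RingHom.liftOfSurjective π.toRingHom hπ ⟨(g i j hij).comp θ, hle⟩ (π.toRingHom p) =
      ((g i j hij).comp θ) p :=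
    RingHom.liftOfRightInverse_comp_apply _ _ _ _ p
  have h2 : algebraMap (G i) A (θ p) = f (π p) := congrArg (fun φ : _ →+* A => φ p) hθ
  change algebraMap (G j) A (RingHom.liftOfSurjective π.toRingHom hπ ⟨(g i j hij).comp θ, hle⟩
    (π.toRingHom p)) = f (π p)
  rw [h1, RingHom.comp_apply, algebraMap_g G g A hcolim, h2]

/-- A polynomial over a stage vanishing over the colimit vanishes over a later stage. -/
theorem exists_stage_forall_map_eq {κ σ : Type*} [Finite κ] {i : ι}
    (p q : κ → MvPolynomial σ (G i))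
    (h : ∀ k, MvPolynomial.map (algebraMap (G i) A) (p k) =
      MvPolynomial.map (algebraMap (G i) A) (q k)) :
    ∃ j, ∃ hij : i ≤ j, ∀ k, MvPolynomial.map (g i j hij) (p k) =
      MvPolynomial.map (g i j hij) (q k) := by
  classical
  have := Fintype.ofFinite κ
  obtain ⟨j, hij, hj⟩ := exists_stage_forall_eq_zero G g A hcolim
    (Finset.univ.biUnion fun k => (p k - q k).coeffs) (by
      intro x hx
      obtain ⟨k, -, hk⟩ := Finset.mem_biUnion.mp hx
      obtain ⟨m, -, rfl⟩ := MvPolynomial.mem_coeffs_iff.mp hk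
      rw [← MvPolynomial.coeff_map, map_sub, h k, sub_self, MvPolynomial.coeff_zero])
  refine ⟨j, hij, fun k => ?_⟩
  rw [← sub_eq_zero, ← map_sub]
  ext m
  rw [MvPolynomial.coeff_map, MvPolynomial.coeff_zero]
  by_cases hm : m ∈ (p k - q k).support
  · exact hj _ (Finset.mem_biUnion.mpr ⟨k, Finset.mem_univ k,
      MvPolynomial.coeff_mem_coeffs _ (MvPolynomial.mem_support_iff.mp hm)⟩)
  · rw [MvPolynomial.notMem_support_iff.mp hm, map_zero]

end factor

section coker

attribute [local instance] MvPolynomial.algebraMvPolynomial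

variable {A₀ : Type u} [CommRing A₀] {n a b : ℕ}

/-- The cokernel of a matrix of polynomials. -/
abbrev Coker {R : Type u} [CommRing R] (c : Fin a → Fin b → MvPolynomial (Fin n) R) : Type u :=
  (Fin b → MvPolynomial (Fin n) R) ⧸
    Submodule.span (MvPolynomial (Fin n) R) (Set.range c)

/-- Base change of the cokernel of a polynomial matrix. -/
noncomputable def cokerBaseChange (C : Type u) [CommRing C] [Algebra A₀ C]
    (c₀ : Fin a → Fin b → MvPolynomial (Fin n) A₀) :
    C ⊗[A₀] Coker c₀ ≃ₗ[C] Coker (cmap (algebraMap A₀ C) c₀) :=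
  (Algebra.IsPushout.cancelBaseChange A₀ C (MvPolynomial (Fin n) A₀) (MvPolynomial (Fin n) C)
      (Coker c₀)).symm ≪≫ₗ
    ((isBaseChange_cokerMap (P₂ := MvPolynomial (Fin n) C) c₀).equiv.restrictScalars C)

theorem flat_coker_iff (C : Type u) [CommRing C] [Algebra A₀ C]
    (c₀ : Fin a → Fin b → MvPolynomial (Fin n) A₀)
    (M₀ : Type u) [AddCommGroup M₀] [Module A₀ M₀] (e : M₀ ≃ₗ[A₀] Coker c₀) :
    Module.Flat C (C ⊗[A₀] M₀) ↔ Module.Flat C (Coker (cmap (algebraMap A₀ C) c₀)) := by
  have e1 : C ⊗[A₀] M₀ ≃ₗ[C] Coker (cmap (algebraMap A₀ C) c₀) :=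
    (AlgebraTensorModule.congr (LinearEquiv.refl C C) e) ≪≫ₗ cokerBaseChange C c₀
  exact ⟨fun h => Module.Flat.of_linearEquiv e1.symm, fun h => Module.Flat.of_linearEquiv e1⟩

/-- A finitely presented module over a finitely presented algebra is the cokernel of a matrix
of polynomials. -/
theorem exists_presentation (B₀ : Type u) [CommRing B₀] [Algebra A₀ B₀]
    [Algebra.FinitePresentation A₀ B₀]
    (M₀ : Type u) [AddCommGroup M₀] [Module B₀ M₀] [Module A₀ M₀] [IsScalarTower A₀ B₀ M₀]
    [Module.FinitePresentation B₀ M₀] :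
    ∃ (n a b : ℕ) (c₀ : Fin a → Fin b → MvPolynomial (Fin n) A₀),
      Nonempty (M₀ ≃ₗ[A₀] Coker c₀) := by
  obtain ⟨n, π, hπ, hker⟩ := Algebra.FinitePresentation.out (R := A₀) (A := B₀)
  let _ : Algebra (MvPolynomial (Fin n) A₀) B₀ := π.toRingHom.toAlgebra
  have halg : ∀ p : MvPolynomial (Fin n) A₀, algebraMap (MvPolynomial (Fin n) A₀) B₀ p = π p :=
    fun p => rfl
  have : IsScalarTower A₀ (MvPolynomial (Fin n) A₀) B₀ :=
    IsScalarTower.of_algebraMap_eq fun r => (π.commutes r).symm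
  let _ : Module (MvPolynomial (Fin n) A₀) M₀ := Module.compHom M₀ π.toRingHom
  have hsm : ∀ (p : MvPolynomial (Fin n) A₀) (m : M₀), p • m = π p • m := fun p m => rfl
  have : IsScalarTower (MvPolynomial (Fin n) A₀) B₀ M₀ := ⟨fun p x m => by
    rw [Algebra.smul_def, halg, hsm, mul_smul]⟩
  have : IsScalarTower A₀ (MvPolynomial (Fin n) A₀) M₀ := ⟨fun r p m => by
    rw [hsm, hsm, map_smul, smul_assoc]⟩
  have : Module.FinitePresentation (MvPolynomial (Fin n) A₀) B₀ := by
    refine Module.finitePresentation_of_surjective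
      (Algebra.linearMap (MvPolynomial (Fin n) A₀) B₀) hπ ?_
    exact hker
  have : Module.FinitePresentation (MvPolynomial (Fin n) A₀) M₀ :=
    Module.FinitePresentation.trans (MvPolynomial (Fin n) A₀) M₀ B₀
  obtain ⟨b, K, e, hK⟩ := Module.FinitePresentation.exists_fin (MvPolynomial (Fin n) A₀) M₀
  obtain ⟨a, c₀, rfl⟩ := Submodule.fg_iff_exists_fin_generating_family.mp hK
  exact ⟨n, a, b, c₀, ⟨e.restrictScalars A₀⟩⟩

end coker

section main

/-- **EGA IV 11.2.6**: flatness at a directed colimit descends to a stage. -/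
theorem flat_colimit_iff {A₀ : Type u} [CommRing A₀]
    {ι : Type u} [Preorder ι] (G : ι → Type u) [∀ i, CommRing (G i)] [∀ i, Algebra A₀ (G i)]
    (g : ∀ i j, i ≤ j → G i →ₐ[A₀] G j)
    (A : Type u) [CommRing A] [Algebra A₀ A] [∀ i, Algebra (G i) A]
    [∀ i, IsScalarTower A₀ (G i) A]
    (hcolim : FlatCA.IsDirectedColimitRing G (fun i j h => (g i j h).toRingHom) A)
    {B₀ : Type u} [CommRing B₀] [Algebra A₀ B₀] [Algebra.FinitePresentation A₀ B₀]
    (M₀ : Type u) [AddCommGroup M₀] [Module B₀ M₀] [Module A₀ M₀] [IsScalarTower A₀ B₀ M₀]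
    [Module.FinitePresentation B₀ M₀] :
    Module.Flat A (A ⊗[A₀] M₀) ↔ ∃ i : ι, Module.Flat (G i) (G i ⊗[A₀] M₀) := by
  constructor
  · intro hflat
    obtain ⟨n, a, b, c₀, ⟨e⟩⟩ := exists_presentation (A₀ := A₀) B₀ M₀
    have h1 : Module.Flat A (Coker (cmap (algebraMap A₀ A) c₀)) :=
      (flat_coker_iff A c₀ M₀ e).mp hflat
    obtain ⟨s, -, c', hc', hfl⟩ := exists_stage_flat_global (cmap (algebraMap A₀ A) c₀) ∅
    have : Algebra.FinitePresentation ℤ (Stg s) :=
      Algebra.FinitePresentation.of_finiteType.mp inferInstance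
    obtain ⟨i, ψ, hψ⟩ := exists_factor G _ A hcolim (Stg s) (algebraMap (Stg s) A)
    obtain ⟨j, hij, hj⟩ := exists_stage_forall_map_eq G _ A hcolim (κ := Fin a × Fin b)
      (fun k => MvPolynomial.map ψ (c' k.1 k.2))
      (fun k => MvPolynomial.map (algebraMap A₀ (G i)) (c₀ k.1 k.2)) (by
        intro k
        rw [MvPolynomial.map_map, MvPolynomial.map_map, hψ, ← IsScalarTower.algebraMap_eq]
        exact congrFun (congrFun hc' k.1) k.2)
    refine ⟨j, ?_⟩
    let _ : Algebra (Stg s) (G j) := ((g i j hij).toRingHom.comp ψ).toAlgebra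
    have halg : algebraMap (Stg s) (G j) = (g i j hij).toRingHom.comp ψ :=
      RingHom.algebraMap_toAlgebra _
    have h2 : Module.Flat (G j) (Coker (cmap (algebraMap (Stg s) (G j)) c')) :=
      (flat_coker_iff (G j) c' (Coker c') (LinearEquiv.refl _ _)).mp inferInstance
    have h3 : cmap (algebraMap (Stg s) (G j)) c' = cmap (algebraMap A₀ (G j)) c₀ := by
      ext k l : 2
      have h4 := hj (k, l)
      simp only [MvPolynomial.map_map] at h4
      rw [cmap_apply, cmap_apply, halg]
      have h5 : ((g i j hij).toRingHom.comp (algebraMap A₀ (G i))) = algebraMap A₀ (G j) := by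
        ext r
        exact (g i j hij).commutes r
      rw [← h5]
      exact h4
    rw [h3] at h2
    exact (flat_coker_iff (G j) c₀ M₀ e).mpr h2
  · rintro ⟨i, hi⟩
    exact Module.Flat.of_linearEquiv (AlgebraTensorModule.cancelBaseChange A₀ (G i) A A M₀).symm

end main

end Groth.Agent.Lib.Helper71.FlatColim
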