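import Mathlib.Tactic
import Mathlib.RingTheory.Flat.Equalizer
import Mathlib.RingTheory.Flat.Tensor

/-!
# More flatness lemmas (helper71)

* `flat_prod`: the product of two flat modules is flat.
* `flat_ker_of_surjective`: the kernel of a surjection of flat modules is flat.
-/

set_option autoImplicit false
universe u v w

namespace Groth.Agent.Lib.Helper71

open TensorProduct

section

variable {R : Type u} [CommRing R] {M : Type v} {N : Type w}
  [AddCommGroup M] [Module R M] [AddCommGroup N] [Module R N]

/-- The product of two flat modules is flat. -/
theorem flat_prod [Module.Flat R M] [Module.Flat R N] : Module.Flat R (M × N) := by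
  rw [Module.Flat.iff_rTensor_injective']
  intro I
  rw [injective_iff_map_eq_zero]
  intro x hx
  have h1 : (LinearMap.fst R M N).lTensor I x = 0 := by
    apply (Module.Flat.iff_rTensor_injective'.mp (inferInstance : Module.Flat R M)) I
    rw [map_zero, ← LinearMap.comp_apply, LinearMap.rTensor_comp_lTensor,
      ← LinearMap.lTensor_comp_rTensor, LinearMap.comp_apply, hx, map_zero]
  have h2 : (LinearMap.snd R M N).lTensor I x = 0 := by
    apply (Module.Flat.iff_rTensor_injective'.mp (inferInstance : Module.Flat R N)) I
    rw [map_zero, ← LinearMap.comp_apply, LinearMap.rTensor_comp_lTensor,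
      ← LinearMap.lTensor_comp_rTensor, LinearMap.comp_apply, hx, map_zero]
  have h3 : (LinearMap.inl R M N) ∘ₗ (LinearMap.fst R M N) +
      (LinearMap.inr R M N) ∘ₗ (LinearMap.snd R M N) = LinearMap.id := by
    ext <;> simp
  have h4 : x = (LinearMap.id : M × N →ₗ[R] M × N).lTensor I x := by simp
  rw [h4, ← h3, LinearMap.lTensor_add, LinearMap.add_apply, LinearMap.lTensor_comp,
    LinearMap.lTensor_comp, LinearMap.comp_apply, LinearMap.comp_apply, h1, h2, map_zero,
    map_zero, add_zero]

/-- The kernel of a surjection between flat modules is flat. -/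
theorem flat_ker_of_surjective [Module.Flat R M] [Module.Flat R N] (f : M →ₗ[R] N)
    (hf : Function.Surjective f) : Module.Flat R (LinearMap.ker f) := by
  rw [Module.Flat.iff_rTensor_injective']
  intro I
  have hinj1 : Function.Injective ((LinearMap.ker f).subtype.lTensor I) :=
    LinearMap.lTensor_injective_of_exact_of_flat f hf _ (LinearMap.ker f).injective_subtype
      (LinearMap.exact_subtype_ker_map f) I
  have hinj2 : Function.Injective (I.subtype.rTensor M) :=
    Module.Flat.iff_rTensor_injective'.mp inferInstance I
  have hcomp : Function.Injective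
      (((LinearMap.ker f).subtype.lTensor R) ∘ₗ (I.subtype.rTensor (LinearMap.ker f))) := by
    rw [LinearMap.lTensor_comp_rTensor, ← LinearMap.rTensor_comp_lTensor]
    exact hinj2.comp hinj1
  exact Function.Injective.of_comp hcomp

end

end Groth.Agent.Lib.Helper71
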