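import Mathlib
import Groth.Prelude.Def_MoreMor
import Groth.Agent.Lib.Helper18.SubschemeIncl

/-!
# The base change of a finite order thickening is a finite order thickening (helper71)
-/

set_option autoImplicit false
universe u

namespace Groth.Agent.Lib.Helper71.ThickPullback

open CategoryTheory CategoryTheory.Limits AlgebraicGeometry

theorem isFiniteOrderThickening_of_isPullback {Y Y' S S' : Scheme.{u}} {iY : Y ⟶ Y'} {g : Y ⟶ S}
    {g' : Y' ⟶ S'} {iS : S ⟶ S'} (hcY : IsPullback iY g g' iS)
    (hS : MoreMor.IsFiniteOrderThickening iS) : MoreMor.IsFiniteOrderThickening iY := by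
  obtain ⟨⟨hcl, hsurj⟩, m, hm⟩ := hS
  have h1 : IsClosedImmersion iY := MorphismProperty.of_isPullback hcY.flip hcl
  have h2 : Surjective iY := MorphismProperty.of_isPullback hcY.flip hsurj
  refine ⟨⟨h1, h2⟩, m, ?_⟩
  rw [← hcY.isoPullback_hom_fst, Scheme.Hom.ker_comp_of_isIso,
    Scheme.IdealSheafData.ker_fst_of_isClosedImmersion,
    ← Groth.Agent.Lib.Helper18.comap_pow, hm]
  exact Scheme.IdealSheafData.comap_bot _

/-- Surjectivity transfers along thickenings in a commutative square. -/
theorem surjective_of_comm {X X' Y Y' : Scheme.{u}} (iX : X ⟶ X') (iY : Y ⟶ Y') (f : X ⟶ Y)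
    (f' : X' ⟶ Y') (w : iX ≫ f' = f ≫ iY) [Surjective iY] [Surjective f] : Surjective f' := by
  constructor
  intro y'
  obtain ⟨y, rfl⟩ := iY.surjective y'
  obtain ⟨x, rfl⟩ := f.surjective y
  refine ⟨iX x, ?_⟩
  rw [← Scheme.Hom.comp_apply, w, Scheme.Hom.comp_apply]

end Groth.Agent.Lib.Helper71.ThickPullback
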