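import Mathlib
import Groth.Agent.S4848

/-!
# Faithfully flat finitely presented algebras descend to a stage of a directed colimit (helper71)

Built on EGA IV 11.2.6 (`S4848`, helper76).
-/

set_option autoImplicit false
set_option linter.unusedSectionVars false
universe u

open TensorProduct

namespace Groth.Agent.Lib.Helper71.FFStage

section fibre

/-- If a field `K` receives `C` with kernel `p`, and `p` is in the image of `Spec D → Spec C`,
then `K ⊗_C D` is nontrivial. -/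
theorem nontrivial_tensor_of_mem_range {C D K : Type u} [CommRing C] [CommRing D] [Field K]
    [Algebra C D] [Algebra C K] (q : PrimeSpectrum D)
    (hq : q.asIdeal.comap (algebraMap C D) = RingHom.ker (algebraMap C K)) :
    Nontrivial (K ⊗[C] D) := by
  have hpprime : (RingHom.ker (algebraMap C K)).IsPrime := RingHom.ker_isPrime _
  let p : Ideal C := RingHom.ker (algebraMap C K)
  let κ := p.ResidueField
  let L := q.asIdeal.ResidueField
  have hunitK : p.primeCompl ≤ (IsUnit.submonoid K).comap (algebraMap C K) := by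
    intro x hx
    refine (IsUnit.mem_submonoid_iff _).mpr (isUnit_iff_ne_zero.mpr fun h0 => hx ?_)
    exact (RingHom.mem_ker).mpr h0
  have hkerL : RingHom.ker (algebraMap C L) = p := by
    rw [IsScalarTower.algebraMap_eq C D L, ← RingHom.comap_ker, Ideal.ker_algebraMap_residueField]
    exact hq
  have hunitL : p.primeCompl ≤ (IsUnit.submonoid L).comap (algebraMap C L) := by
    intro x hx
    refine (IsUnit.mem_submonoid_iff _).mpr (isUnit_iff_ne_zero.mpr fun h0 => hx ?_)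
    rw [← hkerL]
    exact (RingHom.mem_ker).mpr h0
  let fK : κ →+* K := Ideal.ResidueField.lift p (algebraMap C K) le_rfl hunitK
  let fL : κ →+* L := Ideal.ResidueField.lift p (algebraMap C L) hkerL.ge hunitL
  let _ : Algebra κ K := fK.toAlgebra
  let _ : Algebra κ L := fL.toAlgebra
  have tK : IsScalarTower C κ K := IsScalarTower.of_algebraMap_eq fun r =>
    (Ideal.ResidueField.lift_algebraMap p (algebraMap C K) le_rfl hunitK r).symm
  have tL : IsScalarTower C κ L := IsScalarTower.of_algebraMap_eq fun r =>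
    (Ideal.ResidueField.lift_algebraMap p (algebraMap C L) hkerL.ge hunitL r).symm
  have hnt : Nontrivial (K ⊗[κ] L) := inferInstance
  let Φ : K ⊗[C] D →ₗ[C] K ⊗[κ] L :=
    (TensorProduct.mapOfCompatibleSMul κ C C K L) ∘ₗ
      LinearMap.lTensor K ((Algebra.linearMap D L).restrictScalars C)
  have hΦ : Φ ((1 : K) ⊗ₜ[C] (1 : D)) = (1 : K) ⊗ₜ[κ] (1 : L) := by
    simp [Φ]
  refine ⟨⟨(1 : K) ⊗ₜ[C] (1 : D), 0, fun h => ?_⟩⟩
  have h1 : (1 : K) ⊗ₜ[κ] (1 : L) = 0 := by rw [← hΦ, h, map_zero]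
  rw [← Algebra.TensorProduct.one_def] at h1
  exact one_ne_zero h1

/-- If `D` is flat over `C`, the complement of `V(J)` is contained in the image of
`Spec D → Spec C`, and `J C' = C'`, then `C' ⊗_C D` is faithfully flat over `C'`. -/
theorem faithfullyFlat_baseChange_of_cover {C C' D : Type u} [CommRing C] [CommRing C']
    [CommRing D] [Algebra C C'] [Algebra C D] [Module.Flat C D] (J : Ideal C)
    (hJ : ∀ p : PrimeSpectrum C, ¬ J ≤ p.asIdeal →
      p ∈ Set.range (PrimeSpectrum.comap (algebraMap C D)))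
    (hJC' : J.map (algebraMap C C') = ⊤) :
    Module.FaithfullyFlat C' (C' ⊗[C] D) := by
  refine ⟨fun m hm => ?_⟩
  let _ : Field (C' ⧸ m) := Ideal.Quotient.field m
  let K := C' ⧸ m
  have tK : IsScalarTower C C' K := inferInstance
  have hker : RingHom.ker (algebraMap C K) = m.comap (algebraMap C C') := by
    ext x
    rw [RingHom.mem_ker, Ideal.mem_comap, IsScalarTower.algebraMap_apply C C' K,
      Ideal.Quotient.algebraMap_eq, Ideal.Quotient.eq_zero_iff_mem]
  have hpprime : (RingHom.ker (algebraMap C K)).IsPrime := RingHom.ker_isPrime _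
  have hJp : ¬ J ≤ RingHom.ker (algebraMap C K) := by
    intro hle
    have : J.map (algebraMap C C') ≤ m := by
      rw [Ideal.map_le_iff_le_comap, ← hker]; exact hle
    rw [hJC'] at this
    exact hm.ne_top (top_le_iff.mp this)
  obtain ⟨q, hq⟩ := hJ ⟨RingHom.ker (algebraMap C K), hpprime⟩ hJp
  have hq' : q.asIdeal.comap (algebraMap C D) = RingHom.ker (algebraMap C K) :=
    congrArg PrimeSpectrum.asIdeal hq
  have hnt : Nontrivial (K ⊗[C] D) := nontrivial_tensor_of_mem_range q hq'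
  let e1 : K ⊗[C'] (C' ⊗[C] D) ≃ₗ[K] K ⊗[C] D := AlgebraTensorModule.cancelBaseChange C C' K K D
  let e2 : (C' ⧸ m) ⊗[C'] (C' ⊗[C] D) ≃ₗ[C'] (C' ⊗[C] D) ⧸ (m • (⊤ : Submodule C' (C' ⊗[C] D))) :=
    TensorProduct.quotTensorEquivQuotSMul (C' ⊗[C] D) m
  have hnt2 : Nontrivial ((C' ⊗[C] D) ⧸ (m • (⊤ : Submodule C' (C' ⊗[C] D)))) :=
    e2.symm.toEquiv.nontrivial_congr.mpr (e1.toEquiv.nontrivial_congr.mpr hnt)
  intro htop
  rw [htop] at hnt2
  exact not_subsingleton _ (inferInstance : Subsingleton ((C' ⊗[C] D) ⧸ (⊤ : Submodule C' (C' ⊗[C] D))))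

end fibre

section stage
variable {A₀ : Type u} [CommRing A₀]
    {ι : Type u} [Preorder ι] (G : ι → Type u) [∀ i, CommRing (G i)] [∀ i, Algebra A₀ (G i)]
    (g : ∀ i j, i ≤ j → G i →ₐ[A₀] G j)
    (A : Type u) [CommRing A] [Algebra A₀ A] [∀ i, Algebra (G i) A] [∀ i, IsScalarTower A₀ (G i) A]

omit [∀ i, Algebra (G i) A] [∀ i, IsScalarTower A₀ (G i) A] in
theorem flat_stage_mono {i j : ι} (φ : G i →ₐ[A₀] G j) (M₀ : Type u) [AddCommGroup M₀]
    [Module A₀ M₀] [Module.Flat (G i) (G i ⊗[A₀] M₀)] : Module.Flat (G j) (G j ⊗[A₀] M₀) := by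
  let _ : Algebra (G i) (G j) := φ.toRingHom.toAlgebra
  have : IsScalarTower A₀ (G i) (G j) :=
    IsScalarTower.of_algebraMap_eq fun r => (φ.commutes r).symm
  exact Module.Flat.of_linearEquiv
    (AlgebraTensorModule.cancelBaseChange A₀ (G i) (G j) (G j) M₀).symm

variable (hcolim : FlatCA.IsDirectedColimitRing G (fun i j h => (g i j h).toRingHom) A)

include hcolim

theorem map_stage_mem {i j k : ι} (h1 : i ≤ j) (h2 : j ≤ k) (J : Ideal (G i)) {y : G j}
    (hy : y ∈ J.map (g i j h1).toRingHom) :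
    (g j k h2) y ∈ J.map (g i k (h1.trans h2)).toRingHom := by
  obtain ⟨-, -, -, hcomp, -, -, -⟩ := hcolim
  have hcomp' : (g j k h2).toRingHom.comp (g i j h1).toRingHom =
      (g i k (h1.trans h2)).toRingHom := hcomp i j k h1 h2
  have h3 : (g j k h2) y ∈ (J.map (g i j h1).toRingHom).map (g j k h2).toRingHom :=
    Ideal.mem_map_of_mem _ hy
  rw [Ideal.map_map, hcomp'] at h3
  exact h3

theorem algebraMap_stage {i j : ι} (h : i ≤ j) (x : G i) :
    algebraMap (G j) A (g i j h x) = algebraMap (G i) A x := by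
  obtain ⟨-, -, -, -, hcompat, -, -⟩ := hcolim
  exact congrArg (fun f : G i →+* A => f x) (hcompat i j h)

theorem exists_stage_map_eq_top {i : ι} (J : Ideal (G i))
    (hJ : J.map (algebraMap (G i) A) = ⊤) :
    ∃ (j : ι) (h : i ≤ j), J.map (g i j h).toRingHom = ⊤ := by
  have hcolim' := hcolim
  obtain ⟨hdir, -, hid, hcomp, hcompat, hsurj, hinj⟩ := hcolim
  have key : ∀ x ∈ J.map (algebraMap (G i) A), ∃ (j : ι) (h : i ≤ j) (y : G j),
      y ∈ J.map (g i j h).toRingHom ∧ algebraMap (G j) A y = x := by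
    intro x hx
    unfold Ideal.map at hx
    induction hx using Submodule.span_induction with
    | mem x hx =>
      obtain ⟨c, hc, rfl⟩ := hx
      refine ⟨i, le_rfl, c, ?_, rfl⟩
      have hid' : (g i i le_rfl).toRingHom = RingHom.id (G i) := hid i
      rw [hid', Ideal.map_id]
      exact hc
    | zero => exact ⟨i, le_rfl, 0, Ideal.zero_mem _, map_zero _⟩
    | add x₁ x₂ _ _ h₁ h₂ =>
      obtain ⟨j₁, hj₁, y₁, hy₁, rfl⟩ := h₁
      obtain ⟨j₂, hj₂, y₂, hy₂, rfl⟩ := h₂
      obtain ⟨k, hk₁, hk₂⟩ := hdir.directed j₁ j₂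
      refine ⟨k, hj₁.trans hk₁, g j₁ k hk₁ y₁ + g j₂ k hk₂ y₂, ?_, ?_⟩
      · exact Ideal.add_mem _ (map_stage_mem G g A hcolim' hj₁ hk₁ J hy₁)
          (map_stage_mem G g A hcolim' hj₂ hk₂ J hy₂)
      · rw [map_add, algebraMap_stage G g A hcolim', algebraMap_stage G g A hcolim']
    | smul a x _ h =>
      obtain ⟨j₂, hj₂, y₂, hy₂, rfl⟩ := h
      obtain ⟨j₁, a', rfl⟩ := hsurj a
      obtain ⟨k, hk₁, hk₂⟩ := hdir.directed j₁ j₂
      refine ⟨k, hj₂.trans hk₂, g j₁ k hk₁ a' * g j₂ k hk₂ y₂, ?_, ?_⟩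
      · exact Ideal.mul_mem_left _ _ (map_stage_mem G g A hcolim' hj₂ hk₂ J hy₂)
      · rw [map_mul, algebraMap_stage G g A hcolim', algebraMap_stage G g A hcolim', smul_eq_mul]
  obtain ⟨j, hj, y, hy, hy1⟩ := key 1 (by rw [hJ]; exact Submodule.mem_top)
  have h0 : algebraMap (G j) A (y - 1) = 0 := by rw [map_sub, hy1, map_one, sub_self]
  obtain ⟨k, hk, hk0⟩ := hinj j (y - 1) h0
  refine ⟨k, hj.trans hk, ?_⟩
  rw [Ideal.eq_top_iff_one]
  have h1 : g j k hk y = 1 := by
    have : g j k hk (y - 1) = 0 := hk0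
    rw [map_sub, map_one, sub_eq_zero] at this
    exact this
  rw [← h1]
  exact map_stage_mem G g A hcolim' hj hk J hy

theorem exists_stage_faithfullyFlat {B₀ : Type u} [CommRing B₀] [Algebra A₀ B₀]
    [Algebra.FinitePresentation A₀ B₀] [Module.FaithfullyFlat A (A ⊗[A₀] B₀)] :
    ∃ i, Module.FaithfullyFlat (G i) (G i ⊗[A₀] B₀) := by
  have hflatA : Module.Flat A (A ⊗[A₀] B₀) := inferInstance
  obtain ⟨i, hi⟩ := (Groth.Agent.S4848.result G g A hcolim (B₀ := B₀) B₀).mp hflatA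
  have hfp : Algebra.FinitePresentation (G i) (G i ⊗[A₀] B₀) := inferInstance
  have hopen : IsOpen (Set.range (PrimeSpectrum.comap (algebraMap (G i) (G i ⊗[A₀] B₀)))) :=
    (PrimeSpectrum.isOpenMap_comap_of_hasGoingDown_of_finitePresentation).isOpen_range
  obtain ⟨J, hJ⟩ := (PrimeSpectrum.isClosed_iff_zeroLocus_ideal _).mp hopen.isClosed_compl
  have hJ' : ∀ p : PrimeSpectrum (G i), ¬ J ≤ p.asIdeal →
      p ∈ Set.range (PrimeSpectrum.comap (algebraMap (G i) (G i ⊗[A₀] B₀))) := by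
    intro p hp
    by_contra hnot
    have h1 : p ∈ PrimeSpectrum.zeroLocus (J : Set (G i)) := by rw [← hJ]; exact hnot
    exact hp ((PrimeSpectrum.mem_zeroLocus _ _).mp h1)
  have hJA : J.map (algebraMap (G i) A) = ⊤ := by
    by_contra hne
    obtain ⟨P, hPmax, hJP⟩ := Ideal.exists_le_maximal _ hne
    obtain ⟨Q, hQ⟩ := PrimeSpectrum.comap_surjective_of_faithfullyFlat (A := A)
      (B := A ⊗[A₀] B₀) ⟨P, hPmax.isPrime⟩
    let ψ : G i ⊗[A₀] B₀ →ₐ[A₀] A ⊗[A₀] B₀ :=
      Algebra.TensorProduct.map (IsScalarTower.toAlgHom A₀ (G i) A) (AlgHom.id A₀ B₀)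
    let q : PrimeSpectrum (G i ⊗[A₀] B₀) := PrimeSpectrum.comap ψ.toRingHom Q
    have hq : PrimeSpectrum.comap (algebraMap (G i) (G i ⊗[A₀] B₀)) q =
        PrimeSpectrum.comap (algebraMap (G i) A) ⟨P, hPmax.isPrime⟩ := by
      rw [← hQ]
      ext x
      simp only [q, PrimeSpectrum.comap_asIdeal, Ideal.mem_comap]
      have : ψ.toRingHom (algebraMap (G i) (G i ⊗[A₀] B₀) x) =
          algebraMap A (A ⊗[A₀] B₀) (algebraMap (G i) A x) := by
        simp [ψ, Algebra.TensorProduct.algebraMap_apply]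
      rw [this]
    have hmem : PrimeSpectrum.comap (algebraMap (G i) A) ⟨P, hPmax.isPrime⟩ ∈
        Set.range (PrimeSpectrum.comap (algebraMap (G i) (G i ⊗[A₀] B₀))) := ⟨q, hq⟩
    have hz : PrimeSpectrum.comap (algebraMap (G i) A) ⟨P, hPmax.isPrime⟩ ∈
        PrimeSpectrum.zeroLocus (J : Set (G i)) := by
      rw [PrimeSpectrum.mem_zeroLocus]
      intro x hx
      exact hJP (Ideal.mem_map_of_mem _ hx)
    rw [← hJ] at hz
    exact hz hmem
  obtain ⟨j, hij, hJj⟩ := exists_stage_map_eq_top G g A hcolim J hJA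
  refine ⟨j, ?_⟩
  let _ : Algebra (G i) (G j) := (g i j hij).toRingHom.toAlgebra
  have t1 : IsScalarTower A₀ (G i) (G j) :=
    IsScalarTower.of_algebraMap_eq fun r => ((g i j hij).commutes r).symm
  have hff : Module.FaithfullyFlat (G j) (G j ⊗[G i] (G i ⊗[A₀] B₀)) :=
    faithfullyFlat_baseChange_of_cover J hJ' hJj
  exact Module.FaithfullyFlat.of_linearEquiv (G j) (G j ⊗[G i] (G i ⊗[A₀] B₀))
    (AlgebraTensorModule.cancelBaseChange A₀ (G i) (G j) (G j) B₀).symm

end stage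

end Groth.Agent.Lib.Helper71.FFStage
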