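import Mathlib
import Groth.Agent.Lib.Helper71.FFStage

/-!
# Descent of finite type / finite presentation along faithfully flat f.p. ring maps (helper71)

* `finiteType_of_faithfullyFlat` : `R → A → B`, `A → B` faithfully flat of finite presentation,
  `B` of finite type over `R` ⟹ `A` of finite type over `R`.
-/

set_option autoImplicit false
set_option linter.unusedSectionVars false
universe u

open TensorProduct

namespace Groth.Agent.Lib.Helper71.FppfDescent

open Groth.Agent.Lib.Helper71.FFStage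

section subalg
variable {R : Type u} {A : Type u} [CommRing R] [CommRing A] [Algebra R A] (S₀ : Subalgebra R A)

/-- Index type: the finitely generated subalgebras containing `S₀`. -/
def Idx : Type u := {S : Subalgebra R A // S.FG ∧ S₀ ≤ S}

instance : Preorder (Idx S₀) := Preorder.lift (fun S => S.1)

variable {S₀}

theorem Idx.le_def {S T : Idx S₀} : S ≤ T ↔ S.1 ≤ T.1 := Iff.rfl

noncomputable instance stageAlgebra (S : Idx S₀) : Algebra S₀ S.1 :=
  (Subalgebra.inclusion S.2.2).toRingHom.toAlgebra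

theorem stage_algebraMap_coe (S : Idx S₀) (x : S₀) :
    ((algebraMap S₀ S.1 x : S.1) : A) = (x : A) := by
  rw [RingHom.algebraMap_toAlgebra]
  rfl

instance stageTower (S : Idx S₀) : IsScalarTower S₀ S.1 A := by
  refine IsScalarTower.of_algebraMap_eq fun x => ?_
  rw [Subalgebra.algebraMap_eq, Subalgebra.algebraMap_eq, RingHom.algebraMap_toAlgebra]
  rfl

/-- The transition maps. -/
noncomputable def stageMap (S T : Idx S₀) (h : S ≤ T) : S.1 →ₐ[S₀] T.1 :=
  { (Subalgebra.inclusion (Idx.le_def.mp h)).toRingHom with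
    commutes' := fun x => by
      apply Subtype.ext
      rw [stage_algebraMap_coe]
      change ((Subalgebra.inclusion (Idx.le_def.mp h) (algebraMap S₀ S.1 x) : T.1) : A) = _
      rw [Subalgebra.coe_inclusion, stage_algebraMap_coe] }

theorem stageMap_coe (S T : Idx S₀) (h : S ≤ T) (x : S.1) :
    ((stageMap S T h x : T.1) : A) = (x : A) := rfl

theorem isDirectedColimitRing_stage (hS₀ : S₀.FG) :
    FlatCA.IsDirectedColimitRing (fun S : Idx S₀ => S.1)
      (fun S T h => (stageMap S T h).toRingHom) A := by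
  refine ⟨⟨fun S T => ?_⟩, ⟨⟨S₀, hS₀, le_rfl⟩⟩, fun S => ?_, fun S T U hST hTU => ?_,
    fun S T h => ?_, fun a => ?_, fun S x hx => ?_⟩
  · exact ⟨⟨S.1 ⊔ T.1, S.2.1.sup T.2.1, le_sup_of_le_left S.2.2⟩,
      Idx.le_def.mpr le_sup_left, Idx.le_def.mpr le_sup_right⟩
  · ext x
    exact stageMap_coe S S le_rfl x
  · ext x
    exact stageMap_coe T U hTU _
  · ext x
    rw [RingHom.comp_apply, Subalgebra.algebraMap_eq, Subalgebra.algebraMap_eq]
    exact stageMap_coe S T h x
  · have hfg : (Algebra.adjoin R ({a} : Set A)).FG := by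
      have := Subalgebra.fg_adjoin_finset (R := R) ({a} : Finset A)
      simpa using this
    refine ⟨⟨S₀ ⊔ Algebra.adjoin R {a}, hS₀.sup hfg, le_sup_left⟩, ⟨a, ?_⟩, ?_⟩
    · exact (le_sup_right : Algebra.adjoin R {a} ≤ S₀ ⊔ Algebra.adjoin R {a})
        (Algebra.subset_adjoin (Set.mem_singleton a))
    · rw [Subalgebra.algebraMap_eq]
      rfl
  · refine ⟨S, le_rfl, ?_⟩
    rw [Subalgebra.algebraMap_eq] at hx
    have : x = 0 := Subtype.ext hx
    rw [this, map_zero]

end subalg

section finiteType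
variable {R A B : Type u} [CommRing R] [CommRing A] [CommRing B]
    [Algebra R A] [Algebra A B] [Algebra R B] [IsScalarTower R A B]

/-- A finitely generated subalgebra `S₀` of `A` containing the coefficients of a finite
presentation of `B` over `A` and over which all elements of a given finite set of `B` are
polynomial expressions in the generators. -/
theorem exists_base {n m : ℕ} (P : Algebra.Presentation A B (Fin n) (Fin m)) (tB : Finset B) :
    ∃ S₀ : Subalgebra R A, S₀.FG ∧ P.coeffs ⊆ S₀ ∧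
      ∀ b ∈ tB, ∃ f : MvPolynomial (Fin n) S₀,
        MvPolynomial.aeval P.val (MvPolynomial.map (algebraMap S₀ A) f) = b := by
  classical
  choose F hF using fun b : B => P.aeval_val_surjective b
  let c : Set A := P.coeffs ∪ ⋃ b ∈ tB, ((F b).coeffs : Set A)
  have hc : c.Finite := by
    refine P.finite_coeffs.union ?_
    exact Set.Finite.biUnion tB.finite_toSet fun b _ => Finset.finite_toSet _
  refine ⟨Algebra.adjoin R c, ?_, ?_, ?_⟩
  · exact ⟨hc.toFinset, by simp⟩
  · exact fun x hx => Algebra.subset_adjoin (Or.inl hx)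
  · intro b hb
    have hmem : F b ∈ Set.range (MvPolynomial.map (algebraMap (Algebra.adjoin R c) A)) := by
      rw [MvPolynomial.mem_range_map_iff_coeffs_subset]
      intro x hx
      refine ⟨⟨x, Algebra.subset_adjoin (Or.inr ?_)⟩, rfl⟩
      exact Set.mem_biUnion hb hx
    obtain ⟨f, hf⟩ := hmem
    exact ⟨f, by rw [hf]; exact hF b⟩

set_option synthInstance.maxHeartbeats 200000 in
set_option maxHeartbeats 800000 in
/-- Core of the descent of finite type: abstract model `B₀` over a f.g. subalgebra `S₀`. -/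
theorem finiteType_core [Module.FaithfullyFlat A B] (S₀ : Subalgebra R A) (hS₀fg : S₀.FG)
    (B₀ : Type u) [CommRing B₀] [Algebra S₀ B₀] [Algebra.FinitePresentation S₀ B₀]
    (e : A ⊗[S₀] B₀ ≃ₐ[A] B) (tB : Finset B) (htB : Algebra.adjoin R (tB : Set B) = ⊤)
    (hgen : ∀ b ∈ tB, ∃ y : B₀, e ((1 : A) ⊗ₜ[S₀] y) = b) : Algebra.FiniteType R A := by
  classical
  have hffA : Module.FaithfullyFlat A (A ⊗[S₀] B₀) :=
    Module.FaithfullyFlat.of_linearEquiv A B e.toLinearEquiv
  obtain ⟨S, hS⟩ := exists_stage_faithfullyFlat (fun S : Idx S₀ => S.1)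
    (fun S T h => stageMap S T h) A (isDirectedColimitRing_stage hS₀fg) (B₀ := B₀)
  -- the comparison map
  let ψ : S.1 ⊗[S₀] B₀ →ₐ[S₀] A ⊗[S₀] B₀ :=
    Algebra.TensorProduct.map (IsScalarTower.toAlgHom S₀ S.1 A) (AlgHom.id S₀ B₀)
  have hψsurj : Function.Surjective ψ := by
    -- the range of `e ∘ ψ` contains the generators of `B`
    have key : ∀ b : B, ∃ d, e (ψ d) = b := by
      intro b
      have hb : b ∈ Algebra.adjoin R (tB : Set B) := by rw [htB]; exact Algebra.mem_top
      induction hb using Algebra.adjoin_induction with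
      | mem b hb =>
        obtain ⟨y, hy⟩ := hgen b hb
        refine ⟨(1 : S.1) ⊗ₜ[S₀] y, ?_⟩
        have h1 : ψ ((1 : S.1) ⊗ₜ[S₀] y) = (1 : A) ⊗ₜ[S₀] y := by
          have := Algebra.TensorProduct.map_tmul (IsScalarTower.toAlgHom S₀ S.1 A)
            (AlgHom.id S₀ B₀) (1 : S.1) y
          rw [map_one] at this
          exact this
        rw [h1, hy]
      | algebraMap r =>
        refine ⟨(algebraMap R S.1 r) ⊗ₜ[S₀] (1 : B₀), ?_⟩
        have h1 : ψ ((algebraMap R S.1 r) ⊗ₜ[S₀] (1 : B₀)) =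
            algebraMap A (A ⊗[S₀] B₀) (algebraMap R A r) := by
          have h0 := Algebra.TensorProduct.map_tmul (IsScalarTower.toAlgHom S₀ S.1 A)
            (AlgHom.id S₀ B₀) (algebraMap R S.1 r) (1 : B₀)
          rw [map_one] at h0
          rw [Algebra.TensorProduct.algebraMap_apply]
          exact h0
        rw [h1, AlgEquiv.commutes, ← IsScalarTower.algebraMap_apply]
      | add x y _ _ hx hy =>
        obtain ⟨dx, rfl⟩ := hx
        obtain ⟨dy, rfl⟩ := hy
        exact ⟨dx + dy, by rw [map_add, map_add]⟩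
      | mul x y _ _ hx hy =>
        obtain ⟨dx, rfl⟩ := hx
        obtain ⟨dy, rfl⟩ := hy
        exact ⟨dx * dy, by rw [map_mul, map_mul]⟩
    intro z
    obtain ⟨d, hd⟩ := key (e z)
    exact ⟨d, e.injective hd⟩
  -- `S.1 → A` is surjective
  have hsurj : Function.Surjective (Algebra.linearMap S.1 A) := by
    rw [← Module.FaithfullyFlat.lTensor_surjective_iff_surjective S.1 (S.1 ⊗[S₀] B₀)]
    let θ : (S.1 ⊗[S₀] B₀) ⊗[S.1] A ≃ₗ[S.1] A ⊗[S₀] B₀ :=
      (TensorProduct.comm S.1 (S.1 ⊗[S₀] B₀) A) ≪≫ₗ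
        (AlgebraTensorModule.cancelBaseChange S₀ S.1 A A B₀).restrictScalars S.1
    have hθ : ∀ d : S.1 ⊗[S₀] B₀, θ (d ⊗ₜ[S.1] (1 : A)) = ψ d := by
      intro d
      induction d using TensorProduct.induction_on with
      | zero => rw [TensorProduct.zero_tmul, map_zero, map_zero]
      | tmul c y =>
        have h1 : θ ((c ⊗ₜ[S₀] y) ⊗ₜ[S.1] (1 : A)) = (c • (1 : A)) ⊗ₜ[S₀] y := by
          change (AlgebraTensorModule.cancelBaseChange S₀ S.1 A A B₀)
            ((TensorProduct.comm S.1 (S.1 ⊗[S₀] B₀) A) ((c ⊗ₜ[S₀] y) ⊗ₜ[S.1] (1 : A))) = _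
          rw [TensorProduct.comm_tmul]
          exact AlgebraTensorModule.cancelBaseChange_tmul S₀ S.1 A (1 : A) y c
        have h2 : ψ (c ⊗ₜ[S₀] y) = (algebraMap S.1 A c) ⊗ₜ[S₀] y :=
          Algebra.TensorProduct.map_tmul (IsScalarTower.toAlgHom S₀ S.1 A)
            (AlgHom.id S₀ B₀) c y
        rw [h1, h2, Algebra.smul_def, mul_one]
      | add x y hx hy => rw [TensorProduct.add_tmul, map_add, hx, hy, map_add]
    intro z
    obtain ⟨d, hd⟩ := hψsurj (θ z)
    refine ⟨d ⊗ₜ[S.1] (1 : S.1), θ.injective ?_⟩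
    rw [LinearMap.lTensor_tmul, Algebra.linearMap_apply, map_one, hθ, hd]
  have hft : Algebra.FiniteType R S.1 := (Subalgebra.fg_iff_finiteType _).mp S.2.1
  exact Algebra.FiniteType.of_surjective (S.1.val) hsurj

/-- **Descent of finite type** along a faithfully flat map of finite presentation. -/
theorem finiteType_of_faithfullyFlat [Algebra.FiniteType R B]
    [Module.FaithfullyFlat A B] [Algebra.FinitePresentation A B] : Algebra.FiniteType R A := by
  classical
  obtain ⟨tB, htB⟩ := (Algebra.FiniteType.out : (⊤ : Subalgebra R B).FG)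
  obtain ⟨S₀, hS₀fg, hcoeff, hgen⟩ :=
    exists_base (R := R) (Algebra.Presentation.ofFinitePresentation A B) tB
  generalize Algebra.Presentation.ofFinitePresentation A B = P at hcoeff hgen
  have hasCoeffs : P.HasCoeffs S₀ := ⟨fun x hx => ⟨⟨x, hcoeff hx⟩, rfl⟩⟩
  refine finiteType_core S₀ hS₀fg (P.ModelOfHasCoeffs S₀) (P.tensorModelOfHasCoeffsEquiv S₀)
    tB htB ?_
  intro b hb
  obtain ⟨f, hf⟩ := hgen b hb
  refine ⟨Ideal.Quotient.mk _ f, ?_⟩
  rw [Algebra.Presentation.tensorModelOfHasCoeffsEquiv_tmul, map_one, one_mul, ← hf,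
    MvPolynomial.aeval_map_algebraMap]

end finiteType

section quotSystem
variable {A₀ A : Type u} [CommRing A₀] [CommRing A] [Algebra A₀ A]

/-- Index type: finitely generated ideals contained in the kernel of `A₀ → A`. -/
def QIdx (A₀ A : Type u) [CommRing A₀] [CommRing A] [Algebra A₀ A] : Type u :=
  {J : Ideal A₀ // J.FG ∧ J ≤ RingHom.ker (algebraMap A₀ A)}

instance : Preorder (QIdx A₀ A) := Preorder.lift (fun J => J.1)

theorem QIdx.le_def {J J' : QIdx A₀ A} : J ≤ J' ↔ J.1 ≤ J'.1 := Iff.rfl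

noncomputable instance qStageAlgebra (J : QIdx A₀ A) : Algebra (A₀ ⧸ J.1) A :=
  (Ideal.Quotient.lift J.1 (algebraMap A₀ A) (fun x hx => J.2.2 hx)).toAlgebra

theorem qStage_algebraMap_mk (J : QIdx A₀ A) (x : A₀) :
    algebraMap (A₀ ⧸ J.1) A (Ideal.Quotient.mk J.1 x) = algebraMap A₀ A x := by
  rw [RingHom.algebraMap_toAlgebra]
  exact Ideal.Quotient.lift_mk _ _ _

instance qStageTower (J : QIdx A₀ A) : IsScalarTower A₀ (A₀ ⧸ J.1) A := by
  refine IsScalarTower.of_algebraMap_eq fun x => ?_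
  rw [Ideal.Quotient.algebraMap_eq, qStage_algebraMap_mk]

theorem isDirectedColimitRing_qStage (hsurj : Function.Surjective (algebraMap A₀ A)) :
    FlatCA.IsDirectedColimitRing (fun J : QIdx A₀ A => A₀ ⧸ J.1)
      (fun J J' h => (Ideal.Quotient.factorₐ A₀ (QIdx.le_def.mp h)).toRingHom) A := by
  refine ⟨⟨fun J J' => ?_⟩, ⟨⟨⊥, Submodule.fg_bot, bot_le⟩⟩, fun J => ?_,
    fun J J' J'' h h' => ?_, fun J J' h => ?_, fun a => ?_, fun J x hx => ?_⟩
  · exact ⟨⟨J.1 ⊔ J'.1, Submodule.FG.sup (show Submodule.FG J.1 from J.2.1)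
        (show Submodule.FG J'.1 from J'.2.1), sup_le J.2.2 J'.2.2⟩,
      QIdx.le_def.mpr le_sup_left, QIdx.le_def.mpr le_sup_right⟩
  · apply Ideal.Quotient.ringHom_ext
    ext x
    rfl
  · apply Ideal.Quotient.ringHom_ext
    ext x
    rfl
  · apply Ideal.Quotient.ringHom_ext
    ext x
    change algebraMap (A₀ ⧸ J'.1) A (Ideal.Quotient.mk J'.1 x) =
      algebraMap (A₀ ⧸ J.1) A (Ideal.Quotient.mk J.1 x)
    rw [qStage_algebraMap_mk, qStage_algebraMap_mk]
  · obtain ⟨x, rfl⟩ := hsurj a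
    exact ⟨⟨⊥, Submodule.fg_bot, bot_le⟩, Ideal.Quotient.mk _ x, qStage_algebraMap_mk _ x⟩
  · obtain ⟨f, rfl⟩ := Ideal.Quotient.mk_surjective x
    rw [qStage_algebraMap_mk] at hx
    have hf : f ∈ RingHom.ker (algebraMap A₀ A) := hx
    refine ⟨⟨J.1 ⊔ Ideal.span {f}, Submodule.FG.sup (show Submodule.FG J.1 from J.2.1)
        (show Submodule.FG (Ideal.span {f}) from ⟨{f}, by simp⟩),
      sup_le J.2.2 ((Ideal.span_singleton_le_iff_mem _).mpr hf)⟩, QIdx.le_def.mpr le_sup_left, ?_⟩
    change Ideal.Quotient.mk (J.1 ⊔ Ideal.span {f}) f = 0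
    rw [Ideal.Quotient.eq_zero_iff_mem]
    exact (le_sup_right : Ideal.span {f} ≤ J.1 ⊔ Ideal.span {f}) (Ideal.mem_span_singleton_self f)

end quotSystem

section finitePresentation

set_option synthInstance.maxHeartbeats 200000 in
set_option maxHeartbeats 800000 in
/-- Core of the descent of finite presentation: `A₀ → A` surjective with `A₀` finitely
presented over `R`, and an abstract model `B₀` of `B` over `A₀`. -/
theorem finitePresentation_core {R A₀ A B : Type u} [CommRing R] [CommRing A₀] [CommRing A]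
    [CommRing B] [Algebra R A₀] [Algebra R A] [Algebra A₀ A] [IsScalarTower R A₀ A]
    [Algebra A B] [Algebra A₀ B] [IsScalarTower A₀ A B]
    [Algebra.FinitePresentation R A₀] (hsurj : Function.Surjective (algebraMap A₀ A))
    [Algebra.FinitePresentation A₀ B] [Module.FaithfullyFlat A B]
    (B₀ : Type u) [CommRing B₀] [Algebra A₀ B₀] [Algebra.FinitePresentation A₀ B₀]
    (e : A ⊗[A₀] B₀ ≃ₐ[A] B) : Algebra.FinitePresentation R A := by
  classical
  have hffA : Module.FaithfullyFlat A (A ⊗[A₀] B₀) :=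
    Module.FaithfullyFlat.of_linearEquiv A B e.toLinearEquiv
  obtain ⟨J, hJ⟩ := exists_stage_faithfullyFlat (fun J : QIdx A₀ A => A₀ ⧸ J.1)
    (fun J J' h => Ideal.Quotient.factorₐ A₀ (QIdx.le_def.mp h)) A
    (isDirectedColimitRing_qStage hsurj) (B₀ := B₀)
  -- the stage `C = A₀ ⧸ J`
  have hCsurj : Function.Surjective (algebraMap (A₀ ⧸ J.1) A) := by
    intro a
    obtain ⟨x, rfl⟩ := hsurj a
    exact ⟨Ideal.Quotient.mk _ x, qStage_algebraMap_mk J x⟩
  have hfpC₀ : Algebra.FinitePresentation A₀ (A₀ ⧸ J.1) :=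
    Algebra.FinitePresentation.quotient (R := A₀) J.2.1
  have hfpC : Algebra.FinitePresentation R (A₀ ⧸ J.1) :=
    Algebra.FinitePresentation.quotient (R := R) J.2.1
  have hfpD : Algebra.FinitePresentation A₀ ((A₀ ⧸ J.1) ⊗[A₀] B₀) :=
    Algebra.FinitePresentation.trans A₀ (A₀ ⧸ J.1) ((A₀ ⧸ J.1) ⊗[A₀] B₀)
  have hfpD' : Algebra.FinitePresentation A₀ (A ⊗[A₀] B₀) :=
    Algebra.FinitePresentation.equiv (e.symm.restrictScalars A₀)
  -- the comparison map
  let f : (A₀ ⧸ J.1) →ₐ[A₀] A := IsScalarTower.toAlgHom A₀ (A₀ ⧸ J.1) A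
  have hf : Function.Surjective f := hCsurj
  let ψ : (A₀ ⧸ J.1) ⊗[A₀] B₀ →ₐ[A₀] A ⊗[A₀] B₀ :=
    Algebra.TensorProduct.map f (AlgHom.id A₀ B₀)
  have hψsurj : Function.Surjective ψ :=
    Algebra.TensorProduct.map_surjective f (AlgHom.id A₀ B₀) hf Function.surjective_id
  have hker : RingHom.ker ψ = (RingHom.ker f).map
      (Algebra.TensorProduct.includeLeft : (A₀ ⧸ J.1) →ₐ[A₀] (A₀ ⧸ J.1) ⊗[A₀] B₀) :=
    Algebra.TensorProduct.rTensor_ker f hf
  have hkerfg : (RingHom.ker ψ.toRingHom).FG :=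
    Algebra.FinitePresentation.ker_fG_of_surjective ψ hψsurj
  have hKfg : (RingHom.ker (algebraMap (A₀ ⧸ J.1) A)).FG := by
    apply Ideal.FG.of_FG_map_of_faithfullyFlat (S := (A₀ ⧸ J.1) ⊗[A₀] B₀)
    have h1 : (RingHom.ker (algebraMap (A₀ ⧸ J.1) A)).map
        (algebraMap (A₀ ⧸ J.1) ((A₀ ⧸ J.1) ⊗[A₀] B₀)) = RingHom.ker ψ := by
      rw [hker]
      rfl
    rw [h1]
    exact hkerfg
  have : IsScalarTower R (A₀ ⧸ J.1) A := by
    refine IsScalarTower.of_algebraMap_eq fun r => ?_
    rw [IsScalarTower.algebraMap_apply R A₀ (A₀ ⧸ J.1), Ideal.Quotient.algebraMap_eq,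
      qStage_algebraMap_mk, ← IsScalarTower.algebraMap_apply]
  exact Algebra.FinitePresentation.of_surjective
    (f := IsScalarTower.toAlgHom R (A₀ ⧸ J.1) A) hCsurj hKfg

variable {R A B : Type u} [CommRing R] [CommRing A] [CommRing B]
    [Algebra R A] [Algebra A B] [Algebra R B] [IsScalarTower R A B]

set_option synthInstance.maxHeartbeats 200000 in
set_option maxHeartbeats 800000 in
/-- **Descent of finite presentation** along a faithfully flat map of finite presentation. -/
theorem finitePresentation_of_faithfullyFlat [Algebra.FinitePresentation R B]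
    [Module.FaithfullyFlat A B] [Algebra.FinitePresentation A B] :
    Algebra.FinitePresentation R A := by
  classical
  have hft : Algebra.FiniteType R A := finiteType_of_faithfullyFlat (B := B)
  obtain ⟨n, π, hπ⟩ := Algebra.FiniteType.iff_quotient_mvPolynomial''.mp hft
  let _ : Algebra (MvPolynomial (Fin n) R) A := π.toRingHom.toAlgebra
  have : IsScalarTower R (MvPolynomial (Fin n) R) A :=
    IsScalarTower.of_algebraMap_eq fun r => (π.commutes r).symm
  let _ : Algebra (MvPolynomial (Fin n) R) B := ((algebraMap A B).comp π.toRingHom).toAlgebra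
  have : IsScalarTower (MvPolynomial (Fin n) R) A B := IsScalarTower.of_algebraMap_eq fun _ => rfl
  have : IsScalarTower R (MvPolynomial (Fin n) R) B := by
    refine IsScalarTower.of_algebraMap_eq fun r => ?_
    rw [IsScalarTower.algebraMap_apply (MvPolynomial (Fin n) R) A B,
      ← IsScalarTower.algebraMap_apply R (MvPolynomial (Fin n) R) A,
      ← IsScalarTower.algebraMap_apply R A B]
  have : Algebra.FinitePresentation (MvPolynomial (Fin n) R) B :=
    Algebra.FinitePresentation.of_restrict_scalars_finitePresentation R (MvPolynomial (Fin n) R) B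
  generalize hP : Algebra.Presentation.ofFinitePresentation A B = P
  have hasCoeffs : P.HasCoeffs (MvPolynomial (Fin n) R) :=
    ⟨fun x _ => hπ x⟩
  exact finitePresentation_core (R := R) (A₀ := MvPolynomial (Fin n) R) hπ
    (P.ModelOfHasCoeffs (MvPolynomial (Fin n) R))
    (P.tensorModelOfHasCoeffsEquiv (MvPolynomial (Fin n) R))

end finitePresentation

end Groth.Agent.Lib.Helper71.FppfDescent
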