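import Mathlib
import Groth.Agent.Lib.Helper71.FppfDescent

/-!
# fppf charts and descent of (local) finiteness along fppf covers of the source (helper71)
-/

set_option autoImplicit false
universe u
open CategoryTheory AlgebraicGeometry TopologicalSpace

namespace Groth.Agent.Lib.Helper71.FppfChart

open Groth.Agent.Lib.Helper71.FppfDescent

section ring
variable {R A B : Type u} [CommRing R] [CommRing A] [CommRing B]

theorem finiteType_of_comp_fppf (ψ : R →+* A) (φ : A →+* B) (hfl : φ.Flat)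
    (hfp : φ.FinitePresentation) (hsurj : Function.Surjective (PrimeSpectrum.comap φ))
    (h : (φ.comp ψ).FiniteType) : ψ.FiniteType := by
  algebraize [ψ, φ, φ.comp ψ]
  have : Module.FaithfullyFlat A B := Module.FaithfullyFlat.of_comap_surjective hsurj
  exact finiteType_of_faithfullyFlat (R := R) (A := A) (B := B)

theorem finitePresentation_of_comp_fppf (ψ : R →+* A) (φ : A →+* B) (hfl : φ.Flat)
    (hfp : φ.FinitePresentation) (hsurj : Function.Surjective (PrimeSpectrum.comap φ))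
    (h : (φ.comp ψ).FinitePresentation) : ψ.FinitePresentation := by
  algebraize [ψ, φ, φ.comp ψ]
  have : Module.FaithfullyFlat A B := Module.FaithfullyFlat.of_comap_surjective hsurj
  exact finitePresentation_of_faithfullyFlat (R := R) (A := A) (B := B)

end ring

section chart

variable {X Y : Scheme.{u}} (f : X ⟶ Y)

/-- If `V ⊆ f(U)` for affine opens `U ≤ f⁻¹ V`, then `Γ(V) → Γ(U)` is surjective on spectra. -/
theorem comap_appLE_surjective {V : Y.Opens} {U : X.Opens} (hV : IsAffineOpen V)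
    (hU : IsAffineOpen U) (e : U ≤ f ⁻¹ᵁ V) (himg : (V : Set Y) ⊆ f '' (U : Set X)) :
    Function.Surjective (PrimeSpectrum.comap (f.appLE V U e).hom) := by
  intro p
  have hp : hV.fromSpec p ∈ (V : Set Y) := by
    rw [← hV.range_fromSpec]; exact ⟨p, rfl⟩
  obtain ⟨x', hx'U, hx'⟩ := himg hp
  rw [← hU.range_fromSpec] at hx'U
  obtain ⟨q, rfl⟩ := hx'U
  refine ⟨q, ?_⟩
  apply hV.fromSpec.isOpenEmbedding.injective
  have h1 := hV.SpecMap_appLE_fromSpec f hU e
  have h2 : hV.fromSpec ((Spec.map (f.appLE V U e)) q) = f (hU.fromSpec q) := by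
    rw [← Scheme.Hom.comp_apply, h1, Scheme.Hom.comp_apply]
  rw [← hx', ← h2]
  rfl

variable {Z : Scheme.{u}} (g : Y ⟶ Z)

/-- fppf charts: around any point `y` of `Y` there are affine opens `W ⊆ Z`, `V ⊆ Y`, `U ⊆ X`
with `y ∈ V`, `g(V) ⊆ W`, `f(U) ⊆ V` such that `Γ(V) → Γ(U)` is flat, finitely presented and
surjective on spectra. -/
theorem exists_fppf_chart [Surjective f] [Flat f] [LocallyOfFinitePresentation f] (y : Y) :
    ∃ (W : Z.affineOpens) (V : Y.affineOpens) (U : X.affineOpens) (_ : y ∈ V.1)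
      (_ : V.1 ≤ g ⁻¹ᵁ W.1) (e₂ : U.1 ≤ f ⁻¹ᵁ V.1),
      (f.appLE V.1 U.1 e₂).hom.Flat ∧ (f.appLE V.1 U.1 e₂).hom.FinitePresentation ∧
        Function.Surjective (PrimeSpectrum.comap (f.appLE V.1 U.1 e₂).hom) := by
  obtain ⟨x, rfl⟩ := f.surjective y
  obtain ⟨W, hW, hgW, -⟩ := Opens.isBasis_iff_nbhd.mp Z.isBasis_affineOpens
    (Opens.mem_top (g (f x)))
  obtain ⟨V₀, hV₀, hxV₀, e₀⟩ := Opens.isBasis_iff_nbhd.mp Y.isBasis_affineOpens
    (show f x ∈ g ⁻¹ᵁ W from hgW)
  obtain ⟨U₀, hU₀, hxU₀, e₀'⟩ := Opens.isBasis_iff_nbhd.mp X.isBasis_affineOpens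
    (show x ∈ f ⁻¹ᵁ V₀ from hxV₀)
  -- the open image
  let O : Y.Opens := ⟨f '' (U₀ : Set X), f.isOpenMap _ U₀.2⟩
  have hfxO : f x ∈ O := ⟨x, hxU₀, rfl⟩
  obtain ⟨a, haO, hxa⟩ := hV₀.exists_basicOpen_le (V := O) ⟨f x, hfxO⟩ hxV₀
  have hVaff : IsAffineOpen (Y.basicOpen a) := hV₀.basicOpen a
  have hUaff : IsAffineOpen (X.basicOpen (f.appLE V₀ U₀ e₀' a)) := hU₀.basicOpen _
  have hUeq : X.basicOpen (f.appLE V₀ U₀ e₀' a) = U₀ ⊓ f ⁻¹ᵁ (Y.basicOpen a) := by
    rw [Scheme.preimage_basicOpen, Scheme.Hom.appLE, CommRingCat.comp_apply,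
      Scheme.basicOpen_res]
  have e₂ : X.basicOpen (f.appLE V₀ U₀ e₀' a) ≤ f ⁻¹ᵁ (Y.basicOpen a) := by
    rw [hUeq]; exact inf_le_right
  refine ⟨⟨W, hW⟩, ⟨Y.basicOpen a, hVaff⟩, ⟨X.basicOpen (f.appLE V₀ U₀ e₀' a), hUaff⟩, hxa,
    (Y.basicOpen_le a).trans e₀, e₂, ?_, ?_, ?_⟩
  · exact HasRingHomProperty.appLE (P := @Flat) f inferInstance ⟨_, hVaff⟩ ⟨_, hUaff⟩ e₂
  · exact HasRingHomProperty.appLE (P := @LocallyOfFinitePresentation) f inferInstance
      ⟨_, hVaff⟩ ⟨_, hUaff⟩ e₂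
  · apply comap_appLE_surjective f hVaff hUaff e₂
    intro y' hy'
    obtain ⟨x', hx'U₀, rfl⟩ := haO hy'
    refine ⟨x', ?_, rfl⟩
    rw [hUeq]
    exact ⟨hx'U₀, hy'⟩

end chart

section descent
variable {X Y Z : Scheme.{u}} (f : X ⟶ Y) (g : Y ⟶ Z)

theorem locallyOfFiniteType_of_fppf_comp [Surjective f] [Flat f] [LocallyOfFinitePresentation f]
    [LocallyOfFiniteType (f ≫ g)] : LocallyOfFiniteType g := by
  rw [HasRingHomProperty.iff_exists_appLE (P := @LocallyOfFiniteType)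
    (RingHom.finiteType_stableUnderComposition.stableUnderCompositionWithLocalizationAway
      RingHom.finiteType_holdsForLocalizationAway).1]
  intro y
  obtain ⟨W, V, U, hy, e₁, e₂, hfl, hfp, hsurj⟩ := exists_fppf_chart f g y
  refine ⟨W, V, hy, e₁, ?_⟩
  have hcomp := HasRingHomProperty.appLE (P := @LocallyOfFiniteType) (f ≫ g) inferInstance W U
    (e₂.trans ((Opens.map f.base).map (homOfLE e₁)).le)
  rw [← Scheme.Hom.appLE_comp_appLE f g W.1 V.1 U.1 e₁ e₂, CommRingCat.hom_comp] at hcomp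
  exact finiteType_of_comp_fppf _ _ hfl hfp hsurj hcomp

theorem locallyOfFinitePresentation_of_fppf_comp [Surjective f] [Flat f]
    [LocallyOfFinitePresentation f] [LocallyOfFinitePresentation (f ≫ g)] :
    LocallyOfFinitePresentation g := by
  rw [HasRingHomProperty.iff_exists_appLE (P := @LocallyOfFinitePresentation)
    (RingHom.finitePresentation_stableUnderComposition.stableUnderCompositionWithLocalizationAway
      RingHom.finitePresentation_holdsForLocalizationAway).1]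
  intro y
  obtain ⟨W, V, U, hy, e₁, e₂, hfl, hfp, hsurj⟩ := exists_fppf_chart f g y
  refine ⟨W, V, hy, e₁, ?_⟩
  have hcomp := HasRingHomProperty.appLE (P := @LocallyOfFinitePresentation) (f ≫ g)
    inferInstance W U (e₂.trans ((Opens.map f.base).map (homOfLE e₁)).le)
  rw [← Scheme.Hom.appLE_comp_appLE f g W.1 V.1 U.1 e₁ e₂, CommRingCat.hom_comp] at hcomp
  exact finitePresentation_of_comp_fppf _ _ hfl hfp hsurj hcomp

end descent

end Groth.Agent.Lib.Helper71.FppfChart
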