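import Mathlib
import Groth.Agent.Lib.Helper71.FppfChart
import Groth.Agent.S4996
import Groth.Agent.S1563
import Groth.Agent.Lib.Helper24.FlatDescentStalk

/-!
# Smoothness descends along fppf covers of the source (helper71)
-/

set_option autoImplicit false
universe u
open CategoryTheory AlgebraicGeometry TopologicalSpace TensorProduct

namespace Groth.Agent.Lib.Helper71.SmoothDescent

open Groth.Agent.Lib.Helper71.FppfDescent Groth.Agent.Lib.Helper71.FppfChart

section baseChange

attribute [local instance] Algebra.TensorProduct.rightAlgebra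

/-- Base change of a faithfully flat map `A → B` of `R`-algebras along `R → R'`. -/
theorem faithfullyFlat_lTensor (R R' A B : Type u) [CommRing R] [CommRing R'] [CommRing A]
    [CommRing B] [Algebra R R'] [Algebra R A] [Algebra R B] [Algebra A B] [IsScalarTower R A B]
    [Module.FaithfullyFlat A B] :
    (Algebra.TensorProduct.lTensor (S := R') R' (IsScalarTower.toAlgHom R A B)).toRingHom.FaithfullyFlat := by
  have h1 : (algebraMap (R' ⊗[R] A) ((R' ⊗[R] A) ⊗[A] B)).FaithfullyFlat :=
    RingHom.faithfullyFlat_algebraMap_iff.mpr inferInstance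
  have h2 := Algebra.IsPushout.cancelBaseChange_symm_comp_lTensor R A B R'
  have h3 : (Algebra.TensorProduct.lTensor (S := R') R' (IsScalarTower.toAlgHom R A B)).toRingHom =
      (Algebra.IsPushout.cancelBaseChangeAlg R R' A (R' ⊗[R] A) B).toRingEquiv.toRingHom.comp
        (algebraMap (R' ⊗[R] A) ((R' ⊗[R] A) ⊗[A] B)) := by
    refine RingHom.ext fun x => ?_
    have h4 := congrArg (fun φ => (Algebra.IsPushout.cancelBaseChangeAlg R R' A (R' ⊗[R] A) B)
      (φ x)) h2
    simp only [AlgHom.comp_apply, AlgEquiv.coe_toAlgHom, AlgEquiv.apply_symm_apply] at h4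
    exact h4
  rw [h3]
  exact RingHom.FaithfullyFlat.respectsIso.1 _ _ h1

end baseChange

section regular

/-- Regularity descends along faithfully flat ring maps. -/
theorem isRegularRing_of_faithfullyFlat (C D : Type u) [CommRing C] [CommRing D] [Algebra C D]
    [Module.FaithfullyFlat C D] [IsRegularRing D] : IsRegularRing C := by
  have : IsNoetherianRing C := Groth.Agent.Lib.Helper7.isNoetherianRing_of_faithfullyFlat C D
  rw [isRegularRing_iff]
  intro p hp
  obtain ⟨Q, hQ, hQp⟩ := Ideal.exists_isPrime_liesOver_of_faithfullyFlat (B := D) p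
  have hpQ : p = Q.comap (algebraMap C D) := hQp.over
  have hfl : (algebraMap C D).Flat := RingHom.flat_algebraMap_iff.mpr inferInstance
  exact Groth.Agent.S1563.isRegularLocalRing_of_flat_local
    (Localization.localRingHom p Q (algebraMap C D) hpQ) (hfl.localRingHom Q p hpQ)

/-- Geometric regularity descends along faithfully flat maps of algebras over a field. -/
theorem isGeometricallyRegular_of_faithfullyFlat (K C D : Type u) [Field K] [CommRing C]
    [CommRing D] [Algebra K C] [Algebra K D] [Algebra C D] [IsScalarTower K C D]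
    [Module.FaithfullyFlat C D] (h : CAlg.IsGeometricallyRegular K D) :
    CAlg.IsGeometricallyRegular K C := by
  intro k' _ _ hfin
  have hD := h k' hfin
  have hff := faithfullyFlat_lTensor K k' C D
  let _ : Algebra (k' ⊗[K] C) (k' ⊗[K] D) :=
    (Algebra.TensorProduct.lTensor (S := k') k' (IsScalarTower.toAlgHom K C D)).toRingHom.toAlgebra
  have : Module.FaithfullyFlat (k' ⊗[K] C) (k' ⊗[K] D) :=
    RingHom.faithfullyFlat_algebraMap_iff.mp hff
  exact isRegularRing_of_faithfullyFlat (k' ⊗[K] C) (k' ⊗[K] D)

end regular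

section ring

/-- **Smoothness descends along faithfully flat finitely presented maps** (rings). -/
theorem smooth_of_faithfullyFlat {R A B : Type u} [CommRing R] [CommRing A] [CommRing B]
    [Algebra R A] [Algebra A B] [Algebra R B] [IsScalarTower R A B] [Algebra.Smooth R B]
    [Module.FaithfullyFlat A B] [Algebra.FinitePresentation A B] : Algebra.Smooth R A := by
  have hfpB : Algebra.FinitePresentation R B := inferInstance
  have hfpA : Algebra.FinitePresentation R A := finitePresentation_of_faithfullyFlat (B := B)
  rw [Groth.Agent.S4996.result R A]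
  obtain ⟨hflatB, hgrB⟩ := (Groth.Agent.S4996.result R B).mp inferInstance
  refine ⟨Groth.Agent.Lib.Helper24.flat_of_flat_of_faithfullyFlat R A B, fun p hp => ?_⟩
  have hff := faithfullyFlat_lTensor R p.ResidueField A B
  let _ : Algebra (p.Fiber A) (p.Fiber B) :=
    (Algebra.TensorProduct.lTensor (S := p.ResidueField) p.ResidueField
      (IsScalarTower.toAlgHom R A B)).toRingHom.toAlgebra
  have : Module.FaithfullyFlat (p.Fiber A) (p.Fiber B) :=
    RingHom.faithfullyFlat_algebraMap_iff.mp hff
  have : IsScalarTower p.ResidueField (p.Fiber A) (p.Fiber B) :=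
    IsScalarTower.of_algebraMap_eq fun r =>
      ((Algebra.TensorProduct.lTensor (S := p.ResidueField) p.ResidueField
        (IsScalarTower.toAlgHom R A B)).commutes r).symm
  exact isGeometricallyRegular_of_faithfullyFlat p.ResidueField (p.Fiber A) (p.Fiber B) (hgrB p)

theorem smooth_of_comp_fppf {R A B : Type u} [CommRing R] [CommRing A] [CommRing B]
    (ψ : R →+* A) (φ : A →+* B) (hfl : φ.Flat)
    (hfp : φ.FinitePresentation) (hsurj : Function.Surjective (PrimeSpectrum.comap φ))
    (h : (φ.comp ψ).Smooth) : ψ.Smooth := by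
  algebraize [ψ, φ, φ.comp ψ]
  have : Module.FaithfullyFlat A B := Module.FaithfullyFlat.of_comap_surjective hsurj
  exact smooth_of_faithfullyFlat (R := R) (A := A) (B := B)

end ring

section scheme
variable {X Y Z : Scheme.{u}} (f : X ⟶ Y) (g : Y ⟶ Z)

theorem smooth_of_fppf_comp [Surjective f] [Flat f] [LocallyOfFinitePresentation f]
    [Smooth (f ≫ g)] : Smooth g := by
  rw [HasRingHomProperty.iff_exists_appLE (P := @Smooth)
    (RingHom.Smooth.stableUnderComposition.stableUnderCompositionWithLocalizationAway
      RingHom.Smooth.holdsForLocalizationAway).1]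
  intro y
  obtain ⟨W, V, U, hy, e₁, e₂, hfl, hfp, hsurj⟩ := exists_fppf_chart f g y
  refine ⟨W, V, hy, e₁, ?_⟩
  have hcomp := HasRingHomProperty.appLE (P := @Smooth) (f ≫ g) inferInstance W U
    (e₂.trans ((Opens.map f.base).map (homOfLE e₁)).le)
  rw [← Scheme.Hom.appLE_comp_appLE f g W.1 V.1 U.1 e₁ e₂, CommRingCat.hom_comp] at hcomp
  exact smooth_of_comp_fppf _ _ hfl hfp hsurj hcomp

end scheme

end Groth.Agent.Lib.Helper71.SmoothDescent
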