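import Mathlib

/-!
# Tensoring torsion modules over a ring that is approximated by a subring (helper71)

Let `R → R'` be a ring map and `J ⊆ R` an ideal such that `R → R' ⧸ J R'` is surjective (for
instance `R' = AdicCompletion I R` and `J = I ^ n`).  For an `R'`-module `N` killed by `J R'` and
any `R'`-module `M`, the tensor products `N ⊗[R'] M` and `N ⊗[R] M` agree.  Hence if `M` is flat
over `R`, then `- ⊗[R'] M` preserves injections between `R'`-modules killed by `J R'`.
-/

set_option autoImplicit false
universe u

open TensorProduct

namespace Groth.Agent.Lib.Helper71.FlatApprox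

variable {R R' : Type u} [CommRing R] [CommRing R'] [Algebra R R'] (J : Ideal R)

/-- The tensor product over `R` of an `R'`-module killed by `J R'` with an `R'`-module is
`R'`-balanced. -/
theorem compatibleSMul_of_approx
    (happrox : ∀ r' : R', ∃ r : R, r' - algebraMap R R' r ∈ J.map (algebraMap R R'))
    (N M : Type u) [AddCommGroup N] [AddCommGroup M] [Module R N] [Module R' N]
    [IsScalarTower R R' N] [Module R M] [Module R' M] [IsScalarTower R R' M]
    (t : Module.IsTorsionBySet R' N (J.map (algebraMap R R') : Set R')) :
    TensorProduct.CompatibleSMul R R' N M := by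
  refine ⟨fun r' n m => ?_⟩
  -- elements of `J R'` act trivially on both sides
  have key : ∀ a ∈ J.map (algebraMap R R'), ∀ (n : N) (m : M), n ⊗ₜ[R] (a • m) = 0 := by
    intro a ha
    refine Submodule.span_induction ?_ ?_ ?_ ?_ ha
    · rintro _ ⟨j, hj, rfl⟩ n m
      rw [algebraMap_smul, ← TensorProduct.smul_tmul, ← algebraMap_smul R' j n,
        @t n ⟨_, Ideal.mem_map_of_mem _ hj⟩, TensorProduct.zero_tmul]
    · intro n m
      rw [zero_smul, TensorProduct.tmul_zero]
    · intro x y _ _ hx hy n m
      rw [add_smul, TensorProduct.tmul_add, hx, hy, add_zero]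
    · intro c x _ hx n m
      rw [smul_eq_mul, mul_comm, mul_smul]
      exact hx n (c • m)
  obtain ⟨r, hr⟩ := happrox r'
  have h1 : r' = algebraMap R R' r + (r' - algebraMap R R' r) := by ring
  have h2 : r' • n = r • n := by
    conv_lhs => rw [h1, add_smul, algebraMap_smul, @t n ⟨_, hr⟩, add_zero]
  have h3 : r' • m = r • m + (r' - algebraMap R R' r) • m := by
    conv_lhs => rw [h1, add_smul, algebraMap_smul]
  rw [h2, h3, TensorProduct.tmul_add, key _ hr, add_zero, TensorProduct.smul_tmul]

/-- If `M` is flat over `R`, then `- ⊗[R'] M` preserves injections between `R'`-modules killed by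
`J R'`. -/
theorem rTensor_injective_of_approx
    (happrox : ∀ r' : R', ∃ r : R, r' - algebraMap R R' r ∈ J.map (algebraMap R R'))
    (M : Type u) [AddCommGroup M] [Module R M] [Module R' M] [IsScalarTower R R' M]
    [Module.Flat R M]
    {N' N : Type u} [AddCommGroup N'] [AddCommGroup N] [Module R' N'] [Module R' N]
    (t1 : Module.IsTorsionBySet R' N' (J.map (algebraMap R R') : Set R'))
    (t2 : Module.IsTorsionBySet R' N (J.map (algebraMap R R') : Set R'))
    (f : N' →ₗ[R'] N) (hf : Function.Injective f) : Function.Injective (f.rTensor M) := by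
  let _ : Module R N' := Module.compHom N' (algebraMap R R')
  let _ : Module R N := Module.compHom N (algebraMap R R')
  have : IsScalarTower R R' N' := IsScalarTower.of_algebraMap_smul fun _ _ => rfl
  have : IsScalarTower R R' N := IsScalarTower.of_algebraMap_smul fun _ _ => rfl
  have c1 := compatibleSMul_of_approx J happrox N' M t1
  have c2 := compatibleSMul_of_approx J happrox N M t2
  let e1 : N' ⊗[R'] M ≃ₗ[R'] N' ⊗[R] M := TensorProduct.equivOfCompatibleSMul R R' R' N' M
  let e2 : N ⊗[R'] M ≃ₗ[R'] N ⊗[R] M := TensorProduct.equivOfCompatibleSMul R R' R' N M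
  have hfR : Function.Injective ((f.restrictScalars R).rTensor M) :=
    Module.Flat.rTensor_preserves_injective_linearMap _ hf
  have comm : ∀ x, e2 (f.rTensor M x) = (f.restrictScalars R).rTensor M (e1 x) := by
    intro x
    induction x with
    | zero => simp
    | add x y hx hy => simp only [map_add, hx, hy]
    | tmul n m => rfl
  intro x y hxy
  apply e1.injective
  apply hfR
  rw [← comm, ← comm, hxy]

end Groth.Agent.Lib.Helper71.FlatApprox
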