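import Mathlib
import Groth.Agent.S0542
import Groth.Agent.Lib.Helper71.FlatApprox
import Groth.Agent.Lib.Helper71.LocalCritNoeth

/-!
# Flatness of maps between adic completions of Noetherian rings (helper71)

`flat_of_completion_map`: let `g : R → T` be a flat map of Noetherian rings, `I ⊆ R`, `K ⊆ T`
ideals with `I T ⊆ K`.  Then any ring map `ψ : R^ → T^` between the completions compatible with
`g` is flat.
-/

set_option autoImplicit false
universe u

open TensorProduct

namespace Groth.Agent.Lib.Helper71.FlatCompletion

variable {R : Type u} [CommRing R] (I : Ideal R)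

/-- Every element of the completion is approximated modulo `I ^ n` by an element of `R`. -/
theorem exists_sub_mem_map_pow (hI : I.FG) (n : ℕ) (r' : AdicCompletion I R) :
    ∃ r : R, r' - algebraMap R (AdicCompletion I R) r ∈
      (I ^ n).map (algebraMap R (AdicCompletion I R)) := by
  obtain ⟨r, hr⟩ := Ideal.Quotient.mk_surjective (AdicCompletion.evalₐ I n r')
  refine ⟨r, ?_⟩
  have h1 : AdicCompletion.evalₐ I n (r' - algebraMap R (AdicCompletion I R) r) = 0 := by
    rw [map_sub, AlgHom.commutes, ← hr, Ideal.Quotient.algebraMap_eq, sub_self]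
  have h2 : r' - algebraMap R (AdicCompletion I R) r ∈
      LinearMap.ker (AdicCompletion.eval I R n) := by
    rw [LinearMap.mem_ker]
    have h3 := AdicCompletion.factor_evalₐ_eq_eval (I := I) (n := n)
      (r' - algebraMap R (AdicCompletion I R) r) (by simp)
    rw [← h3, h1, map_zero]
  rw [← AdicCompletion.pow_smul_top_eq_ker_eval hI, Ideal.smul_top_eq_map] at h2
  exact h2

/-- A ring map between adic completions of Noetherian rings lying over a flat ring map is
flat. -/
theorem flat_of_completion_map {T : Type u} [CommRing T] [IsNoetherianRing R] [IsNoetherianRing T]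
    (K : Ideal T) (g : R →+* T) (hg : g.Flat) (h : I.map g ≤ K)
    (ψ : AdicCompletion I R →+* AdicCompletion K T)
    (hψ : ψ.comp (algebraMap R (AdicCompletion I R)) =
      (algebraMap T (AdicCompletion K T)).comp g) : ψ.Flat := by
  let _ : Algebra R T := g.toAlgebra
  have hgf : Module.Flat R T := hg
  let _ : Algebra (AdicCompletion I R) (AdicCompletion K T) := ψ.toAlgebra
  have hI : I.FG := (isNoetherianRing_iff_ideal_fg R).mp inferInstance I
  have hK : K.FG := (isNoetherianRing_iff_ideal_fg T).mp inferInstance K
  have hst1 : IsScalarTower R T (AdicCompletion K T) := IsScalarTower.of_algebraMap_eq' rfl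
  have hst2 : IsScalarTower R (AdicCompletion I R) (AdicCompletion K T) :=
    IsScalarTower.of_algebraMap_eq' hψ.symm
  have hflatR : Module.Flat R (AdicCompletion K T) := Module.Flat.trans R T (AdicCompletion K T)
  have hN1 : IsNoetherianRing (AdicCompletion I R) := Groth.Agent.S0542.result R I hI
  have hN2 : IsNoetherianRing (AdicCompletion K T) := Groth.Agent.S0542.result T K hK
  change Module.Flat (AdicCompletion I R) (AdicCompletion K T)
  refine Groth.Agent.Lib.Helper71.LocalCritNoeth.flat_of_relative_flat_pow
    (I.map (algebraMap R (AdicCompletion I R))) (B := AdicCompletion K T) (AdicCompletion K T) ?_ ?_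
  · -- `I T^ ⊆ K T^ ⊆ rad T^`
    have hcomp : IsAdicComplete (K.map (algebraMap T (AdicCompletion K T))) (AdicCompletion K T) :=
      (IsAdicComplete.map_algebraMap_iff (I := K) (S := AdicCompletion K T)
        (M := AdicCompletion K T)).mpr (AdicCompletion.isAdicComplete (M := T) hK)
    refine le_trans ?_ (IsAdicComplete.le_jacobson_bot (K.map (algebraMap T (AdicCompletion K T))))
    rw [Ideal.map_map]
    change I.map (ψ.comp (algebraMap R (AdicCompletion I R))) ≤ _
    rw [hψ, ← Ideal.map_map]
    exact Ideal.map_mono h
  · intro n N' N _ _ _ _ t1 t2 f hf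
    rw [← Ideal.map_pow] at t1 t2
    exact Groth.Agent.Lib.Helper71.FlatApprox.rTensor_injective_of_approx (I ^ (n + 1))
      (exists_sub_mem_map_pow I hI (n + 1)) (AdicCompletion K T) t1 t2 f hf

end Groth.Agent.Lib.Helper71.FlatCompletion
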