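import Mathlib.Tactic
import Mathlib.RingTheory.Flat.Basic
import Mathlib.LinearAlgebra.TensorProduct.Quotient
import Mathlib.LinearAlgebra.TensorProduct.RightExactness
import Mathlib.RingTheory.Localization.BaseChange
import Mathlib.RingTheory.LocalRing.ResidueField.Ideal
import Mathlib.RingTheory.Ideal.Operations

/-!
# Flat quotients and residue fields (helper71)

* `inf_le_smul_of_flat_quotient`: if `M ⧸ N` is flat then `I • ⊤ ⊓ N ≤ I • N` for every ideal `I`.
* `one_tmul_eq_zero_iff`, `mk_smul_one_tmul`: elements `1 ⊗ x` of `(R ⧸ I) ⊗ M`.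
* `exists_smul_mem_of_one_tmul_eq_zero`: if `1 ⊗ x = 0` in `κ(p) ⊗ M` then `s • x ∈ p • ⊤` for
  some `s ∉ p`.
-/

set_option autoImplicit false
universe u v

namespace Groth.Agent.Lib.Helper71

open TensorProduct

section quot

variable {R : Type u} [CommRing R] {M : Type v} [AddCommGroup M] [Module R M] (I : Ideal R)

theorem one_tmul_eq_zero_iff (x : M) :
    (1 : R ⧸ I) ⊗ₜ[R] x = 0 ↔ x ∈ I • (⊤ : Submodule R M) := by
  rw [← (TensorProduct.quotTensorEquivQuotSMul M I).map_eq_zero_iff,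
    TensorProduct.quotTensorEquivQuotSMul_mk_one_tmul, Submodule.Quotient.mk_eq_zero]

theorem mk_smul_one_tmul (a : R) (x : M) :
    (Ideal.Quotient.mk I a) • ((1 : R ⧸ I) ⊗ₜ[R] x) = (1 : R ⧸ I) ⊗ₜ[R] (a • x) := by
  rw [TensorProduct.smul_tmul', smul_eq_mul, mul_one, TensorProduct.tmul_smul,
    TensorProduct.smul_tmul']
  congr 1
  rw [Algebra.smul_def, mul_one]
  rfl

/-- The multiplication map `I ⊗ M → M`. -/
noncomputable def mulMap : (I ⊗[R] M) →ₗ[R] M :=
  (TensorProduct.lid R M).toLinearMap ∘ₗ I.subtype.rTensor M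

@[simp] theorem mulMap_tmul (a : I) (m : M) : mulMap I (a ⊗ₜ[R] m) = (a : R) • m := by
  simp [mulMap]

theorem exists_mulMap_eq {x : M} (hx : x ∈ I • (⊤ : Submodule R M)) :
    ∃ z : I ⊗[R] M, mulMap I z = x := by
  refine Submodule.smul_induction_on hx (fun a ha m _ => ⟨(⟨a, ha⟩ : I) ⊗ₜ[R] m, by simp⟩) ?_
  rintro _ _ ⟨z, rfl⟩ ⟨w, rfl⟩
  exact ⟨z + w, map_add _ _ _⟩

theorem mulMap_lTensor_subtype_mem (N : Submodule R M) (w : I ⊗[R] N) :
    mulMap I (N.subtype.lTensor I w) ∈ I • N := by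
  induction w using TensorProduct.induction_on with
  | zero => simp
  | tmul a n =>
    simp only [LinearMap.lTensor_tmul, Submodule.subtype_apply, mulMap_tmul]
    exact Submodule.smul_mem_smul a.2 n.2
  | add a b ha hb =>
    rw [map_add, map_add]
    exact add_mem ha hb

/-- If `M ⧸ N` is flat then `I M ∩ N = I N` (vanishing of `Tor₁(R ⧸ I, M ⧸ N)`). -/
theorem inf_le_smul_of_flat_quotient (N : Submodule R M) [Module.Flat R (M ⧸ N)] :
    I • (⊤ : Submodule R M) ⊓ N ≤ I • N := by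
  rintro x ⟨hx1, hx2⟩
  obtain ⟨z, rfl⟩ := exists_mulMap_eq I hx1
  have hex : Function.Exact (N.subtype.lTensor I) (N.mkQ.lTensor I) :=
    lTensor_exact I (LinearMap.exact_subtype_mkQ N) (Submodule.mkQ_surjective N)
  have hinj : Function.Injective (I.subtype.rTensor (M ⧸ N)) :=
    Module.Flat.rTensor_preserves_injective_linearMap _ I.injective_subtype
  have hz : N.mkQ.lTensor I z = 0 := by
    apply hinj
    rw [map_zero]
    apply (TensorProduct.lid R (M ⧸ N)).injective
    rw [map_zero]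
    have : ∀ z : I ⊗[R] M, (TensorProduct.lid R (M ⧸ N))
        ((I.subtype.rTensor (M ⧸ N)) (N.mkQ.lTensor I z)) = N.mkQ (mulMap I z) := by
      intro z
      induction z using TensorProduct.induction_on with
      | zero => simp
      | tmul a m => simp
      | add a b ha hb => simp only [map_add, ha, hb]
    rw [this]
    exact (Submodule.Quotient.mk_eq_zero N).mpr hx2
  obtain ⟨w, rfl⟩ := (hex z).mp hz
  exact mulMap_lTensor_subtype_mem I N w

end quot

section residue

variable {A : Type u} [CommRing A] (p : Ideal A) [p.IsPrime]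
  {M : Type v} [AddCommGroup M] [Module A M]

/-- If `1 ⊗ x = 0` in `κ(p) ⊗ M` then `s • x ∈ p M` for some `s ∉ p`. -/
theorem exists_smul_mem_of_one_tmul_eq_zero (x : M)
    (h : (1 : p.ResidueField) ⊗ₜ[A] x = 0) :
    ∃ s : A, s ∉ p ∧ s • x ∈ p • (⊤ : Submodule A M) := by
  have hloc : IsLocalizedModule (nonZeroDivisors (A ⧸ p))
      (TensorProduct.mk (A ⧸ p) p.ResidueField ((A ⧸ p) ⊗[A] M) 1) :=
    (isLocalizedModule_iff_isBaseChange (nonZeroDivisors (A ⧸ p)) p.ResidueField _).mpr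
      (TensorProduct.isBaseChange (A ⧸ p) ((A ⧸ p) ⊗[A] M) p.ResidueField)
  have h1 : (1 : p.ResidueField) ⊗ₜ[A ⧸ p] ((1 : A ⧸ p) ⊗ₜ[A] x) = 0 := by
    apply (TensorProduct.AlgebraTensorModule.cancelBaseChange A (A ⧸ p) p.ResidueField
      p.ResidueField M).injective
    rw [TensorProduct.AlgebraTensorModule.cancelBaseChange_tmul, one_smul, h, map_zero]
  obtain ⟨c, hc⟩ := (IsLocalizedModule.eq_zero_iff (nonZeroDivisors (A ⧸ p))
    (TensorProduct.mk (A ⧸ p) p.ResidueField ((A ⧸ p) ⊗[A] M) 1)).mp h1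
  obtain ⟨s, hs⟩ := Ideal.Quotient.mk_surjective (c : A ⧸ p)
  refine ⟨s, ?_, ?_⟩
  · intro hsp
    have : (c : A ⧸ p) = 0 := by rw [← hs]; exact Ideal.Quotient.eq_zero_iff_mem.mpr hsp
    exact nonZeroDivisors.coe_ne_zero c this
  · rw [← one_tmul_eq_zero_iff, ← mk_smul_one_tmul, hs]
    exact hc

end residue

end Groth.Agent.Lib.Helper71
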