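import Mathlib
import Groth.Agent.Lib.Helper71.FlatQuot

/-!
Helper71: absolutely flat (von Neumann regular) rings.

* `flat_of_vnr`: if every `a` satisfies `a = a * a * b` for some `b`, every module is flat.
* `vnr_of_flat`: conversely, if all cyclic modules `R ⧸ (a)` are flat, the ring is von Neumann regular.
-/

set_option autoImplicit false
universe u v

namespace Groth.Agent.Lib.Helper71

open TensorProduct

section vnr

variable {R : Type u} [CommRing R]

/-- In a von Neumann regular ring, f.g. ideals are generated by an idempotent. -/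
theorem exists_idempotent_of_fg (h : ∀ a : R, ∃ b, a = a * a * b) (I : Ideal R) (hI : I.FG) :
    ∃ e : R, e * e = e ∧ I = Ideal.span {e} := by
  refine Submodule.fg_induction (R := R) (M := R)
    (motive := fun (I : Submodule R R) _ => ∃ e : R, e * e = e ∧ I = Ideal.span {e})
    ?_ ?_ I hI
  · intro a
    obtain ⟨b, hb⟩ := h a
    refine ⟨a * b, ?_, ?_⟩
    · calc a * b * (a * b) = (a * a * b) * b := by ring
        _ = a * b := by rw [← hb]
    · apply le_antisymm
      · rw [Ideal.submodule_span_eq, Ideal.span_singleton_le_span_singleton]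
        exact ⟨a, by rw [mul_comm (a * b) a, ← mul_assoc]; exact hb⟩
      · rw [Ideal.submodule_span_eq, Ideal.span_singleton_le_span_singleton]
        exact ⟨b, rfl⟩
  · rintro I₁ I₂ - - ⟨e, he, rfl⟩ ⟨f, hf, rfl⟩
    refine ⟨e + f - e * f, ?_, ?_⟩
    · have h1 : e * e * f = e * f := by rw [he]
      have h2 : e * (f * f) = e * f := by rw [hf]
      calc (e + f - e * f) * (e + f - e * f)
          = e * e + f * f + (e * e) * (f * f) + 2 * (e * f) - 2 * (e * e * f) - 2 * (e * (f * f)) := by
            ring
        _ = e + f - e * f := by rw [h1, h2, he, hf]; ring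
    · apply le_antisymm
      · rw [sup_le_iff, Ideal.span_singleton_le_span_singleton,
          Ideal.span_singleton_le_span_singleton]
        constructor
        · refine ⟨e, ?_⟩
          calc e = e * e + e * f - e * e * f := by rw [he]; ring
            _ = (e + f - e * f) * e := by ring
        · refine ⟨f, ?_⟩
          calc f = e * f + f * f - e * (f * f) := by rw [hf]; ring
            _ = (e + f - e * f) * f := by ring
      · rw [Ideal.span_singleton_le_iff_mem]
        refine Ideal.sub_mem _ (Ideal.add_mem _ ?_ ?_) ?_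
        · exact Ideal.mem_sup_left (Ideal.subset_span rfl)
        · exact Ideal.mem_sup_right (Ideal.subset_span rfl)
        · exact Ideal.mem_sup_left (Ideal.mul_mem_right _ _ (Ideal.subset_span rfl))

/-- Every module over a von Neumann regular ring is flat. -/
theorem flat_of_vnr (h : ∀ a : R, ∃ b, a = a * a * b) (M : Type v) [AddCommGroup M] [Module R M] :
    Module.Flat R M := by
  rw [Module.Flat.iff_rTensor_injective]
  intro I hI
  obtain ⟨e, he, rfl⟩ := exists_idempotent_of_fg h I hI
  let ρ : R →ₗ[R] (Ideal.span {e} : Ideal R) :=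
    { toFun := fun r => ⟨r * e, Ideal.mul_mem_left _ _ (Ideal.subset_span rfl)⟩
      map_add' := fun a b => Subtype.ext (add_mul a b e)
      map_smul' := fun a b => Subtype.ext (by simp [mul_assoc]) }
  have hρ : ρ ∘ₗ (Ideal.span {e} : Ideal R).subtype = LinearMap.id := by
    ext ⟨x, hx⟩
    obtain ⟨c, rfl⟩ := Ideal.mem_span_singleton'.mp hx
    show c * e * e = c * e
    rw [mul_assoc, he]
  have hleft : Function.LeftInverse (ρ.rTensor M) ((Ideal.span {e} : Ideal R).subtype.rTensor M) := by
    intro z
    rw [← LinearMap.comp_apply, ← LinearMap.rTensor_comp, hρ, LinearMap.rTensor_id,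
      LinearMap.id_apply]
  exact hleft.injective

/-- If all cyclic modules `R ⧸ (a)` are flat then `R` is von Neumann regular. -/
theorem vnr_of_flat (h : ∀ a : R, Module.Flat R (R ⧸ (Ideal.span {a} : Ideal R))) (a : R) :
    ∃ b, a = a * a * b := by
  have := h a
  have h1 := inf_le_smul_of_flat_quotient (M := R) (Ideal.span {a} : Ideal R)
    (Ideal.span {a} : Ideal R)
  have h2 : a ∈ (Ideal.span {a} : Ideal R) • (⊤ : Submodule R R) ⊓ (Ideal.span {a} : Ideal R) := by
    refine ⟨?_, Ideal.subset_span rfl⟩
    rw [Ideal.smul_top_eq_map]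
    simp
  have h3 := h1 h2
  rw [smul_eq_mul, Ideal.span_singleton_mul_span_singleton, Ideal.mem_span_singleton'] at h3
  obtain ⟨b, hb⟩ := h3
  exact ⟨b, by rw [mul_comm (a * a) b]; exact hb.symm⟩

end vnr

end Groth.Agent.Lib.Helper71
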