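import Mathlib

/-!
# Exterior powers and fibre dimension (helper71)

For a finite module `M` over `R`, a prime `p` with residue field `κ`:
* `annihilator_extPow_not_le` : `finrank κ (κ ⊗ M) < n → ¬ Ann (⋀ⁿ M) ≤ p`
* `annihilator_extPow_le`     : `n ≤ finrank κ (κ ⊗ M) → Ann (⋀ⁿ M) ≤ p`
-/

set_option autoImplicit false
universe u v

open TensorProduct

namespace Groth.Agent.Lib.Helper71.ExtPowFibre

section basic
variable {R : Type u} [CommRing R] {M : Type v} [AddCommGroup M] [Module R M]

/-- A module generated by `r < n` elements has trivial `n`-th exterior power. -/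
theorem extPow_subsingleton_of_span {r n : ℕ} (hrn : r < n) (v : Fin r → M)
    (hv : Submodule.span R (Set.range v) = ⊤) : Subsingleton (⋀[R]^n M) := by
  have h := exteriorPower.ιMulti_family_span_of_span (R := R) (n := n) hv
  have hempty : IsEmpty (Set.powersetCard (Fin r) n) := by
    refine ⟨fun s => ?_⟩
    have h1 : (s : Finset (Fin r)).card = n := s.prop
    have h2 : (s : Finset (Fin r)).card ≤ r := by
      simpa using Finset.card_le_univ (s : Finset (Fin r))
    omega
  have hr : Set.range (exteriorPower.ιMulti_family R n v) = ∅ := Set.range_eq_empty _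
  rw [hr, Submodule.span_empty] at h
  exact (Submodule.subsingleton_iff R).mp (subsingleton_of_bot_eq_top h)

/-- If `s • M ⊆ N` and `⋀ⁿ N = 0`, then `s ^ n` kills `⋀ⁿ M`. -/
theorem pow_mem_annihilator_extPow (N : Submodule R M) (n : ℕ) [Subsingleton (⋀[R]^n N)]
    (s : R) (hs : ∀ x : M, s • x ∈ N) : s ^ n ∈ (⋀[R]^n M).annihilator := by
  rw [Submodule.mem_annihilator]
  have key : ∀ y : ⋀[R]^n M, s ^ n • y = 0 := by
    intro y
    have hy : y ∈ Submodule.span R (Set.range (exteriorPower.ιMulti R n (M := M))) := by
      rw [exteriorPower.ιMulti_span]; exact Submodule.mem_top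
    induction hy using Submodule.span_induction with
    | mem y hy =>
      obtain ⟨x, rfl⟩ := hy
      have h1 : s ^ n • exteriorPower.ιMulti R n x =
          exteriorPower.ιMulti R n (fun i => s • x i) := by
        have := (exteriorPower.ιMulti R n (M := M)).map_smul_univ (fun _ => s) x
        simp only [Finset.prod_const, Finset.card_univ, Fintype.card_fin] at this
        exact this.symm
      have h2 : exteriorPower.ιMulti R n (fun i => s • x i) =
          exteriorPower.map n N.subtype
            (exteriorPower.ιMulti R n (fun i => (⟨s • x i, hs (x i)⟩ : N))) := by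
        rw [exteriorPower.map_apply_ιMulti]
        rfl
      rw [h1, h2, Subsingleton.elim (exteriorPower.ιMulti R n _) 0, map_zero]
    | zero => simp
    | add a b _ _ ha hb => rw [smul_add, ha, hb, add_zero]
    | smul c a _ ha => rw [smul_comm, ha, smul_zero]
  intro y hy
  have := key ⟨y, hy⟩
  exact congrArg Subtype.val this

end basic

section fibre
variable {R : Type u} [CommRing R] {M : Type u} [AddCommGroup M] [Module R M]
  (p : Ideal R) [p.IsPrime]

/-- The fibre `κ(p) ⊗ M` is spanned over `κ(p)` by the pure tensors `1 ⊗ m`. -/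
theorem span_one_tmul_eq_top :
    Submodule.span p.ResidueField (Set.range fun m : M => (1 : p.ResidueField) ⊗ₜ[R] m) = ⊤ := by
  rw [eq_top_iff]
  rintro x -
  induction x using TensorProduct.induction_on with
  | zero => exact Submodule.zero_mem _
  | tmul k m =>
    have : k ⊗ₜ[R] m = k • ((1 : p.ResidueField) ⊗ₜ[R] m) := by
      rw [TensorProduct.smul_tmul', smul_eq_mul, mul_one]
    rw [this]
    exact Submodule.smul_mem _ _ (Submodule.subset_span ⟨m, rfl⟩)
  | add x y hx hy => exact Submodule.add_mem _ hx hy

theorem annihilator_extPow_not_le [Module.Finite R M] (n : ℕ)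
    (h : Module.finrank p.ResidueField (p.ResidueField ⊗[R] M) < n) :
    ¬ (⋀[R]^n M).annihilator ≤ p := by
  classical
  let κ := p.ResidueField
  let S : Set (κ ⊗[R] M) := Set.range fun m : M => (1 : κ) ⊗ₜ[R] m
  have hS : Submodule.span κ S = ⊤ := span_one_tmul_eq_top p
  have hfin : Module.Finite κ (Submodule.span κ S) := by rw [hS]; infer_instance
  obtain ⟨f, hfS, hfspan, -⟩ := Submodule.exists_fun_fin_finrank_span_eq κ S
  have hr : Module.finrank κ (Submodule.span κ S) < n := by
    rw [hS, finrank_top]; exact h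
  choose m hm using hfS
  -- the submodule generated by the lifts
  let N : Submodule R M := Submodule.span R (Set.range m)
  -- `κ ⊗ (M ⧸ N) = 0`
  have hQ : Subsingleton (κ ⊗[R] (M ⧸ N)) := by
    have hsurj : Function.Surjective (LinearMap.lTensor κ N.mkQ) :=
      LinearMap.lTensor_surjective κ N.mkQ_surjective
    have hzero : ∀ x : κ ⊗[R] M, (LinearMap.lTensor κ N.mkQ) x = 0 := by
      intro x
      have hx : x ∈ Submodule.span κ (Set.range f) := by
        rw [hfspan, hS]; exact Submodule.mem_top
      -- the base-changed map is κ-linear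
      let F : κ ⊗[R] M →ₗ[κ] κ ⊗[R] (M ⧸ N) := N.mkQ.baseChange κ
      have hF : ∀ y, F y = (LinearMap.lTensor κ N.mkQ) y := fun y => rfl
      rw [← hF]
      induction hx using Submodule.span_induction with
      | mem y hy =>
        obtain ⟨i, rfl⟩ := hy
        rw [← hm i, hF, LinearMap.lTensor_tmul]
        have : N.mkQ (m i) = 0 := by
          rw [Submodule.mkQ_apply, Submodule.Quotient.mk_eq_zero]
          exact Submodule.subset_span ⟨i, rfl⟩
        rw [this, TensorProduct.tmul_zero]
      | zero => exact map_zero _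
      | add a b _ _ ha hb => rw [map_add, ha, hb, add_zero]
      | smul c a _ ha => rw [map_smul, ha, smul_zero]
    refine ⟨fun a b => ?_⟩
    obtain ⟨a', rfl⟩ := hsurj a
    obtain ⟨b', rfl⟩ := hsurj b
    rw [hzero a', hzero b']
  have hsupp : (⟨p, inferInstance⟩ : PrimeSpectrum R) ∉ Module.support R (M ⧸ N) := by
    rw [Module.mem_support_iff_nontrivial_residueField_tensorProduct]
    exact not_nontrivial_iff_subsingleton.mpr hQ
  rw [Module.mem_support_iff_of_finite] at hsupp
  obtain ⟨s, hsann, hsp⟩ := Set.not_subset.mp hsupp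
  have hsN : ∀ x : M, s • x ∈ N := by
    intro x
    have := Module.mem_annihilator.mp hsann (N.mkQ x)
    rw [← map_smul, Submodule.mkQ_apply, Submodule.Quotient.mk_eq_zero] at this
    exact this
  -- `⋀ⁿ N = 0`
  have hNsub : Subsingleton (⋀[R]^n N) := by
    let v : Fin (Module.finrank κ (Submodule.span κ S)) → N :=
      fun i => ⟨m i, Submodule.subset_span ⟨i, rfl⟩⟩
    refine extPow_subsingleton_of_span hr v ?_
    rw [eq_top_iff]
    rintro ⟨x, hx⟩ _
    have : ∀ y (hy : y ∈ N), (⟨y, hy⟩ : N) ∈ Submodule.span R (Set.range v) := by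
      intro y hy
      induction hy using Submodule.span_induction with
      | mem y hy =>
        obtain ⟨i, rfl⟩ := hy
        exact Submodule.subset_span ⟨i, rfl⟩
      | zero => exact Submodule.zero_mem _
      | add a b ha hb iha ihb =>
        have : (⟨a + b, Submodule.add_mem _ ha hb⟩ : N) = ⟨a, ha⟩ + ⟨b, hb⟩ := rfl
        rw [this]; exact Submodule.add_mem _ iha ihb
      | smul c a ha iha =>
        have : (⟨c • a, Submodule.smul_mem _ c ha⟩ : N) = c • ⟨a, ha⟩ := rfl
        rw [this]; exact Submodule.smul_mem _ c iha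
    exact this x hx
  intro hle
  have h1 : s ^ n ∈ (⋀[R]^n M).annihilator := pow_mem_annihilator_extPow N n s hsN
  have h2 : s ^ n ∈ p := hle h1
  exact hsp (Ideal.IsPrime.mem_of_pow_mem inferInstance n h2)

theorem annihilator_extPow_le (n : ℕ)
    [Module.Finite p.ResidueField (p.ResidueField ⊗[R] M)]
    (h : n ≤ Module.finrank p.ResidueField (p.ResidueField ⊗[R] M)) :
    (⋀[R]^n M).annihilator ≤ p := by
  classical
  let κ := p.ResidueField
  let S : Set (κ ⊗[R] M) := Set.range fun m : M => (1 : κ) ⊗ₜ[R] m
  have hS : Submodule.span κ S = ⊤ := span_one_tmul_eq_top p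
  have hfin : Module.Finite κ (Submodule.span κ S) := by rw [hS]; infer_instance
  obtain ⟨f, hfS, -, hfli⟩ := Submodule.exists_fun_fin_finrank_span_eq κ S
  have hr : n ≤ Module.finrank κ (Submodule.span κ S) := by
    rw [hS, finrank_top]; exact h
  choose m hm using hfS
  -- `n` of the lifts
  let ι : Fin n → Fin (Module.finrank κ (Submodule.span κ S)) := Fin.castLE hr
  have hli : LinearIndependent κ (f ∘ ι) := hfli.comp _ (Fin.castLE_injective hr)
  let x : Fin n → M := fun i => m (ι i)
  -- the alternating map
  let φ : M →ₗ[R] κ ⊗[R] M := TensorProduct.mk R κ M 1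
  let a : M [⋀^Fin n]→ₗ[R] ⋀[κ]^n (κ ⊗[R] M) :=
    { ((exteriorPower.ιMulti κ n (M := κ ⊗[R] M)).toMultilinearMap.restrictScalars
        R).compLinearMap (fun _ => φ) with
      map_eq_zero_of_eq' := fun v i j hij hne =>
        (exteriorPower.ιMulti κ n (M := κ ⊗[R] M)).map_eq_zero_of_eq (fun i => φ (v i))
          (by simp only [hij]) hne }
  let F : ⋀[R]^n M →ₗ[R] ⋀[κ]^n (κ ⊗[R] M) := exteriorPower.alternatingMapLinearEquiv a
  have hF : F (exteriorPower.ιMulti R n x) = exteriorPower.ιMulti κ n (f ∘ ι) := by
    rw [exteriorPower.alternatingMapLinearEquiv_apply_ιMulti]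
    change exteriorPower.ιMulti κ n (fun i => φ (x i)) = _
    congr 1
    funext i
    exact hm (ι i)
  have hne : exteriorPower.ιMulti κ n (f ∘ ι) ≠ 0 := by
    have hlin := exteriorPower.ιMulti_family_linearIndependent_field (K := κ) (n := n) hli
    have h0 := hlin.ne_zero
      (Set.powersetCard.ofFinEmbEquiv (RelEmbedding.refl (· ≤ ·) : Fin n ↪o Fin n))
    unfold exteriorPower.ιMulti_family at h0
    rw [Equiv.symm_apply_apply] at h0
    exact h0
  intro s hs
  have h1 : s • exteriorPower.ιMulti R n x = 0 := by
    have := (Submodule.mem_annihilator.mp hs) (exteriorPower.ιMulti R n x).1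
      (exteriorPower.ιMulti R n x).2
    exact Subtype.ext this
  have h2 : s • exteriorPower.ιMulti κ n (f ∘ ι) = 0 := by
    rw [← hF, ← map_smul, h1, map_zero]
  rw [← algebraMap_smul κ s, smul_eq_zero] at h2
  rcases h2 with h2 | h2
  · exact (Ideal.algebraMap_residueField_eq_zero).mp h2
  · exact absurd h2 hne

end fibre

end Groth.Agent.Lib.Helper71.ExtPowFibre
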