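import Groth.Agent.Lib.Helper13.LimDescent8

/-!
# Weakening the hypotheses of one-step limit descent (helper71)

`descend_of_affine`: a one-step descent statement for a target-local, base-change-stable
property `P`, known for systems with affine stages and a quasi-compact quasi-separated source,
holds for systems with a quasi-compact stage `E.obj j₀` and `f₀` quasi-compact, quasi-separated.
-/

set_option autoImplicit false
universe u

open CategoryTheory Limits AlgebraicGeometry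

namespace Groth.Agent.Lib.Helper71.LimLocalize

open Groth.Agent.Lib.Helper13.LimDescent

variable {J : Type u} [SmallCategory J] (E : J ⥤ Scheme.{u}) (cE : Cone E) (j₀ : J)
  {X₀ : Scheme.{u}}
variable [hE : ∀ {i j : J} (f : i ⟶ j), IsAffineHom (E.map f)]

set_option backward.isDefEq.respectTransparency false in
theorem descend_of_affine (P : MorphismProperty Scheme.{u}) [P.IsStableUnderBaseChange]
    [IsZariskiLocalAtTarget P] [IsCofiltered J] (hcE : IsLimit cE)
    (H : ∀ {J' : Type u} [SmallCategory J'] [IsCofiltered J'] (E' : J' ⥤ Scheme.{u})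
      (cE' : Cone E') (_ : IsLimit cE') (_ : ∀ {i j : J'} (f : i ⟶ j), IsAffineHom (E'.map f))
      (_ : ∀ j, IsAffine (E'.obj j)) (j₀' : J') {X₀' : Scheme.{u}} (_ : CompactSpace X₀')
      (_ : QuasiSeparatedSpace X₀') (f₀' : X₀' ⟶ E'.obj j₀') (_ : LocallyOfFinitePresentation f₀'),
      P (pullback.fst (cE'.π.app j₀') f₀') → ∃ k : Over j₀', P (pullback.fst (E'.map k.hom) f₀'))
    [CompactSpace (E.obj j₀)] (f₀ : X₀ ⟶ E.obj j₀) [QuasiCompact f₀] [QuasiSeparated f₀]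
    [LocallyOfFinitePresentation f₀]
    (h : P (pullback.fst (cE.π.app j₀) f₀)) :
    ∃ k : Over j₀, P (pullback.fst (E.map k.hom) f₀) := by
  refine localize E cE j₀ f₀ P ?_ h
  intro V v _ _ hP
  have hP' := (prop_fst_fst_symm P (cE.π.app j₀) v f₀).mp hP
  refine Exists.imp (fun k hk => (prop_fst_fst_symm P (E.map k.hom) v f₀).mpr hk)
    (relStep E cE j₀ (pullback.fst v f₀) v P ?_ hP')
  intro f₀' hf₀' hQ
  have h1 : LocallyOfFinitePresentation f₀' := by
    rw [hf₀']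
    exact (liftTop_prop_iff E j₀ _ _ @LocallyOfFinitePresentation).mpr inferInstance
  have h2 : ∀ k, IsAffine ((sys E j₀ v).obj k) := fun k => by
    dsimp only [sys_obj]
    exact isAffine_of_isAffineHom (pullback.snd (E.map k.hom) v)
  have h3 : CompactSpace ↥(pullback v f₀) :=
    QuasiCompact.compactSpace_of_compactSpace (pullback.fst v f₀)
  have h4 : QuasiSeparatedSpace ↥(pullback v f₀) :=
    quasiSeparatedSpace_of_quasiSeparated (pullback.fst v f₀)
  exact H (sys E j₀ v) (sysCone E cE j₀ v) (isLimitSysCone E cE j₀ v hcE)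
    (fun a => inferInstance) h2 (top j₀) h3 h4 f₀' h1 hQ

end Groth.Agent.Lib.Helper71.LimLocalize

namespace Groth.Agent.Lib.Helper71.LimLocalize

open Groth.Agent.Lib.Helper13.LimDescent

variable {J : Type u} [SmallCategory J] (E : J ⥤ Scheme.{u}) (cE : Cone E) (j₀ : J)
  {X₀ : Scheme.{u}}

lemma prop_snd_iff_fst (P : MorphismProperty Scheme.{u}) [P.RespectsIso] {A B Y : Scheme.{u}}
    (f : A ⟶ Y) (g : B ⟶ Y) : P (pullback.snd f g) ↔ P (pullback.fst g f) := by
  rw [← pullbackSymmetry_hom_comp_fst, P.cancel_left_of_respectsIso]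

set_option backward.isDefEq.respectTransparency false in
/-- The `iff` form (for the chosen pullbacks, second projections) of a one-step descent. -/
theorem snd_iff_of_descent (P : MorphismProperty Scheme.{u}) [P.IsStableUnderBaseChange]
    (f₀ : X₀ ⟶ E.obj j₀)
    (H : P (pullback.fst (cE.π.app j₀) f₀) → ∃ k : Over j₀, P (pullback.fst (E.map k.hom) f₀)) :
    P (pullback.snd f₀ (cE.π.app j₀)) ↔ ∃ (j : J) (φ : j ⟶ j₀), P (pullback.snd f₀ (E.map φ)) := by
  constructor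
  · intro h
    obtain ⟨k, hk⟩ := H ((prop_snd_iff_fst P _ _).mp h)
    exact ⟨k.left, k.hom, (prop_snd_iff_fst P _ _).mpr hk⟩
  · rintro ⟨j, φ, h⟩
    exact (prop_snd_iff_fst P _ _).mpr
      (limit_of_stage E cE j₀ f₀ P (Over.mk φ) ((prop_snd_iff_fst P _ _).mp h))

end Groth.Agent.Lib.Helper71.LimLocalize

namespace Groth.Agent.Lib.Helper71.LimLocalize

open Groth.Agent.Lib.Helper13.LimDescent

section Gen

variable {J : Type u} [SmallCategory J] (E : J ⥤ Scheme.{u}) (cE : Cone E) (j₀ : J)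
  {X₀ : Scheme.{u}}
variable [hE : ∀ {i j : J} (f : i ⟶ j), IsAffineHom (E.map f)]

set_option backward.isDefEq.respectTransparency false in
/-- Variant of `descend_of_affine` where the finiteness hypothesis on `f₀` is an arbitrary
base-change-stable property `Q` (e.g. `LocallyOfFiniteType`). -/
theorem descend_of_affine_gen (P Q : MorphismProperty Scheme.{u}) [P.IsStableUnderBaseChange]
    [IsZariskiLocalAtTarget P] [Q.IsStableUnderBaseChange] [IsCofiltered J] (hcE : IsLimit cE)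
    (H : ∀ {J' : Type u} [SmallCategory J'] [IsCofiltered J'] (E' : J' ⥤ Scheme.{u})
      (cE' : Cone E') (_ : IsLimit cE') (_ : ∀ {i j : J'} (f : i ⟶ j), IsAffineHom (E'.map f))
      (_ : ∀ j, IsAffine (E'.obj j)) (j₀' : J') {X₀' : Scheme.{u}} (_ : CompactSpace X₀')
      (_ : QuasiSeparatedSpace X₀') (f₀' : X₀' ⟶ E'.obj j₀') (_ : Q f₀'),
      P (pullback.fst (cE'.π.app j₀') f₀') → ∃ k : Over j₀', P (pullback.fst (E'.map k.hom) f₀'))
    [CompactSpace (E.obj j₀)] (f₀ : X₀ ⟶ E.obj j₀) [QuasiCompact f₀] [QuasiSeparated f₀]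
    (hQ : Q f₀) (h : P (pullback.fst (cE.π.app j₀) f₀)) :
    ∃ k : Over j₀, P (pullback.fst (E.map k.hom) f₀) := by
  refine localize E cE j₀ f₀ P ?_ h
  intro V v _ _ hP
  have hP' := (prop_fst_fst_symm P (cE.π.app j₀) v f₀).mp hP
  refine Exists.imp (fun k hk => (prop_fst_fst_symm P (E.map k.hom) v f₀).mpr hk)
    (relStep E cE j₀ (pullback.fst v f₀) v P ?_ hP')
  intro f₀' hf₀' hQ'
  have h1 : Q f₀' := by
    rw [hf₀']
    exact (liftTop_prop_iff E j₀ _ _ Q).mpr (Q.pullback_fst _ _ hQ)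
  have h2 : ∀ k, IsAffine ((sys E j₀ v).obj k) := fun k => by
    dsimp only [sys_obj]
    exact isAffine_of_isAffineHom (pullback.snd (E.map k.hom) v)
  have h3 : CompactSpace ↥(pullback v f₀) :=
    QuasiCompact.compactSpace_of_compactSpace (pullback.fst v f₀)
  have h4 : QuasiSeparatedSpace ↥(pullback v f₀) :=
    quasiSeparatedSpace_of_quasiSeparated (pullback.fst v f₀)
  exact H (sys E j₀ v) (sysCone E cE j₀ v) (isLimitSysCone E cE j₀ v hcE)
    (fun a => inferInstance) h2 (top j₀) h3 h4 f₀' h1 hQ'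

end Gen

section Stage

variable {I : Type u} [SmallCategory I] (D : I ⥤ Scheme.{u}) (c : Cone D) (i₀ : I)

/-- In the two-step shape: a base-change-stable property of a stage passes to the limit. -/
theorem prop_of_stage (P : MorphismProperty Scheme.{u}) [P.IsStableUnderBaseChange]
    {X₀ Y₀ : Scheme.{u}} {f₀ : X₀ ⟶ Y₀} {g₀ : Y₀ ⟶ D.obj i₀}
    {X Y : Scheme.{u}} {f : X ⟶ Y} {g : Y ⟶ c.pt} {qY : Y ⟶ Y₀} {qX : X ⟶ X₀}
    (hY : IsPullback qY g g₀ (c.π.app i₀)) (hX : IsPullback qX f f₀ qY)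
    {j : I} (φ : j ⟶ i₀) {Xj Yj : Scheme.{u}} {fj : Xj ⟶ Yj} {gj : Yj ⟶ D.obj j}
    {pY : Yj ⟶ Y₀} {pX : Xj ⟶ X₀}
    (hYj : IsPullback pY gj g₀ (D.map φ)) (hXj : IsPullback pX fj f₀ pY) (h : P fj) : P f := by
  let t : Y ⟶ Yj := hYj.lift qY (g ≫ c.π.app j) (by rw [Category.assoc, c.w φ, hY.w])
  have ht : t ≫ pY = qY := hYj.lift_fst _ _ _
  let s : X ⟶ Xj := hXj.lift qX (f ≫ t) (by rw [Category.assoc, ht, hX.w])
  have hs1 : s ≫ pX = qX := hXj.lift_fst _ _ _
  have hs2 : s ≫ fj = f ≫ t := hXj.lift_snd _ _ _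
  have hbig : IsPullback (s ≫ pX) f f₀ (t ≫ pY) := by rw [hs1, ht]; exact hX
  have hsq : IsPullback s f fj t := IsPullback.of_right hbig hs2 hXj
  exact P.of_isPullback hsq h

end Stage

section Factor

universe v' u'

variable {C : Type u'} [Category.{v'} C] [HasPullbacks C]

/-- For a monomorphism `ι₂ : Z₂ ⟶ S`, and a commutative square `q₁ ≫ ι₁ = p₁ ≫ b`, the map `p₁`
factors through the base change `T₂ = Z₂ ×_S B` iff the base change of `Z₁ ×_S Z₂ ⟶ Z₁` along `q₁`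
is an isomorphism. -/
theorem factor_iff_isIso {Z₁ Z₂ S B T₁ T₂ : C} (ι₁ : Z₁ ⟶ S) (ι₂ : Z₂ ⟶ S) [Mono ι₂] (b : B ⟶ S)
    (q₁ : T₁ ⟶ Z₁) (p₁ : T₁ ⟶ B) (w : q₁ ≫ ι₁ = p₁ ≫ b)
    {q₂ : T₂ ⟶ Z₂} {p₂ : T₂ ⟶ B} (hT₂ : IsPullback q₂ p₂ ι₂ b) :
    (∃ k : T₁ ⟶ T₂, k ≫ p₂ = p₁) ↔ IsIso (pullback.fst q₁ (pullback.fst ι₁ ι₂)) := by
  constructor
  · rintro ⟨k, hk⟩
    have hcomm : q₁ ≫ ι₁ = (k ≫ q₂) ≫ ι₂ := by
      rw [Category.assoc, hT₂.w, ← Category.assoc, hk, w]
    let l : T₁ ⟶ pullback ι₁ ι₂ := pullback.lift q₁ (k ≫ q₂) hcomm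
    let s : T₁ ⟶ pullback q₁ (pullback.fst ι₁ ι₂) :=
      pullback.lift (𝟙 T₁) l (by rw [Category.id_comp]; exact (pullback.lift_fst _ _ _).symm)
    have hs : s ≫ pullback.fst q₁ (pullback.fst ι₁ ι₂) = 𝟙 T₁ := pullback.lift_fst _ _ _
    have : IsSplitEpi (pullback.fst q₁ (pullback.fst ι₁ ι₂)) := IsSplitEpi.mk' ⟨s, hs⟩
    exact isIso_of_mono_of_isSplitEpi _
  · intro h
    let s := inv (pullback.fst q₁ (pullback.fst ι₁ ι₂))
    have hs : s ≫ pullback.fst q₁ (pullback.fst ι₁ ι₂) = 𝟙 T₁ := IsIso.inv_hom_id _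
    refine ⟨hT₂.lift (s ≫ pullback.snd q₁ (pullback.fst ι₁ ι₂) ≫ pullback.snd ι₁ ι₂) p₁ ?_,
      hT₂.lift_snd _ _ _⟩
    rw [Category.assoc, Category.assoc, ← pullback.condition, ← Category.assoc (pullback.snd q₁ _),
      ← pullback.condition, Category.assoc, ← Category.assoc s, hs, Category.id_comp, w]

end Factor

end Groth.Agent.Lib.Helper71.LimLocalize
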