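import Mathlib

/-!
Helper71: curvilinear finite local algebras over an algebraically closed field are `k[X]/(X^j)`.
-/

set_option autoImplicit false
universe u

namespace Groth.Agent.Lib.Helper71

open Polynomial IsLocalRing

theorem exists_sub_mem_maximalIdeal (k B : Type u) [Field k] [IsAlgClosed k]
    [CommRing B] [IsLocalRing B] [Algebra k B] [Module.Finite k B] (b : B) :
    ∃ a : k, b - algebraMap k B a ∈ maximalIdeal B := by
  have hint : Algebra.IsIntegral k (ResidueField B) := inferInstance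
  obtain ⟨a, ha⟩ := (IsAlgClosed.algebraMap_bijective_of_isIntegral (k := k)).2
    (residue B b)
  refine ⟨a, ?_⟩
  rw [← Ideal.Quotient.eq_zero_iff_mem]
  show residue B (b - algebraMap k B a) = 0
  rw [map_sub, ← ha]
  simp [IsScalarTower.algebraMap_apply k B (ResidueField B)]

theorem curvilinear_aux (k B : Type u) [Field k] [IsAlgClosed k]
    [CommRing B] [IsLocalRing B] [Algebra k B] [Module.Finite k B]
    (hprin : (maximalIdeal B).IsPrincipal) :
    ∃ j : ℕ, Nonempty (B ≃ₐ[k] (k[X] ⧸ Ideal.span {(X : k[X]) ^ j})) := by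
  have hart : IsArtinianRing B := IsArtinianRing.of_finite k B
  obtain ⟨t, ht⟩ := hprin
  have ht' : maximalIdeal B = Ideal.span {t} := ht
  -- nilpotency
  obtain ⟨N, hN⟩ : ∃ N, t ^ N = 0 := by
    have h1 : IsNilpotent (⊥ : Ideal B).jacobson := IsArtinianRing.isNilpotent_jacobson_bot
    rw [IsLocalRing.jacobson_eq_maximalIdeal ⊥ bot_ne_top, ht'] at h1
    obtain ⟨N, hN⟩ := h1
    refine ⟨N, ?_⟩
    rw [Ideal.span_singleton_pow, Ideal.zero_eq_bot, Ideal.span_singleton_eq_bot] at hN
    exact hN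
  -- approximation step
  have hstep : ∀ (j : ℕ) (b : B), ∃ p : k[X], b - aeval t p ∈ Ideal.span {t ^ j} := by
    intro j
    induction j with
    | zero =>
      intro b
      exact ⟨0, by simp⟩
    | succ j ih =>
      intro b
      obtain ⟨p, hp⟩ := ih b
      obtain ⟨c, hc⟩ := Ideal.mem_span_singleton'.mp hp
      obtain ⟨a, ha⟩ := exists_sub_mem_maximalIdeal k B c
      rw [ht'] at ha
      obtain ⟨d, hd⟩ := Ideal.mem_span_singleton'.mp ha
      refine ⟨p + C a * X ^ j, ?_⟩
      rw [Ideal.mem_span_singleton']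
      refine ⟨d, ?_⟩
      have : aeval t (p + C a * X ^ j) = aeval t p + algebraMap k B a * t ^ j := by
        simp
      rw [this, pow_succ]
      have h3 : c = d * t + algebraMap k B a := by rw [hd]; ring
      have h4 : b = c * t ^ j + aeval t p := by rw [hc]; ring
      rw [h4, h3]; ring
  have hsurj : Function.Surjective (aeval t : k[X] →ₐ[k] B) := by
    intro b
    obtain ⟨p, hp⟩ := hstep N b
    rw [hN, Ideal.span_singleton_eq_bot.mpr rfl, Ideal.mem_bot, sub_eq_zero] at hp
    exact ⟨p, hp.symm⟩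
  -- kernel
  set φ : k[X] →ₐ[k] B := aeval t with hφ
  have hXN : (X : k[X]) ^ N ∈ RingHom.ker φ.toRingHom := by
    rw [RingHom.mem_ker]
    show φ (X ^ N) = 0
    simp [hφ, hN]
  obtain ⟨g, hg⟩ : (RingHom.ker φ.toRingHom).IsPrincipal := inferInstance
  have hg' : RingHom.ker φ.toRingHom = Ideal.span {g} := hg
  have hdvd : g ∣ X ^ N := by
    rw [hg', Ideal.mem_span_singleton] at hXN
    exact hXN
  obtain ⟨j, -, hj⟩ := (dvd_prime_pow (Polynomial.prime_X (R := k)) N).1 hdvd
  have hker : RingHom.ker φ.toRingHom = Ideal.span {(X : k[X]) ^ j} := by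
    rw [hg']
    exact Ideal.span_singleton_eq_span_singleton.mpr hj
  refine ⟨j, ⟨?_⟩⟩
  have e1 : (k[X] ⧸ RingHom.ker φ.toRingHom) ≃ₐ[k] B :=
    Ideal.quotientKerAlgEquivOfSurjective hsurj
  have e2 : (k[X] ⧸ RingHom.ker φ.toRingHom) ≃ₐ[k] (k[X] ⧸ Ideal.span {(X : k[X]) ^ j}) :=
    Ideal.quotientEquivAlgOfEq k hker
  exact e1.symm.trans e2


theorem finrank_quot_X_pow (k : Type u) [Field k] (j : ℕ) :
    Module.finrank k (k[X] ⧸ Ideal.span {(X : k[X]) ^ j}) = j := by
  have hne : (X : k[X]) ^ j ≠ 0 := pow_ne_zero _ X_ne_zero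
  have h := (AdjoinRoot.powerBasis hne).finrank
  rw [AdjoinRoot.powerBasis_dim, natDegree_X_pow] at h
  exact h


end Groth.Agent.Lib.Helper71
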