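import Mathlib
import Groth.Agent.Lib.Helper98.LocalFlatNilp
import Groth.Agent.Lib.Helper18.ThickProper

/-!
# Flatness modulo a nilpotent ideal (helper71)

* `flat_of_flat_quotient_of_nilpotent` (Stacks 051C): `A' → B' → C'`, `I ⊆ A'` nilpotent, `C'` flat
  over `A'` and `C'/IC'` flat over `B'/IB'` imply `C'` flat over `B'`.
* `quotEquivs`: for compatible surjections `B' → B`, `C' → C` with kernels `J`, `J C'`,
  the induced isomorphisms `B'/J ≃ B`, `C'/JC' ≃ C` intertwine `B → C` with the quotient map.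
* `flat_of_surjections`, `finitePresentation_quotient_of_surjections`: transfer along these.
-/

set_option autoImplicit false
universe u

namespace Groth.Agent.Lib.Helper71.DeformFlat

open TensorProduct

section alg
variable {A' B' C' : Type u} [CommRing A'] [CommRing B'] [CommRing C'] [Algebra A' B']
  [Algebra B' C'] [Algebra A' C'] [IsScalarTower A' B' C'] (I : Ideal A')

/-- `I → I B'`. -/
def tau : I →ₗ[A'] ↥(I.map (algebraMap A' B')) where
  toFun i := ⟨algebraMap A' B' i, Ideal.mem_map_of_mem _ i.2⟩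
  map_add' := by intros; ext; simp
  map_smul' := by intros; ext; simp [Algebra.smul_def]

/-- `I ⊗_{A'} C' → I B' ⊗_{B'} C'`. -/
noncomputable def sigma : I ⊗[A'] C' →ₗ[A'] ↥(I.map (algebraMap A' B')) ⊗[B'] C' :=
  TensorProduct.lift
    (((TensorProduct.mk B' ↥(I.map (algebraMap A' B')) C').restrictScalars₁₂ A' A').comp (tau I))

lemma sigma_tmul (i : I) (c : C') :
    sigma (B' := B') I (i ⊗ₜ c) = (⟨algebraMap A' B' i, Ideal.mem_map_of_mem _ i.2⟩ :
      ↥(I.map (algebraMap A' B'))) ⊗ₜ[B'] c := rfl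

lemma sigma_surjective : Function.Surjective (sigma (B' := B') (C' := C') I) := by
  intro x
  induction x using TensorProduct.induction_on with
  | zero => exact ⟨0, map_zero _⟩
  | add a b ha hb =>
    obtain ⟨a', rfl⟩ := ha
    obtain ⟨b', rfl⟩ := hb
    exact ⟨a' + b', map_add _ _ _⟩
  | tmul j c =>
    obtain ⟨j, hj⟩ := j
    revert c
    refine Submodule.span_induction (p := fun j hj => ∀ c : C',
      ∃ y, sigma (B' := B') I y = (⟨j, hj⟩ : ↥(I.map (algebraMap A' B'))) ⊗ₜ[B'] c)
      ?_ ?_ ?_ ?_ hj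
    · rintro _ ⟨i, hi, rfl⟩ c
      exact ⟨(⟨i, hi⟩ : I) ⊗ₜ c, rfl⟩
    · intro c
      refine ⟨0, ?_⟩
      rw [map_zero]
      exact (TensorProduct.zero_tmul _ c).symm
    · intro x y hx hy ihx ihy c
      obtain ⟨a, ha⟩ := ihx c
      obtain ⟨b, hb⟩ := ihy c
      refine ⟨a + b, ?_⟩
      rw [map_add, ha, hb, ← TensorProduct.add_tmul]
      rfl
    · intro b x hx ih c
      obtain ⟨a, ha⟩ := ih (b • c)
      refine ⟨a, ?_⟩
      rw [ha, ← TensorProduct.smul_tmul]
      rfl

theorem rTensor_map_injective [Module.Flat A' C'] :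
    Function.Injective ((I.map (algebraMap A' B')).subtype.rTensor C') := by
  rw [injective_iff_map_eq_zero]
  intro x hx
  obtain ⟨y, rfl⟩ := sigma_surjective I x
  have hcomp : ∀ y, TensorProduct.lid B' C'
      ((I.map (algebraMap A' B')).subtype.rTensor C' (sigma I y)) =
      TensorProduct.lid A' C' (I.subtype.rTensor C' y) := by
    intro y
    induction y using TensorProduct.induction_on with
    | zero => simp
    | tmul i c =>
      rw [sigma_tmul]
      simp only [LinearMap.rTensor_tmul, Submodule.subtype_apply, TensorProduct.lid_tmul]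
      rw [algebraMap_smul]
    | add a b ha hb => simp only [map_add, ha, hb]
  have h0 : TensorProduct.lid A' C' (I.subtype.rTensor C' y) = 0 := by
    rw [← hcomp, hx, map_zero]
  have hinj : Function.Injective (I.subtype.rTensor C') :=
    Module.Flat.rTensor_preserves_injective_linearMap _ I.injective_subtype
  have hy : y = 0 := by
    apply hinj
    rw [map_zero]
    apply (TensorProduct.lid A' C').injective
    rw [h0, map_zero]
  rw [hy, map_zero]

/-- Stacks 051C (algebra form). -/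
theorem flat_of_flat_quotient_of_nilpotent (n : ℕ) (hI : I ^ n = ⊥) [Module.Flat A' C']
    (h : Module.Flat (B' ⧸ I.map (algebraMap A' B'))
      (C' ⧸ (I.map (algebraMap A' B')).map (algebraMap B' C'))) :
    Module.Flat B' C' := by
  set J := I.map (algebraMap A' B') with hJ
  have hJn : J ^ (n + 1) = ⊥ := by
    rw [hJ, ← Ideal.map_pow, pow_succ, hI, Ideal.bot_mul, Ideal.map_bot]
  have : Module.Flat (B' ⧸ J) ((B' ⧸ J) ⊗[B'] C') :=
    Module.Flat.of_linearEquiv
      (Algebra.TensorProduct.quotIdealMapEquivQuotTensor C' J).symm.toLinearEquiv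
  exact Groth.Agent.Lib.Helper98.flat_of_nilpotent J C' (rTensor_map_injective I) (n + 1)
    (Nat.succ_le_succ (Nat.zero_le n)) hJn

end alg

section transfer
variable {B' C' B C : Type u} [CommRing B'] [CommRing C'] [CommRing B] [CommRing C]
  [Algebra B' C'] (J : Ideal B') {β : B' →+* B} {γ : C' →+* C} (φ : B →+* C)
  (hβ : Function.Surjective β) (hγ : Function.Surjective γ)
  (hkβ : RingHom.ker β = J) (hkγ : RingHom.ker γ = J.map (algebraMap B' C'))
  (hcomm : φ.comp β = γ.comp (algebraMap B' C'))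

/-- `B'/J ≃ B`. -/
noncomputable def eB : (B' ⧸ J) ≃+* B :=
  (Ideal.quotEquivOfEq hkβ.symm).trans (RingHom.quotientKerEquivOfSurjective hβ)

/-- `C'/JC' ≃ C`. -/
noncomputable def eC : (C' ⧸ J.map (algebraMap B' C')) ≃+* C :=
  (Ideal.quotEquivOfEq hkγ.symm).trans (RingHom.quotientKerEquivOfSurjective hγ)

lemma eB_mk (b : B') : eB J hβ hkβ (Ideal.Quotient.mk J b) = β b := by
  simp [eB, RingHom.quotientKerEquivOfSurjective_apply_mk]

lemma eC_mk (c : C') : eC J hγ hkγ (Ideal.Quotient.mk _ c) = γ c := by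
  simp [eC, RingHom.quotientKerEquivOfSurjective_apply_mk]

include hcomm in
lemma comm_sq : φ.comp (eB J hβ hkβ).toRingHom =
    (eC J hγ hkγ).toRingHom.comp (algebraMap (B' ⧸ J) (C' ⧸ J.map (algebraMap B' C'))) := by
  apply Ideal.Quotient.ringHom_ext
  ext b
  simp only [RingHom.coe_comp, Function.comp_apply, RingEquiv.toRingHom_eq_coe, RingHom.coe_coe,
    eB_mk, Ideal.Quotient.algebraMap_quotient_map_quotient, eC_mk]
  exact RingHom.congr_fun hcomm b

include hβ hγ hkβ hkγ hcomm in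
theorem quotient_map_iff {P : ∀ {R S : Type u} [CommRing R] [CommRing S], (R →+* S) → Prop}
    (hP : RingHom.RespectsIso @P) :
    P (algebraMap (B' ⧸ J) (C' ⧸ J.map (algebraMap B' C'))) ↔ P φ := by
  have h := comm_sq J φ hβ hγ hkβ hkγ hcomm
  constructor
  · intro hq
    have h1 : φ = ((eC J hγ hkγ).toRingHom.comp
        (algebraMap (B' ⧸ J) (C' ⧸ J.map (algebraMap B' C')))).comp
        (eB J hβ hkβ).symm.toRingHom := by
      rw [← h]
      ext b
      simp
    rw [h1]
    exact hP.2 _ _ (hP.1 _ _ hq)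
  · intro hφ
    have h1 : algebraMap (B' ⧸ J) (C' ⧸ J.map (algebraMap B' C')) =
        (eC J hγ hkγ).symm.toRingHom.comp (φ.comp (eB J hβ hkβ).toRingHom) := by
      rw [h]
      ext b
      simp
    rw [h1]
    exact hP.1 _ _ (hP.2 _ _ hφ)

end transfer

section main
variable {A' B' C' B C : Type u} [CommRing A'] [CommRing B'] [CommRing C'] [CommRing B] [CommRing C]
  [Algebra A' B'] [Algebra B' C'] [Algebra A' C'] [IsScalarTower A' B' C']
  (I : Ideal A') {β : B' →+* B} {γ : C' →+* C} (φ : B →+* C)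

/-- Flatness of `B' → C'` from flatness of the reduction `B → C` modulo a nilpotent ideal of `A'`
over which `C'` is flat. -/
theorem flat_of_surjections (n : ℕ) (hI : I ^ n = ⊥) [Module.Flat A' C']
    (hβ : Function.Surjective β) (hγ : Function.Surjective γ)
    (hkβ : RingHom.ker β = I.map (algebraMap A' B'))
    (hkγ : RingHom.ker γ = (I.map (algebraMap A' B')).map (algebraMap B' C'))
    (hcomm : φ.comp β = γ.comp (algebraMap B' C')) (hφ : φ.Flat) : Module.Flat B' C' := by
  apply flat_of_flat_quotient_of_nilpotent I n hI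
  rw [← RingHom.flat_algebraMap_iff]
  exact (quotient_map_iff _ φ hβ hγ hkβ hkγ hcomm RingHom.Flat.respectsIso).mpr hφ

end main

section ringhom
variable {A' B' C' B C : Type u} [CommRing A'] [CommRing B'] [CommRing C'] [CommRing B] [CommRing C]

/-- Ring-hom form of `flat_of_surjections`. -/
theorem flat_of_surjections_ringHom (a : A' →+* B') (b : B' →+* C') (I : Ideal A')
    (β : B' →+* B) (γ : C' →+* C) (φ : B →+* C) (n : ℕ) (hI : I ^ n = ⊥)
    (hflat : (b.comp a).Flat)
    (hβ : Function.Surjective β) (hγ : Function.Surjective γ)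
    (hkβ : RingHom.ker β = I.map a) (hkγ : RingHom.ker γ = I.map (b.comp a))
    (hcomm : φ.comp β = γ.comp b) (hφ : φ.Flat) : b.Flat := by
  let _ := a.toAlgebra
  let _ := b.toAlgebra
  let _ := (b.comp a).toAlgebra
  have : IsScalarTower A' B' C' := IsScalarTower.of_algebraMap_eq (fun _ => rfl)
  have : Module.Flat A' C' := hflat
  have h : Module.Flat B' C' :=
    flat_of_surjections I φ n hI hβ hγ hkβ (by rw [hkγ, ← Ideal.map_map]; rfl) hcomm hφ
  exact h

end ringhom

section scheme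
open CategoryTheory CategoryTheory.Limits AlgebraicGeometry

variable {X X' Y Y' S S' : Scheme.{u}}

/-- Generic deformation principle: a ring-hom property `Q` that lifts through nilpotent
thickenings (under flatness over the base) gives the corresponding lifting statement for the
associated scheme-morphism property. -/
theorem deform_of_ringHom {P : MorphismProperty Scheme.{u}}
    {Q : ∀ {R S : Type u} [CommRing R] [CommRing S], (R →+* S) → Prop}
    [HasRingHomProperty P Q]
    (hQ : RingHom.StableUnderCompositionWithLocalizationAwaySource Q)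
    (key : ∀ {A' B' C' B C : Type u} [CommRing A'] [CommRing B'] [CommRing C'] [CommRing B]
      [CommRing C] (a : A' →+* B') (b : B' →+* C') (I : Ideal A') (β : B' →+* B) (γ : C' →+* C)
      (φ : B →+* C) (n : ℕ), I ^ n = ⊥ → (b.comp a).Flat → Function.Surjective β →
      Function.Surjective γ → RingHom.ker β = I.map a → RingHom.ker γ = I.map (b.comp a) →
      φ.comp β = γ.comp b → Q φ → Q b)
    (iX : X ⟶ X') (iY : Y ⟶ Y') (iS : S ⟶ S') (f : X ⟶ Y) (f' : X' ⟶ Y') (g : Y ⟶ S)
    (g' : Y' ⟶ S') [IsClosedImmersion iS]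
    (hnil : ∀ W : S'.affineOpens, ∃ m : ℕ, (iS.ker.ideal W) ^ m = ⊥)
    (hcX : IsPullback iX (f ≫ g) (f' ≫ g') iS) (hcY : IsPullback iY g g' iS)
    (w : iX ≫ f' = f ≫ iY) [Flat (f' ≫ g')] (hf : P f) : P f' := by
  have hsq : IsPullback iX f f' iY := IsPullback.of_bot hcX w hcY
  have hiY : IsClosedImmersion iY := MorphismProperty.of_isPullback hcY.flip ‹_›
  rw [HasRingHomProperty.iff_exists_appLE (P := P) hQ]
  intro x'
  obtain ⟨W', hW', hxW', -⟩ := TopologicalSpace.Opens.isBasis_iff_nbhd.mp S'.isBasis_affineOpens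
    (TopologicalSpace.Opens.mem_top ((f' ≫ g') x'))
  have hxU0 : f' x' ∈ g' ⁻¹ᵁ W' := by
    change g' (f' x') ∈ W'
    rw [← Scheme.Hom.comp_apply]
    exact hxW'
  obtain ⟨U', hU', hxU', eg⟩ := TopologicalSpace.Opens.isBasis_iff_nbhd.mp Y'.isBasis_affineOpens
    hxU0
  obtain ⟨V', hV', hxV', ef⟩ := TopologicalSpace.Opens.isBasis_iff_nbhd.mp X'.isBasis_affineOpens
    (show x' ∈ f' ⁻¹ᵁ U' from hxU')
  have efg : V' ≤ (f' ≫ g') ⁻¹ᵁ W' := fun z hz => eg (ef hz)
  obtain ⟨e₀Y, hUaff, hWaff, hsurjβ, hkerβ, hcompβ⟩ :=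
    Groth.Agent.Lib.Helper18.thickening_affine_setup hcY ⟨W', hW'⟩ ⟨U', hU'⟩ eg
  obtain ⟨e₀X, hVaff, -, hsurjγ, hkerγ, hcompγ⟩ :=
    Groth.Agent.Lib.Helper18.thickening_affine_setup hcX ⟨W', hW'⟩ ⟨V', hV'⟩ efg
  obtain ⟨e₀, -, -, -, -, hcomm⟩ :=
    Groth.Agent.Lib.Helper18.thickening_affine_setup hsq ⟨U', hU'⟩ ⟨V', hV'⟩ ef
  obtain ⟨m, hm⟩ := hnil ⟨W', hW'⟩
  have hcompab : (f'.appLE U' V' ef).hom.comp (g'.appLE W' U' eg).hom =
      ((f' ≫ g').appLE W' V' efg).hom := by
    rw [← CommRingCat.hom_comp, Scheme.Hom.appLE_comp_appLE]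
  refine ⟨⟨U', hU'⟩, ⟨V', hV'⟩, hxV', ef, ?_⟩
  refine key (g'.appLE W' U' eg).hom (f'.appLE U' V' ef).hom (iS.ker.ideal ⟨W', hW'⟩)
    (iY.app U').hom (iX.app V').hom (f.appLE _ _ e₀).hom m hm ?_ hsurjβ hsurjγ hkerβ ?_
    hcomm.symm ?_
  · rw [hcompab]
    exact HasRingHomProperty.appLE (P := @Flat) _ inferInstance ⟨W', hW'⟩ ⟨V', hV'⟩ efg
  · rw [hcompab]
    exact hkerγ
  · exact HasRingHomProperty.appLE (P := P) _ hf ⟨_, hUaff⟩ ⟨_, hVaff⟩ e₀

end scheme

end Groth.Agent.Lib.Helper71.DeformFlat
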