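import Mathlib

set_option autoImplicit false

namespace Groth.Agent.Lib.Helper71.Dim1

open Ideal

variable {S : Type*} [CommRing S]

theorem span_pair_eq_sup (a b : S) :
    Ideal.span ({a, b} : Set S) = Ideal.span {a} ⊔ Ideal.span {b} := by
  rw [Ideal.span_insert]

theorem span_pair_pow_succ (a b : S) (k : ℕ) :
    Ideal.span ({a, b} : Set S) ^ (k + 1) =
      Ideal.span {a ^ (k + 1)} ⊔ Ideal.span {b} * Ideal.span ({a, b} : Set S) ^ k := by
  induction k with
  | zero => simp [span_pair_eq_sup]
  | succ k ih =>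
    generalize hI : Ideal.span ({a, b} : Set S) = I at ih ⊢
    have hIab : I = Ideal.span {a} ⊔ Ideal.span {b} := by rw [← hI, span_pair_eq_sup]
    have ha : Ideal.span {a} ≤ I := hIab ▸ le_sup_left
    have hb : Ideal.span {b} ≤ I := hIab ▸ le_sup_right
    apply le_antisymm
    · have h1 : I ^ (k + 1) * Ideal.span {a} ≤
          Ideal.span {a ^ (k + 1 + 1)} ⊔ Ideal.span {b} * I ^ (k + 1) := by
        have : I ^ (k + 1) * Ideal.span {a} =
            Ideal.span {a ^ (k + 1 + 1)} ⊔ Ideal.span {b} * I ^ k * Ideal.span {a} := by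
          rw [ih, Ideal.sup_mul, Ideal.span_singleton_mul_span_singleton, ← pow_succ]
        rw [this]
        apply sup_le le_sup_left
        refine le_trans ?_ le_sup_right
        rw [mul_assoc]
        apply Ideal.mul_mono_right
        rw [pow_succ I k]
        exact Ideal.mul_mono_right ha
      have h2 : I ^ (k + 1) * Ideal.span {b} ≤
          Ideal.span {a ^ (k + 1 + 1)} ⊔ Ideal.span {b} * I ^ (k + 1) := by
        refine le_trans ?_ le_sup_right
        rw [mul_comm]
      calc I ^ (k + 1 + 1) = I ^ (k + 1) * I := pow_succ _ _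
        _ = I ^ (k + 1) * Ideal.span {a} ⊔ I ^ (k + 1) * Ideal.span {b} := by
            rw [← Ideal.mul_sup, ← hIab]
        _ ≤ _ := sup_le h1 h2
    · apply sup_le
      · rw [Ideal.span_le, Set.singleton_subset_iff]
        exact Ideal.pow_mem_pow (ha (Ideal.mem_span_singleton_self a)) _
      · rw [pow_succ' I (k + 1)]
        exact Ideal.mul_mono_left hb

theorem exists_stable (𝔫 : Ideal S) (h𝔫 : 𝔫 ≤ Ideal.jacobson ⊥) (a b : S)
    (r s : ℕ) (F : S)
    (h1 : a * F - a ^ (r + 1) ∈ Ideal.span {b} * Ideal.span ({a, b} : Set S) ^ r)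
    (h2 : b ^ s * F ∈ 𝔫 * Ideal.span ({a, b} : Set S) ^ (s + r)) :
    ∃ x : S, x ∈ Ideal.span ({a, b} : Set S) ^ (r + 1) ∧
      ∀ j : ℕ, Ideal.span ({a, b} : Set S) ^ (s + r + j + (r + 1)) =
        Ideal.span {x} * Ideal.span ({a, b} : Set S) ^ (s + r + j) := by
  generalize hI : Ideal.span ({a, b} : Set S) = I at h1 h2 ⊢
  have haI : a ∈ I := hI ▸ Ideal.subset_span (by simp)
  have hbI : b ∈ I := hI ▸ Ideal.subset_span (by simp)
  have hIfg : I.FG := hI ▸ Submodule.fg_span (Set.toFinite _)
  have hsplit : ∀ k : ℕ, I ^ (k + 1) = Ideal.span {a ^ (k + 1)} ⊔ Ideal.span {b} * I ^ k := by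
    intro k; rw [← hI]; exact span_pair_pow_succ a b k
  have hbr : Ideal.span {b} * I ^ r ≤ I ^ (r + 1) := by
    rw [pow_succ' I r]
    exact Ideal.mul_mono_left ((Ideal.span_singleton_le_iff_mem _).2 hbI)
  obtain ⟨x, hx⟩ : ∃ x : S, x = a * F + b ^ (r + 1) := ⟨_, rfl⟩
  have hxI : x ∈ I ^ (r + 1) := by
    have e : x = (a * F - a ^ (r + 1)) + a ^ (r + 1) + b ^ (r + 1) := by rw [hx]; ring
    rw [e]
    exact add_mem (add_mem (hbr h1) (Ideal.pow_mem_pow haI _)) (Ideal.pow_mem_pow hbI _)
  -- (★1)
  have hb1 : b ^ (s + (r + 1)) ∈ Ideal.span {x} * I ^ s ⊔ 𝔫 * I ^ (s + (r + 1)) := by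
    have e : b ^ (s + (r + 1)) = x * b ^ s - a * (b ^ s * F) := by rw [hx]; ring
    rw [e]
    apply sub_mem
    · apply Ideal.mem_sup_left
      exact Ideal.mul_mem_mul (Ideal.mem_span_singleton_self x) (Ideal.pow_mem_pow hbI _)
    · apply Ideal.mem_sup_right
      have : a * (b ^ s * F) ∈ I * (𝔫 * I ^ (s + r)) := Ideal.mul_mem_mul haI h2
      have e2 : I * (𝔫 * I ^ (s + r)) = 𝔫 * I ^ (s + (r + 1)) := by
        rw [← add_assoc, pow_succ' I (s + r)]; ring
      rwa [e2] at this
  -- (★2)
  have ha1 : a ^ (r + 1) ∈ Ideal.span {x} ⊔ Ideal.span {b} * I ^ r := by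
    have e : a ^ (r + 1) = x - (b * b ^ r + (a * F - a ^ (r + 1))) := by rw [hx]; ring
    rw [e]
    apply sub_mem
    · exact Ideal.mem_sup_left (Ideal.mem_span_singleton_self x)
    · apply Ideal.mem_sup_right
      exact add_mem (Ideal.mul_mem_mul (Ideal.mem_span_singleton_self b) (Ideal.pow_mem_pow hbI _)) h1
  refine ⟨x, hxI, fun j => ?_⟩
  obtain ⟨T, hT⟩ : ∃ T : Ideal S, T = Ideal.span {x} * I ^ (s + r + j) ⊔
      𝔫 * I ^ (s + r + j + (r + 1)) := ⟨_, rfl⟩
  have hTl : Ideal.span {x} * I ^ (s + r + j) ≤ T := hT ▸ le_sup_left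
  have key : ∀ k l : ℕ, l + k = s + r + 1 → Ideal.span {b ^ l} * I ^ (r + j + k) ≤ T := by
    intro k
    induction k with
    | zero =>
      intro l hl
      have hl' : l = s + (r + 1) := by omega
      subst hl'
      have h3 : Ideal.span {b ^ (s + (r + 1))} ≤ Ideal.span {x} * I ^ s ⊔ 𝔫 * I ^ (s + (r + 1)) :=
        (Ideal.span_singleton_le_iff_mem _).2 hb1
      calc Ideal.span {b ^ (s + (r + 1))} * I ^ (r + j + 0)
          ≤ (Ideal.span {x} * I ^ s ⊔ 𝔫 * I ^ (s + (r + 1))) * I ^ (r + j + 0) :=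
            Ideal.mul_mono_left h3
        _ = T := by
            rw [hT, Ideal.sup_mul, mul_assoc, mul_assoc, ← pow_add, ← pow_add,
              show s + (r + j + 0) = s + r + j by omega,
              show s + (r + 1) + (r + j + 0) = s + r + j + (r + 1) by omega]
    | succ k ih =>
      intro l hl
      have ihl := ih (l + 1) (by omega)
      have e1 : r + j + (k + 1) = (r + j + k) + 1 := by omega
      rw [e1, hsplit (r + j + k), Ideal.mul_sup]
      apply sup_le
      · -- b^l a^(r+j+k+1)
        rw [Ideal.span_singleton_mul_span_singleton, Ideal.span_singleton_le_iff_mem]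
        have e2 : b ^ l * a ^ (r + j + k + 1) = (b ^ l * a ^ (j + k)) * a ^ (r + 1) := by
          rw [show r + j + k + 1 = (j + k) + (r + 1) by omega, pow_add]; ring
        rw [e2]
        have hmon : b ^ l * a ^ (j + k) ∈ I ^ (s + r + j) := by
          have : s + r + j = l + (j + k) := by omega
          rw [this, pow_add]
          exact Ideal.mul_mem_mul (Ideal.pow_mem_pow hbI _) (Ideal.pow_mem_pow haI _)
        have h4 : (b ^ l * a ^ (j + k)) * a ^ (r + 1) ∈
            Ideal.span {b ^ l * a ^ (j + k)} * (Ideal.span {x} ⊔ Ideal.span {b} * I ^ r) :=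
          Ideal.mul_mem_mul (Ideal.mem_span_singleton_self _) ha1
        have h5 : Ideal.span {b ^ l * a ^ (j + k)} *
            (Ideal.span {x} ⊔ Ideal.span {b} * I ^ r) ≤ T := by
          rw [Ideal.mul_sup]
          apply sup_le
          · refine le_trans ?_ hTl
            rw [mul_comm]
            exact Ideal.mul_mono_right ((Ideal.span_singleton_le_iff_mem _).2 hmon)
          · refine le_trans ?_ ihl
            have e3 : Ideal.span {b ^ l * a ^ (j + k)} * (Ideal.span {b} * I ^ r) =
                Ideal.span {b ^ (l + 1)} * (Ideal.span {a ^ (j + k)} * I ^ r) := by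
              rw [← Ideal.span_singleton_mul_span_singleton, mul_mul_mul_comm,
                Ideal.span_singleton_mul_span_singleton, ← pow_succ]
            rw [e3]
            apply Ideal.mul_mono_right
            have e4 : I ^ (r + j + k) = I ^ (j + k) * I ^ r := by
              rw [← pow_add]; congr 1; omega
            rw [e4]
            exact Ideal.mul_mono_left
              ((Ideal.span_singleton_le_iff_mem _).2 (Ideal.pow_mem_pow haI _))
        exact h5 h4
      · have e3 : Ideal.span {b ^ l} * (Ideal.span {b} * I ^ (r + j + k)) =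
            Ideal.span {b ^ (l + 1)} * I ^ (r + j + k) := by
          rw [← mul_assoc, Ideal.span_singleton_mul_span_singleton, ← pow_succ]
        rw [e3]; exact ihl
  have hle : I ^ (s + r + j + (r + 1)) ≤ T := by
    have := key (s + r + 1) 0 (by omega)
    rw [pow_zero, Ideal.span_singleton_one, Ideal.top_mul] at this
    have e : r + j + (s + r + 1) = s + r + j + (r + 1) := by omega
    rwa [e] at this
  apply le_antisymm
  · apply Submodule.le_of_le_smul_of_le_jacobson_bot (Ideal.FG.pow hIfg) h𝔫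
    rw [smul_eq_mul, ← hT]
    exact hle
  · have e5 : I ^ (s + r + j + (r + 1)) = I ^ (r + 1) * I ^ (s + r + j) := by
      rw [← pow_add]; congr 1; omega
    rw [e5]
    exact Ideal.mul_mono_left ((Ideal.span_singleton_le_iff_mem _).2 hxI)

end Groth.Agent.Lib.Helper71.Dim1
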