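import Mathlib
import Groth.Agent.Lib.Helper74.LatticeLength

set_option autoImplicit false
universe u v

namespace Groth.Agent.Lib.Helper71.Dim1

open Groth.Agent.Lib.Helper74

section colength

variable {A : Type u} [CommRing A] {V : Type v} [AddCommGroup V] [Module A V]

/-- The colength of `L` in `M` (meaningful when `L ≤ M`). -/
noncomputable abbrev cl (L M : Submodule A V) : ℕ∞ :=
  Module.length A (↥M ⧸ L.submoduleOf M)

theorem cl_add {L P M : Submodule A V} (hLP : L ≤ P) (hPM : P ≤ M) :
    cl L M = cl L P + cl P M :=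
  length_quotient_submoduleOf_add hLP hPM

theorem cl_anti_left {L L' M : Submodule A V} (hLL : L ≤ L') (hLM : L' ≤ M) :
    cl L' M ≤ cl L M := by
  rw [cl_add hLL hLM]; exact le_add_self

theorem cl_mono_right {L M M' : Submodule A V} (hLM : L ≤ M) (hMM : M ≤ M') :
    cl L M ≤ cl L M' := by
  rw [cl_add hLM hMM]; exact le_self_add

theorem one_le_cl {L M : Submodule A V} (h : ¬ M ≤ L) : 1 ≤ cl L M := by
  have : Nontrivial (↥M ⧸ L.submoduleOf M) := by
    rw [Submodule.Quotient.nontrivial_iff]
    intro h'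
    apply h
    intro m hm
    have : (⟨m, hm⟩ : M) ∈ L.submoduleOf M := by rw [h']; exact Submodule.mem_top
    exact this
  exact Order.one_le_iff_pos.2 Module.length_pos

theorem cl_map {L M : Submodule A V} (φ : V →ₗ[A] V) (hφ : Function.Injective φ) :
    cl (L.map φ) (M.map φ) = cl L M := by
  let e : M ≃ₗ[A] M.map φ := Submodule.equivMapOfInjective φ hφ M
  have h : (L.submoduleOf M).map (e : M →ₗ[A] M.map φ) = (L.map φ).submoduleOf (M.map φ) := by
    ext ⟨y, hy⟩
    constructor
    · rintro ⟨⟨m, hm⟩, hmL, hmy⟩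
      have : φ m = y := congrArg Subtype.val hmy
      change y ∈ L.map φ
      exact ⟨m, hmL, this⟩
    · intro hyL
      obtain ⟨l, hl, rfl⟩ : y ∈ L.map φ := hyL
      obtain ⟨m, hm, hml⟩ := hy
      have : m = l := hφ hml
      subst this
      exact ⟨⟨m, hm⟩, hl, Subtype.ext rfl⟩
  exact (Submodule.Quotient.equiv _ _ e h).length_eq.symm

/-- cancellation: if `M ≤ N`, `φ` injective preserving `M`, `N`, and `N/M` has finite length then
`ℓ(M/φM) = ℓ(N/φN)`. -/
theorem cl_map_eq {M N : Submodule A V} (φ : V →ₗ[A] V) (hφ : Function.Injective φ)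
    (hMN : M ≤ N) (hM : M.map φ ≤ M) (hN : N.map φ ≤ N) (hfin : cl M N ≠ ⊤) :
    cl (M.map φ) M = cl (N.map φ) N := by
  have h1 : cl (M.map φ) N = cl (M.map φ) M + cl M N := cl_add hM hMN
  have h2 : cl (M.map φ) N = cl (M.map φ) (N.map φ) + cl (N.map φ) N :=
    cl_add (Submodule.map_mono hMN) hN
  rw [cl_map φ hφ] at h2
  rw [h1, add_comm] at h2
  exact ENat.add_right_injective_of_ne_top hfin h2

/-- a strict chain of length `n` forces colength at least `n`. -/
theorem le_cl_of_chain (U : ℕ → Submodule A V) (n : ℕ)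
    (hmono : ∀ i, i < n → U i ≤ U (i + 1)) (hne : ∀ i, i < n → ¬ U (i + 1) ≤ U i) :
    (n : ℕ∞) ≤ cl (U 0) (U n) := by
  induction n with
  | zero => simp
  | succ n ih =>
    have h0n : U 0 ≤ U n := by
      have : ∀ k, k ≤ n → U 0 ≤ U k := by
        intro k
        induction k with
        | zero => intro _; exact le_rfl
        | succ k ihk => intro hk; exact le_trans (ihk (by omega)) (hmono k (by omega))
      exact this n le_rfl
    rw [cl_add h0n (hmono n (by omega))]
    have h1 := ih (fun i hi => hmono i (by omega)) (fun i hi => hne i (by omega))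
    have h2 := one_le_cl (hne n (by omega))
    push_cast
    exact add_le_add h1 h2

end colength

end Groth.Agent.Lib.Helper71.Dim1
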