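import Mathlib
import Groth.Agent.Lib.Helper74.LatticeLength
import Groth.Agent.Lib.Helper71.Dim1B

set_option autoImplicit false
universe u v

namespace Groth.Agent.Lib.Helper71.Dim1

open IsLocalRing nonZeroDivisors

section bound

variable {A : Type u} [CommRing A] {S : Type v} [CommRing S] [Algebra A S]

/-- bridging: colength of an ideal in `⊤` is the length of the quotient ring. -/
theorem cl_top_ideal (P : Ideal S) :
    cl (P.restrictScalars A) (⊤ : Submodule A S) = Module.length A (S ⧸ P) := by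
  have e1 : (↥(⊤ : Submodule A S) ⧸ (P.restrictScalars A).submoduleOf ⊤) ≃ₗ[A]
      (S ⧸ P.restrictScalars A) :=
    Submodule.Quotient.equiv _ _ (Submodule.topEquiv (R := A) (M := S)) (by
      ext x
      constructor
      · rintro ⟨⟨y, hy⟩, hyP, rfl⟩
        exact hyP
      · intro hx
        exact ⟨⟨x, Submodule.mem_top⟩, hx, rfl⟩)
  exact (e1.trans (Submodule.Quotient.restrictScalarsEquiv A P)).length_eq

variable (A S) in
/-- quotients by nonzerodivisors have finite length over `A`. -/
def FL : Prop := ∀ y ∈ S⁰, Module.length A (S ⧸ Ideal.span {y}) ≠ ⊤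

theorem cl_le_of_FL (hFL : FL A S) (w : A) (hw : algebraMap A S w ∈ S⁰)
    (a : S) (ha : a ∈ S⁰) (P : Ideal S) (e : ℕ) (haP : a ^ e ∈ P)
    (L : Ideal S) (hLP : L ≤ P) (hwL : ∀ p ∈ P, algebraMap A S w * p ∈ L) :
    cl (L.restrictScalars A) (P.restrictScalars A) ≤
      Module.length A (S ⧸ Ideal.span {algebraMap A S w}) := by
  set φ : S →ₗ[A] S := LinearMap.lsmul A S w with hφdef
  have hφ : Function.Injective φ := by
    intro x y hxy
    have h : algebraMap A S w * x = algebraMap A S w * y := by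
      simpa [hφdef, Algebra.smul_def] using hxy
    exact mul_cancel_left_mem_nonZeroDivisors hw |>.1 h
  set M : Submodule A S := P.restrictScalars A
  have hMtop : M ≤ ⊤ := le_top
  have hMφ : M.map φ ≤ M := by
    rintro _ ⟨m, hm, rfl⟩
    change w • m ∈ P
    rw [Algebra.smul_def]
    exact P.mul_mem_left _ hm
  have hfin : cl M ⊤ ≠ ⊤ := by
    have h1 : cl M ⊤ ≤ cl ((Ideal.span {a ^ e}).restrictScalars A) (⊤ : Submodule A S) := by
      apply cl_anti_left _ le_top
      intro x hx
      exact (Ideal.span_singleton_le_iff_mem P).2 haP hx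
    rw [cl_top_ideal (Ideal.span {a ^ e})] at h1
    exact ne_top_of_le_ne_top (hFL _ (pow_mem ha e)) h1
  have h1 := cl_map_eq φ hφ hMtop hMφ le_top hfin
  have h2 : (⊤ : Submodule A S).map φ = (Ideal.span {algebraMap A S w}).restrictScalars A := by
    ext x
    simp only [Submodule.map_top, LinearMap.mem_range, Submodule.restrictScalars_mem,
      Ideal.mem_span_singleton']
    constructor
    · rintro ⟨y, rfl⟩
      exact ⟨y, by simp [hφdef, Algebra.smul_def, mul_comm]⟩
    · rintro ⟨y, rfl⟩
      exact ⟨y, by simp [hφdef, Algebra.smul_def, mul_comm]⟩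
  rw [h2, cl_top_ideal] at h1
  rw [← h1]
  apply cl_anti_left
  · rintro _ ⟨m, hm, rfl⟩
    change w • m ∈ L
    rw [Algebra.smul_def]
    exact hwL m hm
  · exact hLP

end bound

section relation

variable {A : Type u} [CommRing A] [IsLocalRing A] {S : Type v} [CommRing S] [Algebra A S]

theorem exists_relation (hFL : FL A S) (w : A) (hwm : w ∈ maximalIdeal A)
    (hw : algebraMap A S w ∈ S⁰) (a b : S) (ha : a ∈ S⁰) :
    ∃ (r s : ℕ) (F : S),
      a * F - a ^ (r + 1) ∈ Ideal.span {b} * Ideal.span ({a, b} : Set S) ^ r ∧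
      b ^ s * F ∈ (maximalIdeal A).map (algebraMap A S) * Ideal.span ({a, b} : Set S) ^ (s + r) := by
  generalize hI : Ideal.span ({a, b} : Set S) = I
  generalize h𝔫 : (maximalIdeal A).map (algebraMap A S) = 𝔫
  have haI : a ∈ I := hI ▸ Ideal.subset_span (by simp)
  have hbI : b ∈ I := hI ▸ Ideal.subset_span (by simp)
  have hw𝔫 : algebraMap A S w ∈ 𝔫 := h𝔫 ▸ Ideal.mem_map_of_mem _ hwm
  obtain ⟨e, he⟩ := ENat.ne_top_iff_exists.1 (hFL _ hw)
  have hbound : cl ((𝔫 * I ^ e).restrictScalars A) ((I ^ e).restrictScalars A) ≤ (e : ℕ∞) := by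
    rw [he]
    exact cl_le_of_FL hFL w hw a ha (I ^ e) e (Ideal.pow_mem_pow haI e) (𝔫 * I ^ e)
      Ideal.mul_le_right (fun p hp => Ideal.mul_mem_mul hw𝔫 hp)
  -- the chain
  let Q : ℕ → Ideal S := fun i => if i ≤ e then Ideal.span {b ^ i} * I ^ (e - i) else ⊥
  let W : ℕ → Ideal S := fun i => Q i ⊔ 𝔫 * I ^ e
  have hWmono : ∀ j, W (j + 1) ≤ W j := by
    intro j
    apply sup_le_sup_right
    by_cases hj : j + 1 ≤ e
    · have hj' : j ≤ e := by omega
      simp only [Q, if_pos hj, if_pos hj']
      have e1 : e - j = (e - (j + 1)) + 1 := by omega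
      rw [e1, pow_succ b j, ← Ideal.span_singleton_mul_span_singleton, mul_assoc, pow_succ' I]
      exact Ideal.mul_mono_right
        (Ideal.mul_mono_left ((Ideal.span_singleton_le_iff_mem _).2 hbI))
    · simp only [Q, if_neg hj]
      exact bot_le
  have hW0 : W 0 = I ^ e := by
    simp only [W, Q, if_pos (Nat.zero_le e), pow_zero, Ideal.span_singleton_one, Ideal.top_mul,
      Nat.sub_zero]
    exact sup_eq_left.2 Ideal.mul_le_right
  have hWtop : W (e + 1) = 𝔫 * I ^ e := by
    simp only [W, Q, if_neg (by omega : ¬ e + 1 ≤ e), bot_sup_eq]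
  obtain ⟨s, hse, hWs⟩ : ∃ s, s ≤ e ∧ W s ≤ W (s + 1) := by
    by_contra hcon
    push Not at hcon
    have hch := le_cl_of_chain (A := A) (fun i => (W (e + 1 - i)).restrictScalars A) (e + 1)
      (fun i hi => by
        change W (e + 1 - i) ≤ W (e + 1 - (i + 1))
        have : e + 1 - i = (e + 1 - (i + 1)) + 1 := by omega
        rw [this]; exact hWmono _)
      (fun i hi h => by
        have h' : W (e + 1 - (i + 1)) ≤ W (e + 1 - i) := h
        have : e + 1 - i = (e + 1 - (i + 1)) + 1 := by omega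
        rw [this] at h'
        exact hcon (e + 1 - (i + 1)) (by omega) h')
    simp only [Nat.sub_zero, Nat.sub_self] at hch
    rw [hW0, hWtop] at hch
    have := le_trans hch hbound
    have : (e + 1 : ℕ) ≤ e := by exact_mod_cast this
    omega
  have hz : a ^ (e - s) * b ^ s ∈ W s := by
    apply Ideal.mem_sup_left
    simp only [Q, if_pos hse]
    rw [mul_comm (a ^ (e - s))]
    exact Ideal.mul_mem_mul (Ideal.mem_span_singleton_self _) (Ideal.pow_mem_pow haI _)
  have hz' := hWs hz
  by_cases hs1 : s + 1 ≤ e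
  · simp only [W, Q, if_pos hs1] at hz'
    obtain ⟨y, hy, ν, hν, hyν⟩ := Submodule.mem_sup.1 hz'
    obtain ⟨G, hG, rfl⟩ := Ideal.mem_span_singleton_mul.1 hy
    refine ⟨e - s, s, a ^ (e - s) - b * G, ?_, ?_⟩
    · have e1 : a * (a ^ (e - s) - b * G) - a ^ (e - s + 1) = b * (-(a * G)) := by ring
      rw [e1]
      apply Ideal.mul_mem_mul (Ideal.mem_span_singleton_self b)
      apply neg_mem
      have e2 : e - s = (e - (s + 1)) + 1 := by omega
      rw [e2, pow_succ' I]
      exact Ideal.mul_mem_mul haI hG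
    · have e1 : b ^ s * (a ^ (e - s) - b * G) = ν := by
        have : b ^ s * (a ^ (e - s) - b * G) = a ^ (e - s) * b ^ s - b ^ (s + 1) * G := by ring
        rw [this, ← hyν]; ring
      rw [e1, show s + (e - s) = e by omega]
      exact hν
  · have hse' : s = e := by omega
    subst hse'
    simp only [W, Q, if_neg hs1, bot_sup_eq] at hz'
    refine ⟨0, s, 1, ?_, ?_⟩
    · simp
    · simpa using hz'

end relation

end Groth.Agent.Lib.Helper71.Dim1
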