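import Mathlib

set_option autoImplicit false
universe u

namespace Groth.Agent.Lib.Helper71.Dim1

open nonZeroDivisors

section blowup

variable {S : Type u} [CommRing S]

/-- The blowup algebra `ξ⁻¹ P ⊆ S[1/ξ]`, for an ideal `P ∋ ξ` with `P * P = ξ P`. -/
def blowupAlg (P : Ideal S) (ξ : S) (hξ : ξ ∈ P) (hPP : P * P = Ideal.span {ξ} * P) :
    Subalgebra S (Localization.Away ξ) where
  carrier := {z | ∃ p ∈ P, z * algebraMap S (Localization.Away ξ) ξ =
    algebraMap S (Localization.Away ξ) p}
  mul_mem' := by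
    rintro z z' ⟨p, hp, hz⟩ ⟨p', hp', hz'⟩
    have hpp : p * p' ∈ Ideal.span {ξ} * P := hPP ▸ Ideal.mul_mem_mul hp hp'
    obtain ⟨q, hq, hqq⟩ := Ideal.mem_span_singleton_mul.1 hpp
    refine ⟨q, hq, ?_⟩
    have hu : IsUnit (algebraMap S (Localization.Away ξ) ξ) :=
      IsLocalization.Away.algebraMap_isUnit ξ
    apply hu.mul_right_cancel
    calc z * z' * algebraMap S (Localization.Away ξ) ξ * algebraMap S (Localization.Away ξ) ξ
        = (z * algebraMap S (Localization.Away ξ) ξ) *
          (z' * algebraMap S (Localization.Away ξ) ξ) := by ring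
      _ = algebraMap S (Localization.Away ξ) (p * p') := by rw [hz, hz', map_mul]
      _ = algebraMap S (Localization.Away ξ) q * algebraMap S (Localization.Away ξ) ξ := by
          rw [← hqq, map_mul, mul_comm]
  add_mem' := by
    rintro z z' ⟨p, hp, hz⟩ ⟨p', hp', hz'⟩
    exact ⟨p + p', add_mem hp hp', by rw [add_mul, hz, hz', map_add]⟩
  algebraMap_mem' := by
    intro s
    exact ⟨s * ξ, Ideal.mul_mem_left _ _ hξ, by rw [map_mul]⟩

variable (P : Ideal S) (ξ : S) (hξ : ξ ∈ P) (hPP : P * P = Ideal.span {ξ} * P)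

theorem mem_blowupAlg (z : Localization.Away ξ) :
    z ∈ blowupAlg P ξ hξ hPP ↔ ∃ p ∈ P, z * algebraMap S (Localization.Away ξ) ξ =
      algebraMap S (Localization.Away ξ) p := Iff.rfl

/-- `ξ • z` comes from `S`. -/
theorem blowupAlg_den (z : blowupAlg P ξ hξ hPP) :
    ∃ p : S, algebraMap S (blowupAlg P ξ hξ hPP) p =
      algebraMap S (blowupAlg P ξ hξ hPP) ξ * z := by
  obtain ⟨p, hp, hz⟩ := z.2
  refine ⟨p, Subtype.ext ?_⟩
  change algebraMap S (Localization.Away ξ) p = algebraMap S (Localization.Away ξ) ξ * z.1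
  rw [← hz, mul_comm]

theorem blowupAlg_finite (hP : P.FG) : Module.Finite S (blowupAlg P ξ hξ hPP) := by
  have hu : IsUnit (algebraMap S (Localization.Away ξ) ξ) :=
    IsLocalization.Away.algebraMap_isUnit ξ
  have : Module.Finite S P := Module.Finite.iff_fg.2 hP
  let f : P →ₗ[S] blowupAlg P ξ hξ hPP :=
    { toFun := fun p => ⟨algebraMap S (Localization.Away ξ) p.1 * ↑hu.unit⁻¹,
        ⟨p.1, p.2, by rw [mul_assoc, IsUnit.val_inv_mul, mul_one]⟩⟩
      map_add' := by
        intro p q
        apply Subtype.ext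
        change algebraMap S (Localization.Away ξ) (p.1 + q.1) * _ = _ * _ + _ * _
        rw [map_add, add_mul]
      map_smul' := by
        intro s p
        apply Subtype.ext
        change algebraMap S (Localization.Away ξ) (s * p.1) * _ = s • (_ * _)
        rw [map_mul, Algebra.smul_def, mul_assoc] }
  refine Module.Finite.of_surjective f ?_
  rintro ⟨z, p, hp, hz⟩
  refine ⟨⟨p, hp⟩, Subtype.ext ?_⟩
  change algebraMap S (Localization.Away ξ) p * ↑hu.unit⁻¹ = z
  rw [← hz, mul_assoc, IsUnit.mul_val_inv, mul_one]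

theorem blowupAlg_injective (hξ0 : ξ ∈ S⁰) :
    Function.Injective (algebraMap S (blowupAlg P ξ hξ hPP)) := by
  intro s s' h
  have h' : algebraMap S (Localization.Away ξ) s = algebraMap S (Localization.Away ξ) s' :=
    congrArg Subtype.val h
  exact IsLocalization.injective (Localization.Away ξ)
    (Submonoid.powers_le.2 hξ0) h'

theorem blowupAlg_nzd {y : S} (hy : y ∈ S⁰) :
    algebraMap S (blowupAlg P ξ hξ hPP) y ∈ (blowupAlg P ξ hξ hPP)⁰ := by
  have hK : algebraMap S (Localization.Away ξ) y ∈ (Localization.Away ξ)⁰ :=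
    IsLocalization.map_nonZeroDivisors_le (Submonoid.powers ξ) (Localization.Away ξ)
      (Submonoid.mem_map_of_mem _ hy)
  rw [mem_nonZeroDivisors_iff_right]
  intro z hz
  have hz' : z.1 * algebraMap S (Localization.Away ξ) y = 0 := congrArg Subtype.val hz
  exact Subtype.ext ((mem_nonZeroDivisors_iff_right.1 hK) z.1 hz')

theorem blowupAlg_nzd_of_isUnit {b : blowupAlg P ξ hξ hPP} (hb : IsUnit (b : Localization.Away ξ)) :
    b ∈ (blowupAlg P ξ hξ hPP)⁰ := by
  rw [mem_nonZeroDivisors_iff_right]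
  intro z hz
  have hz' : z.1 * b.1 = 0 := congrArg Subtype.val hz
  exact Subtype.ext (hb.mul_left_eq_zero.1 hz')

/-- If `J * P = x P` with `x ∈ J` then `J` extends to the principal ideal `(x)`. -/
theorem blowupAlg_map_eq (J : Ideal S) (x : S) (hxJ : x ∈ J) (hJP : J * P = Ideal.span {x} * P) :
    Ideal.map (algebraMap S (blowupAlg P ξ hξ hPP)) J =
      Ideal.span {algebraMap S (blowupAlg P ξ hξ hPP) x} := by
  have hu : IsUnit (algebraMap S (Localization.Away ξ) ξ) :=
    IsLocalization.Away.algebraMap_isUnit ξ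
  apply le_antisymm
  · rw [Ideal.map_le_iff_le_comap]
    intro y hy
    rw [Ideal.mem_comap, Ideal.mem_span_singleton']
    have hyξ : y * ξ ∈ Ideal.span {x} * P := hJP ▸ Ideal.mul_mem_mul hy hξ
    obtain ⟨p, hp, hpp⟩ := Ideal.mem_span_singleton_mul.1 hyξ
    refine ⟨⟨algebraMap S (Localization.Away ξ) p * ↑hu.unit⁻¹,
      ⟨p, hp, by rw [mul_assoc, IsUnit.val_inv_mul, mul_one]⟩⟩, Subtype.ext ?_⟩
    change algebraMap S (Localization.Away ξ) p * ↑hu.unit⁻¹ *
      algebraMap S (Localization.Away ξ) x = algebraMap S (Localization.Away ξ) y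
    apply hu.mul_right_cancel
    have h1 := IsUnit.val_inv_mul hu
    have h2 : algebraMap S (Localization.Away ξ) y * algebraMap S (Localization.Away ξ) ξ =
        algebraMap S (Localization.Away ξ) x * algebraMap S (Localization.Away ξ) p := by
      rw [← map_mul, ← map_mul, hpp]
    calc algebraMap S (Localization.Away ξ) p * ↑hu.unit⁻¹ * algebraMap S (Localization.Away ξ) x *
          algebraMap S (Localization.Away ξ) ξ
        = algebraMap S (Localization.Away ξ) x * algebraMap S (Localization.Away ξ) p *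
          (↑hu.unit⁻¹ * algebraMap S (Localization.Away ξ) ξ) := by ring
      _ = _ := by rw [h1, mul_one, h2]
  · rw [Ideal.span_le, Set.singleton_subset_iff]
    exact Ideal.mem_map_of_mem _ hxJ

end blowup

end Groth.Agent.Lib.Helper71.Dim1
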