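import Mathlib
import Groth.Agent.Lib.Helper71.Dim1C

set_option autoImplicit false
universe u

namespace Groth.Agent.Lib.Helper71.Dim1

open nonZeroDivisors IsLocalRing

/-- `S` is a finite birational extension of `A`. -/
structure IsBir (A : Type u) (S : Type u) [CommRing A] [CommRing S] [Algebra A S] : Prop where
  finite : Module.Finite A S
  inj : Function.Injective (algebraMap A S)
  nzd : ∀ γ ∈ A⁰, algebraMap A S γ ∈ S⁰
  den : ∃ z ∈ A⁰, ∀ s : S, ∃ α : A, algebraMap A S α = algebraMap A S z * s

section basics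

variable {A : Type u} [CommRing A] {S : Type u} [CommRing S] [Algebra A S]

theorem IsBir.refl (A : Type u) [CommRing A] : IsBir A A where
  finite := inferInstance
  inj := fun _ _ h => h
  nzd := fun _ h => h
  den := ⟨1, one_mem _, fun s => ⟨s, by simp⟩⟩

theorem IsBir.dvd (h : IsBir A S) {y : S} (hy : y ∈ S⁰) :
    ∃ γ ∈ A⁰, y ∣ algebraMap A S γ := by
  obtain ⟨z, hz, hden⟩ := h.den
  obtain ⟨α, hα⟩ := hden y
  refine ⟨α, ?_, ⟨algebraMap A S z, by rw [hα, mul_comm]⟩⟩
  rw [mem_nonZeroDivisors_iff_right]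
  intro c hc
  have h1 : algebraMap A S c * (algebraMap A S z * y) = 0 := by
    rw [← hα, ← map_mul, hc, map_zero]
  have h2 : algebraMap A S c = 0 :=
    (mem_nonZeroDivisors_iff_right.1 (mul_mem (h.nzd z hz) hy)) _ h1
  exact h.inj (by rw [h2, map_zero])

theorem IsBir.trans {T : Type u} [CommRing T] [Algebra S T] [Algebra A T] [IsScalarTower A S T]
    (h : IsBir A S) (h' : IsBir S T) : IsBir A T where
  finite := by
    have := h.finite
    have := h'.finite
    exact Module.Finite.trans S T
  inj := by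
    rw [IsScalarTower.algebraMap_eq A S T]
    exact h'.inj.comp h.inj
  nzd := by
    intro γ hγ
    rw [IsScalarTower.algebraMap_apply A S T]
    exact h'.nzd _ (h.nzd γ hγ)
  den := by
    obtain ⟨z, hz, hden⟩ := h.den
    obtain ⟨ζ, hζ, hden'⟩ := h'.den
    obtain ⟨α, hα⟩ := hden ζ
    -- α = z ζ ∈ A
    have hα0 : α ∈ A⁰ := by
      rw [mem_nonZeroDivisors_iff_right]
      intro c hc
      have h1 : algebraMap A S c * (algebraMap A S z * ζ) = 0 := by
        rw [← hα, ← map_mul, hc, map_zero]
      have h2 : algebraMap A S c = 0 :=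
        (mem_nonZeroDivisors_iff_right.1 (mul_mem (h.nzd z hz) hζ)) _ h1
      exact h.inj (by rw [h2, map_zero])
    refine ⟨z * α, mul_mem hz hα0, fun t => ?_⟩
    obtain ⟨s, hs⟩ := hden' t
    obtain ⟨β, hβ⟩ := hden s
    refine ⟨z * β, ?_⟩
    have e1 : algebraMap A T (z * β) = algebraMap S T (algebraMap A S z) *
        (algebraMap S T (algebraMap A S z) * (algebraMap S T ζ * t)) := by
      rw [IsScalarTower.algebraMap_apply A S T, map_mul, map_mul, hβ, map_mul, hs]
    have e2 : algebraMap A T (z * α) = algebraMap S T (algebraMap A S z) *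
        (algebraMap S T (algebraMap A S z) * algebraMap S T ζ) := by
      rw [IsScalarTower.algebraMap_apply A S T, map_mul, map_mul, hα, map_mul]
    rw [e1, e2]; ring

end basics

section finlen

variable {A : Type u} [CommRing A]

/-- A finite module killed by `γ` with `A/γ` Artinian has finite length. -/
theorem length_ne_top_of_smul_eq_zero (γ : A) (hArt : IsArtinianRing (A ⧸ Ideal.span {γ}))
    (Q : Type u) [AddCommGroup Q] [Module A Q] [Module.Finite A Q] (hQ : ∀ q : Q, γ • q = 0) :
    Module.length A Q ≠ ⊤ := by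
  have htor : Module.IsTorsionBySet A Q (Ideal.span {γ} : Set A) := by
    rw [Module.isTorsionBySet_iff_subset_annihilator]
    intro x hx
    obtain ⟨c, rfl⟩ := Ideal.mem_span_singleton'.1 hx
    rw [SetLike.mem_coe, Module.mem_annihilator]
    intro q
    rw [mul_smul, hQ q, smul_zero]
  let _ := htor.module
  have : IsScalarTower A (A ⧸ Ideal.span {γ}) Q := htor.isScalarTower
  have : Module.Finite (A ⧸ Ideal.span {γ}) Q := Module.Finite.of_restrictScalars_finite A _ Q
  rw [Module.length_eq_of_surjective (S := A) (R := A ⧸ Ideal.span {γ}) (M := Q)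
    Ideal.Quotient.mk_surjective]
  exact Module.length_ne_top

variable {S : Type u} [CommRing S] [Algebra A S]

theorem IsBir.FL (h : IsBir A S) (hArt : ∀ γ ∈ A⁰, IsArtinianRing (A ⧸ Ideal.span {γ})) :
    FL A S := by
  intro y hy
  obtain ⟨γ, hγ, hdvd⟩ := h.dvd hy
  have := h.finite
  apply length_ne_top_of_smul_eq_zero γ (hArt γ hγ)
  intro q
  obtain ⟨s, rfl⟩ := Ideal.Quotient.mk_surjective q
  rw [← Ideal.Quotient.mk_eq_mk, ← Submodule.Quotient.mk_smul, Submodule.Quotient.mk_eq_zero,
    Algebra.smul_def]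
  exact Ideal.mul_mem_right _ _ (Ideal.mem_span_singleton.2 hdvd)

end finlen

section semilocal

variable {A : Type u} [CommRing A] [IsLocalRing A] {S : Type u} [CommRing S] [Algebra A S]

theorem finite_setOf_isMaximal [Module.Finite A S] : {n : Ideal S | n.IsMaximal}.Finite := by
  refine (Algebra.QuasiFinite.finite_primesOver (S := S) (maximalIdeal A)).subset (fun n hn => ?_)
  have : n.IsMaximal := hn
  exact ⟨hn.isPrime,
    ⟨(IsLocalRing.eq_maximalIdeal (Ideal.isMaximal_comap_of_isIntegral_of_isMaximal n)).symm⟩⟩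

theorem map_maximalIdeal_le_jacobson [Module.Finite A S] :
    (maximalIdeal A).map (algebraMap A S) ≤ Ideal.jacobson ⊥ := by
  rw [Ideal.jacobson]
  apply le_sInf
  rintro J ⟨-, hJ⟩
  have : J.IsMaximal := hJ
  rw [Ideal.map_le_iff_le_comap,
    IsLocalRing.eq_maximalIdeal (Ideal.isMaximal_comap_of_isIntegral_of_isMaximal J)]

end semilocal

end Groth.Agent.Lib.Helper71.Dim1
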