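import Mathlib
import Groth.Agent.Lib.Helper71.Dim1A
import Groth.Agent.Lib.Helper71.Dim1D
import Groth.Agent.Lib.Helper71.Dim1E

set_option autoImplicit false
universe u

namespace Groth.Agent.Lib.Helper71.Dim1

open nonZeroDivisors IsLocalRing

section principal

variable {T : Type u} [CommRing T]

theorem isPrincipal_of_pow_eq_span (hf : {n : Ideal T | n.IsMaximal}.Finite) (J : Ideal T)
    (d : ℕ) (hd : d ≠ 0) (x : T) (hx : x ∈ T⁰) (hJ : J ^ d = Ideal.span {x}) :
    J.IsPrincipal := by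
  apply Ideal.IsPrincipal.of_finite_maximals_of_isUnit hf
  rw [← isUnit_pow_iff hd, ← FractionalIdeal.coeIdeal_pow, hJ,
    FractionalIdeal.coeIdeal_span_singleton]
  have hu : IsUnit (algebraMap T (FractionRing T) x) :=
    IsLocalization.map_units (FractionRing T) (⟨x, hx⟩ : T⁰)
  refine IsUnit.of_mul_eq_one (FractionalIdeal.spanSingleton T⁰ (↑hu.unit⁻¹ : FractionRing T)) ?_
  rw [FractionalIdeal.spanSingleton_mul_spanSingleton, IsUnit.mul_val_inv,
    FractionalIdeal.spanSingleton_one]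

/-- from a principal pair ideal, extract the factorization. -/
theorem exists_factor_of_isPrincipal (a b : T) (ha : a ∈ T⁰) (hb : b ∈ T⁰)
    (hP : (Ideal.span ({a, b} : Set T)).IsPrincipal) :
    ∃ t a' b' : T, t ∈ T⁰ ∧ a' ∈ T⁰ ∧ b' ∈ T⁰ ∧ a = t * a' ∧ b = t * b' ∧
      Ideal.span ({a', b'} : Set T) = ⊤ := by
  obtain ⟨t, ht⟩ := hP.principal
  have ht' : Ideal.span ({a, b} : Set T) = Ideal.span {t} := ht
  have haI : a ∈ Ideal.span {t} := ht' ▸ Ideal.subset_span (by simp)
  have hbI : b ∈ Ideal.span {t} := ht' ▸ Ideal.subset_span (by simp)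
  obtain ⟨a', ha'⟩ := Ideal.mem_span_singleton.1 haI
  obtain ⟨b', hb'⟩ := Ideal.mem_span_singleton.1 hbI
  have hta : t ∈ T⁰ ∧ a' ∈ T⁰ := mul_mem_nonZeroDivisors.1 (ha' ▸ ha)
  have htb : t ∈ T⁰ ∧ b' ∈ T⁰ := mul_mem_nonZeroDivisors.1 (hb' ▸ hb)
  refine ⟨t, a', b', hta.1, hta.2, htb.2, ha', hb', ?_⟩
  have htI : t ∈ Ideal.span ({a, b} : Set T) := ht' ▸ Ideal.mem_span_singleton_self t
  obtain ⟨α, β, hαβ⟩ := Ideal.mem_span_pair.1 htI
  rw [Ideal.eq_top_iff_one, Ideal.mem_span_pair]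
  refine ⟨α, β, ?_⟩
  have : t * (α * a' + β * b') = t * 1 := by
    rw [mul_one]
    calc t * (α * a' + β * b') = α * (t * a') + β * (t * b') := by ring
      _ = t := by rw [← ha', ← hb', hαβ]
  exact mul_cancel_left_mem_nonZeroDivisors hta.1 |>.1 this

end principal

section iterate

variable {S : Type u} [CommRing S]

theorem stable_iterate (I : Ideal S) (x : S) (N d : ℕ)
    (h : ∀ j : ℕ, I ^ (N + j + d) = Ideal.span {x} * I ^ (N + j)) (n : ℕ) (hn : N ≤ n) (i : ℕ) :
    I ^ (n + i * d) = Ideal.span {x ^ i} * I ^ n := by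
  induction i with
  | zero => simp
  | succ i ih =>
    obtain ⟨j, hj⟩ : ∃ j, n + i * d = N + j := ⟨n + i * d - N, by omega⟩
    have e : n + (i + 1) * d = N + j + d := by rw [← hj]; ring
    rw [e, h j, ← hj, ih, ← mul_assoc, Ideal.span_singleton_mul_span_singleton, pow_succ']

end iterate

section blowupLemma

variable {A : Type u} [CommRing A] [IsLocalRing A]

/-- **Blowup lemma**: a pair of nonzerodivisors becomes a principal ideal in a finite birational
extension. -/
theorem exists_blowup (hArt : ∀ γ ∈ A⁰, IsArtinianRing (A ⧸ Ideal.span {γ}))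
    (S : Type u) [CommRing S] [Algebra A S] (hS : IsBir A S)
    (a b : S) (ha : a ∈ S⁰) (hb : b ∈ S⁰) :
    ∃ (T : Type u) (_ : CommRing T) (_ : Algebra S T) (_ : Algebra A T) (_ : IsScalarTower A S T),
      IsBir S T ∧ IsBir A T ∧ ∃ t a' b' : T, t ∈ T⁰ ∧ a' ∈ T⁰ ∧ b' ∈ T⁰ ∧
        algebraMap S T a = t * a' ∧ algebraMap S T b = t * b' ∧
        Ideal.span ({a', b'} : Set T) = ⊤ := by
  by_cases hau : IsUnit a
  · refine ⟨S, inferInstance, Algebra.id S, inferInstance, inferInstance, IsBir.refl S, hS,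
      1, a, b, one_mem _, ha, hb, by simp, by simp, ?_⟩
    exact Ideal.eq_top_of_isUnit_mem _ (Ideal.subset_span (by simp)) hau
  have hfin := hS.finite
  obtain ⟨γ, hγ, hdvd⟩ := hS.dvd ha
  have hγm : γ ∈ maximalIdeal A := by
    by_contra hγm
    have hu : IsUnit γ := by
      by_contra h
      exact hγm ((IsLocalRing.mem_maximalIdeal γ).2 h)
    exact hau (isUnit_of_dvd_unit hdvd (hu.map (algebraMap A S)))
  have hw := hS.nzd γ hγ
  have hFL := hS.FL hArt
  obtain ⟨r, s, F, h1, h2⟩ := exists_relation hFL γ hγm hw a b ha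
  obtain ⟨x, hxI, hst⟩ := exists_stable _ (map_maximalIdeal_le_jacobson (A := A) (S := S))
    a b r s F h1 h2
  generalize hI : Ideal.span ({a, b} : Set S) = I at hxI hst
  have haI : a ∈ I := hI ▸ Ideal.subset_span (by simp)
  have hIfg : I.FG := hI ▸ Submodule.fg_span (Set.toFinite _)
  obtain ⟨d, hd⟩ : ∃ d, d = r + 1 := ⟨_, rfl⟩
  obtain ⟨N, hN⟩ : ∃ N, N = s + r := ⟨_, rfl⟩
  have hst' : ∀ j : ℕ, I ^ (N + j + d) = Ideal.span {x} * I ^ (N + j) := by
    intro j; rw [hN, hd]; exact hst j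
  have hxI' : x ∈ I ^ d := hd ▸ hxI
  have hd0 : d ≠ 0 := by omega
  have hx0 : x ∈ S⁰ := by
    have h3 : a ^ (N + 0 + d) ∈ Ideal.span {x} * I ^ (N + 0) := by
      rw [← hst' 0]; exact Ideal.pow_mem_pow haI _
    obtain ⟨q, -, hq⟩ := Ideal.mem_span_singleton_mul.1 h3
    exact (mul_mem_nonZeroDivisors.1 (hq ▸ pow_mem ha _)).1
  obtain ⟨k, hk⟩ : ∃ k, k = N + 1 := ⟨_, rfl⟩
  have hkd : N ≤ k * d := by
    have : k ≤ k * d := Nat.le_mul_of_pos_right k (by omega)
    omega
  have hk0 : k ≠ 0 := by omega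
  have hξP : x ^ k ∈ I ^ (k * d) := by
    rw [mul_comm, pow_mul]; exact Ideal.pow_mem_pow hxI' k
  have hPP : I ^ (k * d) * I ^ (k * d) = Ideal.span {x ^ k} * I ^ (k * d) := by
    rw [← pow_add]
    exact stable_iterate I x N d hst' (k * d) hkd k
  have hJP : I ^ d * I ^ (k * d) = Ideal.span {x} * I ^ (k * d) := by
    have := stable_iterate I x N d hst' (k * d) hkd 1
    rw [one_mul, pow_one] at this
    rw [← pow_add, add_comm]; exact this
  have hξ0 : x ^ k ∈ S⁰ := pow_mem hx0 k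
  -- the new ring
  let T := blowupAlg (I ^ (k * d)) (x ^ k) hξP hPP
  have hST : IsBir S T :=
    { finite := blowupAlg_finite _ _ hξP hPP (Ideal.FG.pow hIfg)
      inj := blowupAlg_injective _ _ hξP hPP hξ0
      nzd := fun y hy => blowupAlg_nzd _ _ hξP hPP hy
      den := ⟨x ^ k, hξ0, fun z => blowupAlg_den _ _ hξP hPP z⟩ }
  have hAT : IsBir A T := hS.trans hST
  have := hAT.finite
  have hmax : {n : Ideal T | n.IsMaximal}.Finite := finite_setOf_isMaximal (A := A)
  -- the extended ideal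
  have hmap : Ideal.map (algebraMap S T) (I ^ d) = Ideal.span {algebraMap S T x} :=
    blowupAlg_map_eq _ _ hξP hPP (I ^ d) x hxI' hJP
  have hxu : IsUnit (algebraMap S T x : Localization.Away (x ^ k)) := by
    have h4 : IsUnit (algebraMap S (Localization.Away (x ^ k)) (x ^ k)) :=
      IsLocalization.Away.algebraMap_isUnit (x ^ k)
    rw [map_pow] at h4
    exact (isUnit_pow_iff hk0).1 h4
  have hxT : algebraMap S T x ∈ T⁰ := blowupAlg_nzd_of_isUnit _ _ hξP hPP hxu
  have hJ : Ideal.span ({algebraMap S T a, algebraMap S T b} : Set T) ^ d =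
      Ideal.span {algebraMap S T x} := by
    rw [← hmap, Ideal.map_pow, ← hI, Ideal.map_span, Set.image_pair]
  have hprin := isPrincipal_of_pow_eq_span hmax _ d hd0 _ hxT hJ
  obtain ⟨t, a', b', ht, ha', hb', hat, hbt, htop⟩ := exists_factor_of_isPrincipal
    (algebraMap S T a) (algebraMap S T b) (hST.nzd a ha) (hST.nzd b hb) hprin
  exact ⟨T, inferInstance, inferInstance, inferInstance, inferInstance, hST, hAT,
    t, a', b', ht, ha', hb', hat, hbt, htop⟩

end blowupLemma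

end Groth.Agent.Lib.Helper71.Dim1
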