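import Mathlib
import Groth.Prelude.Def_CycAlg
import Groth.Agent.Lib.Helper71.Dim1F

set_option autoImplicit false
universe u

namespace Groth.Agent.Lib.Helper71.Dim1

open nonZeroDivisors IsLocalRing

theorem wb_le_zero (d : WithBot ℕ∞) (h : d + 1 ≤ 1) : d ≤ 0 := by
  induction d using WithBot.recBotCoe with
  | bot => exact bot_le
  | coe n =>
    have h' : ((n + 1 : ℕ∞) : WithBot ℕ∞) ≤ ((1 : ℕ∞) : WithBot ℕ∞) := by exact_mod_cast h
    rw [WithBot.coe_le_coe] at h'
    induction n using ENat.recTopCoe with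
    | top => simp at h'
    | coe m =>
      have : m + 1 ≤ 1 := by exact_mod_cast h'
      have : m = 0 := by omega
      subst this
      simp

section dimOne

variable {A : Type u} [CommRing A] [IsLocalRing A] [IsNoetherianRing A]

omit [IsLocalRing A] in
theorem isArtinianRing_quotient_of_dim_one (hA : ringKrullDim A = 1) (γ : A) (hγ : γ ∈ A⁰) :
    IsArtinianRing (A ⧸ Ideal.span {γ}) := by
  have h1 := ringKrullDim_quotient_succ_le_of_nonZeroDivisor hγ
  rw [hA] at h1
  have h2 : ringKrullDim (A ⧸ Ideal.span {γ}) ≤ 0 := wb_le_zero _ h1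
  have : Ring.KrullDimLE 0 (A ⧸ Ideal.span {γ}) := Ring.krullDimLE_iff.mpr h2
  exact IsNoetherianRing.isArtinianRing_of_krullDimLE_zero

omit [IsNoetherianRing A] in
theorem exists_pow_le_span (γ : A) (hArt : IsArtinianRing (A ⧸ Ideal.span {γ})) :
    ∃ n : ℕ, maximalIdeal A ^ n ≤ Ideal.span {γ} := by
  obtain ⟨n, hn⟩ := IsArtinianRing.isNilpotent_jacobson_bot (R := A ⧸ Ideal.span {γ})
  refine ⟨n, fun r hr => ?_⟩
  have hle : (maximalIdeal A).map (Ideal.Quotient.mk (Ideal.span {γ})) ≤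
      Ideal.jacobson (⊥ : Ideal (A ⧸ Ideal.span {γ})) := by
    rw [Ideal.jacobson]
    apply le_sInf
    rintro M ⟨-, hM⟩
    have : M.IsMaximal := hM
    have hc : (M.comap (Ideal.Quotient.mk (Ideal.span {γ}))).IsMaximal :=
      Ideal.comap_isMaximal_of_surjective _ Ideal.Quotient.mk_surjective
    rw [Ideal.map_le_iff_le_comap, IsLocalRing.eq_maximalIdeal hc]
  have h1 : Ideal.Quotient.mk (Ideal.span {γ}) r ∈
      ((maximalIdeal A).map (Ideal.Quotient.mk (Ideal.span {γ}))) ^ n := by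
    rw [← Ideal.map_pow]; exact Ideal.mem_map_of_mem _ hr
  have h2 := Ideal.pow_right_mono hle n h1
  rw [hn] at h2
  exact Ideal.Quotient.eq_zero_iff_mem.1 h2

variable {S : Type u} [CommRing S] [Algebra A S]

omit [IsNoetherianRing A] in
theorem IsBir.isFinExt (h : IsBir A S) (hArt : ∀ γ ∈ A⁰, IsArtinianRing (A ⧸ Ideal.span {γ})) :
    CycAlg.IsFinExt A S (maximalIdeal A) := by
  refine ⟨h.inj, h.finite, ?_⟩
  obtain ⟨z, hz, hden⟩ := h.den
  obtain ⟨n, hn⟩ := exists_pow_le_span z (hArt z hz)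
  refine ⟨n, fun r hr b => ?_⟩
  obtain ⟨c, rfl⟩ := Ideal.mem_span_singleton'.1 (hn hr)
  obtain ⟨α, hα⟩ := hden b
  refine ⟨c * α, ?_⟩
  rw [map_mul, hα, Algebra.smul_def, map_mul]
  ring

end dimOne

end Groth.Agent.Lib.Helper71.Dim1
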