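import Mathlib
import Groth.Agent.Lib.Helper71.Dim1G

set_option autoImplicit false
universe u v

namespace Groth.Agent.Lib.Helper71.Dim1

open nonZeroDivisors IsLocalRing

section clmap

variable {A : Type u} [CommRing A] {V : Type v} [AddCommGroup V] [Module A V]
  {V' : Type v} [AddCommGroup V'] [Module A V']

theorem cl_map' {L M : Submodule A V} (ι : V →ₗ[A] V') (hι : Function.Injective ι) :
    cl (L.map ι) (M.map ι) = cl L M := by
  let e : M ≃ₗ[A] M.map ι := Submodule.equivMapOfInjective ι hι M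
  have h : (L.submoduleOf M).map (e : M →ₗ[A] M.map ι) = (L.map ι).submoduleOf (M.map ι) := by
    ext ⟨y, hy⟩
    constructor
    · rintro ⟨⟨m, hm⟩, hmL, hmy⟩
      have : ι m = y := congrArg Subtype.val hmy
      change y ∈ L.map ι
      exact ⟨m, hmL, this⟩
    · intro hyL
      obtain ⟨l, hl, rfl⟩ : y ∈ L.map ι := hyL
      obtain ⟨m, hm, hml⟩ := hy
      have : m = l := hι hml
      subst this
      exact ⟨⟨m, hm⟩, hl, Subtype.ext rfl⟩
  exact (Submodule.Quotient.equiv _ _ e h).length_eq.symm

end clmap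

section lengths

variable {A : Type u} [CommRing A] {T : Type u} [CommRing T] [Algebra A T]

/-- multiplication by `x` as an `A`-linear map. -/
noncomputable abbrev mulL (x : T) : T →ₗ[A] T := (LinearMap.mul A T x)

theorem mulL_injective {x : T} (hx : x ∈ T⁰) : Function.Injective (mulL (A := A) x) := by
  intro y z hyz
  have : x * y = x * z := hyz
  exact (mul_cancel_left_mem_nonZeroDivisors hx).1 this

theorem map_mulL_span (x y : T) :
    ((Ideal.span {y}).restrictScalars A).map (mulL (A := A) x) =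
      (Ideal.span {x * y}).restrictScalars A := by
  ext z
  simp only [Submodule.mem_map, Submodule.restrictScalars_mem, Ideal.mem_span_singleton']
  constructor
  · rintro ⟨_, ⟨c, rfl⟩, rfl⟩
    exact ⟨c, by simp [mulL]; ring⟩
  · rintro ⟨c, rfl⟩
    exact ⟨c * y, ⟨c, rfl⟩, by simp [mulL]; ring⟩

theorem map_mulL_top (x : T) :
    (⊤ : Submodule A T).map (mulL (A := A) x) = (Ideal.span {x}).restrictScalars A := by
  ext z
  simp only [Submodule.mem_map, Submodule.mem_top, true_and, Submodule.restrictScalars_mem,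
    Ideal.mem_span_singleton']
  constructor
  · rintro ⟨c, rfl⟩
    exact ⟨c, by simp [mulL]; ring⟩
  · rintro ⟨c, rfl⟩
    exact ⟨c, by simp [mulL]; ring⟩

/-- additivity of `ℓ(T/xT)`. -/
theorem length_quot_mul (x y : T) (hx : x ∈ T⁰) :
    Module.length A (T ⧸ Ideal.span {x * y}) =
      Module.length A (T ⧸ Ideal.span {x}) + Module.length A (T ⧸ Ideal.span {y}) := by
  rw [← cl_top_ideal (A := A), ← cl_top_ideal (A := A) (Ideal.span {x}),
    ← cl_top_ideal (A := A) (Ideal.span {y})]
  have h1 : (Ideal.span {x * y}).restrictScalars A ≤ (Ideal.span {x}).restrictScalars A := by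
    intro z hz
    exact Ideal.span_singleton_le_span_singleton.2 (Dvd.intro y rfl) hz
  rw [cl_add h1 le_top, add_comm]
  congr 1
  rw [← map_mulL_span x y, ← map_mulL_top x, cl_map' _ (mulL_injective hx)]

theorem one_le_length_quot {x : T} (hx : ¬ IsUnit x) :
    1 ≤ Module.length A (T ⧸ Ideal.span {x}) := by
  have : Nontrivial (T ⧸ Ideal.span {x}) := by
    rw [Ideal.Quotient.nontrivial_iff]
    intro h
    exact hx (Ideal.span_singleton_eq_top.1 h)
  exact Order.one_le_iff_pos.2 Module.length_pos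

end lengths

section invariance

variable {A : Type u} [CommRing A] {S : Type u} [CommRing S] [Algebra A S]
  {T : Type u} [CommRing T] [Algebra S T] [Algebra A T] [IsScalarTower A S T]

theorem length_quot_eq_of_isBir (hArt : ∀ γ ∈ A⁰, IsArtinianRing (A ⧸ Ideal.span {γ}))
    (hS : IsBir A S) (hST : IsBir S T) (y : S) (hy : y ∈ S⁰) :
    Module.length A (T ⧸ Ideal.span {algebraMap S T y}) =
      Module.length A (S ⧸ Ideal.span {y}) := by
  have hAT : IsBir A T := hS.trans hST
  have hfinT := hAT.finite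
  let ι : S →ₗ[A] T := (IsScalarTower.toAlgHom A S T).toLinearMap
  have hιapp : ∀ s, ι s = algebraMap S T s := fun s => rfl
  have hι : Function.Injective ι := hST.inj
  have hy' : algebraMap S T y ∈ T⁰ := hST.nzd y hy
  set M : Submodule A T := (⊤ : Submodule A S).map ι with hM
  have hMφ : M.map (mulL (A := A) (algebraMap S T y)) ≤ M := by
    rintro _ ⟨_, ⟨s, -, rfl⟩, rfl⟩
    exact ⟨y * s, Submodule.mem_top, by simp [mulL, hιapp]⟩
  -- finiteness of T / S
  have hfin : cl M (⊤ : Submodule A T) ≠ ⊤ := by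
    obtain ⟨ζ, hζ, hden⟩ := hST.den
    obtain ⟨γ, hγ, c, hc⟩ := hS.dvd hζ
    have : Module.Finite A (⊤ : Submodule A T) :=
      Module.Finite.equiv (Submodule.topEquiv (R := A) (M := T)).symm
    apply length_ne_top_of_smul_eq_zero γ (hArt γ hγ)
    intro q
    obtain ⟨⟨t, ht⟩, rfl⟩ := Submodule.Quotient.mk_surjective _ q
    rw [← Submodule.Quotient.mk_smul, Submodule.Quotient.mk_eq_zero]
    change γ • t ∈ M
    obtain ⟨s, hs⟩ := hden t
    refine ⟨c * s, Submodule.mem_top, ?_⟩
    rw [hιapp, map_mul, hs, Algebra.smul_def, IsScalarTower.algebraMap_apply A S T, hc, map_mul]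
    ring
  have h1 := cl_map_eq (mulL (A := A) (algebraMap S T y)) (mulL_injective hy') le_top hMφ le_top hfin
  rw [map_mulL_top, cl_top_ideal] at h1
  rw [← h1]
  have h2 : M.map (mulL (A := A) (algebraMap S T y)) =
      ((Ideal.span {y}).restrictScalars A).map ι := by
    apply le_antisymm
    · rintro _ ⟨_, ⟨s, -, rfl⟩, rfl⟩
      refine ⟨y * s, ?_, ?_⟩
      · exact Ideal.mul_mem_right _ _ (Ideal.mem_span_singleton_self y)
      · simp [mulL, hιapp]
    · rintro _ ⟨z, hz, rfl⟩
      obtain ⟨c, rfl⟩ := Ideal.mem_span_singleton'.1 hz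
      exact ⟨ι c, ⟨c, Submodule.mem_top, rfl⟩, by simp [mulL, hιapp, mul_comm]⟩
  rw [h2, hM, cl_map' ι hι, cl_top_ideal]

end invariance

end Groth.Agent.Lib.Helper71.Dim1
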