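import Mathlib
import Groth.Agent.Lib.Helper71.Dim1H

set_option autoImplicit false
universe u

namespace Groth.Agent.Lib.Helper71.Dim1

open nonZeroDivisors IsLocalRing

section LC

variable {T : Type u} [CommRing T]

/-- `y` is a unit times a power of `π` in the localization at `q`. -/
def LC (q : Ideal T) (y π : T) : Prop :=
  ∃ (e : ℕ) (u v : T), u ∉ q ∧ v ∉ q ∧ u * y = v * π ^ e

theorem LC.of_notMem (q : Ideal T) [hq : q.IsPrime] {y : T} (π : T) (hy : y ∉ q) : LC q y π :=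
  ⟨0, 1, y, fun h => hq.ne_top ((Ideal.eq_top_iff_one q).2 h), hy, by simp⟩

theorem LC.self (q : Ideal T) [hq : q.IsPrime] (π : T) : LC q π π :=
  ⟨1, 1, 1, fun h => hq.ne_top ((Ideal.eq_top_iff_one q).2 h),
    fun h => hq.ne_top ((Ideal.eq_top_iff_one q).2 h), by simp⟩

theorem LC.mul {q : Ideal T} [hq : q.IsPrime] {y z π : T} (h : LC q y π) (h' : LC q z π) :
    LC q (y * z) π := by
  obtain ⟨e, u, v, hu, hv, huv⟩ := h
  obtain ⟨e', u', v', hu', hv', huv'⟩ := h'
  refine ⟨e + e', u * u', v * v', fun h => (hq.mem_or_mem h).elim hu hu',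
    fun h => (hq.mem_or_mem h).elim hv hv', ?_⟩
  calc u * u' * (y * z) = (u * y) * (u' * z) := by ring
    _ = (v * π ^ e) * (v' * π ^ e') := by rw [huv, huv']
    _ = v * v' * π ^ (e + e') := by rw [pow_add]; ring

theorem LC.of_mul_left {q : Ideal T} [hq : q.IsPrime] {y z π : T} (h : LC q (y * z) π)
    (hz : z ∉ q) : LC q y π := by
  obtain ⟨e, u, v, hu, hv, huv⟩ := h
  refine ⟨e, u * z, v, fun h => (hq.mem_or_mem h).elim hu hz, hv, ?_⟩
  rw [← huv]; ring

theorem LC.of_mul_right {q : Ideal T} [hq : q.IsPrime] {y z π : T} (h : LC q (y * z) π)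
    (hy : y ∉ q) : LC q z π := by
  rw [mul_comm] at h
  exact h.of_mul_left hy

theorem LC.trans {q : Ideal T} [hq : q.IsPrime] {y π π' : T} (h : LC q y π) (h' : LC q π π') :
    LC q y π' := by
  obtain ⟨e, u, v, hu, hv, huv⟩ := h
  obtain ⟨e', u', v', hu', hv', huv'⟩ := h'
  refine ⟨e' * e, u * u' ^ e, v * v' ^ e, fun h => (hq.mem_or_mem h).elim hu
    (fun h2 => hu' (hq.mem_of_pow_mem _ h2)),
    fun h => (hq.mem_or_mem h).elim hv (fun h2 => hv' (hq.mem_of_pow_mem _ h2)), ?_⟩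
  calc u * u' ^ e * y = (u * y) * u' ^ e := by ring
    _ = v * (u' * π) ^ e := by rw [huv, mul_pow]; ring
    _ = v * v' ^ e * π' ^ (e' * e) := by rw [huv', mul_pow, ← pow_mul]; ring

theorem LC.map {T' : Type u} [CommRing T'] (φ : T →+* T') (q : Ideal T') {y π : T}
    (h : LC (q.comap φ) y π) : LC q (φ y) (φ π) := by
  obtain ⟨e, u, v, hu, hv, huv⟩ := h
  refine ⟨e, φ u, φ v, hu, hv, ?_⟩
  rw [← map_mul, huv, map_mul, map_pow]

end LC

end Groth.Agent.Lib.Helper71.Dim1
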