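import Mathlib
import Groth.Agent.Lib.Helper71.Dim1I

set_option autoImplicit false
universe u

namespace Groth.Agent.Lib.Helper71.Dim1

open nonZeroDivisors IsLocalRing

section factor

variable {T : Type u} [CommRing T]

theorem LC_of_factor (q : Ideal T) [hq : q.IsPrime] (t a' b' π : T)
    (htop : Ideal.span ({a', b'} : Set T) = ⊤) (ht : LC q t π) (hab : LC q (a' * b') π) :
    LC q (t * a') π ∧ LC q (t * b') π := by
  have h : a' ∉ q ∨ b' ∉ q := by
    by_contra hcon
    push Not at hcon
    have h1 : Ideal.span ({a', b'} : Set T) ≤ q := by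
      rw [Ideal.span_le]
      rintro x (rfl | rfl)
      · exact hcon.1
      · exact hcon.2
    rw [htop] at h1
    exact hq.ne_top (top_le_iff.1 h1)
  rcases h with h | h
  · exact ⟨ht.mul (LC.of_notMem q π h), ht.mul (hab.of_mul_right h)⟩
  · exact ⟨ht.mul (hab.of_mul_left h), ht.mul (LC.of_notMem q π h)⟩

end factor

section pair

variable {A : Type u} [CommRing A] [IsLocalRing A]

theorem exists_pair_uniformizer (hArt : ∀ γ ∈ A⁰, IsArtinianRing (A ⧸ Ideal.span {γ})) :
    ∀ (n : ℕ) (S : Type u) [CommRing S] [Algebra A S] (_ : IsBir A S) (a b : S)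
      (_ : a ∈ S⁰) (_ : b ∈ S⁰),
      Module.length A (S ⧸ Ideal.span {a}) + Module.length A (S ⧸ Ideal.span {b}) ≤ (n : ℕ∞) →
      ∃ (T : Type u) (_ : CommRing T) (_ : Algebra S T) (_ : Algebra A T)
        (_ : IsScalarTower A S T),
        IsBir S T ∧ IsBir A T ∧ ∃ π : T, π ∈ T⁰ ∧ ∀ q : Ideal T, q.IsMaximal →
          LC q (algebraMap S T a) π ∧ LC q (algebraMap S T b) π := by
  intro n
  induction n using Nat.strong_induction_on with
  | _ n IH =>
  intro S _ _ hS a b ha hb hn
  obtain ⟨T₁, _, _, _, _, hST₁, hAT₁, t, a', b', ht, ha', hb', hat, hbt, htop⟩ :=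
    exists_blowup hArt S hS a b ha hb
  by_cases htu : IsUnit t
  · refine ⟨T₁, inferInstance, inferInstance, inferInstance, inferInstance, hST₁, hAT₁,
      a' * b', mul_mem ha' hb', ?_⟩
    intro q hq
    have hqp : q.IsPrime := hq.isPrime
    have htq : t ∉ q := fun h => hqp.ne_top (Ideal.eq_top_of_isUnit_mem _ h htu)
    rw [hat, hbt]
    exact LC_of_factor q t a' b' (a' * b') htop (LC.of_notMem q _ htq) (LC.self q _)
  · -- measure drops
    have e1 := length_quot_eq_of_isBir hArt hS hST₁ a ha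
    have e2 := length_quot_eq_of_isBir hArt hS hST₁ b hb
    rw [hat, length_quot_mul (A := A) t a' ht] at e1
    rw [hbt, length_quot_mul (A := A) t b' ht] at e2
    have e3 := length_quot_mul (A := A) a' b' ha'
    have h1 := one_le_length_quot (A := A) htu
    have hm : Module.length A (T₁ ⧸ Ideal.span {t}) + Module.length A (T₁ ⧸ Ideal.span {a' * b'})
        + 1 ≤ (n : ℕ∞) := by
      calc Module.length A (T₁ ⧸ Ideal.span {t}) + Module.length A (T₁ ⧸ Ideal.span {a' * b'}) + 1
          ≤ Module.length A (T₁ ⧸ Ideal.span {t}) + Module.length A (T₁ ⧸ Ideal.span {a' * b'})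
            + Module.length A (T₁ ⧸ Ideal.span {t}) := by gcongr
        _ = (Module.length A (T₁ ⧸ Ideal.span {t}) + Module.length A (T₁ ⧸ Ideal.span {a'}))
            + (Module.length A (T₁ ⧸ Ideal.span {t}) + Module.length A (T₁ ⧸ Ideal.span {b'})) := by
              rw [e3]; ring
        _ = Module.length A (S ⧸ Ideal.span {a}) + Module.length A (S ⧸ Ideal.span {b}) := by
              rw [e1, e2]
        _ ≤ n := hn
    have hn0 : n ≠ 0 := by
      rintro rfl
      simp at hm
    obtain ⟨k, rfl⟩ := Nat.exists_eq_succ_of_ne_zero hn0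
    have hk : Module.length A (T₁ ⧸ Ideal.span {t}) +
        Module.length A (T₁ ⧸ Ideal.span {a' * b'}) ≤ (k : ℕ∞) := by
      have : ((k + 1 : ℕ) : ℕ∞) = (k : ℕ∞) + 1 := by push_cast; rfl
      rw [this] at hm
      exact (ENat.add_le_add_iff_right (by simp)).1 hm
    obtain ⟨T₂, _, _, _, _, hT₁T₂, hAT₂, π, hπ, hLC⟩ :=
      IH k (Nat.lt_succ_self k) T₁ hAT₁ t (a' * b') ht (mul_mem ha' hb') hk
    let _ : Algebra S T₂ := ((algebraMap T₁ T₂).comp (algebraMap S T₁)).toAlgebra
    have hST₁T₂ : IsScalarTower S T₁ T₂ := IsScalarTower.of_algebraMap_eq (fun _ => rfl)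
    have hAST₂ : IsScalarTower A S T₂ := by
      apply IsScalarTower.of_algebraMap_eq
      intro x
      rw [IsScalarTower.algebraMap_apply A T₁ T₂, IsScalarTower.algebraMap_apply A S T₁]
      rfl
    refine ⟨T₂, inferInstance, inferInstance, inferInstance, hAST₂,
      IsBir.trans hST₁ hT₁T₂, hAT₂, π, hπ, ?_⟩
    intro q hq
    have hqp : q.IsPrime := hq.isPrime
    obtain ⟨hLt, hLab⟩ := hLC q hq
    have hφ : ∀ s : S, algebraMap S T₂ s = algebraMap T₁ T₂ (algebraMap S T₁ s) := fun _ => rfl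
    rw [hφ, hφ, hat, hbt, map_mul, map_mul]
    rw [map_mul] at hLab
    refine LC_of_factor q _ _ _ π ?_ hLt hLab
    have := congrArg (Ideal.map (algebraMap T₁ T₂)) htop
    rw [Ideal.map_span, Ideal.map_top, Set.image_pair] at this
    exact this

end pair

end Groth.Agent.Lib.Helper71.Dim1
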