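import Mathlib
import Groth.Agent.Lib.Helper71.Dim1J

set_option autoImplicit false
universe u

namespace Groth.Agent.Lib.Helper71.Dim1

open nonZeroDivisors IsLocalRing

section many

variable {A : Type u} [CommRing A] [IsLocalRing A]

theorem exists_uniformizer (hArt : ∀ γ ∈ A⁰, IsArtinianRing (A ⧸ Ideal.span {γ}))
    (S : Type u) [CommRing S] [Algebra A S] (hS : IsBir A S) :
    ∀ (r : ℕ) (a : Fin r → S) (_ : ∀ i, a i ∈ S⁰),
      ∃ (T : Type u) (_ : CommRing T) (_ : Algebra S T) (_ : Algebra A T)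
        (_ : IsScalarTower A S T),
        IsBir S T ∧ IsBir A T ∧ ∃ π : T, π ∈ T⁰ ∧ ∀ q : Ideal T, q.IsMaximal →
          ∀ i, LC q (algebraMap S T (a i)) π := by
  intro r
  induction r with
  | zero =>
    intro a _
    exact ⟨S, inferInstance, Algebra.id S, inferInstance, inferInstance, IsBir.refl S, hS,
      1, one_mem _, fun q _ i => i.elim0⟩
  | succ r IH =>
    intro a ha
    obtain ⟨T₁, _, _, _, _, hST₁, hAT₁, π₁, hπ₁, hLC₁⟩ :=
      IH (fun i => a i.castSucc) (fun i => ha _)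
    have hlast : algebraMap S T₁ (a (Fin.last r)) ∈ T₁⁰ := hST₁.nzd _ (ha _)
    have hFL := hAT₁.FL hArt
    obtain ⟨n, hn⟩ : ∃ n : ℕ, Module.length A (T₁ ⧸ Ideal.span {π₁}) +
        Module.length A (T₁ ⧸ Ideal.span {algebraMap S T₁ (a (Fin.last r))}) = (n : ℕ∞) := by
      obtain ⟨n₁, h₁⟩ := ENat.ne_top_iff_exists.1 (hFL π₁ hπ₁)
      obtain ⟨n₂, h₂⟩ := ENat.ne_top_iff_exists.1 (hFL _ hlast)
      exact ⟨n₁ + n₂, by rw [← h₁, ← h₂]; push_cast; rfl⟩
    obtain ⟨T₂, _, _, _, _, hT₁T₂, hAT₂, π, hπ, hLC⟩ :=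
      exists_pair_uniformizer hArt n T₁ hAT₁ π₁ _ hπ₁ hlast hn.le
    let _ : Algebra S T₂ := ((algebraMap T₁ T₂).comp (algebraMap S T₁)).toAlgebra
    have hST₁T₂ : IsScalarTower S T₁ T₂ := IsScalarTower.of_algebraMap_eq (fun _ => rfl)
    have hAST₂ : IsScalarTower A S T₂ := by
      apply IsScalarTower.of_algebraMap_eq
      intro x
      rw [IsScalarTower.algebraMap_apply A T₁ T₂, IsScalarTower.algebraMap_apply A S T₁]
      rfl
    refine ⟨T₂, inferInstance, inferInstance, inferInstance, hAST₂,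
      IsBir.trans hST₁ hT₁T₂, hAT₂, π, hπ, ?_⟩
    intro q hq
    have hqp : q.IsPrime := hq.isPrime
    obtain ⟨hLπ, hLlast⟩ := hLC q hq
    have hφ : ∀ s : S, algebraMap S T₂ s = algebraMap T₁ T₂ (algebraMap S T₁ s) := fun _ => rfl
    have hfin := hT₁T₂.finite
    have hint : Algebra.IsIntegral T₁ T₂ := Algebra.IsIntegral.of_finite T₁ T₂
    have hq₁ : (q.comap (algebraMap T₁ T₂)).IsMaximal :=
      Ideal.isMaximal_comap_of_isIntegral_of_isMaximal q
    intro i
    refine Fin.lastCases ?_ (fun j => ?_) i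
    · rw [hφ]; exact hLlast
    · rw [hφ]
      exact (LC.map (algebraMap T₁ T₂) q (hLC₁ _ hq₁ j)).trans hLπ

end many

end Groth.Agent.Lib.Helper71.Dim1
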