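import Mathlib
import Groth.Agent.Lib.Helper71.Dim1K

set_option autoImplicit false
universe u

namespace Groth.Agent.Lib.Helper71.Dim1

open nonZeroDivisors IsLocalRing

section localcmp

theorem parity_aux (k' m' W : ℕ) :
    (k' * (k' * m' * W)) % 2 = (m' * (k' * m' * W)) % 2 := by
  have h1 : Even (k' * (k' * m' * W)) ↔ Even (m' * (k' * m' * W)) := by
    simp only [Nat.even_mul]; tauto
  rcases Nat.even_or_odd (k' * (k' * m' * W)) with h | h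
  · rw [Nat.even_iff.1 h, Nat.even_iff.1 (h1.1 h)]
  · have h' : ¬ Even (m' * (k' * m' * W)) := fun hh => (Nat.not_even_iff_odd.2 h) (h1.2 hh)
    rw [Nat.odd_iff.1 h, Nat.odd_iff.1 (Nat.not_even_iff_odd.1 h')]

variable {R : Type*} [CommRing R]

/-- the key cancellation: same exponent pattern gives the same unit combination. -/
theorem unit_comb_eq {P Θ : R} (hP : P ∈ R⁰) (hΘ : Θ ∈ R⁰) (u₁ u₂ v₁ v₂ : Rˣ) (s₁ s₂ : ℕ)
    (h₁ : (u₁ : R) * P ^ s₁ = v₁ * Θ ^ s₁) (h₂ : (u₂ : R) * P ^ s₂ = v₂ * Θ ^ s₂) :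
    (u₁ : R) ^ s₂ * (v₂ : R) ^ s₁ = (v₁ : R) ^ s₂ * (u₂ : R) ^ s₁ := by
  have hPΘ : (P * Θ) ^ (s₁ * s₂) ∈ R⁰ := pow_mem (mul_mem hP hΘ) _
  apply (mul_cancel_right_mem_nonZeroDivisors hPΘ).1
  calc (u₁ : R) ^ s₂ * (v₂ : R) ^ s₁ * (P * Θ) ^ (s₁ * s₂)
      = ((u₁ : R) * P ^ s₁) ^ s₂ * ((v₂ : R) * Θ ^ s₂) ^ s₁ := by
        rw [mul_pow, mul_pow, mul_pow, ← pow_mul, ← pow_mul, mul_comm s₂ s₁]; ring
    _ = ((v₁ : R) * Θ ^ s₁) ^ s₂ * ((u₂ : R) * P ^ s₂) ^ s₁ := by rw [h₁, h₂]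
    _ = (v₁ : R) ^ s₂ * (u₂ : R) ^ s₁ * (P * Θ) ^ (s₁ * s₂) := by
        rw [mul_pow, mul_pow, mul_pow, ← pow_mul, ← pow_mul, mul_comm s₂ s₁]; ring

variable [IsLocalRing R]

/-- **Local comparison**: two factorizations of the same pair give the same local tame value. -/
theorem local_value_eq {π θ : R} (hπ : π ∈ R⁰) (hθ : θ ∈ R⁰) (u₁ u₂ v₁ v₂ : Rˣ)
    (e₁ e₂ f₁ f₂ m k : ℕ)
    (h₁ : (u₁ : R) * π ^ e₁ = v₁ * θ ^ f₁) (h₂ : (u₂ : R) * π ^ e₂ = v₂ * θ ^ f₂)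
    (hm₁ : e₁ * m = f₁ * k) (hm₂ : e₂ * m = f₂ * k) :
    ((-1 : ResidueField R) ^ (e₁ * e₂) * residue R (u₁ : R) ^ e₂ * (residue R (u₂ : R) ^ e₁)⁻¹) ^ m
      = ((-1 : ResidueField R) ^ (f₁ * f₂) * residue R (v₁ : R) ^ f₂ *
          (residue R (v₂ : R) ^ f₁)⁻¹) ^ k := by
  rcases Nat.eq_zero_or_pos m with hm0 | hmpos
  · subst hm0
    rcases Nat.eq_zero_or_pos k with hk0 | hkpos
    · subst hk0; simp
    · have hf₁ : f₁ = 0 := by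
        rcases Nat.eq_zero_or_pos f₁ with h | h
        · exact h
        · exfalso; have := Nat.mul_pos h hkpos; omega
      have hf₂ : f₂ = 0 := by
        rcases Nat.eq_zero_or_pos f₂ with h | h
        · exact h
        · exfalso; have := Nat.mul_pos h hkpos; omega
      subst hf₁ hf₂; simp
  rcases Nat.eq_zero_or_pos k with hk0 | hkpos
  · subst hk0
    have he₁ : e₁ = 0 := by
      rcases Nat.eq_zero_or_pos e₁ with h | h
      · exact h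
      · exfalso; have := Nat.mul_pos h hmpos; omega
    have he₂ : e₂ = 0 := by
      rcases Nat.eq_zero_or_pos e₂ with h | h
      · exact h
      · exfalso; have := Nat.mul_pos h hmpos; omega
    subst he₁ he₂; simp
  -- both positive
  obtain ⟨d, hdpos, m', k', hcop, rfl, rfl⟩ :
      ∃ d, 0 < d ∧ ∃ m' k', Nat.Coprime m' k' ∧ m = m' * d ∧ k = k' * d := by
    obtain ⟨g, m', k', hg, hcop, hm', hk'⟩ := Nat.exists_coprime' (Nat.gcd_pos_of_pos_left k hmpos)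
    exact ⟨g, hg, m', k', hcop, hm', hk'⟩
  have hm'pos : 0 < m' := Nat.pos_of_mul_pos_right hmpos
  have hk'pos : 0 < k' := Nat.pos_of_mul_pos_right hkpos
  have hm₁' : e₁ * m' = f₁ * k' := by
    apply Nat.eq_of_mul_eq_mul_right hdpos
    rw [mul_assoc, mul_assoc]; exact hm₁
  have hm₂' : e₂ * m' = f₂ * k' := by
    apply Nat.eq_of_mul_eq_mul_right hdpos
    rw [mul_assoc, mul_assoc]; exact hm₂
  obtain ⟨s₁, rfl⟩ : k' ∣ e₁ := by
    have : k' ∣ e₁ * m' := ⟨f₁, by rw [hm₁', mul_comm]⟩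
    exact (Nat.Coprime.dvd_of_dvd_mul_right hcop.symm this)
  obtain ⟨s₂, rfl⟩ : k' ∣ e₂ := by
    have : k' ∣ e₂ * m' := ⟨f₂, by rw [hm₂', mul_comm]⟩
    exact (Nat.Coprime.dvd_of_dvd_mul_right hcop.symm this)
  have hf₁ : f₁ = m' * s₁ := by
    apply Nat.eq_of_mul_eq_mul_right hk'pos
    rw [← hm₁']; ring
  have hf₂ : f₂ = m' * s₂ := by
    apply Nat.eq_of_mul_eq_mul_right hk'pos
    rw [← hm₂']; ring
  subst hf₁ hf₂
  have hP : π ^ k' ∈ R⁰ := pow_mem hπ _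
  have hΘ : θ ^ m' ∈ R⁰ := pow_mem hθ _
  have key := unit_comb_eq hP hΘ u₁ u₂ v₁ v₂ s₁ s₂
    (by rw [← pow_mul, ← pow_mul]; exact h₁) (by rw [← pow_mul, ← pow_mul]; exact h₂)
  have key' := congrArg (residue R) key
  simp only [map_mul, map_pow] at key'
  set a₁ := residue R (u₁ : R) with ha₁
  set a₂ := residue R (u₂ : R) with ha₂
  set b₁ := residue R (v₁ : R) with hb₁
  set b₂ := residue R (v₂ : R) with hb₂
  have ha₁0 : a₁ ≠ 0 := (u₁.isUnit.map (residue R)).ne_zero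
  have ha₂0 : a₂ ≠ 0 := (u₂.isUnit.map (residue R)).ne_zero
  have hb₁0 : b₁ ≠ 0 := (v₁.isUnit.map (residue R)).ne_zero
  have hb₂0 : b₂ ≠ 0 := (v₂.isUnit.map (residue R)).ne_zero
  -- X = a₁^s₂ / a₂^s₁ = b₁^s₂ / b₂^s₁
  have hX : a₁ ^ s₂ * (a₂ ^ s₁)⁻¹ = b₁ ^ s₂ * (b₂ ^ s₁)⁻¹ := by
    field_simp
    linear_combination key'
  -- rewrite both sides
  have hL : ((-1 : ResidueField R) ^ (k' * s₁ * (k' * s₂)) * a₁ ^ (k' * s₂) *
      (a₂ ^ (k' * s₁))⁻¹) ^ (m' * d) =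
      (-1) ^ (k' * (k' * m' * d) * (s₁ * s₂)) * (a₁ ^ s₂ * (a₂ ^ s₁)⁻¹) ^ (k' * m' * d) := by
    have e1 : k' * s₁ * (k' * s₂) * (m' * d) = k' * (k' * m' * d) * (s₁ * s₂) := by ring
    have e2 : k' * s₂ * (m' * d) = s₂ * (k' * m' * d) := by ring
    have e3 : k' * s₁ * (m' * d) = s₁ * (k' * m' * d) := by ring
    rw [mul_pow, mul_pow, mul_pow, inv_pow, inv_pow, ← pow_mul, ← pow_mul, ← pow_mul, ← pow_mul,
      ← pow_mul, e1, e2, e3, mul_assoc]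
  have hR : ((-1 : ResidueField R) ^ (m' * s₁ * (m' * s₂)) * b₁ ^ (m' * s₂) *
      (b₂ ^ (m' * s₁))⁻¹) ^ (k' * d) =
      (-1) ^ (m' * (k' * m' * d) * (s₁ * s₂)) * (b₁ ^ s₂ * (b₂ ^ s₁)⁻¹) ^ (k' * m' * d) := by
    have e1 : m' * s₁ * (m' * s₂) * (k' * d) = m' * (k' * m' * d) * (s₁ * s₂) := by ring
    have e2 : m' * s₂ * (k' * d) = s₂ * (k' * m' * d) := by ring
    have e3 : m' * s₁ * (k' * d) = s₁ * (k' * m' * d) := by ring
    rw [mul_pow, mul_pow, mul_pow, inv_pow, inv_pow, ← pow_mul, ← pow_mul, ← pow_mul, ← pow_mul,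
      ← pow_mul, e1, e2, e3, mul_assoc]
  rw [hL, hR, hX]
  congr 1
  rw [pow_mul, pow_mul (-1 : ResidueField R) (m' * (k' * m' * d)), neg_one_pow_eq_pow_mod_two,
    parity_aux k' m' d, ← neg_one_pow_eq_pow_mod_two]

end localcmp

section LFdef

variable (A : Type u) [CommRing A] [IsLocalRing A] (L : Type u) [CommRing L] [IsLocalRing L]
  [Algebra A L] [IsLocalHom (algebraMap A L)]

/-- the unit of the residue field entering the local tame factor. -/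
noncomputable def tameUnit (u₁ u₂ : Lˣ) (e₁ e₂ : ℕ) : ResidueField L :=
  (-1 : ResidueField L) ^ (e₁ * e₂) * residue L (u₁ : L) ^ e₂ * (residue L (u₂ : L) ^ e₁)⁻¹

/-- local tame factor. -/
noncomputable def LF (π : L) (u₁ u₂ : Lˣ) (e₁ e₂ : ℕ) : ResidueField A :=
  (Algebra.norm (ResidueField A) (tameUnit L u₁ u₂ e₁ e₂)) ^ (Ring.ord L π).toNat

variable {L}

omit [IsLocalRing L] in
theorem ord_unit_mul_pow {π : L} (hπ : π ∈ L⁰) (u : Lˣ) (e : ℕ) :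
    (Ring.ord L ((u : L) * π ^ e)).toNat = e * (Ring.ord L π).toNat := by
  rw [Ring.ord_mul_of_isUnit_left u.isUnit, Ring.ord_pow hπ, nsmul_eq_mul, ENat.toNat_mul,
    ENat.toNat_natCast]

theorem LF_eq_of_fac {π θ : L} (hπ : π ∈ L⁰) (hθ : θ ∈ L⁰) (u₁ u₂ v₁ v₂ : Lˣ)
    (e₁ e₂ f₁ f₂ : ℕ)
    (h₁ : (u₁ : L) * π ^ e₁ = v₁ * θ ^ f₁) (h₂ : (u₂ : L) * π ^ e₂ = v₂ * θ ^ f₂) :
    LF A L π u₁ u₂ e₁ e₂ = LF A L θ v₁ v₂ f₁ f₂ := by
  have hm₁ : e₁ * (Ring.ord L π).toNat = f₁ * (Ring.ord L θ).toNat := by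
    rw [← ord_unit_mul_pow hπ u₁, ← ord_unit_mul_pow hθ v₁, h₁]
  have hm₂ : e₂ * (Ring.ord L π).toNat = f₂ * (Ring.ord L θ).toNat := by
    rw [← ord_unit_mul_pow hπ u₂, ← ord_unit_mul_pow hθ v₂, h₂]
  have key := local_value_eq hπ hθ u₁ u₂ v₁ v₂ e₁ e₂ f₁ f₂ _ _ h₁ h₂ hm₁ hm₂
  unfold LF tameUnit
  rw [← map_pow (Algebra.norm (ResidueField A)) _ (Ring.ord L π).toNat,
    ← map_pow (Algebra.norm (ResidueField A)) _ (Ring.ord L θ).toNat, key]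

end LFdef

end Groth.Agent.Lib.Helper71.Dim1
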