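import Mathlib
import Groth.Agent.Lib.Helper71.Dim1L
import Groth.Agent.Lib.Helper79.LocLength

set_option autoImplicit false
universe u

namespace Groth.Agent.Lib.Helper71.Dim1

open nonZeroDivisors IsLocalRing
open Groth.Agent.Lib.Helper79.LocLength

section sumformula

variable {A : Type u} [CommRing A] [IsLocalRing A] {T : Type u} [CommRing T] [Algebra A T]
  [hloc : ∀ q : MaximalSpectrum T, IsLocalHom (algebraMap A (Localization.AtPrime q.asIdeal))]

/-- residue degree at a maximal ideal, as an element of `ℕ∞`. -/
noncomputable def resDeg (A : Type u) [CommRing A] [IsLocalRing A] {T : Type u} [CommRing T]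
    [Algebra A T]
    [∀ q : MaximalSpectrum T, IsLocalHom (algebraMap A (Localization.AtPrime q.asIdeal))]
    (q : MaximalSpectrum T) : ℕ∞ :=
  Module.length (ResidueField A) (ResidueField (Localization.AtPrime q.asIdeal))

/-- `ℓ_A(T/q) = [κ(q) : κ]`. -/
theorem length_quot_maximal (q : MaximalSpectrum T) :
    Module.length A (T ⧸ q.asIdeal) = resDeg A q := by
  have hq : q.asIdeal.IsMaximal := q.isMaximal
  let e := IsLocalization.AtPrime.equivQuotMaximalIdeal q.asIdeal (Localization.AtPrime q.asIdeal)
  have hsm : ∀ (a : A) (x : T ⧸ q.asIdeal),
      (e (a • x) : ResidueField (Localization.AtPrime q.asIdeal)) =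
        a • (e x : ResidueField (Localization.AtPrime q.asIdeal)) := by
    intro a x
    obtain ⟨x, rfl⟩ := Ideal.Quotient.mk_surjective x
    rw [Algebra.smul_def, Algebra.smul_def, map_mul]
    congr 1
  let e' : (T ⧸ q.asIdeal) ≃ₗ[A] ResidueField (Localization.AtPrime q.asIdeal) :=
    { toFun := fun x => e x
      invFun := fun y => e.symm y
      left_inv := e.left_inv
      right_inv := e.right_inv
      map_add' := map_add e
      map_smul' := hsm }
  rw [e'.length_eq]
  unfold resDeg
  exact Module.length_eq_of_surjective (M := ResidueField (Localization.AtPrime q.asIdeal))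
    (residue_surjective (R := A))

variable [Fintype (MaximalSpectrum T)]

/-- **Sum formula**: the `A`-length of a finite length `T`-module is the sum of the local lengths
weighted by the residue degrees. -/
theorem length_eq_sum_localized (M : Type u) [AddCommGroup M] [Module T M] [Module A M]
    [IsScalarTower A T M] (hM : IsFiniteLength T M) :
    Module.length A M = ∑ q : MaximalSpectrum T, resDeg A q *
      Module.length (Localization.AtPrime q.asIdeal)
        (LocalizedModule q.asIdeal.primeCompl M) := by
  classical
  obtain ⟨s, hs_bot, hs_top⟩ := isFiniteLength_iff_exists_compositionSeries.mp hM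
  have key : ∀ i : Fin (s.length + 1), Module.length A (s i) =
      ∑ q : MaximalSpectrum T, resDeg A q *
        Module.length (Localization.AtPrime q.asIdeal)
          (LocalizedModule q.asIdeal.primeCompl (s i)) := by
    intro i
    induction i using Fin.induction with
    | zero =>
      have h0 : s 0 = ⊥ := hs_bot
      rw [h0]
      have : Subsingleton (⊥ : Submodule T M) := inferInstance
      rw [Module.length_eq_zero]
      symm
      apply Finset.sum_eq_zero
      intro q _
      rw [Module.length_eq_zero, mul_zero]
    | succ i IH =>
      have hstep : s i.castSucc ⋖ s i.succ := s.step i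
      rw [length_covBy_of_tower (A := A) hstep, IH]
      have hsimple : IsSimpleModule T (↥(s i.succ) ⧸ Submodule.comap (s i.succ).subtype (s i.castSucc)) :=
        (covBy_iff_quot_is_simple hstep.le).mp hstep
      obtain ⟨I, hI, ⟨e⟩⟩ := isSimpleModule_iff_quot_maximal.mp hsimple
      have hIann : (s i.castSucc).colon ((s i.succ : Submodule T M) : Set M) = I := by
        rw [← annihilator_quot_eq_colon, e.annihilator_eq, Ideal.annihilator_quotient]
      have hlenQ : Module.length A (↥(s i.succ) ⧸ Submodule.comap (s i.succ).subtype (s i.castSucc)) =
          resDeg A (⟨I, hI⟩ : MaximalSpectrum T) := by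
        rw [(e.restrictScalars A).length_eq]
        exact length_quot_maximal (A := A) (⟨I, hI⟩ : MaximalSpectrum T)
      rw [hlenQ]
      have hq : ∀ q : MaximalSpectrum T,
          Module.length (Localization.AtPrime q.asIdeal)
            (LocalizedModule q.asIdeal.primeCompl (s i.succ)) =
          Module.length (Localization.AtPrime q.asIdeal)
            (LocalizedModule q.asIdeal.primeCompl (s i.castSucc)) +
            if q = (⟨I, hI⟩ : MaximalSpectrum T) then 1 else 0 := by
        intro q
        have hqm : q.asIdeal.IsMaximal := q.isMaximal
        rw [length_localized_covBy q.asIdeal hstep, hIann]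
        congr 1
        by_cases h : q = (⟨I, hI⟩ : MaximalSpectrum T)
        · subst h; simp
        · rw [if_neg h, if_neg]
          intro h'
          exact h (MaximalSpectrum.ext h'.symm)
      simp_rw [hq, mul_add, Finset.sum_add_distrib]
      congr 1
      simp
  have hlast : s (Fin.last s.length) = ⊤ := hs_top
  have h1 := key (Fin.last s.length)
  rw [hlast] at h1
  rw [← ((Submodule.topEquiv (R := T) (M := M)).restrictScalars A).length_eq, h1]
  apply Finset.sum_congr rfl
  intro q _
  congr 1
  exact (IsLocalizedModule.mapEquiv q.asIdeal.primeCompl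
    (LocalizedModule.mkLinearMap q.asIdeal.primeCompl (⊤ : Submodule T M))
    (LocalizedModule.mkLinearMap q.asIdeal.primeCompl M) (Localization.AtPrime q.asIdeal)
    (Submodule.topEquiv (R := T) (M := M))).length_eq

end sumformula

section ordloc

variable {T : Type u} [CommRing T]

theorem length_localized_quot_span (q : Ideal T) [q.IsPrime] (y : T) :
    Module.length (Localization.AtPrime q) (LocalizedModule q.primeCompl (T ⧸ Ideal.span {y})) =
      Ring.ord (Localization.AtPrime q) (algebraMap T (Localization.AtPrime q) y) := by
  have hc := IsLocalization.linearMap_compatibleSMul q.primeCompl (Localization.AtPrime q)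
    (Localization.AtPrime q ⧸ (Ideal.span {y}).localized' (Localization.AtPrime q) q.primeCompl
      (Algebra.linearMap T (Localization.AtPrime q)))
    (LocalizedModule q.primeCompl (T ⧸ Ideal.span {y}))
  let e := (IsLocalizedModule.linearEquiv q.primeCompl
    ((Ideal.span {y}).toLocalizedQuotient' (Localization.AtPrime q) q.primeCompl
      (Algebra.linearMap T (Localization.AtPrime q)))
    (LocalizedModule.mkLinearMap q.primeCompl (T ⧸ Ideal.span {y}))).restrictScalars
      (Localization.AtPrime q)
  rw [← e.length_eq]
  unfold Ring.ord
  have hI : (Ideal.span {y}).localized' (Localization.AtPrime q) q.primeCompl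
      (Algebra.linearMap T (Localization.AtPrime q)) =
      Ideal.span {algebraMap T (Localization.AtPrime q) y} := by
    rw [Ideal.localized'_eq_map, Ideal.map_span, Set.image_singleton]
  exact (Submodule.quotEquivOfEq _ _ hI).length_eq

end ordloc

section sumord

variable {A : Type u} [CommRing A] [IsLocalRing A] {T : Type u} [CommRing T] [Algebra A T]
  [hloc : ∀ q : MaximalSpectrum T, IsLocalHom (algebraMap A (Localization.AtPrime q.asIdeal))]
  [Fintype (MaximalSpectrum T)]

theorem length_quot_eq_sum_ord (y : T) (hfin : Module.length A (T ⧸ Ideal.span {y}) ≠ ⊤) :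
    Module.length A (T ⧸ Ideal.span {y}) = ∑ q : MaximalSpectrum T, resDeg A q *
      Ring.ord (Localization.AtPrime q.asIdeal)
        (algebraMap T (Localization.AtPrime q.asIdeal) y) := by
  have hT : IsFiniteLength T (T ⧸ Ideal.span {y}) := by
    rw [Module.length_ne_top_iff] at hfin
    rw [isFiniteLength_iff_isNoetherian_isArtinian] at hfin ⊢
    exact ⟨isNoetherian_of_tower A hfin.1, isArtinian_of_tower A hfin.2⟩
  rw [length_eq_sum_localized (A := A) (T ⧸ Ideal.span {y}) hT]
  apply Finset.sum_congr rfl
  intro q _
  have : q.asIdeal.IsPrime := q.isMaximal.isPrime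
  rw [length_localized_quot_span]

end sumord

end Groth.Agent.Lib.Helper71.Dim1
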