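import Mathlib
import Groth.Agent.Lib.Helper71.Dim1M

set_option autoImplicit false
universe u

namespace Groth.Agent.Lib.Helper71.Dim1

open nonZeroDivisors IsLocalRing

section localhom

variable {A : Type u} [CommRing A] [IsLocalRing A] {T : Type u} [CommRing T] [Algebra A T]

theorem comap_eq_maximalIdeal_of_isIntegral [Algebra.IsIntegral A T] (q : Ideal T)
    [hq : q.IsMaximal] : q.comap (algebraMap A T) = maximalIdeal A :=
  eq_maximalIdeal (Ideal.isMaximal_comap_of_isIntegral_of_isMaximal q)

theorem algebraMap_mem_of_mem_maximalIdeal [Algebra.IsIntegral A T] (q : Ideal T)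
    [hq : q.IsMaximal] {a : A} (ha : a ∈ maximalIdeal A) : algebraMap A T a ∈ q := by
  rw [← comap_eq_maximalIdeal_of_isIntegral q] at ha
  exact ha

theorem isLocalHom_of_isIntegral [Algebra.IsIntegral A T] (q : Ideal T) [hq : q.IsMaximal] :
    IsLocalHom (algebraMap A (Localization.AtPrime q)) := by
  constructor
  intro a ha
  by_contra hau
  have ham : a ∈ maximalIdeal A := (IsLocalRing.mem_maximalIdeal a).2 hau
  have h1 : algebraMap A T a ∈ q := algebraMap_mem_of_mem_maximalIdeal q ham
  rw [IsScalarTower.algebraMap_apply A T (Localization.AtPrime q)] at ha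
  have h2 : algebraMap T (Localization.AtPrime q) (algebraMap A T a) ∈
      maximalIdeal (Localization.AtPrime q) := by
    rw [IsLocalization.AtPrime.to_map_mem_maximal_iff (Localization.AtPrime q) q]
    exact h1
  exact ((IsLocalRing.mem_maximalIdeal _).1 h2) ha

end localhom

section isolate

variable {A : Type u} [CommRing A] [IsLocalRing A] {B : Type u} [CommRing B] [Algebra A B]

/-- an element which is `γ` up to a unit at `q` and a unit at every other maximal ideal. -/
theorem exists_isolating_element (hArt : ∀ γ ∈ A⁰, IsArtinianRing (A ⧸ Ideal.span {γ}))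
    [Module.Finite A B] (γ : A) (hγ : γ ∈ A⁰) (hγm : γ ∈ maximalIdeal A)
    (q : Ideal B) [hq : q.IsMaximal] :
    ∃ b r s : B, (∀ q' : Ideal B, q'.IsMaximal → q' ≠ q → b ∉ q') ∧ r ∉ q ∧ s ∉ q ∧
      r * b = algebraMap A B γ * s := by
  have hint : Algebra.IsIntegral A B := Algebra.IsIntegral.of_finite A B
  set I : Ideal B := Ideal.span {algebraMap A B γ} with hI
  have hIq : ∀ q' : Ideal B, q'.IsMaximal → I ≤ q' := by
    intro q' hq'
    rw [hI, Ideal.span_singleton_le_iff_mem]
    exact algebraMap_mem_of_mem_maximalIdeal q' hγm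
  -- the quotient is an Artinian ring
  have hfl : Module.length A (B ⧸ I) ≠ ⊤ := by
    apply length_ne_top_of_smul_eq_zero γ (hArt γ hγ)
    intro x
    obtain ⟨x, rfl⟩ := Ideal.Quotient.mk_surjective x
    rw [← Ideal.Quotient.mk_eq_mk, ← Submodule.Quotient.mk_smul, Submodule.Quotient.mk_eq_zero,
      Algebra.smul_def]
    exact Ideal.mul_mem_right _ _ (Ideal.subset_span rfl)
  have hart : IsArtinianRing (B ⧸ I) := by
    rw [Module.length_ne_top_iff, isFiniteLength_iff_isNoetherian_isArtinian] at hfl
    exact isArtinian_of_tower A hfl.2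
  have hsurj : Function.Surjective (Ideal.Quotient.mk I) := Ideal.Quotient.mk_surjective
  have hker : RingHom.ker (Ideal.Quotient.mk I) = I := Ideal.mk_ker
  have hprime : ∀ q' : Ideal B, q'.IsMaximal → (q'.map (Ideal.Quotient.mk I)).IsPrime := by
    intro q' hq'
    have := hq'.isPrime
    exact Ideal.map_isPrime_of_surjective hsurj (by rw [hker]; exact hIq q' hq')
  have hmem : ∀ q' : Ideal B, q'.IsMaximal → ∀ x : B,
      Ideal.Quotient.mk I x ∈ q'.map (Ideal.Quotient.mk I) → x ∈ q' := by
    intro q' hq' x hx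
    obtain ⟨y, hy, hxy⟩ := (Ideal.mem_map_iff_of_surjective _ hsurj).1 hx
    have : x - y ∈ I := by
      rw [← Ideal.Quotient.eq_zero_iff_mem, map_sub, hxy, sub_self]
    have h2 := q'.add_mem (hIq q' hq' this) hy
    rwa [sub_add_cancel] at h2
  have hp := hprime q hq
  obtain ⟨rbar, hrq, hidem, hrother⟩ :=
    IsArtinianRing.exists_not_mem_forall_mem_of_ne (q.map (Ideal.Quotient.mk I))
  obtain ⟨r, rfl⟩ := hsurj rbar
  have hr : r ∉ q := fun h => hrq (Ideal.mem_map_of_mem _ h)
  have hc : 1 - r ∈ q := by
    apply hmem q hq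
    have h0 : Ideal.Quotient.mk I r * Ideal.Quotient.mk I (1 - r) ∈
        q.map (Ideal.Quotient.mk I) := by
      rw [map_sub, map_one, mul_sub, mul_one, hidem.eq, sub_self]
      exact Ideal.zero_mem _
    exact (hp.mem_or_mem h0).resolve_left hrq
  have hrc : r * (1 - r) ∈ I := by
    rw [← Ideal.Quotient.eq_zero_iff_mem, map_mul, map_sub, map_one, mul_sub, mul_one, hidem.eq,
      sub_self]
  obtain ⟨t, ht⟩ := Ideal.mem_span_singleton'.1 hrc
  refine ⟨algebraMap A B γ + (1 - r) ^ 2, r, r + t * (1 - r), ?_, hr, ?_, ?_⟩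
  · intro q' hq' hne hb
    have hp' := hprime q' hq'
    have hrq' : r ∈ q' := by
      apply hmem q' hq'
      apply hrother _ hp'
      intro heq
      apply hne
      apply le_antisymm
      · intro x hx
        apply hmem q hq
        rw [← heq]
        exact Ideal.mem_map_of_mem _ hx
      · intro x hx
        apply hmem q' hq'
        rw [heq]
        exact Ideal.mem_map_of_mem _ hx
    have hγq' : algebraMap A B γ ∈ q' := algebraMap_mem_of_mem_maximalIdeal q' hγm
    have h2 : (1 - r) ^ 2 ∈ q' := by
      have := q'.sub_mem hb hγq'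
      rwa [add_sub_cancel_left] at this
    have h3 : 1 - r ∈ q' := hq'.isPrime.mem_of_pow_mem _ h2
    have h4 : (1 : B) ∈ q' := by
      have := q'.add_mem h3 hrq'
      rwa [sub_add_cancel] at this
    exact hq'.ne_top ((Ideal.eq_top_iff_one q').2 h4)
  · intro hs
    apply hr
    have := q.sub_mem hs (q.mul_mem_left t hc)
    rwa [add_sub_cancel_right] at this
  · calc r * (algebraMap A B γ + (1 - r) ^ 2)
        = algebraMap A B γ * r + (r * (1 - r)) * (1 - r) := by ring
      _ = algebraMap A B γ * r + (t * algebraMap A B γ) * (1 - r) := by rw [ht]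
      _ = algebraMap A B γ * (r + t * (1 - r)) := by ring

end isolate

section ordhelpers

variable {T : Type u} [CommRing T]

theorem ord_eq_zero_of_notMem (k : Ideal T) [hk : k.IsPrime] {x : T} (hx : x ∉ k) :
    Ring.ord (Localization.AtPrime k) (algebraMap T (Localization.AtPrime k) x) = 0 :=
  Ring.ord_of_isUnit (IsLocalization.map_units (M := k.primeCompl) _ ⟨x, hx⟩)

theorem ord_eq_of_mul_eq (k : Ideal T) [hk : k.IsPrime] {b g r s : T} (hr : r ∉ k) (hs : s ∉ k)
    (h : r * b = g * s) :
    Ring.ord (Localization.AtPrime k) (algebraMap T (Localization.AtPrime k) b) =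
      Ring.ord (Localization.AtPrime k) (algebraMap T (Localization.AtPrime k) g) := by
  have hur : IsUnit (algebraMap T (Localization.AtPrime k) r) :=
    IsLocalization.map_units (M := k.primeCompl) _ ⟨r, hr⟩
  have hus : IsUnit (algebraMap T (Localization.AtPrime k) s) :=
    IsLocalization.map_units (M := k.primeCompl) _ ⟨s, hs⟩
  have h' := congrArg (algebraMap T (Localization.AtPrime k)) h
  rw [map_mul, map_mul] at h'
  rw [← Ring.ord_mul_of_isUnit_left hur, h', Ring.ord_mul_of_isUnit_right hus]

end ordhelpers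

section fibresum

variable {A : Type u} [CommRing A] [IsLocalRing A] {B : Type u} [CommRing B] [Algebra A B]
  {C : Type u} [CommRing C] [Algebra A C] [Algebra B C] [IsScalarTower A B C]
  [hlocB : ∀ q : MaximalSpectrum B, IsLocalHom (algebraMap A (Localization.AtPrime q.asIdeal))]
  [hlocC : ∀ k : MaximalSpectrum C, IsLocalHom (algebraMap A (Localization.AtPrime k.asIdeal))]
  [Fintype (MaximalSpectrum B)] [Fintype (MaximalSpectrum C)]

open Classical in
/-- **Fibre formula** for the order of an element of `A` along `B → C`. -/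
theorem ord_sum_fibre (hArt : ∀ γ ∈ A⁰, IsArtinianRing (A ⧸ Ideal.span {γ}))
    (hAB : IsBir A B) (hBC : IsBir B C) (γ : A) (hγ : γ ∈ A⁰) (hγm : γ ∈ maximalIdeal A)
    (q : MaximalSpectrum B) :
    resDeg A q * Ring.ord (Localization.AtPrime q.asIdeal)
        (algebraMap A (Localization.AtPrime q.asIdeal) γ) =
      ∑ k : MaximalSpectrum C,
        if k.asIdeal.comap (algebraMap B C) = q.asIdeal then
          resDeg A k * Ring.ord (Localization.AtPrime k.asIdeal)
            (algebraMap A (Localization.AtPrime k.asIdeal) γ)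
        else 0 := by
  have hfinB := hAB.finite
  have hAC : IsBir A C := hAB.trans hBC
  have hfinC := hAC.finite
  have hfinBC := hBC.finite
  have hintBC : Algebra.IsIntegral B C := Algebra.IsIntegral.of_finite B C
  have hqm : q.asIdeal.IsMaximal := q.isMaximal
  obtain ⟨b, r, s, hbq', hr, hs, hrb⟩ := exists_isolating_element hArt γ hγ hγm q.asIdeal
  -- b is a nonzerodivisor of B
  have hγB : algebraMap A B γ ∈ B⁰ := hAB.nzd γ hγ
  have hb : b ∈ B⁰ := by
    rw [mem_nonZeroDivisors_iff_right]
    intro x hx
    by_contra hx0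
    have hsx : x * s = 0 := by
      have h1 : x * (algebraMap A B γ * s) = 0 := by
        rw [← hrb, ← mul_assoc, mul_comm x r, mul_assoc, hx, mul_zero]
      have h2 : x * s * algebraMap A B γ = 0 := by rw [← h1]; ring
      exact (mem_nonZeroDivisors_iff_right.1 hγB) _ h2
    -- annihilator of x is proper
    have hann : (Ideal.span {x}).annihilator ≠ ⊤ := by
      intro h
      have : (1 : B) ∈ (Ideal.span {x}).annihilator := by rw [h]; trivial
      rw [Submodule.mem_annihilator_span_singleton, one_smul] at this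
      exact hx0 this
    obtain ⟨n, hn, hle⟩ := Ideal.exists_le_maximal _ hann
    have hsn : s ∈ n := hle (by
      rw [Submodule.mem_annihilator_span_singleton, smul_eq_mul, mul_comm]; exact hsx)
    have hbn : b ∈ n := hle (by
      rw [Submodule.mem_annihilator_span_singleton, smul_eq_mul, mul_comm]; exact hx)
    have hnq : n ≠ q.asIdeal := fun h => hs (h ▸ hsn)
    exact hbq' n hn hnq hbn
  -- lengths
  have hlen := length_quot_eq_of_isBir hArt hAB hBC b hb
  have hflB : Module.length A (B ⧸ Ideal.span {b}) ≠ ⊤ := hAB.FL hArt b hb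
  have hflC : Module.length A (C ⧸ Ideal.span {algebraMap B C b}) ≠ ⊤ := by rw [hlen]; exact hflB
  rw [length_quot_eq_sum_ord (A := A) b hflB,
    length_quot_eq_sum_ord (A := A) (algebraMap B C b) hflC] at hlen
  -- the B side
  have hBside : ∑ q' : MaximalSpectrum B, resDeg A q' *
      Ring.ord (Localization.AtPrime q'.asIdeal) (algebraMap B (Localization.AtPrime q'.asIdeal) b) =
      resDeg A q * Ring.ord (Localization.AtPrime q.asIdeal)
        (algebraMap A (Localization.AtPrime q.asIdeal) γ) := by
    rw [Finset.sum_eq_single q]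
    · have : q.asIdeal.IsPrime := hqm.isPrime
      rw [ord_eq_of_mul_eq q.asIdeal hr hs hrb,
        ← IsScalarTower.algebraMap_apply A B (Localization.AtPrime q.asIdeal)]
    · intro q' _ hne
      have hq'm : q'.asIdeal.IsMaximal := q'.isMaximal
      have : q'.asIdeal.IsPrime := hq'm.isPrime
      have hne' : q'.asIdeal ≠ q.asIdeal := fun h => hne (MaximalSpectrum.ext h)
      rw [ord_eq_zero_of_notMem q'.asIdeal (hbq' q'.asIdeal hq'm hne'), mul_zero]
    · intro h; exact absurd (Finset.mem_univ q) h
  rw [hBside] at hlen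
  rw [← hlen]
  apply Finset.sum_congr rfl
  intro k _
  have hkm : k.asIdeal.IsMaximal := k.isMaximal
  have hkp : k.asIdeal.IsPrime := hkm.isPrime
  have hcm : (k.asIdeal.comap (algebraMap B C)).IsMaximal :=
    Ideal.isMaximal_comap_of_isIntegral_of_isMaximal k.asIdeal
  split_ifs with hk
  · have hr' : algebraMap B C r ∉ k.asIdeal := fun h => hr (hk ▸ h)
    have hs' : algebraMap B C s ∉ k.asIdeal := fun h => hs (hk ▸ h)
    have hrb' : algebraMap B C r * algebraMap B C b =
        algebraMap B C (algebraMap A B γ) * algebraMap B C s := by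
      rw [← map_mul, ← map_mul, hrb]
    rw [ord_eq_of_mul_eq k.asIdeal hr' hs' hrb',
      ← IsScalarTower.algebraMap_apply A B C,
      ← IsScalarTower.algebraMap_apply A C (Localization.AtPrime k.asIdeal)]
  · have hb' : algebraMap B C b ∉ k.asIdeal := fun h => hbq' _ hcm hk h
    rw [ord_eq_zero_of_notMem k.asIdeal hb', mul_zero]

end fibresum

end Groth.Agent.Lib.Helper71.Dim1
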