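import Mathlib
import Groth.Agent.Lib.Helper71.Dim1N

set_option autoImplicit false
universe u

namespace Groth.Agent.Lib.Helper71.Dim1

open nonZeroDivisors IsLocalRing

section resfinite

variable {A : Type u} [CommRing A] [IsLocalRing A] {T : Type u} [CommRing T] [Algebra A T]

theorem finite_residueField_of_finite [Module.Finite A T] (q : Ideal T) [hq : q.IsMaximal]
    [IsLocalHom (algebraMap A (Localization.AtPrime q))] :
    Module.Finite (ResidueField A) (ResidueField (Localization.AtPrime q)) := by
  have hsurj : Function.Surjective
      (IsScalarTower.toAlgHom A T (ResidueField (Localization.AtPrime q))).toLinearMap := by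
    intro y
    let e := IsLocalization.AtPrime.equivQuotMaximalIdeal q (Localization.AtPrime q)
    obtain ⟨xbar, hx⟩ := e.surjective y
    obtain ⟨x, rfl⟩ := Ideal.Quotient.mk_surjective xbar
    refine ⟨x, ?_⟩
    rw [← hx]
    rfl
  have : Module.Finite A (ResidueField (Localization.AtPrime q)) :=
    Module.Finite.of_surjective _ hsurj
  exact Module.Finite.of_restrictScalars_finite A (ResidueField A)
    (ResidueField (Localization.AtPrime q))

end resfinite

section single

variable {A : Type u} [CommRing A] [IsLocalRing A] {B : Type u} [CommRing B] [Algebra A B]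
  {C : Type u} [CommRing C] [Algebra A C] [Algebra B C] [IsScalarTower A B C]
  (q : Ideal B) [hq : q.IsMaximal] (k : Ideal C) [hk : k.IsMaximal] [hkq : k.LiesOver q]
  [hlq : IsLocalHom (algebraMap A (Localization.AtPrime q))]
  [hlk : IsLocalHom (algebraMap A (Localization.AtPrime k))]

attribute [local instance] Localization.AtPrime.algebraOfLiesOver

theorem tameUnit_map (u₁ u₂ : (Localization.AtPrime q)ˣ) (e₁ e₂ : ℕ) :
    tameUnit (Localization.AtPrime k)
      (Units.map (algebraMap (Localization.AtPrime q) (Localization.AtPrime k) : _ →* _) u₁)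
      (Units.map (algebraMap (Localization.AtPrime q) (Localization.AtPrime k) : _ →* _) u₂) e₁ e₂ =
    algebraMap (ResidueField (Localization.AtPrime q)) (ResidueField (Localization.AtPrime k))
      (tameUnit (Localization.AtPrime q) u₁ u₂ e₁ e₂) := by
  unfold tameUnit
  rw [map_mul, map_mul, map_pow, map_neg, map_one, map_inv₀, map_pow, map_pow,
    ResidueField.algebraMap_residue, ResidueField.algebraMap_residue]
  rfl

theorem LF_map (π : Localization.AtPrime q) (u₁ u₂ : (Localization.AtPrime q)ˣ) (e₁ e₂ : ℕ) :
    LF A (Localization.AtPrime k)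
      (algebraMap (Localization.AtPrime q) (Localization.AtPrime k) π)
      (Units.map (algebraMap (Localization.AtPrime q) (Localization.AtPrime k) : _ →* _) u₁)
      (Units.map (algebraMap (Localization.AtPrime q) (Localization.AtPrime k) : _ →* _) u₂) e₁ e₂ =
    (Algebra.norm (ResidueField A) (tameUnit (Localization.AtPrime q) u₁ u₂ e₁ e₂)) ^
      (Module.finrank (ResidueField (Localization.AtPrime q))
          (ResidueField (Localization.AtPrime k)) *
        (Ring.ord (Localization.AtPrime k)
          (algebraMap (Localization.AtPrime q) (Localization.AtPrime k) π)).toNat) := by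
  unfold LF
  rw [tameUnit_map, ← Algebra.norm_norm (S := ResidueField (Localization.AtPrime q)),
    Algebra.norm_algebraMap, map_pow, ← pow_mul]

theorem resDeg_tower [Module.Finite A B] [Module.Finite A C] :
    Module.length (ResidueField A) (ResidueField (Localization.AtPrime k)) =
      Module.length (ResidueField A) (ResidueField (Localization.AtPrime q)) *
        (Module.finrank (ResidueField (Localization.AtPrime q))
          (ResidueField (Localization.AtPrime k)) : ℕ∞) := by
  have h1 := finite_residueField_of_finite (A := A) q
  have h2 := finite_residueField_of_finite (A := A) k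
  have h3 : Module.Finite (ResidueField (Localization.AtPrime q))
      (ResidueField (Localization.AtPrime k)) :=
    Module.Finite.of_restrictScalars_finite (ResidueField A) _ _
  rw [Module.length_eq_finrank, Module.length_eq_finrank, ← Nat.cast_mul,
    Module.finrank_mul_finrank]

end single

section ordfinite

variable {A : Type u} [CommRing A] [IsLocalRing A] {B : Type u} [CommRing B] [Algebra A B]
  [hlocB : ∀ q : MaximalSpectrum B, IsLocalHom (algebraMap A (Localization.AtPrime q.asIdeal))]
  [Fintype (MaximalSpectrum B)]

omit [Fintype (MaximalSpectrum B)] in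
theorem resDeg_ne_zero [Module.Finite A B] (q : MaximalSpectrum B) : resDeg A q ≠ 0 := by
  unfold resDeg
  have : q.asIdeal.IsMaximal := q.isMaximal
  have h1 := finite_residueField_of_finite (A := A) q.asIdeal
  rw [Module.length_eq_finrank]
  have : 0 < Module.finrank (ResidueField A) (ResidueField (Localization.AtPrime q.asIdeal)) :=
    Module.finrank_pos
  exact_mod_cast this.ne'

omit [Fintype (MaximalSpectrum B)] in
theorem resDeg_ne_top [Module.Finite A B] (q : MaximalSpectrum B) : resDeg A q ≠ ⊤ := by
  unfold resDeg
  have : q.asIdeal.IsMaximal := q.isMaximal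
  have h1 := finite_residueField_of_finite (A := A) q.asIdeal
  rw [Module.length_eq_finrank]
  exact ENat.natCast_ne_top _

theorem ord_algebraMap_ne_top (hArt : ∀ γ ∈ A⁰, IsArtinianRing (A ⧸ Ideal.span {γ}))
    (hAB : IsBir A B) (γ : A) (hγ : γ ∈ A⁰) (q : MaximalSpectrum B) :
    Ring.ord (Localization.AtPrime q.asIdeal)
      (algebraMap A (Localization.AtPrime q.asIdeal) γ) ≠ ⊤ := by
  have hfin := hAB.finite
  have hfl := hAB.FL hArt (algebraMap A B γ) (hAB.nzd γ hγ)
  rw [length_quot_eq_sum_ord (A := A) _ hfl] at hfl
  intro htop
  apply hfl
  rw [eq_top_iff]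
  calc (⊤ : ℕ∞) = resDeg A q * Ring.ord (Localization.AtPrime q.asIdeal)
        (algebraMap B (Localization.AtPrime q.asIdeal) (algebraMap A B γ)) := by
        rw [← IsScalarTower.algebraMap_apply A B (Localization.AtPrime q.asIdeal), htop,
          ENat.mul_top (resDeg_ne_zero q)]
    _ ≤ _ := Finset.single_le_sum (f := fun q' : MaximalSpectrum B => resDeg A q' *
        Ring.ord (Localization.AtPrime q'.asIdeal)
          (algebraMap B (Localization.AtPrime q'.asIdeal) (algebraMap A B γ)))
        (fun _ _ => zero_le) (Finset.mem_univ q)

end ordfinite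

end Groth.Agent.Lib.Helper71.Dim1
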