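import Mathlib
import Groth.Agent.Lib.Helper71.Dim1O

set_option autoImplicit false
universe u

namespace Groth.Agent.Lib.Helper71.Dim1

open nonZeroDivisors IsLocalRing

section contr

variable (B : Type u) [CommRing B] {C : Type u} [CommRing C] [Algebra B C] [Algebra.IsIntegral B C]

/-- contraction of a maximal ideal along an integral ring map. -/
noncomputable def contr (k : MaximalSpectrum C) : MaximalSpectrum B :=
  ⟨k.asIdeal.comap (algebraMap B C), Ideal.isMaximal_comap_of_isIntegral_of_isMaximal k.asIdeal⟩

instance contr_liesOver (k : MaximalSpectrum C) : k.asIdeal.LiesOver (contr B k).asIdeal := ⟨rfl⟩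

end contr

section refine

variable {A : Type u} [CommRing A] [IsLocalRing A] {B : Type u} [CommRing B] [Algebra A B]
  {C : Type u} [CommRing C] [Algebra A C] [Algebra B C] [IsScalarTower A B C]
  [hlocB : ∀ q : MaximalSpectrum B, IsLocalHom (algebraMap A (Localization.AtPrime q.asIdeal))]
  [hlocC : ∀ k : MaximalSpectrum C, IsLocalHom (algebraMap A (Localization.AtPrime k.asIdeal))]
  [Fintype (MaximalSpectrum B)] [Fintype (MaximalSpectrum C)] [Algebra.IsIntegral B C]

attribute [local instance] Localization.AtPrime.algebraOfLiesOver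

open Classical in
/-- **Refinement lemma**: the local tame factor at `q₀` is the product of the local tame factors of
the induced data at the maximal ideals of `C` over `q₀`. -/
theorem LF_refine (hArt : ∀ γ ∈ A⁰, IsArtinianRing (A ⧸ Ideal.span {γ}))
    (hAB : IsBir A B) (hBC : IsBir B C) (a₁ a₂ : A) (h₁ : a₁ ∈ A⁰) (h₂ : a₂ ∈ A⁰)
    (hm : a₁ * a₂ ∈ maximalIdeal A)
    (π : ∀ q : MaximalSpectrum B, Localization.AtPrime q.asIdeal)
    (hπ : ∀ q, π q ∈ (Localization.AtPrime q.asIdeal)⁰)
    (u₁ u₂ : ∀ q : MaximalSpectrum B, (Localization.AtPrime q.asIdeal)ˣ)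
    (e₁ e₂ : MaximalSpectrum B → ℕ)
    (fac₁ : ∀ q, algebraMap A (Localization.AtPrime q.asIdeal) a₁ = (u₁ q : _) * π q ^ e₁ q)
    (fac₂ : ∀ q, algebraMap A (Localization.AtPrime q.asIdeal) a₂ = (u₂ q : _) * π q ^ e₂ q)
    (q₀ : MaximalSpectrum B) :
    LF A (Localization.AtPrime q₀.asIdeal) (π q₀) (u₁ q₀) (u₂ q₀) (e₁ q₀) (e₂ q₀) =
      ∏ k ∈ Finset.univ.filter (fun k : MaximalSpectrum C => contr B k = q₀),
        LF A (Localization.AtPrime k.asIdeal)
          (algebraMap (Localization.AtPrime (contr B k).asIdeal) (Localization.AtPrime k.asIdeal)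
            (π (contr B k)))
          (Units.map (algebraMap (Localization.AtPrime (contr B k).asIdeal)
            (Localization.AtPrime k.asIdeal) : _ →* _) (u₁ (contr B k)))
          (Units.map (algebraMap (Localization.AtPrime (contr B k).asIdeal)
            (Localization.AtPrime k.asIdeal) : _ →* _) (u₂ (contr B k)))
          (e₁ (contr B k)) (e₂ (contr B k)) := by
  have hfinB := hAB.finite
  have hAC : IsBir A C := hAB.trans hBC
  have hfinC := hAC.finite
  set γ : A := a₁ * a₂ with hγdef
  have hγ : γ ∈ A⁰ := mul_mem h₁ h₂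
  -- factorization of γ
  have facγ : ∀ q : MaximalSpectrum B, algebraMap A (Localization.AtPrime q.asIdeal) γ =
      ((u₁ q * u₂ q : (Localization.AtPrime q.asIdeal)ˣ) : Localization.AtPrime q.asIdeal) *
        π q ^ (e₁ q + e₂ q) := by
    intro q
    rw [hγdef, map_mul, fac₁, fac₂, Units.val_mul, pow_add]; ring
  have ordγ : ∀ q : MaximalSpectrum B, Ring.ord (Localization.AtPrime q.asIdeal)
      (algebraMap A (Localization.AtPrime q.asIdeal) γ) =
      ((e₁ q + e₂ q : ℕ) : ℕ∞) * Ring.ord (Localization.AtPrime q.asIdeal) (π q) := by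
    intro q
    rw [facγ, Ring.ord_mul_of_isUnit_left (Units.isUnit _), Ring.ord_pow (hπ q), nsmul_eq_mul]
  have Epos : ∀ q : MaximalSpectrum B, 0 < e₁ q + e₂ q := by
    intro q
    by_contra h
    have h0 : e₁ q + e₂ q = 0 := by omega
    have hu : IsUnit (algebraMap A (Localization.AtPrime q.asIdeal) γ) := by
      rw [facγ, h0, pow_zero, mul_one]; exact Units.isUnit _
    have hu' : IsUnit γ := IsLocalHom.map_nonunit _ hu
    exact (IsLocalRing.mem_maximalIdeal γ).1 hm hu'
  -- the C side
  have facγC : ∀ k : MaximalSpectrum C, algebraMap A (Localization.AtPrime k.asIdeal) γ =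
      algebraMap (Localization.AtPrime (contr B k).asIdeal) (Localization.AtPrime k.asIdeal)
        ((u₁ (contr B k) * u₂ (contr B k) : (Localization.AtPrime (contr B k).asIdeal)ˣ) :
          Localization.AtPrime (contr B k).asIdeal) *
      (algebraMap (Localization.AtPrime (contr B k).asIdeal) (Localization.AtPrime k.asIdeal)
        (π (contr B k))) ^ (e₁ (contr B k) + e₂ (contr B k)) := by
    intro k
    rw [IsScalarTower.algebraMap_apply A (Localization.AtPrime (contr B k).asIdeal)
      (Localization.AtPrime k.asIdeal), facγ, map_mul, map_pow]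
  have hγC : ∀ k : MaximalSpectrum C,
      algebraMap A (Localization.AtPrime k.asIdeal) γ ∈ (Localization.AtPrime k.asIdeal)⁰ := by
    intro k
    rw [IsScalarTower.algebraMap_apply A C (Localization.AtPrime k.asIdeal)]
    exact IsLocalization.map_nonZeroDivisors_le k.asIdeal.primeCompl
      (Localization.AtPrime k.asIdeal) ⟨_, hAC.nzd γ hγ, rfl⟩
  have hπC : ∀ k : MaximalSpectrum C,
      algebraMap (Localization.AtPrime (contr B k).asIdeal) (Localization.AtPrime k.asIdeal)
        (π (contr B k)) ∈ (Localization.AtPrime k.asIdeal)⁰ := by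
    intro k
    have h := hγC k
    rw [facγC k] at h
    have h2 := (mul_mem_nonZeroDivisors.1 h).2
    obtain ⟨n, hn⟩ : ∃ n, e₁ (contr B k) + e₂ (contr B k) = n + 1 :=
      Nat.exists_eq_succ_of_ne_zero (Epos (contr B k)).ne'
    rw [hn, pow_succ] at h2
    exact (mul_mem_nonZeroDivisors.1 h2).2
  have ordγC : ∀ k : MaximalSpectrum C, Ring.ord (Localization.AtPrime k.asIdeal)
      (algebraMap A (Localization.AtPrime k.asIdeal) γ) =
      ((e₁ (contr B k) + e₂ (contr B k) : ℕ) : ℕ∞) * Ring.ord (Localization.AtPrime k.asIdeal)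
        (algebraMap (Localization.AtPrime (contr B k).asIdeal) (Localization.AtPrime k.asIdeal)
          (π (contr B k))) := by
    intro k
    rw [facγC, Ring.ord_mul_of_isUnit_left ((Units.isUnit _).map _), Ring.ord_pow (hπC k),
      nsmul_eq_mul]
  -- the numerical identity
  have hsum := ord_sum_fibre hArt hAB hBC γ hγ hm q₀
  -- rewrite RHS of hsum as a filtered sum
  have hfilter : (∑ k : MaximalSpectrum C,
        if k.asIdeal.comap (algebraMap B C) = q₀.asIdeal then
          resDeg A k * Ring.ord (Localization.AtPrime k.asIdeal)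
            (algebraMap A (Localization.AtPrime k.asIdeal) γ)
        else 0) =
      ∑ k ∈ Finset.univ.filter (fun k : MaximalSpectrum C => contr B k = q₀),
        resDeg A k * Ring.ord (Localization.AtPrime k.asIdeal)
            (algebraMap A (Localization.AtPrime k.asIdeal) γ) := by
    rw [Finset.sum_filter]
    apply Finset.sum_congr rfl
    intro k _
    have : (k.asIdeal.comap (algebraMap B C) = q₀.asIdeal) ↔ contr B k = q₀ :=
      ⟨fun h => MaximalSpectrum.ext h, fun h => congrArg MaximalSpectrum.asIdeal h⟩
    simp only [this]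
  rw [hfilter] at hsum
  -- natural number version
  set F : ℕ := (resDeg A q₀).toNat with hF
  have hFpos : 0 < F := by
    rw [hF]
    exact ENat.toNat_pos (resDeg_ne_zero q₀) (resDeg_ne_top q₀)
  set m₀ : ℕ := (Ring.ord (Localization.AtPrime q₀.asIdeal) (π q₀)).toNat with hm₀
  let nk : MaximalSpectrum C → ℕ := fun k =>
    Module.finrank (ResidueField (Localization.AtPrime (contr B k).asIdeal))
      (ResidueField (Localization.AtPrime k.asIdeal)) *
    (Ring.ord (Localization.AtPrime k.asIdeal)
      (algebraMap (Localization.AtPrime (contr B k).asIdeal) (Localization.AtPrime k.asIdeal)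
        (π (contr B k)))).toNat
  have hnat : F * ((e₁ q₀ + e₂ q₀) * m₀) =
      ∑ k ∈ Finset.univ.filter (fun k : MaximalSpectrum C => contr B k = q₀),
        F * ((e₁ q₀ + e₂ q₀) * nk k) := by
    have h := congrArg ENat.toNat hsum
    rw [ENat.toNat_mul, ordγ, ENat.toNat_mul, ENat.toNat_natCast, ENat.toNat_sum] at h
    · rw [← hF, ← hm₀] at h
      rw [h]
      apply Finset.sum_congr rfl
      intro k hk
      have hk' : contr B k = q₀ := (Finset.mem_filter.1 hk).2
      have hkm : k.asIdeal.IsMaximal := k.isMaximal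
      have hqm : (contr B k).asIdeal.IsMaximal := (contr B k).isMaximal
      have htower := resDeg_tower (A := A) (contr B k).asIdeal k.asIdeal
      have h3 : resDeg A k = resDeg A (contr B k) *
          (Module.finrank (ResidueField (Localization.AtPrime (contr B k).asIdeal))
            (ResidueField (Localization.AtPrime k.asIdeal)) : ℕ∞) := htower
      have hF' : (resDeg A (contr B k)).toNat = F := by rw [hk']
      have hE' : e₁ (contr B k) + e₂ (contr B k) = e₁ q₀ + e₂ q₀ := by rw [hk']
      rw [h3, ordγC, ENat.toNat_mul, ENat.toNat_mul, ENat.toNat_mul, ENat.toNat_natCast,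
        ENat.toNat_natCast, hF', hE']
      simp only [nk]
      ring
    · intro k hk
      exact WithTop.mul_ne_top (resDeg_ne_top k) (ord_algebraMap_ne_top hArt hAC γ hγ k)
  have hdeg : m₀ = ∑ k ∈ Finset.univ.filter (fun k : MaximalSpectrum C => contr B k = q₀), nk k := by
    rw [← Finset.mul_sum, ← Finset.mul_sum] at hnat
    have h1 := Nat.eq_of_mul_eq_mul_left hFpos hnat
    exact Nat.eq_of_mul_eq_mul_left (Epos q₀) h1
  -- now the product
  have hfactor : ∀ k ∈ Finset.univ.filter (fun k : MaximalSpectrum C => contr B k = q₀),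
      LF A (Localization.AtPrime k.asIdeal)
          (algebraMap (Localization.AtPrime (contr B k).asIdeal) (Localization.AtPrime k.asIdeal)
            (π (contr B k)))
          (Units.map (algebraMap (Localization.AtPrime (contr B k).asIdeal)
            (Localization.AtPrime k.asIdeal) : _ →* _) (u₁ (contr B k)))
          (Units.map (algebraMap (Localization.AtPrime (contr B k).asIdeal)
            (Localization.AtPrime k.asIdeal) : _ →* _) (u₂ (contr B k)))
          (e₁ (contr B k)) (e₂ (contr B k)) =
      (Algebra.norm (ResidueField A) (tameUnit (Localization.AtPrime q₀.asIdeal) (u₁ q₀) (u₂ q₀)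
        (e₁ q₀) (e₂ q₀))) ^ nk k := by
    intro k hk
    have hk' : contr B k = q₀ := (Finset.mem_filter.1 hk).2
    have hkm : k.asIdeal.IsMaximal := k.isMaximal
    have hqm : (contr B k).asIdeal.IsMaximal := (contr B k).isMaximal
    rw [LF_map (A := A) (contr B k).asIdeal k.asIdeal]
    have : ∀ q : MaximalSpectrum B, q = q₀ →
        Algebra.norm (ResidueField A) (tameUnit (Localization.AtPrime q.asIdeal) (u₁ q) (u₂ q)
          (e₁ q) (e₂ q)) =
        Algebra.norm (ResidueField A) (tameUnit (Localization.AtPrime q₀.asIdeal) (u₁ q₀) (u₂ q₀)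
          (e₁ q₀) (e₂ q₀)) := by
      intro q hq; subst hq; rfl
    rw [this _ hk']
  rw [Finset.prod_congr rfl hfactor, Finset.prod_pow_eq_pow_sum, ← hdeg]
  rfl

end refine

end Groth.Agent.Lib.Helper71.Dim1
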