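import Mathlib
import Groth.Agent.Lib.Helper71.Dim1P

set_option autoImplicit false
universe u

namespace Groth.Agent.Lib.Helper71.Dim1

open nonZeroDivisors IsLocalRing

section emb

variable {A : Type u} [CommRing A] {B : Type u} [CommRing B] [Algebra A B]

/-- the underlying function of the embedding of a birational extension into the total ring of
fractions. -/
noncomputable def embFun (z : A) (hz : z ∈ A⁰)
    (hden : ∀ s : B, ∃ α : A, algebraMap A B α = algebraMap A B z * s) (b : B) : FractionRing A :=
  IsLocalization.mk' (FractionRing A) (Classical.choose (hden b)) (⟨z, hz⟩ : A⁰)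

theorem embFun_eq (hinj : Function.Injective (algebraMap A B)) (z : A) (hz : z ∈ A⁰)
    (hden : ∀ s : B, ∃ α : A, algebraMap A B α = algebraMap A B z * s) (b : B) (α : A)
    (hα : algebraMap A B α = algebraMap A B z * b) :
    embFun z hz hden b = IsLocalization.mk' (FractionRing A) α (⟨z, hz⟩ : A⁰) := by
  unfold embFun
  congr 1
  apply hinj
  rw [Classical.choose_spec (hden b), hα]

/-- the embedding of a birational extension into the total ring of fractions. -/
noncomputable def emb (hinj : Function.Injective (algebraMap A B)) (z : A) (hz : z ∈ A⁰)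
    (hden : ∀ s : B, ∃ α : A, algebraMap A B α = algebraMap A B z * s) :
    B →ₐ[A] FractionRing A where
  toFun := embFun z hz hden
  map_one' := by
    rw [embFun_eq hinj z hz hden 1 z (by rw [mul_one])]
    exact IsLocalization.mk'_self' (FractionRing A) (x := (⟨z, hz⟩ : A⁰))
  map_mul' := by
    intro x y
    obtain ⟨α, hα⟩ := hden x
    obtain ⟨β, hβ⟩ := hden y
    obtain ⟨δ, hδ⟩ := hden (x * y)
    rw [embFun_eq hinj z hz hden x α hα, embFun_eq hinj z hz hden y β hβ,
      embFun_eq hinj z hz hden (x * y) δ hδ, ← IsLocalization.mk'_mul,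
      IsLocalization.mk'_eq_iff_eq]
    congr 1
    apply hinj
    simp only [Submonoid.coe_mul, map_mul, hα, hβ, hδ]
    ring
  map_zero' := by
    rw [embFun_eq hinj z hz hden 0 0 (by rw [mul_zero, map_zero])]
    exact IsLocalization.mk'_zero _
  map_add' := by
    intro x y
    obtain ⟨α, hα⟩ := hden x
    obtain ⟨β, hβ⟩ := hden y
    rw [embFun_eq hinj z hz hden x α hα, embFun_eq hinj z hz hden y β hβ,
      embFun_eq hinj z hz hden (x + y) (α + β) (by rw [map_add, hα, hβ, mul_add]),
      IsLocalization.mk'_eq_mul_mk'_one, IsLocalization.mk'_eq_mul_mk'_one (x := α),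
      IsLocalization.mk'_eq_mul_mk'_one (x := β), map_add, add_mul]
  commutes' := by
    intro a
    rw [embFun_eq hinj z hz hden (algebraMap A B a) (z * a) (by rw [map_mul])]
    rw [IsLocalization.mk'_eq_iff_eq_mul]
    simp [mul_comm]

theorem emb_apply (hinj : Function.Injective (algebraMap A B)) (z : A) (hz : z ∈ A⁰)
    (hden : ∀ s : B, ∃ α : A, algebraMap A B α = algebraMap A B z * s) (b : B) (α : A)
    (hα : algebraMap A B α = algebraMap A B z * b) :
    emb hinj z hz hden b = IsLocalization.mk' (FractionRing A) α (⟨z, hz⟩ : A⁰) :=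
  embFun_eq hinj z hz hden b α hα

theorem emb_injective (hinj : Function.Injective (algebraMap A B)) (z : A) (hz : z ∈ A⁰)
    (hden : ∀ s : B, ∃ α : A, algebraMap A B α = algebraMap A B z * s)
    (hzB : algebraMap A B z ∈ B⁰) : Function.Injective (emb hinj z hz hden) := by
  rw [injective_iff_map_eq_zero]
  intro b hb
  obtain ⟨α, hα⟩ := hden b
  rw [emb_apply hinj z hz hden b α hα, IsLocalization.mk'_eq_zero_iff] at hb
  obtain ⟨m, hm⟩ := hb
  have hα0 : α = 0 := by
    have := (mem_nonZeroDivisors_iff_right.1 m.2) α (by rw [mul_comm]; exact hm)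
    exact this
  rw [hα0, map_zero] at hα
  have := (mem_nonZeroDivisors_iff_right.1 hzB) b (by rw [mul_comm]; exact hα.symm)
  exact this

theorem emb_den (hinj : Function.Injective (algebraMap A B)) (z : A) (hz : z ∈ A⁰)
    (hden : ∀ s : B, ∃ α : A, algebraMap A B α = algebraMap A B z * s) (b : B) :
    ∃ α : A, algebraMap A (FractionRing A) α =
      algebraMap A (FractionRing A) z * emb hinj z hz hden b := by
  obtain ⟨α, hα⟩ := hden b
  refine ⟨α, ?_⟩
  rw [emb_apply hinj z hz hden b α hα]
  rw [IsLocalization.mul_mk'_eq_mk'_of_mul]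
  exact (IsLocalization.mk'_mul_cancel_left α (⟨z, hz⟩ : A⁰)).symm

end emb

section common

variable {A : Type u} [CommRing A] {B : Type u} [CommRing B] [Algebra A B]
  {B' : Type u} [CommRing B'] [Algebra A B']

/-- Two birational extensions admit a common birational refinement. -/
theorem exists_common_refinement (hAB : IsBir A B) (hAB' : IsBir A B') :
    ∃ (C : Type u) (_ : CommRing C) (_ : Algebra A C) (ι : B →ₐ[A] C) (ι' : B' →ₐ[A] C),
      IsBir A C ∧ @IsBir B C _ _ ι.toRingHom.toAlgebra ∧ @IsBir B' C _ _ ι'.toRingHom.toAlgebra := by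
  obtain ⟨z, hz, hden⟩ := hAB.den
  obtain ⟨z', hz', hden'⟩ := hAB'.den
  have hfB := hAB.finite
  have hfB' := hAB'.finite
  let ψ := emb hAB.inj z hz hden
  let ψ' := emb hAB'.inj z' hz' hden'
  have hψ : Function.Injective ψ := emb_injective hAB.inj z hz hden (hAB.nzd z hz)
  have hψ' : Function.Injective ψ' := emb_injective hAB'.inj z' hz' hden' (hAB'.nzd z' hz')
  let S : Subalgebra A (FractionRing A) := ψ.range ⊔ ψ'.range
  let ι : B →ₐ[A] S := ψ.codRestrict S (fun b => Algebra.mem_sup_left ⟨b, rfl⟩)
  let ι' : B' →ₐ[A] S := ψ'.codRestrict S (fun b => Algebra.mem_sup_right ⟨b, rfl⟩)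
  have hι : Function.Injective ι := fun x y h => hψ (congrArg Subtype.val h)
  have hι' : Function.Injective ι' := fun x y h => hψ' (congrArg Subtype.val h)
  -- denominators for S
  have hdenS : ∀ c : S, ∃ α : A, algebraMap A S α = algebraMap A S (z * z') * c := by
    rintro ⟨c, hc⟩
    have hc' : c ∈ Subalgebra.toSubmodule ψ.range * Subalgebra.toSubmodule ψ'.range := by
      rw [Subalgebra.mul_toSubmodule]; exact hc
    have key : ∃ α : A, algebraMap A (FractionRing A) α =
        algebraMap A (FractionRing A) (z * z') * c := by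
      refine Submodule.mul_induction_on hc' ?_ ?_
      · rintro _ ⟨b, rfl⟩ _ ⟨b', rfl⟩
        obtain ⟨α, hα⟩ := emb_den hAB.inj z hz hden b
        obtain ⟨β, hβ⟩ := emb_den hAB'.inj z' hz' hden' b'
        refine ⟨α * β, ?_⟩
        rw [map_mul, hα, hβ, map_mul]
        change _ = _ * (ψ b * ψ' b')
        ring
      · rintro x y ⟨α, hα⟩ ⟨β, hβ⟩
        exact ⟨α + β, by rw [map_add, hα, hβ, mul_add]⟩
    obtain ⟨α, hα⟩ := key
    exact ⟨α, Subtype.ext hα⟩
  have hinjQ : Function.Injective (algebraMap A (FractionRing A)) :=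
    IsLocalization.injective (FractionRing A) le_rfl
  have hAS : IsBir A S := by
    refine ⟨?_, ?_, ?_, ⟨z * z', mul_mem hz hz', hdenS⟩⟩
    · have h1 : (Subalgebra.toSubmodule ψ.range).FG := by
        have : Module.Finite A ψ.range := Module.Finite.range ψ.toLinearMap
        exact Module.Finite.iff_fg.1 this
      have h2 : (Subalgebra.toSubmodule ψ'.range).FG := by
        have : Module.Finite A ψ'.range := Module.Finite.range ψ'.toLinearMap
        exact Module.Finite.iff_fg.1 this
      have h3 : (Subalgebra.toSubmodule S).FG := by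
        rw [← Subalgebra.mul_toSubmodule]; exact h1.mul h2
      exact Module.Finite.iff_fg.2 h3
    · intro x y h
      exact hinjQ (congrArg Subtype.val h)
    · intro γ hγ
      rw [mem_nonZeroDivisors_iff_right]
      rintro ⟨c, hc⟩ h
      have h' : c * algebraMap A (FractionRing A) γ = 0 := congrArg Subtype.val h
      have hu : IsUnit (algebraMap A (FractionRing A) γ) :=
        IsLocalization.map_units (FractionRing A) (⟨γ, hγ⟩ : A⁰)
      apply Subtype.ext
      exact (hu.mul_left_eq_zero).1 h'
  refine ⟨S, inferInstance, inferInstance, ι, ι', hAS, ?_, ?_⟩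
  · let _ : Algebra B S := ι.toRingHom.toAlgebra
    have htower : IsScalarTower A B S := IsScalarTower.of_algebraMap_eq (fun a => (ι.commutes a).symm)
    have hfS := hAS.finite
    refine ⟨Module.Finite.of_restrictScalars_finite A B S, hι, ?_,
      ⟨algebraMap A B (z * z'), hAB.nzd _ (mul_mem hz hz'), ?_⟩⟩
    · intro y hy
      rw [mem_nonZeroDivisors_iff_right]
      intro c hc
      obtain ⟨α, hα⟩ := hdenS c
      have h1 : ι (y * algebraMap A B α) = 0 := by
        rw [map_mul, ι.commutes, hα]
        have : c * ι y = 0 := hc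
        rw [mul_left_comm, mul_comm (ι y), this, mul_zero]
      have h2 : y * algebraMap A B α = 0 := hι (by rw [h1, map_zero])
      have h3 : algebraMap A B α = 0 :=
        (mem_nonZeroDivisors_iff_right.1 hy) _ (by rw [mul_comm]; exact h2)
      have h4 : α = 0 := hAB.inj (by rw [h3, map_zero])
      rw [h4, map_zero] at hα
      exact (mem_nonZeroDivisors_iff_right.1 (hAS.nzd _ (mul_mem hz hz'))) c
        (by rw [mul_comm]; exact hα.symm)
    · intro c
      obtain ⟨α, hα⟩ := hdenS c
      refine ⟨algebraMap A B α, ?_⟩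
      change ι (algebraMap A B α) = ι (algebraMap A B (z * z')) * c
      rw [ι.commutes, ι.commutes, hα]
  · let _ : Algebra B' S := ι'.toRingHom.toAlgebra
    have htower : IsScalarTower A B' S :=
      IsScalarTower.of_algebraMap_eq (fun a => (ι'.commutes a).symm)
    have hfS := hAS.finite
    refine ⟨Module.Finite.of_restrictScalars_finite A B' S, hι', ?_,
      ⟨algebraMap A B' (z * z'), hAB'.nzd _ (mul_mem hz hz'), ?_⟩⟩
    · intro y hy
      rw [mem_nonZeroDivisors_iff_right]
      intro c hc
      obtain ⟨α, hα⟩ := hdenS c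
      have h1 : ι' (y * algebraMap A B' α) = 0 := by
        rw [map_mul, ι'.commutes, hα]
        have : c * ι' y = 0 := hc
        rw [mul_left_comm, mul_comm (ι' y), this, mul_zero]
      have h2 : y * algebraMap A B' α = 0 := hι' (by rw [h1, map_zero])
      have h3 : algebraMap A B' α = 0 :=
        (mem_nonZeroDivisors_iff_right.1 hy) _ (by rw [mul_comm]; exact h2)
      have h4 : α = 0 := hAB'.inj (by rw [h3, map_zero])
      rw [h4, map_zero] at hα
      exact (mem_nonZeroDivisors_iff_right.1 (hAS.nzd _ (mul_mem hz hz'))) c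
        (by rw [mul_comm]; exact hα.symm)
    · intro c
      obtain ⟨α, hα⟩ := hdenS c
      refine ⟨algebraMap A B' α, ?_⟩
      change ι' (algebraMap A B' α) = ι' (algebraMap A B' (z * z')) * c
      rw [ι'.commutes, ι'.commutes, hα]

end common

end Groth.Agent.Lib.Helper71.Dim1
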