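import Mathlib
import Groth.Prelude.Def_Tame
import Groth.Agent.Lib.Helper71.Dim1Q

set_option autoImplicit false
universe u

namespace Groth.Agent.Lib.Helper71.Dim1

open nonZeroDivisors IsLocalRing CycAlg

section tamedata

variable {A : Type u} [CommRing A] [IsLocalRing A] {a₁ a₂ : A}

theorem localFactor_eq_LF (D : TameData A a₁ a₂) (q : MaximalSpectrum D.B) :
    D.localFactor q =
      @LF A _ _ (Localization.AtPrime q.asIdeal) _ _ _ (D.isLocalHom q) (D.π q) (D.u₁ q) (D.u₂ q)
        (D.e₁ q) (D.e₂ q) := rfl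

/-- the product `a₁ a₂` is a nonzerodivisor at every local ring of `B`. -/
theorem tameData_mul_mem (D : TameData A a₁ a₂) (q : MaximalSpectrum D.B) :
    algebraMap A (Localization.AtPrime q.asIdeal) (a₁ * a₂) ∈
      (Localization.AtPrime q.asIdeal)⁰ := by
  rw [map_mul, D.fac₁ q, D.fac₂ q]
  exact mul_mem (mul_mem (D.u₁ q).isUnit.mem_nonZeroDivisors (pow_mem (D.π_mem q) _))
    (mul_mem (D.u₂ q).isUnit.mem_nonZeroDivisors (pow_mem (D.π_mem q) _))

theorem isBir_of_tameData (hArt : ∀ γ ∈ A⁰, IsArtinianRing (A ⧸ Ideal.span {γ}))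
    (h₁ : a₁ ∈ A⁰) (h₂ : a₂ ∈ A⁰) (hm : a₁ * a₂ ∈ maximalIdeal A) (D : TameData A a₁ a₂) :
    IsBir A D.B := by
  obtain ⟨hinj, hfin, n, hn⟩ := D.isFinExt
  set γ : A := a₁ * a₂ with hγdef
  have hγ : γ ∈ A⁰ := mul_mem h₁ h₂
  have hγB : algebraMap A D.B γ ∈ (D.B)⁰ := by
    rw [mem_nonZeroDivisors_iff_right]
    intro x hx
    apply eq_zero_of_localization
    intro J hJ
    have h := tameData_mul_mem D ⟨J, hJ⟩
    have hx' := congrArg (algebraMap D.B (Localization.AtPrime J)) hx
    rw [map_mul, map_zero, ← IsScalarTower.algebraMap_apply A D.B (Localization.AtPrime J)] at hx'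
    exact (mem_nonZeroDivisors_iff_right.1 h) _ hx'
  refine ⟨hfin, hinj, ?_, ⟨γ ^ n, pow_mem hγ n, ?_⟩⟩
  · intro δ hδ
    obtain ⟨N, hN⟩ := exists_pow_le_span δ (hArt δ hδ)
    have h1 : γ ^ N ∈ Ideal.span {δ} := hN (Ideal.pow_mem_pow hm N)
    obtain ⟨c, hc⟩ := Ideal.mem_span_singleton'.1 h1
    have h2 : algebraMap A D.B c * algebraMap A D.B δ ∈ (D.B)⁰ := by
      rw [← map_mul, hc, map_pow]; exact pow_mem hγB N
    exact (mul_mem_nonZeroDivisors.1 h2).2
  · intro s
    obtain ⟨α, hα⟩ := hn (γ ^ n) (Ideal.pow_mem_pow hm n) s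
    exact ⟨α, by rw [hα, Algebra.smul_def]⟩

/-- if `a₁ a₂` is a unit every tame value is `1`. -/
theorem tameData_value_eq_one_of_isUnit (hu : IsUnit (a₁ * a₂)) (D : TameData A a₁ a₂) :
    D.value = 1 := by
  unfold TameData.value
  apply finprod_eq_one_of_forall_eq_one
  intro q
  have := D.isLocalHom q
  rw [localFactor_eq_LF]
  unfold LF
  have hu₁ : IsUnit a₁ := isUnit_of_mul_isUnit_left hu
  have hu₂ : IsUnit a₂ := isUnit_of_mul_isUnit_right hu
  have h1 : IsUnit (D.π q ^ D.e₁ q) := by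
    have := hu₁.map (algebraMap A (Localization.AtPrime q.asIdeal))
    rw [D.fac₁ q] at this
    exact isUnit_of_mul_isUnit_right this
  have h2 : IsUnit (D.π q ^ D.e₂ q) := by
    have := hu₂.map (algebraMap A (Localization.AtPrime q.asIdeal))
    rw [D.fac₂ q] at this
    exact isUnit_of_mul_isUnit_right this
  by_cases hπ : IsUnit (D.π q)
  · rw [Ring.ord_of_isUnit hπ]; simp
  · have he₁ : D.e₁ q = 0 := by
      by_contra h
      exact hπ ((isUnit_pow_iff h).1 h1)
    have he₂ : D.e₂ q = 0 := by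
      by_contra h
      exact hπ ((isUnit_pow_iff h).1 h2)
    unfold tameUnit
    rw [he₁, he₂]
    simp

end tamedata

section refined

variable {A : Type u} [CommRing A] [IsLocalRing A] {a₁ a₂ : A}

theorem finite_maximalSpectrum (S : Type u) [CommRing S] [Algebra A S] [Module.Finite A S] :
    Finite (MaximalSpectrum S) := by
  have hf : {n : Ideal S | n.IsMaximal}.Finite := finite_setOf_isMaximal (A := A)
  have := hf.to_subtype
  exact Finite.of_injective (fun q : MaximalSpectrum S =>
    (⟨q.asIdeal, q.isMaximal⟩ : {n : Ideal S | n.IsMaximal}))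
    (fun q q' h => MaximalSpectrum.ext (congrArg Subtype.val h))

attribute [local instance] Localization.AtPrime.algebraOfLiesOver

open Classical in
theorem value_eq_prod_refined (hArt : ∀ γ ∈ A⁰, IsArtinianRing (A ⧸ Ideal.span {γ}))
    (h₁ : a₁ ∈ A⁰) (h₂ : a₂ ∈ A⁰) (hm : a₁ * a₂ ∈ maximalIdeal A) (D : TameData A a₁ a₂)
    (C : Type u) [CommRing C] [Algebra A C] [Algebra D.B C] [IsScalarTower A D.B C]
    (hBC : IsBir D.B C)
    [hlocC : ∀ k : MaximalSpectrum C, IsLocalHom (algebraMap A (Localization.AtPrime k.asIdeal))]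
    [Fintype (MaximalSpectrum C)] [Algebra.IsIntegral D.B C] :
    D.value = ∏ k : MaximalSpectrum C,
      @LF A _ _ (Localization.AtPrime k.asIdeal) _ _ _ (hlocC k)
        (algebraMap (Localization.AtPrime (contr D.B k).asIdeal) (Localization.AtPrime k.asIdeal)
          (D.π (contr D.B k)))
        (Units.map (algebraMap (Localization.AtPrime (contr D.B k).asIdeal)
          (Localization.AtPrime k.asIdeal) : _ →* _) (D.u₁ (contr D.B k)))
        (Units.map (algebraMap (Localization.AtPrime (contr D.B k).asIdeal)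
          (Localization.AtPrime k.asIdeal) : _ →* _) (D.u₂ (contr D.B k)))
        (D.e₁ (contr D.B k)) (D.e₂ (contr D.B k)) := by
  have hAB := isBir_of_tameData hArt h₁ h₂ hm D
  have hfinB := hAB.finite
  have hlocB : ∀ q : MaximalSpectrum D.B,
      IsLocalHom (algebraMap A (Localization.AtPrime q.asIdeal)) := D.isLocalHom
  have hfin : Finite (MaximalSpectrum D.B) := finite_maximalSpectrum (A := A) D.B
  let _ : Fintype (MaximalSpectrum D.B) := Fintype.ofFinite _
  unfold TameData.value
  rw [finprod_eq_prod_of_fintype]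
  rw [Finset.prod_congr rfl (fun q _ => (localFactor_eq_LF D q).trans
    (LF_refine hArt hAB hBC a₁ a₂ h₁ h₂ hm D.π D.π_mem D.u₁ D.u₂ D.e₁ D.e₂ D.fac₁ D.fac₂ q))]
  exact Finset.prod_fiberwise Finset.univ (contr D.B) _

theorem map_pi_mem {B : Type u} [CommRing B] [Algebra A B] {C : Type u} [CommRing C]
    [Algebra A C] [Algebra B C] [IsScalarTower A B C] (hAC : IsBir A C)
    (q : Ideal B) [hq : q.IsMaximal] (k : Ideal C) [hk : k.IsMaximal] [hkq : k.LiesOver q]
    [hlq : IsLocalHom (algebraMap A (Localization.AtPrime q))]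
    (γ : A) (hγ : γ ∈ A⁰) (hγm : γ ∈ maximalIdeal A)
    (π : Localization.AtPrime q) (u : (Localization.AtPrime q)ˣ) (E : ℕ)
    (hfac : algebraMap A (Localization.AtPrime q) γ = (u : Localization.AtPrime q) * π ^ E) :
    algebraMap (Localization.AtPrime q) (Localization.AtPrime k) π ∈ (Localization.AtPrime k)⁰ := by
  have hE : E ≠ 0 := by
    rintro rfl
    have hu : IsUnit (algebraMap A (Localization.AtPrime q) γ) := by
      rw [hfac, pow_zero, mul_one]; exact u.isUnit
    exact (IsLocalRing.mem_maximalIdeal γ).1 hγm (IsLocalHom.map_nonunit _ hu)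
  have h1 : algebraMap A (Localization.AtPrime k) γ ∈ (Localization.AtPrime k)⁰ := by
    rw [IsScalarTower.algebraMap_apply A C (Localization.AtPrime k)]
    exact IsLocalization.map_nonZeroDivisors_le k.primeCompl
      (Localization.AtPrime k) ⟨_, hAC.nzd γ hγ, rfl⟩
  rw [IsScalarTower.algebraMap_apply A (Localization.AtPrime q) (Localization.AtPrime k), hfac,
    map_mul, map_pow] at h1
  have h2 := (mul_mem_nonZeroDivisors.1 h1).2
  obtain ⟨n, rfl⟩ := Nat.exists_eq_succ_of_ne_zero hE
  rw [pow_succ] at h2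
  exact (mul_mem_nonZeroDivisors.1 h2).2

/-- **The tame symbol is well defined.** -/
theorem tame_value_eq (hArt : ∀ γ ∈ A⁰, IsArtinianRing (A ⧸ Ideal.span {γ}))
    (h₁ : a₁ ∈ A⁰) (h₂ : a₂ ∈ A⁰) (D D' : TameData A a₁ a₂) : D.value = D'.value := by
  classical
  by_cases hu : IsUnit (a₁ * a₂)
  · rw [tameData_value_eq_one_of_isUnit hu D, tameData_value_eq_one_of_isUnit hu D']
  have hm : a₁ * a₂ ∈ maximalIdeal A := (IsLocalRing.mem_maximalIdeal _).2 hu
  have hγ : a₁ * a₂ ∈ A⁰ := mul_mem h₁ h₂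
  have hAB := isBir_of_tameData hArt h₁ h₂ hm D
  have hAB' := isBir_of_tameData hArt h₁ h₂ hm D'
  obtain ⟨C, _, _, ι, ι', hAC, hBC, hB'C⟩ := exists_common_refinement hAB hAB'
  have hfinC := hAC.finite
  have hintC : Algebra.IsIntegral A C := Algebra.IsIntegral.of_finite A C
  have hlocC : ∀ k : MaximalSpectrum C,
      IsLocalHom (algebraMap A (Localization.AtPrime k.asIdeal)) :=
    fun k => by
      have : k.asIdeal.IsMaximal := k.isMaximal
      exact isLocalHom_of_isIntegral k.asIdeal
  have hfin : Finite (MaximalSpectrum C) := finite_maximalSpectrum (A := A) C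
  let _ : Fintype (MaximalSpectrum C) := Fintype.ofFinite _
  let _ : Algebra D.B C := ι.toRingHom.toAlgebra
  let _ : Algebra D'.B C := ι'.toRingHom.toAlgebra
  have htower : IsScalarTower A D.B C :=
    IsScalarTower.of_algebraMap_eq (fun a => (ι.commutes a).symm)
  have htower' : IsScalarTower A D'.B C :=
    IsScalarTower.of_algebraMap_eq (fun a => (ι'.commutes a).symm)
  have hfinBC := hBC.finite
  have hfinB'C := hB'C.finite
  have hint : Algebra.IsIntegral D.B C := Algebra.IsIntegral.of_finite D.B C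
  have hint' : Algebra.IsIntegral D'.B C := Algebra.IsIntegral.of_finite D'.B C
  rw [value_eq_prod_refined hArt h₁ h₂ hm D C hBC, value_eq_prod_refined hArt h₁ h₂ hm D' C hB'C]
  apply Finset.prod_congr rfl
  intro k _
  have hkm : k.asIdeal.IsMaximal := k.isMaximal
  have hqm : (contr D.B k).asIdeal.IsMaximal := (contr D.B k).isMaximal
  have hqm' : (contr D'.B k).asIdeal.IsMaximal := (contr D'.B k).isMaximal
  have hlq := D.isLocalHom (contr D.B k)
  have hlq' := D'.isLocalHom (contr D'.B k)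
  have facγ : algebraMap A (Localization.AtPrime (contr D.B k).asIdeal) (a₁ * a₂) =
      ((D.u₁ (contr D.B k) * D.u₂ (contr D.B k) :
        (Localization.AtPrime (contr D.B k).asIdeal)ˣ) : Localization.AtPrime (contr D.B k).asIdeal) *
      D.π (contr D.B k) ^ (D.e₁ (contr D.B k) + D.e₂ (contr D.B k)) := by
    rw [map_mul, D.fac₁, D.fac₂, Units.val_mul, pow_add]; ring
  have facγ' : algebraMap A (Localization.AtPrime (contr D'.B k).asIdeal) (a₁ * a₂) =
      ((D'.u₁ (contr D'.B k) * D'.u₂ (contr D'.B k) :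
        (Localization.AtPrime (contr D'.B k).asIdeal)ˣ) :
          Localization.AtPrime (contr D'.B k).asIdeal) *
      D'.π (contr D'.B k) ^ (D'.e₁ (contr D'.B k) + D'.e₂ (contr D'.B k)) := by
    rw [map_mul, D'.fac₁, D'.fac₂, Units.val_mul, pow_add]; ring
  apply LF_eq_of_fac
  · exact map_pi_mem hAC (contr D.B k).asIdeal k.asIdeal (a₁ * a₂) hγ hm _ _ _ facγ
  · exact map_pi_mem hAC (contr D'.B k).asIdeal k.asIdeal (a₁ * a₂) hγ hm _ _ _ facγ'
  · rw [Units.coe_map, Units.coe_map]
    change algebraMap _ _ _ * _ = algebraMap _ _ _ * _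
    rw [← map_pow, ← map_mul, ← map_pow, ← map_mul, ← D.fac₁, ← D'.fac₁,
      ← IsScalarTower.algebraMap_apply A (Localization.AtPrime (contr D.B k).asIdeal)
        (Localization.AtPrime k.asIdeal),
      ← IsScalarTower.algebraMap_apply A (Localization.AtPrime (contr D'.B k).asIdeal)
        (Localization.AtPrime k.asIdeal)]
  · rw [Units.coe_map, Units.coe_map]
    change algebraMap _ _ _ * _ = algebraMap _ _ _ * _
    rw [← map_pow, ← map_mul, ← map_pow, ← map_mul, ← D.fac₂, ← D'.fac₂,
      ← IsScalarTower.algebraMap_apply A (Localization.AtPrime (contr D.B k).asIdeal)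
        (Localization.AtPrime k.asIdeal),
      ← IsScalarTower.algebraMap_apply A (Localization.AtPrime (contr D'.B k).asIdeal)
        (Localization.AtPrime k.asIdeal)]

end refined

end Groth.Agent.Lib.Helper71.Dim1
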