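import Mathlib
import Groth.Prelude.Def_Tame
import Groth.Agent.Lib.Helper71.Dim1R

set_option autoImplicit false
universe u

namespace Groth.Agent.Lib.Helper71.Dim1

open nonZeroDivisors IsLocalRing CycAlg

section fac

variable (A : Type u) [CommRing A] [IsLocalRing A] {T : Type u} [CommRing T] [Algebra A T]

/-- a family of local factorizations `x = u π^e` at all maximal ideals of `T`. -/
structure Fac (π : T) (x : A) where
  u : ∀ q : MaximalSpectrum T, (Localization.AtPrime q.asIdeal)ˣ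
  e : MaximalSpectrum T → ℕ
  fac : ∀ q, algebraMap A (Localization.AtPrime q.asIdeal) x =
    (u q : Localization.AtPrime q.asIdeal) * (algebraMap T (Localization.AtPrime q.asIdeal) π) ^ e q

variable {A}

/-- factorizations of a product. -/
noncomputable def Fac.mul {π : T} {x x' : A} (F : Fac A π x) (F' : Fac A π x') :
    Fac A π (x * x') where
  u := fun q => F.u q * F'.u q
  e := fun q => F.e q + F'.e q
  fac := by
    intro q
    rw [map_mul, F.fac q, F'.fac q, Units.val_mul, pow_add]; ring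

/-- factorization of a unit. -/
noncomputable def Fac.ofUnit (π : T) (c : Aˣ) : Fac A π (c : A) where
  u := fun q => Units.map (algebraMap A (Localization.AtPrime q.asIdeal) : _ →* _) c
  e := fun _ => 0
  fac := by
    intro q
    rw [pow_zero, mul_one, Units.coe_map]; rfl

omit [IsLocalRing A] in
theorem nonempty_fac_of_LC (π : T) (x : A)
    (h : ∀ q : Ideal T, q.IsMaximal → LC q (algebraMap A T x) π) : Nonempty (Fac A π x) := by
  have key : ∀ q : MaximalSpectrum T, ∃ (v : (Localization.AtPrime q.asIdeal)ˣ) (e : ℕ),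
      algebraMap A (Localization.AtPrime q.asIdeal) x =
        (v : Localization.AtPrime q.asIdeal) *
          (algebraMap T (Localization.AtPrime q.asIdeal) π) ^ e := by
    intro q
    obtain ⟨e, u, v, hu, hv, huv⟩ := h q.asIdeal q.isMaximal
    have hu' : IsUnit (algebraMap T (Localization.AtPrime q.asIdeal) u) :=
      IsLocalization.map_units (M := q.asIdeal.primeCompl) _ ⟨u, hu⟩
    have hv' : IsUnit (algebraMap T (Localization.AtPrime q.asIdeal) v) :=
      IsLocalization.map_units (M := q.asIdeal.primeCompl) _ ⟨v, hv⟩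
    refine ⟨hu'.unit⁻¹ * hv'.unit, e, ?_⟩
    have h1 := congrArg (algebraMap T (Localization.AtPrime q.asIdeal)) huv
    rw [map_mul, map_mul, map_pow] at h1
    rw [IsScalarTower.algebraMap_apply A T (Localization.AtPrime q.asIdeal)]
    rw [Units.val_mul, mul_assoc, eq_comm, Units.inv_mul_eq_iff_eq_mul]
    exact h1.symm
  choose v e hve using key
  exact ⟨⟨v, e, hve⟩⟩

end fac

section mkdata

variable {A : Type u} [CommRing A] [IsLocalRing A] {T : Type u} [CommRing T] [Algebra A T]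
  [hloc : ∀ q : MaximalSpectrum T, IsLocalHom (algebraMap A (Localization.AtPrime q.asIdeal))]

/-- tame data from a global parameter and two families of factorizations. -/
noncomputable def mkData (hfe : CycAlg.IsFinExt A T (maximalIdeal A)) (π : T) (hπ : π ∈ T⁰)
    {x₁ x₂ : A} (F₁ : Fac A π x₁) (F₂ : Fac A π x₂) : TameData A x₁ x₂ where
  B := T
  isFinExt := hfe
  isLocalHom := hloc
  π := fun q => algebraMap T (Localization.AtPrime q.asIdeal) π
  π_mem := fun q => IsLocalization.map_nonZeroDivisors_le q.asIdeal.primeCompl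
      (Localization.AtPrime q.asIdeal) ⟨π, hπ, rfl⟩
  u₁ := F₁.u
  u₂ := F₂.u
  e₁ := F₁.e
  e₂ := F₂.e
  fac₁ := F₁.fac
  fac₂ := F₂.fac

theorem mkData_value [Fintype (MaximalSpectrum T)]
    (hfe : CycAlg.IsFinExt A T (maximalIdeal A)) (π : T) (hπ : π ∈ T⁰)
    {x₁ x₂ : A} (F₁ : Fac A π x₁) (F₂ : Fac A π x₂) :
    (mkData hfe π hπ F₁ F₂).value = ∏ q : MaximalSpectrum T,
      LF A (Localization.AtPrime q.asIdeal) (algebraMap T (Localization.AtPrime q.asIdeal) π)
        (F₁.u q) (F₂.u q) (F₁.e q) (F₂.e q) := by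
  have h : (mkData hfe π hπ F₁ F₂).value = ∏ᶠ q : MaximalSpectrum T,
      LF A (Localization.AtPrime q.asIdeal) (algebraMap T (Localization.AtPrime q.asIdeal) π)
        (F₁.u q) (F₂.u q) (F₁.e q) (F₂.e q) := rfl
  rw [h, finprod_eq_prod_of_fintype]

end mkdata

section LFids

variable (A : Type u) [CommRing A] [IsLocalRing A] (L : Type u) [CommRing L] [IsLocalRing L]
  [Algebra A L] [IsLocalHom (algebraMap A L)]

omit [IsLocalHom (algebraMap A L)] in
theorem tameUnit_mul_left (u u' u₂ : Lˣ) (e e' e₂ : ℕ) :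
    tameUnit L (u * u') u₂ (e + e') e₂ = tameUnit L u u₂ e e₂ * tameUnit L u' u₂ e' e₂ := by
  unfold tameUnit
  rw [Units.val_mul, map_mul, mul_pow, add_mul, pow_add, pow_add, mul_inv]
  ring

omit [IsLocalHom (algebraMap A L)] in
theorem tameUnit_mul_right (u₁ u u' : Lˣ) (e₁ e e' : ℕ) :
    tameUnit L u₁ (u * u') e₁ (e + e') = tameUnit L u₁ u e₁ e * tameUnit L u₁ u' e₁ e' := by
  unfold tameUnit
  rw [Units.val_mul, map_mul, mul_pow, mul_add, pow_add, pow_add, mul_inv]
  ring

theorem LF_mul_left (π : L) (u u' u₂ : Lˣ) (e e' e₂ : ℕ) :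
    LF A L π (u * u') u₂ (e + e') e₂ = LF A L π u u₂ e e₂ * LF A L π u' u₂ e' e₂ := by
  unfold LF
  rw [tameUnit_mul_left, map_mul, mul_pow]

theorem LF_mul_right (π : L) (u₁ u u' : Lˣ) (e₁ e e' : ℕ) :
    LF A L π u₁ (u * u') e₁ (e + e') = LF A L π u₁ u e₁ e * LF A L π u₁ u' e₁ e' := by
  unfold LF
  rw [tameUnit_mul_right, map_mul, mul_pow]

theorem neg_one_pow_sq {K : Type*} [Field K] (e : ℕ) : (-1 : K) ^ (e * e) = (-1) ^ e := by
  rcases Nat.even_or_odd e with h | h
  · rw [h.neg_one_pow, (h.mul_right e).neg_one_pow]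
  · rw [h.neg_one_pow, (h.mul h).neg_one_pow]

theorem tameUnit_self (u : Lˣ) (e : ℕ) :
    tameUnit L u u e e = algebraMap (ResidueField A) (ResidueField L) ((-1) ^ e) := by
  unfold tameUnit
  have h0 : residue L (u : L) ^ e ≠ 0 := pow_ne_zero _ (u.isUnit.map (residue L)).ne_zero
  rw [mul_assoc, mul_inv_cancel₀ h0, mul_one, neg_one_pow_sq, map_pow, map_neg, map_one]

theorem LF_self (π : L) (u : Lˣ) (e : ℕ) :
    LF A L π u u e e = (-1) ^ (e * Module.finrank (ResidueField A) (ResidueField L) *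
      (Ring.ord L π).toNat) := by
  unfold LF
  rw [tameUnit_self A L, Algebra.norm_algebraMap, ← pow_mul, ← pow_mul, mul_assoc]

theorem tameUnit_ofUnit (c : Aˣ) (u₂ : Lˣ) (e₂ : ℕ) :
    tameUnit L (Units.map (algebraMap A L : _ →* _) c) u₂ 0 e₂ =
      algebraMap (ResidueField A) (ResidueField L) (residue A (c : A) ^ e₂) := by
  unfold tameUnit
  rw [zero_mul, pow_zero, pow_zero, inv_one, mul_one, one_mul, Units.coe_map, map_pow,
    ResidueField.algebraMap_residue]
  rfl

theorem LF_ofUnit (π : L) (c : Aˣ) (u₂ : Lˣ) (e₂ : ℕ) :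
    LF A L π (Units.map (algebraMap A L : _ →* _) c) u₂ 0 e₂ =
      residue A (c : A) ^ (e₂ * Module.finrank (ResidueField A) (ResidueField L) *
        (Ring.ord L π).toNat) := by
  unfold LF
  rw [tameUnit_ofUnit A L, Algebra.norm_algebraMap, ← pow_mul, ← pow_mul, mul_assoc]

theorem LF_ne_zero [Module.Finite (ResidueField A) (ResidueField L)] (π : L) (u₁ u₂ : Lˣ)
    (e₁ e₂ : ℕ) : LF A L π u₁ u₂ e₁ e₂ ≠ 0 := by
  unfold LF
  apply pow_ne_zero
  rw [Algebra.norm_ne_zero_iff]
  unfold tameUnit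
  have h1 : residue L (u₁ : L) ≠ 0 := (u₁.isUnit.map (residue L)).ne_zero
  have h2 : residue L (u₂ : L) ≠ 0 := (u₂.isUnit.map (residue L)).ne_zero
  have h3 : (-1 : ResidueField L) ≠ 0 := neg_ne_zero.2 one_ne_zero
  exact mul_ne_zero (mul_ne_zero (pow_ne_zero _ h3) (pow_ne_zero _ h1))
    (inv_ne_zero (pow_ne_zero _ h2))

end LFids

end Groth.Agent.Lib.Helper71.Dim1
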