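import Mathlib
import Groth.Agent.Lib.Helper71.Dim1S

set_option autoImplicit false
universe u

namespace Groth.Agent.Lib.Helper71.Dim1

open nonZeroDivisors IsLocalRing

section steinberg

theorem neg_one_pow_congr {K : Type*} [Field K] {P Q : ℕ} (h : P % 2 = Q % 2) :
    (-1 : K) ^ P = (-1) ^ Q := by
  rw [neg_one_pow_eq_pow_mod_two, h, ← neg_one_pow_eq_pow_mod_two]

theorem steinberg_field {K : Type*} [Field K] (a b c : K) (ha : a ≠ 0) (hb : b ≠ 0) (hc : c ≠ 0)
    (e f g : ℕ)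
    (h : (e < f ∧ g = e ∧ c = -a) ∨ (f < e ∧ g = f ∧ c = b) ∨ (e = f ∧ g = e) ∨
      (e = f ∧ e < g ∧ b = a)) :
    ((-1 : K) ^ (e * g) * a ^ g * (c ^ e)⁻¹) * ((-1) ^ (f * f) * b ^ f * (b ^ f)⁻¹) =
      ((-1) ^ (f * g) * b ^ g * (c ^ f)⁻¹) * ((-1) ^ (e * f) * a ^ f * (b ^ e)⁻¹) := by
  have hbf : b ^ f * (b ^ f)⁻¹ = 1 := mul_inv_cancel₀ (pow_ne_zero _ hb)
  rcases h with ⟨-, rfl, rfl⟩ | ⟨-, rfl, rfl⟩ | ⟨rfl, rfl⟩ | ⟨rfl, -, rfl⟩
  · -- g = e, c = -a
    have h1 : ((-a) ^ g)⁻¹ = (-1) ^ g * (a ^ g)⁻¹ := by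
      rw [neg_pow, mul_inv]
      congr 1
      rcases Nat.even_or_odd g with h | h
      · rw [h.neg_one_pow, inv_one]
      · rw [h.neg_one_pow, inv_neg, inv_one]
    have h2 : ((-a) ^ f)⁻¹ = (-1) ^ f * (a ^ f)⁻¹ := by
      rw [neg_pow, mul_inv]
      congr 1
      rcases Nat.even_or_odd f with h | h
      · rw [h.neg_one_pow, inv_one]
      · rw [h.neg_one_pow, inv_neg, inv_one]
    rw [h1, h2, mul_assoc ((-1 : K) ^ (f * f)), hbf, mul_one]
    have hag : a ^ g * (a ^ g)⁻¹ = 1 := mul_inv_cancel₀ (pow_ne_zero _ ha)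
    have haf : a ^ f * (a ^ f)⁻¹ = 1 := mul_inv_cancel₀ (pow_ne_zero _ ha)
    have hbg : b ^ g * (b ^ g)⁻¹ = 1 := mul_inv_cancel₀ (pow_ne_zero _ hb)
    calc (-1 : K) ^ (g * g) * a ^ g * ((-1) ^ g * (a ^ g)⁻¹) * (-1) ^ (f * f)
        = ((-1) ^ (g * g) * (-1) ^ g * (-1) ^ (f * f)) * (a ^ g * (a ^ g)⁻¹) := by ring
      _ = (-1) ^ (g * g + g + f * f) := by rw [hag, mul_one, ← pow_add, ← pow_add]
      _ = (-1) ^ (f * g + f + g * f) := by
          apply neg_one_pow_congr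
          have e1 : (g * g + g) % 2 = 0 := by
            rcases Nat.even_or_odd g with ⟨k, rfl⟩ | ⟨k, rfl⟩
            · have : (k + k) * (k + k) + (k + k) = 2 * ((k + k) * k + k) := by ring
              rw [this]; simp
            · have : (2 * k + 1) * (2 * k + 1) + (2 * k + 1) = 2 * (2 * k * k + 3 * k + 1) := by ring
              rw [this]; simp
          have e2 : (f * f) % 2 = f % 2 := by
            rcases Nat.even_or_odd f with ⟨k, rfl⟩ | ⟨k, rfl⟩
            · have : (k + k) * (k + k) = 2 * ((k + k) * k) := by ring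
              rw [this]; omega
            · have : (2 * k + 1) * (2 * k + 1) = 2 * (2 * k * k + 2 * k) + 1 := by ring
              rw [this]; omega
          have e3 : (f * g + g * f) % 2 = 0 := by
            have : f * g + g * f = 2 * (f * g) := by ring
            rw [this]; simp
          omega
      _ = ((-1) ^ (f * g) * (-1) ^ f * (-1) ^ (g * f)) * ((b ^ g * (b ^ g)⁻¹) * (a ^ f * (a ^ f)⁻¹)) := by
          rw [hbg, haf, mul_one, mul_one, ← pow_add, ← pow_add]
      _ = (-1) ^ (f * g) * b ^ g * ((-1) ^ f * (a ^ f)⁻¹) * ((-1) ^ (g * f) * a ^ f * (b ^ g)⁻¹) := by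
          ring
  · -- g = f, c = b
    ring
  · -- e = f = g
    have hbg : b ^ g * (b ^ g)⁻¹ = 1 := mul_inv_cancel₀ (pow_ne_zero _ hb)
    have h1 : (-1 : K) ^ (g * g) * b ^ g * (c ^ g)⁻¹ * ((-1) ^ (g * g) * a ^ g * (b ^ g)⁻¹) =
        (-1 : K) ^ (g * g) * a ^ g * (c ^ g)⁻¹ * ((-1) ^ (g * g) * (b ^ g * (b ^ g)⁻¹)) := by ring
    rw [h1, mul_assoc ((-1 : K) ^ (g * g)) (b ^ g) ((b ^ g)⁻¹)]
  · -- e = f, b = a
    ring

end steinberg

section steinbergRing

variable {L : Type u} [CommRing L] [IsLocalRing L]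

theorem unit_pow_unique {π : L} (hπ : π ∈ L⁰) (hπm : π ∈ maximalIdeal L) {w w' : L}
    (hw : residue L w ≠ 0) (hw' : residue L w' ≠ 0) {g e : ℕ} (h : w * π ^ g = w' * π ^ e) :
    g = e ∧ w = w' := by
  have hπ0 : residue L π = 0 := (residue_eq_zero_iff _).2 hπm
  rcases lt_trichotomy g e with hlt | heq | hgt
  · exfalso
    obtain ⟨k, rfl⟩ : ∃ k, e = g + (k + 1) := ⟨e - g - 1, by omega⟩
    have h1 : w * π ^ g = (w' * π ^ (k + 1)) * π ^ g := by rw [h, pow_add]; ring
    have h2 := (mul_cancel_right_mem_nonZeroDivisors (pow_mem hπ g)).1 h1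
    apply hw
    rw [h2, map_mul, map_pow, hπ0, zero_pow (Nat.succ_ne_zero k), mul_zero]
  · subst heq
    exact ⟨rfl, (mul_cancel_right_mem_nonZeroDivisors (pow_mem hπ g)).1 h⟩
  · exfalso
    obtain ⟨k, rfl⟩ : ∃ k, g = e + (k + 1) := ⟨g - e - 1, by omega⟩
    have h1 : (w * π ^ (k + 1)) * π ^ e = w' * π ^ e := by rw [← h, pow_add]; ring
    have h2 := (mul_cancel_right_mem_nonZeroDivisors (pow_mem hπ e)).1 h1
    apply hw'
    rw [← h2, map_mul, map_pow, hπ0, zero_pow (Nat.succ_ne_zero k), mul_zero]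

theorem steinberg_cases {π : L} (hπ : π ∈ L⁰) (hπm : π ∈ maximalIdeal L) (u v w : Lˣ)
    (e f g : ℕ) (h : (w : L) * π ^ g = v * π ^ f - u * π ^ e) :
    (e < f ∧ g = e ∧ residue L (w : L) = - residue L (u : L)) ∨
    (f < e ∧ g = f ∧ residue L (w : L) = residue L (v : L)) ∨ (e = f ∧ g = e) ∨
      (e = f ∧ e < g ∧ residue L (v : L) = residue L (u : L)) := by
  have hπ0 : residue L π = 0 := (residue_eq_zero_iff _).2 hπm
  have hu : residue L (u : L) ≠ 0 := (u.isUnit.map (residue L)).ne_zero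
  have hv : residue L (v : L) ≠ 0 := (v.isUnit.map (residue L)).ne_zero
  have hw : residue L (w : L) ≠ 0 := (w.isUnit.map (residue L)).ne_zero
  rcases lt_trichotomy e f with hlt | heq | hgt
  · left
    obtain ⟨k, rfl⟩ : ∃ k, f = e + (k + 1) := ⟨f - e - 1, by omega⟩
    have h1 : (w : L) * π ^ g = ((v : L) * π ^ (k + 1) - u) * π ^ e := by
      rw [h, pow_add]; ring
    have hres : residue L ((v : L) * π ^ (k + 1) - u) = - residue L (u : L) := by
      rw [map_sub, map_mul, map_pow, hπ0, zero_pow (Nat.succ_ne_zero k), mul_zero, zero_sub]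
    have hne : residue L ((v : L) * π ^ (k + 1) - u) ≠ 0 := by
      rw [hres]; exact neg_ne_zero.2 hu
    obtain ⟨hge, hww⟩ := unit_pow_unique hπ hπm hw hne h1
    exact ⟨hlt, hge, by rw [hww, hres]⟩
  · subst heq
    right; right
    rcases lt_trichotomy g e with hlt | heq | hgt
    · exfalso
      obtain ⟨k, rfl⟩ : ∃ k, e = g + (k + 1) := ⟨e - g - 1, by omega⟩
      have h1 : (w : L) * π ^ g = (((v : L) - u) * π ^ (k + 1)) * π ^ g := by
        rw [h, pow_add]; ring
      have h2 := (mul_cancel_right_mem_nonZeroDivisors (pow_mem hπ g)).1 h1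
      apply hw
      rw [h2, map_mul, map_pow, hπ0, zero_pow (Nat.succ_ne_zero k), mul_zero]
    · left; exact ⟨rfl, heq⟩
    · right
      obtain ⟨k, rfl⟩ : ∃ k, g = e + (k + 1) := ⟨g - e - 1, by omega⟩
      have h1 : ((w : L) * π ^ (k + 1)) * π ^ e = ((v : L) - u) * π ^ e := by
        rw [sub_mul, ← h, pow_add]; ring
      have h2 := (mul_cancel_right_mem_nonZeroDivisors (pow_mem hπ e)).1 h1
      refine ⟨rfl, hgt, ?_⟩
      have h3 := congrArg (residue L) h2
      rw [map_mul, map_pow, hπ0, zero_pow (Nat.succ_ne_zero k), mul_zero, map_sub] at h3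
      exact (sub_eq_zero.1 h3.symm)
  · right; left
    obtain ⟨k, rfl⟩ : ∃ k, e = f + (k + 1) := ⟨e - f - 1, by omega⟩
    have h1 : (w : L) * π ^ g = ((v : L) - u * π ^ (k + 1)) * π ^ f := by
      rw [h, pow_add]; ring
    have hres : residue L ((v : L) - u * π ^ (k + 1)) = residue L (v : L) := by
      rw [map_sub, map_mul, map_pow, hπ0, zero_pow (Nat.succ_ne_zero k), mul_zero, sub_zero]
    have hne : residue L ((v : L) - u * π ^ (k + 1)) ≠ 0 := by
      rw [hres]; exact hv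
    obtain ⟨hge, hww⟩ := unit_pow_unique hπ hπm hw hne h1
    exact ⟨hgt, hge, by rw [hww, hres]⟩

variable (A : Type u) [CommRing A] [IsLocalRing A] [Algebra A L] [IsLocalHom (algebraMap A L)]

omit [IsLocalRing L] in
theorem ord_toNat_of_isUnit {π : L} (hπ : IsUnit π) : (Ring.ord L π).toNat = 0 := by
  unfold Ring.ord
  rw [Ideal.span_singleton_eq_top.2 hπ]
  have : Subsingleton (L ⧸ (⊤ : Ideal L)) := Ideal.Quotient.subsingleton_iff.2 rfl
  rw [Module.length_eq_zero]
  rfl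

theorem LF_steinberg {π : L} (hπ : π ∈ L⁰) (u v w : Lˣ)
    (e f g : ℕ) (h : (w : L) * π ^ g = v * π ^ f - u * π ^ e) :
    LF A L π u w e g * LF A L π v v f f = LF A L π v w f g * LF A L π u v e f := by
  by_cases hπu : IsUnit π
  · unfold LF
    rw [ord_toNat_of_isUnit hπu, pow_zero, pow_zero, pow_zero, pow_zero]
  · have hπm : π ∈ maximalIdeal L := (mem_maximalIdeal π).2 hπu
    have hcases := steinberg_cases hπ hπm u v w e f g h
    have hu : residue L (u : L) ≠ 0 := (u.isUnit.map (residue L)).ne_zero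
    have hv : residue L (v : L) ≠ 0 := (v.isUnit.map (residue L)).ne_zero
    have hw : residue L (w : L) ≠ 0 := (w.isUnit.map (residue L)).ne_zero
    have key := steinberg_field (residue L (u : L)) (residue L (v : L)) (residue L (w : L))
      hu hv hw e f g hcases
    unfold LF tameUnit
    rw [← mul_pow, ← mul_pow, ← map_mul, ← map_mul, key]

end steinbergRing

end Groth.Agent.Lib.Helper71.Dim1
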