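import Mathlib
import Groth.Prelude.Def_Tame
import Groth.Agent.Lib.Helper71.Dim1T

set_option autoImplicit false
universe u

namespace Groth.Agent.Lib.Helper71.Dim1

open nonZeroDivisors IsLocalRing CycAlg

section symbol

variable {A : Type u} [CommRing A] [IsLocalRing A] {T : Type u} [CommRing T] [Algebra A T]
  [hloc : ∀ q : MaximalSpectrum T, IsLocalHom (algebraMap A (Localization.AtPrime q.asIdeal))]
  [Fintype (MaximalSpectrum T)]

theorem tameSymbol_eq (hArt : ∀ γ ∈ A⁰, IsArtinianRing (A ⧸ Ideal.span {γ})) (hAT : IsBir A T)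
    (π : T) (hπ : π ∈ T⁰) {x₁ x₂ : A} (h₁ : x₁ ∈ A⁰) (h₂ : x₂ ∈ A⁰)
    (F₁ : Fac A π x₁) (F₂ : Fac A π x₂) :
    tameSymbol A x₁ x₂ = ∏ q : MaximalSpectrum T,
      LF A (Localization.AtPrime q.asIdeal) (algebraMap T (Localization.AtPrime q.asIdeal) π)
        (F₁.u q) (F₂.u q) (F₁.e q) (F₂.e q) := by
  have hne : Nonempty (TameData A x₁ x₂) := ⟨mkData (hAT.isFinExt hArt) π hπ F₁ F₂⟩
  unfold tameSymbol
  rw [dif_pos hne, tame_value_eq hArt h₁ h₂ (Classical.choice hne)
    (mkData (hAT.isFinExt hArt) π hπ F₁ F₂), mkData_value]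

theorem sum_degree_eq (hArt : ∀ γ ∈ A⁰, IsArtinianRing (A ⧸ Ideal.span {γ})) (hAT : IsBir A T)
    (π : T) (hπ : π ∈ T⁰) {b : A} (hb : b ∈ A⁰) (F : Fac A π b) :
    ∑ q : MaximalSpectrum T, F.e q *
      Module.finrank (ResidueField A) (ResidueField (Localization.AtPrime q.asIdeal)) *
      (Ring.ord (Localization.AtPrime q.asIdeal)
        (algebraMap T (Localization.AtPrime q.asIdeal) π)).toNat =
      (Module.length A (A ⧸ Ideal.span {b})).toNat := by
  have hfinT := hAT.finite
  have h1 := length_quot_eq_of_isBir hArt (IsBir.refl A) hAT b hb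
  have hfl := hAT.FL hArt (algebraMap A T b) (hAT.nzd b hb)
  have h2 := length_quot_eq_sum_ord (A := A) (algebraMap A T b) hfl
  rw [← h1, h2, ENat.toNat_sum]
  · apply Finset.sum_congr rfl
    intro q _
    have hq : q.asIdeal.IsMaximal := q.isMaximal
    have hfq := finite_residueField_of_finite (A := A) q.asIdeal
    have hπq : algebraMap T (Localization.AtPrime q.asIdeal) π ∈
        (Localization.AtPrime q.asIdeal)⁰ :=
      IsLocalization.map_nonZeroDivisors_le q.asIdeal.primeCompl
        (Localization.AtPrime q.asIdeal) ⟨π, hπ, rfl⟩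
    rw [ENat.toNat_mul, ← IsScalarTower.algebraMap_apply A T (Localization.AtPrime q.asIdeal),
      F.fac q, ord_unit_mul_pow hπq]
    unfold resDeg
    rw [Module.length_eq_finrank, ENat.toNat_natCast]
    ring
  · intro q _
    have h3 := resDeg_ne_top (A := A) q
    have h4 := ord_algebraMap_ne_top hArt hAT b hb q
    rw [IsScalarTower.algebraMap_apply A T (Localization.AtPrime q.asIdeal)] at h4
    exact WithTop.mul_ne_top h3 h4

end symbol

end Groth.Agent.Lib.Helper71.Dim1
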