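import Mathlib
import Groth.Prelude.Def_Tame
import Groth.Agent.Lib.Helper71.Dim1U

set_option autoImplicit false
universe u

namespace Groth.Agent.Lib.Helper71.Dim1

open nonZeroDivisors IsLocalRing CycAlg

section laws

variable {A : Type u} [CommRing A] [IsLocalRing A]

theorem exists_common_fac (hArt : ∀ γ ∈ A⁰, IsArtinianRing (A ⧸ Ideal.span {γ}))
    (r : ℕ) (x : Fin r → A) (hx : ∀ i, x i ∈ A⁰) :
    ∃ (T : Type u) (_ : CommRing T) (_ : Algebra A T), IsBir A T ∧ ∃ π : T, π ∈ T⁰ ∧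
      ∀ i, Nonempty (Fac A π (x i)) := by
  obtain ⟨T, i1, i2, i3, i4, hST, hAT, π, hπ, hLC⟩ :=
    exists_uniformizer hArt A (IsBir.refl A) r x hx
  clear hAT i4
  clear i3
  exact ⟨T, i1, i2, hST, π, hπ, fun i => nonempty_fac_of_LC π (x i) (fun q hq => hLC q hq i)⟩

theorem tameSymbol_ne_zero (hArt : ∀ γ ∈ A⁰, IsArtinianRing (A ⧸ Ideal.span {γ}))
    {a b : A} (ha : a ∈ A⁰) (hb : b ∈ A⁰) : tameSymbol A a b ≠ 0 := by
  obtain ⟨T, _, _, hAT, π, hπ, hF⟩ := exists_common_fac hArt 2 ![a, b]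
    (fun i => by fin_cases i <;> simp [ha, hb])
  obtain ⟨Fa⟩ : Nonempty (Fac A π a) := hF 0
  obtain ⟨Fb⟩ : Nonempty (Fac A π b) := hF 1
  have hfinT := hAT.finite
  have hint : Algebra.IsIntegral A T := Algebra.IsIntegral.of_finite A T
  have hloc : ∀ q : MaximalSpectrum T,
      IsLocalHom (algebraMap A (Localization.AtPrime q.asIdeal)) := fun q => by
    have := q.isMaximal
    exact isLocalHom_of_isIntegral q.asIdeal
  have hfinM := finite_maximalSpectrum (A := A) T
  let _ := Fintype.ofFinite (MaximalSpectrum T)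
  rw [tameSymbol_eq hArt hAT π hπ ha hb Fa Fb, Finset.prod_ne_zero_iff]
  intro q _
  have hq : q.asIdeal.IsMaximal := q.isMaximal
  have hfq := finite_residueField_of_finite (A := A) q.asIdeal
  exact LF_ne_zero A _ _ _ _ _ _

theorem tameSymbol_mul_left (hArt : ∀ γ ∈ A⁰, IsArtinianRing (A ⧸ Ideal.span {γ}))
    {a a' b : A} (ha : a ∈ A⁰) (ha' : a' ∈ A⁰) (hb : b ∈ A⁰) :
    tameSymbol A (a * a') b = tameSymbol A a b * tameSymbol A a' b := by
  obtain ⟨T, _, _, hAT, π, hπ, hF⟩ := exists_common_fac hArt 3 ![a, a', b]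
    (fun i => by fin_cases i <;> simp [ha, ha', hb])
  obtain ⟨Fa⟩ : Nonempty (Fac A π a) := hF 0
  obtain ⟨Fa'⟩ : Nonempty (Fac A π a') := hF 1
  obtain ⟨Fb⟩ : Nonempty (Fac A π b) := hF 2
  have hfinT := hAT.finite
  have hint : Algebra.IsIntegral A T := Algebra.IsIntegral.of_finite A T
  have hloc : ∀ q : MaximalSpectrum T,
      IsLocalHom (algebraMap A (Localization.AtPrime q.asIdeal)) := fun q => by
    have := q.isMaximal
    exact isLocalHom_of_isIntegral q.asIdeal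
  have hfinM := finite_maximalSpectrum (A := A) T
  let _ := Fintype.ofFinite (MaximalSpectrum T)
  rw [tameSymbol_eq hArt hAT π hπ (mul_mem ha ha') hb (Fa.mul Fa') Fb,
    tameSymbol_eq hArt hAT π hπ ha hb Fa Fb, tameSymbol_eq hArt hAT π hπ ha' hb Fa' Fb,
    ← Finset.prod_mul_distrib]
  apply Finset.prod_congr rfl
  intro q _
  exact LF_mul_left A _ _ _ _ _ _ _ _

theorem tameSymbol_mul_right (hArt : ∀ γ ∈ A⁰, IsArtinianRing (A ⧸ Ideal.span {γ}))
    {a a' b : A} (ha : a ∈ A⁰) (ha' : a' ∈ A⁰) (hb : b ∈ A⁰) :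
    tameSymbol A b (a * a') = tameSymbol A b a * tameSymbol A b a' := by
  obtain ⟨T, _, _, hAT, π, hπ, hF⟩ := exists_common_fac hArt 3 ![a, a', b]
    (fun i => by fin_cases i <;> simp [ha, ha', hb])
  obtain ⟨Fa⟩ : Nonempty (Fac A π a) := hF 0
  obtain ⟨Fa'⟩ : Nonempty (Fac A π a') := hF 1
  obtain ⟨Fb⟩ : Nonempty (Fac A π b) := hF 2
  have hfinT := hAT.finite
  have hint : Algebra.IsIntegral A T := Algebra.IsIntegral.of_finite A T
  have hloc : ∀ q : MaximalSpectrum T,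
      IsLocalHom (algebraMap A (Localization.AtPrime q.asIdeal)) := fun q => by
    have := q.isMaximal
    exact isLocalHom_of_isIntegral q.asIdeal
  have hfinM := finite_maximalSpectrum (A := A) T
  let _ := Fintype.ofFinite (MaximalSpectrum T)
  rw [tameSymbol_eq hArt hAT π hπ hb (mul_mem ha ha') Fb (Fa.mul Fa'),
    tameSymbol_eq hArt hAT π hπ hb ha Fb Fa, tameSymbol_eq hArt hAT π hπ hb ha' Fb Fa',
    ← Finset.prod_mul_distrib]
  apply Finset.prod_congr rfl
  intro q _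
  exact LF_mul_right A _ _ _ _ _ _ _ _

theorem tameSymbol_self (hArt : ∀ γ ∈ A⁰, IsArtinianRing (A ⧸ Ideal.span {γ}))
    {b : A} (hb : b ∈ A⁰) :
    tameSymbol A b b = (-1) ^ (Module.length A (A ⧸ Ideal.span {b})).toNat := by
  obtain ⟨T, _, _, hAT, π, hπ, hF⟩ := exists_common_fac hArt 1 ![b]
    (fun i => by fin_cases i; simp [hb])
  obtain ⟨Fb⟩ : Nonempty (Fac A π b) := hF 0
  have hfinT := hAT.finite
  have hint : Algebra.IsIntegral A T := Algebra.IsIntegral.of_finite A T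
  have hloc : ∀ q : MaximalSpectrum T,
      IsLocalHom (algebraMap A (Localization.AtPrime q.asIdeal)) := fun q => by
    have := q.isMaximal
    exact isLocalHom_of_isIntegral q.asIdeal
  have hfinM := finite_maximalSpectrum (A := A) T
  let _ := Fintype.ofFinite (MaximalSpectrum T)
  rw [tameSymbol_eq hArt hAT π hπ hb hb Fb Fb, ← sum_degree_eq hArt hAT π hπ hb Fb,
    ← Finset.prod_pow_eq_pow_sum]
  apply Finset.prod_congr rfl
  intro q _
  exact LF_self A _ _ _ _

theorem tameSymbol_unit_left (hArt : ∀ γ ∈ A⁰, IsArtinianRing (A ⧸ Ideal.span {γ}))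
    (c : Aˣ) {b : A} (hb : b ∈ A⁰) :
    tameSymbol A (c : A) b =
      residue A (c : A) ^ (Module.length A (A ⧸ Ideal.span {b})).toNat := by
  obtain ⟨T, _, _, hAT, π, hπ, hF⟩ := exists_common_fac hArt 1 ![b]
    (fun i => by fin_cases i; simp [hb])
  obtain ⟨Fb⟩ : Nonempty (Fac A π b) := hF 0
  have hfinT := hAT.finite
  have hint : Algebra.IsIntegral A T := Algebra.IsIntegral.of_finite A T
  have hloc : ∀ q : MaximalSpectrum T,
      IsLocalHom (algebraMap A (Localization.AtPrime q.asIdeal)) := fun q => by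
    have := q.isMaximal
    exact isLocalHom_of_isIntegral q.asIdeal
  have hfinM := finite_maximalSpectrum (A := A) T
  let _ := Fintype.ofFinite (MaximalSpectrum T)
  rw [tameSymbol_eq hArt hAT π hπ c.isUnit.mem_nonZeroDivisors hb (Fac.ofUnit π c) Fb,
    ← sum_degree_eq hArt hAT π hπ hb Fb, ← Finset.prod_pow_eq_pow_sum]
  apply Finset.prod_congr rfl
  intro q _
  exact LF_ofUnit A _ _ _ _ _

theorem tameSymbol_steinberg (hArt : ∀ γ ∈ A⁰, IsArtinianRing (A ⧸ Ideal.span {γ}))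
    {a b : A} (ha : a ∈ A⁰) (hb : b ∈ A⁰) (hba : b - a ∈ A⁰) :
    tameSymbol A a (b - a) * tameSymbol A b b = tameSymbol A b (b - a) * tameSymbol A a b := by
  obtain ⟨T, _, _, hAT, π, hπ, hF⟩ := exists_common_fac hArt 3 ![a, b, b - a]
    (fun i => by fin_cases i <;> simp [ha, hb, hba])
  obtain ⟨Fa⟩ : Nonempty (Fac A π a) := hF 0
  obtain ⟨Fb⟩ : Nonempty (Fac A π b) := hF 1
  obtain ⟨Fw⟩ : Nonempty (Fac A π (b - a)) := hF 2
  have hfinT := hAT.finite
  have hint : Algebra.IsIntegral A T := Algebra.IsIntegral.of_finite A T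
  have hloc : ∀ q : MaximalSpectrum T,
      IsLocalHom (algebraMap A (Localization.AtPrime q.asIdeal)) := fun q => by
    have := q.isMaximal
    exact isLocalHom_of_isIntegral q.asIdeal
  have hfinM := finite_maximalSpectrum (A := A) T
  let _ := Fintype.ofFinite (MaximalSpectrum T)
  rw [tameSymbol_eq hArt hAT π hπ ha hba Fa Fw, tameSymbol_eq hArt hAT π hπ hb hb Fb Fb,
    tameSymbol_eq hArt hAT π hπ hb hba Fb Fw, tameSymbol_eq hArt hAT π hπ ha hb Fa Fb,
    ← Finset.prod_mul_distrib, ← Finset.prod_mul_distrib]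
  apply Finset.prod_congr rfl
  intro q _
  have hπq : algebraMap T (Localization.AtPrime q.asIdeal) π ∈
      (Localization.AtPrime q.asIdeal)⁰ :=
    IsLocalization.map_nonZeroDivisors_le q.asIdeal.primeCompl
      (Localization.AtPrime q.asIdeal) ⟨π, hπ, rfl⟩
  apply LF_steinberg A hπq
  rw [← Fw.fac q, ← Fb.fac q, ← Fa.fac q, map_sub]

end laws

end Groth.Agent.Lib.Helper71.Dim1
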