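import Mathlib
import Groth.Prelude.Def_Tame
import Groth.Agent.Lib.Helper71.Dim1V

set_option autoImplicit false
universe u

namespace Groth.Agent.Lib.Helper71.Dim1

open nonZeroDivisors IsLocalRing CycAlg

section transport

theorem ord_ringEquiv {R R' : Type*} [CommRing R] [CommRing R'] (φ : R ≃+* R') (x : R) :
    Ring.ord R' (φ x) = Ring.ord R x := by
  unfold Ring.ord
  rw [Module.length_quotient, Module.length_quotient]
  have h1 : (Ideal.span {x} : Ideal R) = φ.idealComapOrderIso (Ideal.span {φ x}) := by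
    rw [RingEquiv.idealComapOrderIso_apply]
    have h2 : (Ideal.span {φ x} : Ideal R') = Ideal.map (φ : R →+* R') (Ideal.span {x}) := by
      rw [Ideal.map_span, Set.image_singleton]; rfl
    rw [h2]
    exact (Ideal.comap_map_of_bijective _ φ.bijective).symm
  rw [h1]
  exact (Order.coheight_orderIso φ.idealComapOrderIso (Ideal.span {φ x})).symm

variable (A : Type u) [CommRing A] [IsLocalRing A]
  {L : Type u} [CommRing L] [IsLocalRing L] [Algebra A L] [IsLocalHom (algebraMap A L)]
  {L' : Type u} [CommRing L'] [IsLocalRing L'] [Algebra A L'] [IsLocalHom (algebraMap A L')]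

/-- the isomorphism of residue fields induced by an isomorphism of local `A`-algebras. -/
noncomputable def resEquiv (φ : L ≃ₐ[A] L') : ResidueField L ≃ₐ[ResidueField A] ResidueField L' :=
  AlgEquiv.ofRingEquiv (f := ResidueField.mapEquiv (φ : L ≃+* L')) (by
    intro x
    obtain ⟨a, rfl⟩ := residue_surjective x
    rw [ResidueField.algebraMap_residue, ResidueField.algebraMap_residue]
    change ResidueField.map ((φ : L ≃+* L') : L →+* L') (residue L (algebraMap A L a)) = _
    rw [ResidueField.map_residue]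
    congr 1
    exact φ.commutes a)

theorem resEquiv_residue (φ : L ≃ₐ[A] L') (y : L) :
    resEquiv A φ (residue L y) = residue L' (φ y) := by
  change ResidueField.map ((φ : L ≃+* L') : L →+* L') (residue L y) = _
  rw [ResidueField.map_residue]
  rfl

theorem tameUnit_algEquiv (φ : L ≃ₐ[A] L') (u₁ u₂ : Lˣ) (e₁ e₂ : ℕ) :
    tameUnit L' (Units.map (φ : L →* L') u₁) (Units.map (φ : L →* L') u₂) e₁ e₂ =
      resEquiv A φ (tameUnit L u₁ u₂ e₁ e₂) := by
  unfold tameUnit
  rw [map_mul, map_mul, map_pow, map_neg, map_one, map_inv₀, map_pow, map_pow,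
    resEquiv_residue, resEquiv_residue]
  rfl

theorem LF_algEquiv (φ : L ≃ₐ[A] L') (π : L) (u₁ u₂ : Lˣ) (e₁ e₂ : ℕ) :
    LF A L' (φ π) (Units.map (φ : L →* L') u₁) (Units.map (φ : L →* L') u₂) e₁ e₂ =
      LF A L π u₁ u₂ e₁ e₂ := by
  unfold LF
  rw [tameUnit_algEquiv A φ, Algebra.norm_eq_of_algEquiv]
  have h := ord_ringEquiv (φ : L ≃+* L') π
  have h' : Ring.ord L' (φ π) = Ring.ord L π := h
  rw [h']

end transport

section normtower

variable (A : Type u) [CommRing A] [IsLocalRing A]
  (B : Type u) [CommRing B] [IsLocalRing B] [Algebra A B] [IsLocalHom (algebraMap A B)]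
  (L : Type u) [CommRing L] [IsLocalRing L] [Algebra A L] [Algebra B L] [IsScalarTower A B L]
  [IsLocalHom (algebraMap A L)] [IsLocalHom (algebraMap B L)]

theorem norm_LF (π : L) (u₁ u₂ : Lˣ) (e₁ e₂ : ℕ) :
    Algebra.norm (ResidueField A) (LF B L π u₁ u₂ e₁ e₂) = LF A L π u₁ u₂ e₁ e₂ := by
  unfold LF
  rw [map_pow, Algebra.norm_norm]

end normtower

section dimle

theorem isArtinianRing_quotient_of_dim_le_one {A : Type u} [CommRing A] [IsNoetherianRing A]
    (hA : ringKrullDim A ≤ 1) (γ : A) (hγ : γ ∈ A⁰) :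
    IsArtinianRing (A ⧸ Ideal.span {γ}) := by
  have h1 := (ringKrullDim_quotient_succ_le_of_nonZeroDivisor hγ).trans hA
  have h2 : ringKrullDim (A ⧸ Ideal.span {γ}) ≤ 0 := wb_le_zero _ h1
  have : Ring.KrullDimLE 0 (A ⧸ Ideal.span {γ}) := Ring.krullDimLE_iff.mpr h2
  exact IsNoetherianRing.isArtinianRing_of_krullDimLE_zero

end dimle

section finext

variable {A : Type u} [CommRing A] [IsLocalRing A] [IsNoetherianRing A]
  {B : Type u} [CommRing B] [Algebra A B]

/-- an element of `B` killed by a power of the maximal ideal vanishes when `𝔪 ∉ Ass_A B`. -/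
theorem eq_zero_of_pow_smul_eq_zero (hass : maximalIdeal A ∉ associatedPrimes A B) (n : ℕ)
    (β : B) (h : ∀ r ∈ maximalIdeal A ^ n, r • β = 0) : β = 0 := by
  by_contra hβ
  obtain ⟨P, hP, hle⟩ := exists_le_isAssociatedPrime_of_isNoetherianRing A β hβ
  have hPprime := hP.isPrime
  have h1 : maximalIdeal A ^ n ≤ P := by
    intro r hr
    apply hle
    rw [Submodule.mem_colon_singleton]
    simpa using h r hr
  have h2 : maximalIdeal A ≤ P := hPprime.le_of_pow_le h1
  have h3 : P = maximalIdeal A :=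
    ((maximalIdeal.isMaximal A).eq_of_le hPprime.ne_top h2).symm
  exact hass (h3 ▸ hP)

theorem exists_nzd_mem_maximalIdeal_pow (hinj : Function.Injective (algebraMap A B))
    (hass : maximalIdeal A ∉ associatedPrimes A B) (n : ℕ) :
    ∃ z ∈ A⁰, z ∈ maximalIdeal A ^ n := by
  have hassA : maximalIdeal A ∉ associatedPrimes A A := fun h =>
    hass (associatedPrimes.subset_of_injective (f := Algebra.linearMap A B) hinj h)
  have hex : ∃ z₀ ∈ A⁰, z₀ ∈ maximalIdeal A := by
    by_contra! hcon
    have hsub : ((maximalIdeal A : Ideal A) : Set A) ⊆ ⋃ p ∈ associatedPrimes A A, (p : Set A) := by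
      rw [biUnion_associatedPrimes_eq_compl_nonZeroDivisors]
      intro r hr hr'
      exact hcon r hr' hr
    have hne : (associatedPrimes A A).Nonempty := associatedPrimes.nonempty A A
    obtain ⟨Ia, hIa⟩ := hne
    obtain ⟨p, hp, hmp⟩ := (Ideal.subset_union_prime_finite (associatedPrimes.finite A A) Ia Ia
      (fun I hin _ _ => IsAssociatedPrime.isPrime hin)).mp hsub
    have hpprime : p.IsPrime := IsAssociatedPrime.isPrime hp
    have h3 : p = maximalIdeal A :=
      ((maximalIdeal.isMaximal A).eq_of_le hpprime.ne_top hmp).symm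
    exact hassA (h3 ▸ hp)
  obtain ⟨z₀, hz₀, hz₀m⟩ := hex
  exact ⟨z₀ ^ n, pow_mem hz₀ n, Ideal.pow_mem_pow hz₀m n⟩

theorem isBir_of_isFinExt (hB : IsFinExt A B (maximalIdeal A))
    (hass : maximalIdeal A ∉ associatedPrimes A B) : IsBir A B := by
  obtain ⟨hinj, hfin, n, hn⟩ := hB
  refine ⟨hfin, hinj, ?_, ?_⟩
  · intro γ hγ
    rw [mem_nonZeroDivisors_iff_right]
    intro β hβ
    apply eq_zero_of_pow_smul_eq_zero hass n
    intro r hr
    obtain ⟨α, hα⟩ := hn r hr β
    have h1 : algebraMap A B (α * γ) = 0 := by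
      rw [map_mul, hα, Algebra.smul_def, mul_assoc, hβ, mul_zero]
    have h2 : α * γ = 0 := hinj (by rw [h1, map_zero])
    have h3 : α = 0 := (mem_nonZeroDivisors_iff_right.1 hγ) α h2
    rw [← hα, h3, map_zero]
  · obtain ⟨z, hz, hzn⟩ := exists_nzd_mem_maximalIdeal_pow hinj hass n
    refine ⟨z, hz, fun s => ?_⟩
    obtain ⟨α, hα⟩ := hn z hzn s
    exact ⟨α, by rw [hα, Algebra.smul_def]⟩

end finext

end Groth.Agent.Lib.Helper71.Dim1
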