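import Mathlib
import Groth.Prelude.Def_Tame
import Groth.Agent.Lib.Helper71.Dim1W
import Groth.Agent.Lib.Helper55.KrullDimIntegral

set_option autoImplicit false
universe u

namespace Groth.Agent.Lib.Helper71.Dim1

open nonZeroDivisors IsLocalRing CycAlg

section finextden

variable {A : Type u} [CommRing A] [IsLocalRing A] {S : Type u} [CommRing S] [Algebra A S]

theorem isFinExt_of_den (hArt : ∀ γ ∈ A⁰, IsArtinianRing (A ⧸ Ideal.span {γ}))
    (hinj : Function.Injective (algebraMap A S)) (hfin : Module.Finite A S)
    (hden : ∃ z ∈ A⁰, ∀ s : S, ∃ α : A, algebraMap A S α = algebraMap A S z * s) :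
    CycAlg.IsFinExt A S (maximalIdeal A) := by
  refine ⟨hinj, hfin, ?_⟩
  obtain ⟨z, hz, hden⟩ := hden
  obtain ⟨n, hn⟩ := exists_pow_le_span z (hArt z hz)
  refine ⟨n, fun r hr b => ?_⟩
  obtain ⟨c, rfl⟩ := Ideal.mem_span_singleton'.1 (hn hr)
  obtain ⟨α, hα⟩ := hden b
  refine ⟨c * α, ?_⟩
  rw [map_mul, hα, Algebra.smul_def, map_mul]; ring

end finextden

section locat

variable {B : Type u} [CommRing B]

/-- localization of the `B`-algebra `T` at the prime `q` of `B`. -/
abbrev LocAt (T : Type u) [CommRing T] [Algebra B T] (q : Ideal B) [q.IsPrime] : Type u :=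
  Localization (Algebra.algebraMapSubmonoid T q.primeCompl)

variable {T : Type u} [CommRing T] [Algebra B T] (q : Ideal B) [q.IsPrime]

theorem locAt_injective (hinj : Function.Injective (algebraMap B T)) :
    Function.Injective (algebraMap (Localization.AtPrime q) (LocAt T q)) :=
  localizationAlgebra_injective (Localization.AtPrime q) (LocAt T q) hinj

theorem locAt_den
    (hden : ∃ z ∈ B⁰, ∀ t : T, ∃ β : B, algebraMap B T β = algebraMap B T z * t) :
    ∃ z ∈ (Localization.AtPrime q)⁰, ∀ t : LocAt T q, ∃ β : Localization.AtPrime q,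
      algebraMap (Localization.AtPrime q) (LocAt T q) β =
        algebraMap (Localization.AtPrime q) (LocAt T q) z * t := by
  obtain ⟨z, hz, h⟩ := hden
  refine ⟨algebraMap B (Localization.AtPrime q) z,
    IsLocalization.map_nonZeroDivisors_le q.primeCompl (Localization.AtPrime q) ⟨z, hz, rfl⟩, ?_⟩
  intro t
  obtain ⟨t₀, ⟨s', hs'⟩, rfl⟩ :=
    IsLocalization.exists_mk'_eq (Algebra.algebraMapSubmonoid T q.primeCompl) t
  obtain ⟨c, hc, rfl⟩ := hs'
  obtain ⟨β, hβ⟩ := h t₀
  refine ⟨IsLocalization.mk' (Localization.AtPrime q) β ⟨c, hc⟩, ?_⟩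
  rw [IsLocalization.algebraMap_mk' T (Localization.AtPrime q) (LocAt T q), hβ,
    ← IsScalarTower.algebraMap_apply B (Localization.AtPrime q) (LocAt T q),
    IsScalarTower.algebraMap_apply B T (LocAt T q), IsLocalization.mul_mk'_eq_mk'_of_mul]

end locat


section maxcorr

variable {B : Type u} [CommRing B] {T : Type u} [CommRing T] [Algebra B T] [Module.Finite B T]
  (q : Ideal B) [hq : q.IsMaximal]

theorem comap_locAt_liesOver (k' : Ideal (LocAt T q)) [k'.IsMaximal] :
    (k'.comap (algebraMap T (LocAt T q))).comap (algebraMap B T) = q := by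
  have hint : Algebra.IsIntegral (Localization.AtPrime q) (LocAt T q) :=
    Algebra.IsIntegral.of_finite _ _
  have h1 : (k'.comap (algebraMap (Localization.AtPrime q) (LocAt T q))).IsMaximal :=
    Ideal.isMaximal_comap_of_isIntegral_of_isMaximal k'
  have h2 : k'.comap (algebraMap (Localization.AtPrime q) (LocAt T q)) =
      maximalIdeal (Localization.AtPrime q) := IsLocalRing.eq_maximalIdeal h1
  rw [Ideal.comap_comap, ← IsScalarTower.algebraMap_eq B T (LocAt T q),
    IsScalarTower.algebraMap_eq B (Localization.AtPrime q) (LocAt T q), ← Ideal.comap_comap, h2]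
  exact Localization.AtPrime.under_maximalIdeal

theorem comap_locAt_isMaximal (k' : Ideal (LocAt T q)) [k'.IsMaximal] :
    (k'.comap (algebraMap T (LocAt T q))).IsMaximal := by
  have : Algebra.IsIntegral B T := Algebra.IsIntegral.of_finite B T
  have hp : (k'.comap (algebraMap T (LocAt T q))).IsPrime := Ideal.comap_isPrime _ _
  apply Ideal.isMaximal_of_isIntegral_of_isMaximal_comap (R := B)
  rw [comap_locAt_liesOver]
  exact hq

omit [Module.Finite B T] in
theorem map_locAt_isMaximal (k : Ideal T) [hk : k.IsMaximal] (hkq : k.comap (algebraMap B T) = q) :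
    (k.map (algebraMap T (LocAt T q))).IsMaximal ∧
      (k.map (algebraMap T (LocAt T q))).comap (algebraMap T (LocAt T q)) = k := by
  have hdisj : Disjoint (Algebra.algebraMapSubmonoid T q.primeCompl : Set T) (k : Set T) := by
    rw [Set.disjoint_left]
    rintro _ ⟨c, hc, rfl⟩ hck
    apply hc
    rw [← hkq]
    exact hck
  have hkp : k.IsPrime := hk.isPrime
  have hcm : (k.map (algebraMap T (LocAt T q))).comap (algebraMap T (LocAt T q)) = k :=
    IsLocalization.under_map_of_isPrime_disjoint (Algebra.algebraMapSubmonoid T q.primeCompl)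
      (LocAt T q) hkp hdisj
  have hprime : (k.map (algebraMap T (LocAt T q))).IsPrime :=
    IsLocalization.isPrime_of_isPrime_disjoint (Algebra.algebraMapSubmonoid T q.primeCompl)
      (LocAt T q) k hkp hdisj
  refine ⟨?_, hcm⟩
  obtain ⟨n', hn'max, hle⟩ := Ideal.exists_le_maximal _ hprime.ne_top
  have h3 : k ≤ n'.comap (algebraMap T (LocAt T q)) := by
    rw [← hcm]; exact Ideal.comap_mono hle
  have hne : n'.comap (algebraMap T (LocAt T q)) ≠ ⊤ := (Ideal.comap_isPrime _ n').ne_top
  have h4 : k = n'.comap (algebraMap T (LocAt T q)) := hk.eq_of_le hne h3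
  have h5 : n' = k.map (algebraMap T (LocAt T q)) := by
    rw [h4]
    exact (IsLocalization.map_under (Algebra.algebraMapSubmonoid T q.primeCompl) (LocAt T q)
      n').symm
  rw [← h5]; exact hn'max

/-- the maximal ideal of `T` under a maximal ideal of the localization. -/
noncomputable def locAtDown (k' : MaximalSpectrum (LocAt T q)) : MaximalSpectrum T :=
  ⟨k'.asIdeal.comap (algebraMap T (LocAt T q)), by
    have := k'.isMaximal
    exact comap_locAt_isMaximal q k'.asIdeal⟩

theorem locAtDown_injective : Function.Injective (locAtDown (T := T) q) := by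
  intro k₁ k₂ h
  have h1 : k₁.asIdeal.comap (algebraMap T (LocAt T q)) =
      k₂.asIdeal.comap (algebraMap T (LocAt T q)) := congrArg MaximalSpectrum.asIdeal h
  apply MaximalSpectrum.ext
  rw [← IsLocalization.map_under (Algebra.algebraMapSubmonoid T q.primeCompl) (LocAt T q)
    k₁.asIdeal, ← IsLocalization.map_under (Algebra.algebraMapSubmonoid T q.primeCompl) (LocAt T q)
    k₂.asIdeal]
  exact congrArg _ h1

theorem locAtDown_comap (k' : MaximalSpectrum (LocAt T q)) :
    (locAtDown q k').asIdeal.comap (algebraMap B T) = q := by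
  have := k'.isMaximal
  exact comap_locAt_liesOver q k'.asIdeal

theorem exists_locAtDown_eq (k : MaximalSpectrum T) (hkq : k.asIdeal.comap (algebraMap B T) = q) :
    ∃ k' : MaximalSpectrum (LocAt T q), locAtDown q k' = k := by
  have := k.isMaximal
  obtain ⟨hmax, hcm⟩ := map_locAt_isMaximal q k.asIdeal hkq
  exact ⟨⟨_, hmax⟩, MaximalSpectrum.ext hcm⟩

end maxcorr


section perq

variable {A : Type u} [CommRing A] [IsLocalRing A] {B : Type u} [CommRing B] [Algebra A B]
  {T : Type u} [CommRing T] [Algebra B T] [Algebra A T] [IsScalarTower A B T]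
  (q : Ideal B) [hq : q.IsMaximal]

omit [IsLocalRing A] hq in
theorem tower_locAt [q.IsPrime] : IsScalarTower A (Localization.AtPrime q) (LocAt T q) := by
  apply IsScalarTower.of_algebraMap_eq
  intro a
  calc algebraMap A (LocAt T q) a
      = algebraMap T (LocAt T q) (algebraMap A T a) :=
        IsScalarTower.algebraMap_apply A T (LocAt T q) a
    _ = algebraMap T (LocAt T q) (algebraMap B T (algebraMap A B a)) := by
        rw [← IsScalarTower.algebraMap_apply A B T]
    _ = algebraMap B (LocAt T q) (algebraMap A B a) :=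
        (IsScalarTower.algebraMap_apply B T (LocAt T q) _).symm
    _ = algebraMap (Localization.AtPrime q) (LocAt T q)
          (algebraMap B (Localization.AtPrime q) (algebraMap A B a)) :=
        IsScalarTower.algebraMap_apply B (Localization.AtPrime q) (LocAt T q) _
    _ = algebraMap (Localization.AtPrime q) (LocAt T q) (algebraMap A (Localization.AtPrime q) a) := by
        rw [← IsScalarTower.algebraMap_apply A B (Localization.AtPrime q)]

omit [IsLocalRing A] hq in
theorem tower_locAt_atPrime [q.IsPrime] (k' : Ideal (LocAt T q)) [k'.IsPrime] :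
    IsScalarTower A (Localization.AtPrime q) (Localization.AtPrime k') := by
  have := tower_locAt (A := A) (T := T) q
  apply IsScalarTower.of_algebraMap_eq
  intro a
  calc algebraMap A (Localization.AtPrime k') a
      = algebraMap (LocAt T q) (Localization.AtPrime k') (algebraMap A (LocAt T q) a) :=
        IsScalarTower.algebraMap_apply A (LocAt T q) (Localization.AtPrime k') a
    _ = algebraMap (LocAt T q) (Localization.AtPrime k')
          (algebraMap (Localization.AtPrime q) (LocAt T q)
            (algebraMap A (Localization.AtPrime q) a)) := by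
        rw [← IsScalarTower.algebraMap_apply A (Localization.AtPrime q) (LocAt T q)]
    _ = algebraMap (Localization.AtPrime q) (Localization.AtPrime k')
          (algebraMap A (Localization.AtPrime q) a) :=
        (IsScalarTower.algebraMap_apply (Localization.AtPrime q) (LocAt T q)
          (Localization.AtPrime k') _).symm

/-- the canonical isomorphism `T_k ≃ (T_q)_{k'}` for `k = k' ∩ T`, as `A`-algebras. -/
noncomputable def locIso [q.IsPrime] (k' : Ideal (LocAt T q)) [k'.IsPrime] :
    Localization.AtPrime (k'.comap (algebraMap T (LocAt T q))) ≃ₐ[A] Localization.AtPrime k' :=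
  (IsLocalization.localizationLocalizationAtPrimeIsoLocalization
    (Algebra.algebraMapSubmonoid T q.primeCompl) k').restrictScalars A

omit [IsLocalRing A] hq [Algebra A B] [IsScalarTower A B T] in
theorem locIso_algebraMap [q.IsPrime] (k' : Ideal (LocAt T q)) [k'.IsPrime] (t : T) :
    locIso (A := A) q k' (algebraMap T _ t) =
      algebraMap (LocAt T q) (Localization.AtPrime k') (algebraMap T (LocAt T q) t) := by
  have h := (IsLocalization.localizationLocalizationAtPrimeIsoLocalization
    (Algebra.algebraMapSubmonoid T q.primeCompl) k').commutes t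
  rw [IsScalarTower.algebraMap_apply T (LocAt T q) (Localization.AtPrime k')] at h
  exact h

end perq

end Groth.Agent.Lib.Helper71.Dim1
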