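import Mathlib
import Groth.Prelude.Def_Tame
import Groth.Agent.Lib.Helper71.Dim1X

set_option autoImplicit false
universe u

namespace Groth.Agent.Lib.Helper71.Dim1

open nonZeroDivisors IsLocalRing CycAlg

section symbol'

variable {A : Type u} [CommRing A] [IsLocalRing A] {T : Type u} [CommRing T] [Algebra A T]
  [hloc : ∀ q : MaximalSpectrum T, IsLocalHom (algebraMap A (Localization.AtPrime q.asIdeal))]
  [Fintype (MaximalSpectrum T)]

theorem tameSymbol_eq' (hArt : ∀ γ ∈ A⁰, IsArtinianRing (A ⧸ Ideal.span {γ}))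
    (hfe : CycAlg.IsFinExt A T (maximalIdeal A))
    (π : T) (hπ : π ∈ T⁰) {x₁ x₂ : A} (h₁ : x₁ ∈ A⁰) (h₂ : x₂ ∈ A⁰)
    (F₁ : Fac A π x₁) (F₂ : Fac A π x₂) :
    tameSymbol A x₁ x₂ = ∏ q : MaximalSpectrum T,
      LF A (Localization.AtPrime q.asIdeal) (algebraMap T (Localization.AtPrime q.asIdeal) π)
        (F₁.u q) (F₂.u q) (F₁.e q) (F₂.e q) := by
  have hne : Nonempty (TameData A x₁ x₂) := ⟨mkData hfe π hπ F₁ F₂⟩
  unfold tameSymbol
  rw [dif_pos hne, tame_value_eq hArt h₁ h₂ (Classical.choice hne)
    (mkData hfe π hπ F₁ F₂), mkData_value]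

end symbol'

section perq2

variable {A : Type u} [CommRing A] [IsLocalRing A] {B : Type u} [CommRing B] [Algebra A B]
  {T : Type u} [CommRing T] [Algebra B T] [Algebra A T] [IsScalarTower A B T] [Module.Finite B T]
  (q : Ideal B) [hq : q.IsMaximal]

/-- the canonical isomorphism `T_k ≃ (T_q)_{k'}` for `k = k' ∩ T`, as `A`-algebras. -/
noncomputable def locIsoMax (k' : MaximalSpectrum (LocAt T q)) :
    Localization.AtPrime (locAtDown q k').asIdeal ≃ₐ[A] Localization.AtPrime k'.asIdeal :=
  locIso (A := A) q k'.asIdeal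

omit [IsLocalRing A] [Algebra A B] [IsScalarTower A B T] in
theorem locIsoMax_algebraMap (k' : MaximalSpectrum (LocAt T q)) (t : T) :
    locIsoMax (A := A) q k' (algebraMap T _ t) =
      algebraMap (LocAt T q) (Localization.AtPrime k'.asIdeal) (algebraMap T (LocAt T q) t) :=
  locIso_algebraMap (A := A) q k'.asIdeal t

/-- transport of a family of factorizations to the localization at `q`. -/
noncomputable def Fac.locAt {π : T} {x : A} (F : Fac A π x) :
    Fac (Localization.AtPrime q) (algebraMap T (LocAt T q) π)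
      (algebraMap A (Localization.AtPrime q) x) where
  u := fun k' => Units.map ((locIsoMax (A := A) q k') :
      Localization.AtPrime (locAtDown q k').asIdeal →* Localization.AtPrime k'.asIdeal)
        (F.u (locAtDown q k'))
  e := fun k' => F.e (locAtDown q k')
  fac := by
    intro k'
    have := tower_locAt_atPrime (A := A) (T := T) q k'.asIdeal
    rw [← IsScalarTower.algebraMap_apply A (Localization.AtPrime q)
      (Localization.AtPrime k'.asIdeal), ← (locIsoMax (A := A) q k').commutes x,
      F.fac (locAtDown q k'), map_mul, map_pow, locIsoMax_algebraMap]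
    rfl

open Classical in
/-- the norm of the tame symbol of the localization `B_q`, computed on a refinement `T` of `B`. -/
theorem norm_tameSymbol_locAt
    [hlocB : IsLocalHom (algebraMap A (Localization.AtPrime q))]
    [hlocT : ∀ k : MaximalSpectrum T, IsLocalHom (algebraMap A (Localization.AtPrime k.asIdeal))]
    [Fintype (MaximalSpectrum T)]
    (hArtq : ∀ γ ∈ (Localization.AtPrime q)⁰,
      IsArtinianRing (Localization.AtPrime q ⧸ Ideal.span {γ}))
    (hinj : Function.Injective (algebraMap B T))
    (hden : ∃ z ∈ B⁰, ∀ t : T, ∃ β : B, algebraMap B T β = algebraMap B T z * t)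
    (π : T) (hπ : π ∈ T⁰) {x₁ x₂ : A}
    (h₁ : algebraMap A (Localization.AtPrime q) x₁ ∈ (Localization.AtPrime q)⁰)
    (h₂ : algebraMap A (Localization.AtPrime q) x₂ ∈ (Localization.AtPrime q)⁰)
    (F₁ : Fac A π x₁) (F₂ : Fac A π x₂) :
    Algebra.norm (ResidueField A) (tameSymbol (Localization.AtPrime q)
      (algebraMap A (Localization.AtPrime q) x₁) (algebraMap A (Localization.AtPrime q) x₂)) =
    ∏ k ∈ Finset.univ.filter
        (fun k : MaximalSpectrum T => k.asIdeal.comap (algebraMap B T) = q),
      LF A (Localization.AtPrime k.asIdeal) (algebraMap T (Localization.AtPrime k.asIdeal) π)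
        (F₁.u k) (F₂.u k) (F₁.e k) (F₂.e k) := by
  have hfinq : Module.Finite (Localization.AtPrime q) (LocAt T q) := inferInstance
  have hintq : Algebra.IsIntegral (Localization.AtPrime q) (LocAt T q) :=
    Algebra.IsIntegral.of_finite _ _
  have hlocq : ∀ k' : MaximalSpectrum (LocAt T q),
      IsLocalHom (algebraMap (Localization.AtPrime q) (Localization.AtPrime k'.asIdeal)) :=
    fun k' => by
      have := k'.isMaximal
      exact isLocalHom_of_isIntegral k'.asIdeal
  have htower : ∀ k' : MaximalSpectrum (LocAt T q),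
      IsScalarTower A (Localization.AtPrime q) (Localization.AtPrime k'.asIdeal) :=
    fun k' => tower_locAt_atPrime (A := A) (T := T) q k'.asIdeal
  have hlocA : ∀ k' : MaximalSpectrum (LocAt T q),
      IsLocalHom (algebraMap A (Localization.AtPrime k'.asIdeal)) := fun k' => by
    have := htower k'
    rw [IsScalarTower.algebraMap_eq A (Localization.AtPrime q) (Localization.AtPrime k'.asIdeal)]
    exact RingHom.isLocalHom_comp _ _
  have hfinM := finite_maximalSpectrum (A := Localization.AtPrime q) (LocAt T q)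
  let _ := Fintype.ofFinite (MaximalSpectrum (LocAt T q))
  have hfe := isFinExt_of_den hArtq (locAt_injective q hinj) hfinq (locAt_den q hden)
  have hπ' : algebraMap T (LocAt T q) π ∈ (LocAt T q)⁰ :=
    IsLocalization.map_nonZeroDivisors_le (Algebra.algebraMapSubmonoid T q.primeCompl)
      (LocAt T q) ⟨π, hπ, rfl⟩
  rw [tameSymbol_eq' hArtq hfe (algebraMap T (LocAt T q) π) hπ' h₁ h₂ (F₁.locAt q) (F₂.locAt q),
    map_prod]
  have hterm : ∀ k' : MaximalSpectrum (LocAt T q),
      Algebra.norm (ResidueField A)
        (LF (Localization.AtPrime q) (Localization.AtPrime k'.asIdeal)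
          (algebraMap (LocAt T q) (Localization.AtPrime k'.asIdeal) (algebraMap T (LocAt T q) π))
          ((F₁.locAt q).u k') ((F₂.locAt q).u k') ((F₁.locAt q).e k') ((F₂.locAt q).e k')) =
      LF A (Localization.AtPrime (locAtDown q k').asIdeal)
        (algebraMap T (Localization.AtPrime (locAtDown q k').asIdeal) π)
        (F₁.u (locAtDown q k')) (F₂.u (locAtDown q k')) (F₁.e (locAtDown q k'))
        (F₂.e (locAtDown q k')) := by
    intro k'
    have := htower k'
    rw [norm_LF A (Localization.AtPrime q) (Localization.AtPrime k'.asIdeal),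
      ← locIsoMax_algebraMap (A := A) q k' π]
    exact LF_algEquiv A (locIsoMax (A := A) q k') _ _ _ _ _
  rw [Finset.prod_congr rfl (fun k' _ => hterm k')]
  refine Finset.prod_bij (fun k' _ => locAtDown q k') ?_ ?_ ?_ ?_
  · intro k' _
    rw [Finset.mem_filter]
    exact ⟨Finset.mem_univ _, locAtDown_comap q k'⟩
  · intro k₁ _ k₂ _ h
    exact locAtDown_injective q h
  · intro k hk
    rw [Finset.mem_filter] at hk
    obtain ⟨k', hk'⟩ := exists_locAtDown_eq q k hk.2
    exact ⟨k', Finset.mem_univ _, hk'⟩
  · intro k' _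
    rfl

end perq2

end Groth.Agent.Lib.Helper71.Dim1
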