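import Mathlib
import Groth.Prelude.Def_Tame
import Groth.Agent.Lib.Helper71.Dim1Y

set_option autoImplicit false
universe u

namespace Groth.Agent.Lib.Helper71.Dim1

open nonZeroDivisors IsLocalRing CycAlg

section extformula

variable {A : Type u} [CommRing A] [IsLocalRing A] [IsNoetherianRing A]
  {B : Type u} [CommRing B] [Algebra A B]

omit [IsLocalRing A] in
theorem isArtinianRing_quotient_locAtPrime [Module.Finite A B] (hA : ringKrullDim A = 1)
    (q : Ideal B) [q.IsPrime] (γ : Localization.AtPrime q) (hγ : γ ∈ (Localization.AtPrime q)⁰) :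
    IsArtinianRing (Localization.AtPrime q ⧸ Ideal.span {γ}) := by
  have hint : Algebra.IsIntegral A B := Algebra.IsIntegral.of_finite A B
  have hnB : IsNoetherianRing B := Algebra.FiniteType.isNoetherianRing A B
  have h1 : ringKrullDim (Localization.AtPrime q) ≤ 1 := by
    rw [IsLocalization.AtPrime.ringKrullDim_eq_height q (Localization.AtPrime q)]
    calc (q.height : WithBot ℕ∞) ≤ ringKrullDim B :=
          Ideal.height_le_ringKrullDim_of_ne_top (Ideal.IsPrime.ne_top ‹_›)
      _ ≤ ringKrullDim A := Groth.Agent.Lib.Helper55.ringKrullDim_le_of_isIntegral A B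
      _ = 1 := hA
  exact isArtinianRing_quotient_of_dim_le_one h1 γ hγ

open Classical in
/-- **The tame symbol through a finite extension**: `∂_A(a,b) = ∏_q N_{κ(q)/κ} ∂_{B_q}(a,b)`. -/
theorem tameSymbol_eq_prod_norm (hA : ringKrullDim A = 1)
    (hB : CycAlg.IsFinExt A B (maximalIdeal A))
    (hass : maximalIdeal A ∉ associatedPrimes A B)
    [hloc : ∀ q : MaximalSpectrum B, IsLocalHom (algebraMap A (Localization.AtPrime q.asIdeal))]
    {a b : A} (ha : a ∈ A⁰) (hb : b ∈ A⁰) :
    tameSymbol A a b = ∏ᶠ q : MaximalSpectrum B, Algebra.norm (ResidueField A)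
      (tameSymbol (Localization.AtPrime q.asIdeal)
        (algebraMap A (Localization.AtPrime q.asIdeal) a)
        (algebraMap A (Localization.AtPrime q.asIdeal) b)) := by
  have hArt : ∀ γ ∈ A⁰, IsArtinianRing (A ⧸ Ideal.span {γ}) :=
    fun γ hγ => isArtinianRing_quotient_of_dim_one hA γ hγ
  have hAB : IsBir A B := isBir_of_isFinExt hB hass
  have hfinB := hAB.finite
  have hx : ∀ i, (![algebraMap A B a, algebraMap A B b] : Fin 2 → B) i ∈ B⁰ := by
    intro i
    fin_cases i
    · exact hAB.nzd a ha
    · exact hAB.nzd b hb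
  obtain ⟨T, _, _, _, _, hBT, hAT, π, hπ, hLC⟩ :=
    exists_uniformizer hArt B hAB 2 ![algebraMap A B a, algebraMap A B b] hx
  obtain ⟨Fa⟩ : Nonempty (Fac A π a) := nonempty_fac_of_LC π a (fun k hk => by
    have := hLC k hk 0
    rw [IsScalarTower.algebraMap_apply A B T]
    exact this)
  obtain ⟨Fb⟩ : Nonempty (Fac A π b) := nonempty_fac_of_LC π b (fun k hk => by
    have := hLC k hk 1
    rw [IsScalarTower.algebraMap_apply A B T]
    exact this)
  have hfinT := hAT.finite
  have hfinBT := hBT.finite
  have hintAT : Algebra.IsIntegral A T := Algebra.IsIntegral.of_finite A T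
  have hintBT : Algebra.IsIntegral B T := Algebra.IsIntegral.of_finite B T
  have hlocT : ∀ k : MaximalSpectrum T,
      IsLocalHom (algebraMap A (Localization.AtPrime k.asIdeal)) := fun k => by
    have := k.isMaximal
    exact isLocalHom_of_isIntegral k.asIdeal
  have hfinMT := finite_maximalSpectrum (A := A) T
  let _ := Fintype.ofFinite (MaximalSpectrum T)
  have hfinMB := finite_maximalSpectrum (A := A) B
  let _ := Fintype.ofFinite (MaximalSpectrum B)
  rw [tameSymbol_eq hArt hAT π hπ ha hb Fa Fb, finprod_eq_prod_of_fintype]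
  have hq : ∀ q : MaximalSpectrum B, Algebra.norm (ResidueField A)
      (tameSymbol (Localization.AtPrime q.asIdeal)
        (algebraMap A (Localization.AtPrime q.asIdeal) a)
        (algebraMap A (Localization.AtPrime q.asIdeal) b)) =
      ∏ k ∈ Finset.univ.filter (fun k : MaximalSpectrum T => contr B k = q),
        LF A (Localization.AtPrime k.asIdeal) (algebraMap T (Localization.AtPrime k.asIdeal) π)
          (Fa.u k) (Fb.u k) (Fa.e k) (Fb.e k) := by
    intro q
    have hqmax := q.isMaximal
    have h₁ : algebraMap A (Localization.AtPrime q.asIdeal) a ∈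
        (Localization.AtPrime q.asIdeal)⁰ := by
      rw [IsScalarTower.algebraMap_apply A B (Localization.AtPrime q.asIdeal)]
      exact IsLocalization.map_nonZeroDivisors_le q.asIdeal.primeCompl
        (Localization.AtPrime q.asIdeal) ⟨_, hAB.nzd a ha, rfl⟩
    have h₂ : algebraMap A (Localization.AtPrime q.asIdeal) b ∈
        (Localization.AtPrime q.asIdeal)⁰ := by
      rw [IsScalarTower.algebraMap_apply A B (Localization.AtPrime q.asIdeal)]
      exact IsLocalization.map_nonZeroDivisors_le q.asIdeal.primeCompl
        (Localization.AtPrime q.asIdeal) ⟨_, hAB.nzd b hb, rfl⟩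
    rw [norm_tameSymbol_locAt q.asIdeal
      (fun γ hγ => isArtinianRing_quotient_locAtPrime hA q.asIdeal γ hγ) hBT.inj hBT.den π hπ
      h₁ h₂ Fa Fb]
    apply Finset.prod_congr _ (fun _ _ => rfl)
    ext k
    simp only [Finset.mem_filter, Finset.mem_univ, true_and]
    constructor
    · intro h
      exact MaximalSpectrum.ext h
    · intro h
      exact congrArg MaximalSpectrum.asIdeal h
  rw [Finset.prod_congr rfl (fun q _ => hq q)]
  exact (Finset.prod_fiberwise Finset.univ (contr B) _).symm

end extformula

end Groth.Agent.Lib.Helper71.Dim1
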