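import Mathlib
import Groth.Agent.Lib.Helper71.Dim1O

set_option autoImplicit false
universe u

namespace Groth.Agent.Lib.Helper71.Dim1

open nonZeroDivisors IsLocalRing
open Groth.Agent.Lib.Helper79.LocLength

section detstep

variable {F : Type*} [Field F] {X Y : Type*} [AddCommGroup X] [Module F X] [Module.Finite F X]
  [AddCommGroup Y] [Module F Y] [Module.Finite F Y]

/-- multiplicativity of determinants along `0 → W → X → Y → 0`. -/
theorem det_eq_of_exact (e : X →ₗ[F] X) (W : Submodule F X) (he : W ≤ W.comap e)
    (eY : Y →ₗ[F] Y) (g : X →ₗ[F] Y) (hg : Function.Surjective g) (hker : LinearMap.ker g = W)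
    (hcomm : ∀ x, g (e x) = eY (g x)) :
    LinearMap.det e = LinearMap.det (e.restrict he) * LinearMap.det eY := by
  rw [LinearMap.det_eq_det_mul_det W e he]
  congr 1
  let E : (X ⧸ W) ≃ₗ[F] Y :=
    (Submodule.quotEquivOfEq _ _ hker.symm).trans (g.quotKerEquivOfSurjective hg)
  have hE : ∀ x : X, E (Submodule.Quotient.mk x) = g x := fun x => rfl
  have h1 : eY = (E : (X ⧸ W) →ₗ[F] Y) ∘ₗ (W.mapQ W e he) ∘ₗ (E.symm : Y →ₗ[F] (X ⧸ W)) := by
    ext y
    obtain ⟨xb, rfl⟩ := E.surjective y
    obtain ⟨x, rfl⟩ := Submodule.Quotient.mk_surjective W xb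
    show eY (E (Submodule.Quotient.mk x)) =
      E (W.mapQ W e he (E.symm (E (Submodule.Quotient.mk x))))
    rw [LinearEquiv.symm_apply_apply, Submodule.mapQ_apply, hE, hE, hcomm]
  rw [h1, LinearMap.det_conj]

end detstep

section detFL

variable {R : Type u} [CommRing R] [IsLocalRing R] {S : Type u} [CommRing S] [Algebra R S]
  (V : Type u) [AddCommGroup V] [Module S V] [Module R V] [IsScalarTower R S V]
  [Module (ResidueField R) V] [IsScalarTower R (ResidueField R) V]

omit [IsLocalRing R] in
theorem residue_smul' [IsLocalRing R] [Module (ResidueField R) V]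
    [IsScalarTower R (ResidueField R) V] (r : R) (v : V) : (residue R r) • v = r • v := by
  have h : residue R r = r • (1 : ResidueField R) := by
    rw [Algebra.smul_def, mul_one]; rfl
  rw [h, smul_assoc, one_smul]

/-- the action of `z : S` on `V`, as a `κ`-linear endomorphism. -/
noncomputable def actK (z : S) : V →ₗ[ResidueField R] V where
  toFun v := z • v
  map_add' := smul_add z
  map_smul' c v := by
    obtain ⟨r, rfl⟩ := residue_surjective c
    simp only [RingHom.id_apply]
    rw [residue_smul', residue_smul', smul_comm]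

@[simp] theorem actK_apply (z : S) (v : V) : actK (R := R) V z v = z • v := rfl

/-- an `S`-submodule viewed as a `κ`-subspace. -/
def toK (N : Submodule S V) : Submodule (ResidueField R) V where
  carrier := N
  add_mem' := N.add_mem
  zero_mem' := N.zero_mem
  smul_mem' c v hv := by
    obtain ⟨r, rfl⟩ := residue_surjective c
    rw [residue_smul', ← algebraMap_smul S r v]
    exact N.smul_mem _ hv

variable {V}

theorem mem_toK {N : Submodule S V} {v : V} : v ∈ toK (R := R) V N ↔ v ∈ N := Iff.rfl

theorem toK_stable (N : Submodule S V) (z : S) :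
    toK (R := R) V N ≤ (toK (R := R) V N).comap (actK (R := R) V z) :=
  fun _ hv => N.smul_mem z hv

theorem toK_mono {N N' : Submodule S V} (h : N ≤ N') : toK (R := R) V N ≤ toK (R := R) V N' :=
  fun _ hv => h hv

theorem toK_injective : Function.Injective (toK (R := R) V : Submodule S V → _) := by
  intro N N' h
  ext v
  rw [← mem_toK (R := R), h, mem_toK]

/-- the order embedding of `S`-submodules into `κ`-subspaces. -/
def toKEmb : Submodule S V ↪o Submodule (ResidueField R) V where
  toFun := toK (R := R) V
  inj' := toK_injective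
  map_rel_iff' := Iff.rfl

theorem isFiniteLength_of_finite_residue [Module.Finite (ResidueField R) V] :
    IsFiniteLength S V := by
  rw [isFiniteLength_iff_isNoetherian_isArtinian]
  refine ⟨?_, ?_⟩
  · rw [isNoetherian_iff']
    exact (toKEmb (R := R) (S := S) (V := V)).wellFoundedGT
  · exact ⟨(toKEmb (R := R) (S := S) (V := V)).wellFoundedLT.wf⟩

end detFL

section detFLmain

variable {R : Type u} [CommRing R] [IsLocalRing R] {S : Type u} [CommRing S] [Algebra R S]
  [hloc : ∀ q : MaximalSpectrum S, IsLocalHom (algebraMap R (Localization.AtPrime q.asIdeal))]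
  {V : Type u} [AddCommGroup V] [Module S V] [Module R V] [IsScalarTower R S V]
  [Module (ResidueField R) V] [IsScalarTower R (ResidueField R) V]

/-- the local norm of `z` at `q`. -/
noncomputable def locNorm (R : Type u) [CommRing R] [IsLocalRing R] {S : Type u} [CommRing S]
    [Algebra R S]
    [∀ q : MaximalSpectrum S, IsLocalHom (algebraMap R (Localization.AtPrime q.asIdeal))]
    (z : S) (q : MaximalSpectrum S) : ResidueField R :=
  Algebra.norm (ResidueField R)
    (residue (Localization.AtPrime q.asIdeal) (algebraMap S (Localization.AtPrime q.asIdeal) z))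

/-- one step of the composition series. -/
theorem det_step [Module.Finite R S] [Module.Finite (ResidueField R) V] (z : S)
    {N N' : Submodule S V} (hstep : N ⋖ N') :
    ∃ (I : Ideal S) (hI : I.IsMaximal), N.colon (N' : Set V) = I ∧
      LinearMap.det ((actK (R := R) V z).restrict (toK_stable N' z)) =
        LinearMap.det ((actK (R := R) V z).restrict (toK_stable N z)) *
          locNorm R z ⟨I, hI⟩ := by
  have hsimple : IsSimpleModule S (↥N' ⧸ Submodule.comap N'.subtype N) :=
    (covBy_iff_quot_is_simple hstep.le).mp hstep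
  obtain ⟨I, hI, ⟨E⟩⟩ := isSimpleModule_iff_quot_maximal.mp hsimple
  have hIann : N.colon (N' : Set V) = I := by
    rw [← annihilator_quot_eq_colon, E.annihilator_eq, Ideal.annihilator_quotient]
  refine ⟨I, hI, hIann, ?_⟩
  let e₂ := IsLocalization.AtPrime.equivQuotMaximalIdeal I (Localization.AtPrime I)
  have hlI : IsLocalHom (algebraMap R (Localization.AtPrime I)) := hloc ⟨I, hI⟩
  have hfinY : Module.Finite (ResidueField R) (ResidueField (Localization.AtPrime I)) :=
    finite_residueField_of_finite (A := R) I
  -- the map g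
  let g0 : ↥(toK (R := R) V N') → ResidueField (Localization.AtPrime I) :=
    fun x => e₂ (E (Submodule.Quotient.mk (⟨x.1, x.2⟩ : ↥N')))
  have hg0_add : ∀ x y, g0 (x + y) = g0 x + g0 y := by
    intro x y
    show e₂ (E (Submodule.Quotient.mk (⟨(x + y).1, (x + y).2⟩ : ↥N'))) = _
    have h : (⟨(x + y).1, (x + y).2⟩ : ↥N') = ⟨x.1, x.2⟩ + ⟨y.1, y.2⟩ := rfl
    rw [h, Submodule.Quotient.mk_add, map_add, map_add]
    rfl
  have hg0_smulS : ∀ (a : S) (x : ↥(toK (R := R) V N')) (hax : a • x.1 ∈ N'),
      g0 ⟨a • x.1, hax⟩ =
        residue (Localization.AtPrime I) (algebraMap S (Localization.AtPrime I) a) * g0 x := by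
    intro a x hax
    show e₂ (E (Submodule.Quotient.mk (⟨a • x.1, hax⟩ : ↥N'))) = _
    have h : (⟨a • x.1, hax⟩ : ↥N') = a • ⟨x.1, x.2⟩ := rfl
    rw [h, Submodule.Quotient.mk_smul, map_smul, Algebra.smul_def, Ideal.Quotient.algebraMap_eq,
      map_mul, IsLocalization.AtPrime.equivQuotMaximalIdeal_apply_mk]
    rfl
  let g : ↥(toK (R := R) V N') →ₗ[ResidueField R] ResidueField (Localization.AtPrime I) :=
    { toFun := g0
      map_add' := hg0_add
      map_smul' := by
        intro c x
        obtain ⟨r, rfl⟩ := residue_surjective c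
        have h1 : (residue R r • x) = ⟨algebraMap R S r • x.1, N'.smul_mem _ x.2⟩ := by
          apply Subtype.ext
          show residue R r • x.1 = algebraMap R S r • x.1
          rw [residue_smul', algebraMap_smul]
        rw [h1, hg0_smulS, RingHom.id_apply, Algebra.smul_def, ResidueField.algebraMap_residue,
          ← IsScalarTower.algebraMap_apply] }
  have hg_apply : ∀ x, g x = g0 x := fun _ => rfl
  have hg_surj : Function.Surjective g := by
    intro y
    obtain ⟨t, rfl⟩ := e₂.surjective y
    obtain ⟨xb, rfl⟩ := E.surjective t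
    obtain ⟨x, rfl⟩ := Submodule.Quotient.mk_surjective _ xb
    exact ⟨⟨x.1, x.2⟩, rfl⟩
  let W : Submodule (ResidueField R) ↥(toK (R := R) V N') :=
    Submodule.comap (toK (R := R) V N').subtype (toK (R := R) V N)
  have hg_ker : LinearMap.ker g = W := by
    ext x
    rw [LinearMap.mem_ker, hg_apply]
    show e₂ (E (Submodule.Quotient.mk (⟨x.1, x.2⟩ : ↥N'))) = 0 ↔ x.1 ∈ N
    rw [map_eq_zero_iff e₂ e₂.injective, map_eq_zero_iff E E.injective,
      Submodule.Quotient.mk_eq_zero]
    rfl
  have he : W ≤ W.comap ((actK (R := R) V z).restrict (toK_stable N' z)) := by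
    intro x hx
    exact N.smul_mem z hx
  have hcomm : ∀ x, g (((actK (R := R) V z).restrict (toK_stable N' z)) x) =
      (LinearMap.mulLeft (ResidueField R)
        (residue (Localization.AtPrime I) (algebraMap S (Localization.AtPrime I) z))) (g x) := by
    intro x
    rw [LinearMap.mulLeft_apply, hg_apply, hg_apply, ← hg0_smulS z x (N'.smul_mem z x.2)]
    rfl
  rw [det_eq_of_exact _ W he _ g hg_surj hg_ker hcomm]
  congr 1
  let E' := Submodule.comapSubtypeEquivOfLe (toK_mono (R := R) hstep.le)
  have h2 : (actK (R := R) V z).restrict (toK_stable N z) =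
      E'.toLinearMap ∘ₗ
        (((actK (R := R) V z).restrict (toK_stable N' z)).restrict he) ∘ₗ
        E'.symm.toLinearMap := by
    ext x
    rfl
  rw [h2, LinearMap.det_conj]

/-- **Determinant formula**: the determinant over `κ` of the action of `z` on a finite
dimensional `κ`-space `V` with compatible `S`-module structure is the product of local norms
to the powers of the local lengths. -/
theorem det_actK_eq [Module.Finite R S] [Fintype (MaximalSpectrum S)]
    [Module.Finite (ResidueField R) V] (z : S) :
    LinearMap.det (actK (R := R) V z) = ∏ q : MaximalSpectrum S, locNorm R z q ^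
      (Module.length (Localization.AtPrime q.asIdeal)
        (LocalizedModule q.asIdeal.primeCompl V)).toNat := by
  classical
  have hM : IsFiniteLength S V := isFiniteLength_of_finite_residue (R := R)
  obtain ⟨s, hs_bot, hs_top⟩ := isFiniteLength_iff_exists_compositionSeries.mp hM
  have key : ∀ i : Fin (s.length + 1), ∃ c : MaximalSpectrum S → ℕ,
      (∀ q : MaximalSpectrum S, Module.length (Localization.AtPrime q.asIdeal)
        (LocalizedModule q.asIdeal.primeCompl (s i)) = (c q : ℕ∞)) ∧
      LinearMap.det ((actK (R := R) V z).restrict (toK_stable (s i) z)) =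
        ∏ q : MaximalSpectrum S, locNorm R z q ^ c q := by
    intro i
    induction i using Fin.induction with
    | zero =>
      have h0 : s 0 = ⊥ := hs_bot
      refine ⟨fun _ => 0, fun q => ?_, ?_⟩
      · rw [h0]
        have : Subsingleton (⊥ : Submodule S V) := inferInstance
        rw [Module.length_eq_zero]
        rfl
      · simp only [pow_zero, Finset.prod_const_one]
        have hsub : Subsingleton ↥(toK (R := R) V (s 0)) := by
          rw [h0]
          refine ⟨fun a b => Subtype.ext ?_⟩
          have ha : a.1 ∈ (⊥ : Submodule S V) := a.2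
          have hb : b.1 ∈ (⊥ : Submodule S V) := b.2
          rw [Submodule.mem_bot] at ha hb
          rw [ha, hb]
        have : (actK (R := R) V z).restrict (toK_stable (s 0) z) = LinearMap.id :=
          Subsingleton.elim _ _
        rw [this, LinearMap.det_id]
    | succ i IH =>
      obtain ⟨c, hc, hdet⟩ := IH
      have hstep : s i.castSucc ⋖ s i.succ := s.step i
      obtain ⟨I, hI, hIann, hd⟩ := det_step (R := R) z hstep
      refine ⟨fun q => c q + if q = (⟨I, hI⟩ : MaximalSpectrum S) then 1 else 0, fun q => ?_, ?_⟩
      · have hqm : q.asIdeal.IsMaximal := q.isMaximal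
        rw [length_localized_covBy q.asIdeal hstep, hIann, hc q]
        by_cases h : q = (⟨I, hI⟩ : MaximalSpectrum S)
        · subst h; simp
        · have h' : ¬ I = q.asIdeal := fun h' => h (MaximalSpectrum.ext h'.symm)
          simp only [if_neg h, if_neg h', add_zero]
      · rw [hd, hdet]
        simp_rw [pow_add, Finset.prod_mul_distrib]
        congr 1
        simp
  obtain ⟨c, hc, hdet⟩ := key (Fin.last s.length)
  have hlast : s (Fin.last s.length) = ⊤ := hs_top
  have hlen : ∀ q : MaximalSpectrum S, Module.length (Localization.AtPrime q.asIdeal)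
      (LocalizedModule q.asIdeal.primeCompl V) = (c q : ℕ∞) := by
    intro q
    rw [← hc q]
    symm
    have h1 : Module.length (Localization.AtPrime q.asIdeal)
        (LocalizedModule q.asIdeal.primeCompl (s (Fin.last s.length))) =
        Module.length (Localization.AtPrime q.asIdeal)
        (LocalizedModule q.asIdeal.primeCompl (⊤ : Submodule S V)) := by
      rw [hlast]
    rw [h1]
    exact (IsLocalizedModule.mapEquiv q.asIdeal.primeCompl
      (LocalizedModule.mkLinearMap q.asIdeal.primeCompl (⊤ : Submodule S V))
      (LocalizedModule.mkLinearMap q.asIdeal.primeCompl V) (Localization.AtPrime q.asIdeal)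
      (Submodule.topEquiv (R := S) (M := V))).length_eq
  have htop : toK (R := R) V (s (Fin.last s.length)) = ⊤ := by
    rw [hlast]
    ext v
    simp [mem_toK]
  let E' := LinearEquiv.ofTop (toK (R := R) V (s (Fin.last s.length))) htop
  have h2 : actK (R := R) V z = E'.toLinearMap ∘ₗ
      ((actK (R := R) V z).restrict (toK_stable (s (Fin.last s.length)) z)) ∘ₗ
      E'.symm.toLinearMap := by
    ext x
    rfl
  rw [h2, LinearMap.det_conj, hdet]
  apply Finset.prod_congr rfl
  intro q _
  rw [hlen q, ENat.toNat_natCast]

end detFLmain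

end Groth.Agent.Lib.Helper71.Dim1
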