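import Mathlib
import Groth.Agent.Lib.Helper71.Dim2A
import Groth.Agent.Lib.Helper12.LengthTensor

set_option autoImplicit false
universe u

namespace Groth.Agent.Lib.Helper71.Dim1

open nonZeroDivisors IsLocalRing TensorProduct

section flatker

/-- For a flat local homomorphism `A → B` and a surjection `φ : B → C` with kernel `m_A B`:
`ℓ(B) = ℓ(A) · ℓ(C)` (same statement as helper24's lemma, re-proved here to keep imports small). -/
theorem length_eq_mul_length_of_flat_of_ker_eq' {A B C : Type u} [CommRing A] [CommRing B]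
    [CommRing C] [Algebra A B] [IsLocalRing A] [IsLocalRing B] [IsLocalHom (algebraMap A B)]
    [Module.Flat A B] (φ : B →+* C) (hφ : Function.Surjective φ)
    (hker : RingHom.ker φ = (maximalIdeal A).map (algebraMap A B)) :
    Module.length B B = Module.length A A * Module.length C C := by
  have hff : Module.FaithfullyFlat A B := Module.FaithfullyFlat.of_flat_of_isLocalHom
  have h1 := Groth.Agent.Lib.Helper12.LengthTensor.length_tensor (A := A) (B := B) B A
  have e1 : (B ⊗[A] A) ≃ₗ[B] B := AlgebraTensorModule.rid A B B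
  rw [e1.length_eq] at h1
  rw [h1]
  congr 1
  let _ : Algebra B C := φ.toAlgebra
  have hsurj : Function.Surjective (Algebra.linearMap B C) := hφ
  have hk : LinearMap.ker (Algebra.linearMap B C) =
      (maximalIdeal A).map (algebraMap A B) • (⊤ : Submodule B B) := by
    rw [Ideal.smul_top_eq_map, Algebra.algebraMap_self, Ideal.map_id]
    ext b
    rw [LinearMap.mem_ker, Submodule.restrictScalars_mem, ← hker, RingHom.mem_ker]
    rfl
  have e2 : (B ⧸ ((maximalIdeal A).map (algebraMap A B) • (⊤ : Submodule B B))) ≃ₗ[B] C :=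
    (Submodule.quotEquivOfEq _ _ hk.symm).trans
      ((Algebra.linearMap B C).quotKerEquivOfSurjective hsurj)
  rw [e2.length_eq]
  exact Module.length_eq_of_surjective hφ

end flatker

section quotlen

variable {T : Type u} [CommRing T]

theorem length_localized_quot (q : Ideal T) [q.IsPrime] (J : Ideal T) :
    Module.length (Localization.AtPrime q) (LocalizedModule q.primeCompl (T ⧸ J)) =
      Module.length (Localization.AtPrime q)
        (Localization.AtPrime q ⧸ J.map (algebraMap T (Localization.AtPrime q))) := by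
  have hc := IsLocalization.linearMap_compatibleSMul q.primeCompl (Localization.AtPrime q)
    (Localization.AtPrime q ⧸ J.localized' (Localization.AtPrime q) q.primeCompl
      (Algebra.linearMap T (Localization.AtPrime q)))
    (LocalizedModule q.primeCompl (T ⧸ J))
  let e := (IsLocalizedModule.linearEquiv q.primeCompl
    (J.toLocalizedQuotient' (Localization.AtPrime q) q.primeCompl
      (Algebra.linearMap T (Localization.AtPrime q)))
    (LocalizedModule.mkLinearMap q.primeCompl (T ⧸ J))).restrictScalars
      (Localization.AtPrime q)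
  rw [← e.length_eq]
  have hI : J.localized' (Localization.AtPrime q) q.primeCompl
      (Algebra.linearMap T (Localization.AtPrime q)) =
      J.map (algebraMap T (Localization.AtPrime q)) := by
    rw [Ideal.localized'_eq_map]
  exact (Submodule.quotEquivOfEq _ _ hI).length_eq

end quotlen

section freequot

variable {A : Type u} [CommRing A] [IsLocalRing A] {T : Type u} [CommRing T] [Algebra A T]
  (A' : Type u) [CommRing A'] [Algebra A A']

theorem equivQuot_smul (k : Ideal T) [hk : k.IsMaximal] (a : A) (x : T ⧸ k) :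
    (IsLocalization.AtPrime.equivQuotMaximalIdeal k (Localization.AtPrime k) (a • x) :
      ResidueField (Localization.AtPrime k)) =
    a • (IsLocalization.AtPrime.equivQuotMaximalIdeal k (Localization.AtPrime k) x :
      ResidueField (Localization.AtPrime k)) := by
  obtain ⟨x, rfl⟩ := Ideal.Quotient.mk_surjective x
  rw [Algebra.smul_def, Algebra.smul_def, map_mul]
  congr 1

/-- `T/k ≃ κ(T_k)` as `A`-modules. -/
noncomputable def quotEquivResidue (k : Ideal T) [hk : k.IsMaximal] :
    (T ⧸ k) ≃ₗ[A] ResidueField (Localization.AtPrime k) :=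
  let e := IsLocalization.AtPrime.equivQuotMaximalIdeal k (Localization.AtPrime k)
  { toFun := fun x => e x
    invFun := fun y => e.symm y
    left_inv := e.left_inv
    right_inv := e.right_inv
    map_add' := map_add e
    map_smul' := equivQuot_smul k }

theorem quotEquivResidue_mk (k : Ideal T) [hk : k.IsMaximal] (t : T) :
    quotEquivResidue (A := A) k (Ideal.Quotient.mk k t) =
      residue _ (algebraMap T (Localization.AtPrime k) t) :=
  IsLocalization.AtPrime.equivQuotMaximalIdeal_apply_mk k (Localization.AtPrime k) t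

/-- `(A' ⊗ T)/kT' ≃ (A'/mA')^n` as `A'`-modules. -/
theorem exists_quot_equiv_pi [Module.Finite A T] (k : Ideal T) [hk : k.IsMaximal]
    [hl : IsLocalHom (algebraMap A (Localization.AtPrime k))] :
    ∃ n : ℕ, Nonempty (((A' ⊗[A] T) ⧸
        k.map (Algebra.TensorProduct.includeRight (A := A') (R := A) : T →ₐ[A] A' ⊗[A] T))
      ≃ₗ[A'] (Fin n → A' ⧸ (maximalIdeal A).map (algebraMap A A'))) := by
  have hfin := finite_residueField_of_finite (A := A) k
  let b := Module.finBasis (ResidueField A) (ResidueField (Localization.AtPrime k))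
  let n := Module.finrank (ResidueField A) (ResidueField (Localization.AtPrime k))
  let e3 : ResidueField (Localization.AtPrime k) ≃ₗ[ResidueField A] (Fin n → ResidueField A) :=
    b.equivFun
  let e23 : (T ⧸ k) ≃ₗ[A] (Fin n → A ⧸ maximalIdeal A) :=
    (quotEquivResidue (A := A) k).trans (e3.restrictScalars A)
  let e1 : ((A' ⊗[A] T) ⧸
        k.map (Algebra.TensorProduct.includeRight (A := A') (R := A) : T →ₐ[A] A' ⊗[A] T))
      ≃ₗ[A'] A' ⊗[A] (T ⧸ k) :=
    (Algebra.TensorProduct.tensorQuotientEquiv (R := A) A' T A' k).symm.toLinearEquiv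
  let e4 : A' ⊗[A] (T ⧸ k) ≃ₗ[A'] A' ⊗[A] (Fin n → A ⧸ maximalIdeal A) :=
    AlgebraTensorModule.congr (LinearEquiv.refl A' A') e23
  let e5 : A' ⊗[A] (Fin n → A ⧸ maximalIdeal A) ≃ₗ[A'] (Fin n → A' ⊗[A] (A ⧸ maximalIdeal A)) :=
    TensorProduct.piRight A A' A' (fun _ : Fin n => A ⧸ maximalIdeal A)
  let e6 : (Fin n → A' ⊗[A] (A ⧸ maximalIdeal A)) ≃ₗ[A']
      (Fin n → A' ⧸ (maximalIdeal A).map (algebraMap A A')) :=
    LinearEquiv.piCongrRight (fun _ =>
      (Algebra.TensorProduct.quotIdealMapEquivTensorQuot A' (maximalIdeal A)).symm.toLinearEquiv)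
  exact ⟨n, ⟨e1.trans (e4.trans (e5.trans e6))⟩⟩

end freequot

section fibremulaux

variable {A' T' : Type u} [CommRing A'] [IsLocalRing A'] [CommRing T'] [Algebra A' T']

theorem length_fibre_mul_aux (K : Ideal T') (I₀ : Ideal A')
    (hI₀ : I₀ ≤ K.comap (algebraMap A' T')) (hI₀' : I₀ ≠ ⊤)
    {n : ℕ} (e : (T' ⧸ K) ≃ₗ[A'] (Fin n → A' ⧸ I₀))
    (k' : Ideal T') [hk' : k'.IsPrime] (hle : K ≤ k')
    [hl' : IsLocalHom (algebraMap A' (Localization.AtPrime k'))] :
    Module.length (Localization.AtPrime k')
      (Localization.AtPrime k' ⧸ K.map (algebraMap T' (Localization.AtPrime k'))) =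
    Module.length A' (A' ⧸ I₀) * Module.length (Localization.AtPrime k')
      (Localization.AtPrime k' ⧸ (K ⊔ (maximalIdeal A').map (algebraMap A' T')).map
        (algebraMap T' (Localization.AtPrime k'))) := by
  -- the rings
  have hJ₁le : K.map (algebraMap T' (Localization.AtPrime k')) ≤
      maximalIdeal (Localization.AtPrime k') := by
    rw [Ideal.map_le_iff_le_comap]
    have h2 : Ideal.comap (algebraMap T' (Localization.AtPrime k'))
        (maximalIdeal (Localization.AtPrime k')) = k' :=
      Localization.AtPrime.under_maximalIdeal (I := k')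
    rw [h2]
    exact hle
  have hJ₁₂ : K.map (algebraMap T' (Localization.AtPrime k')) ≤
      (K ⊔ (maximalIdeal A').map (algebraMap A' T')).map
        (algebraMap T' (Localization.AtPrime k')) := Ideal.map_mono le_sup_left
  -- R₀ and its algebra structures
  let f₀ : (A' ⧸ I₀) →+* (T' ⧸ K) := Ideal.quotientMap K (algebraMap A' T') hI₀
  let _ : Algebra (A' ⧸ I₀) (T' ⧸ K) := f₀.toAlgebra
  have htow1 : IsScalarTower A' (A' ⧸ I₀) (T' ⧸ K) :=
    IsScalarTower.of_algebraMap_eq (fun x => rfl)
  have hfree : Module.Free (A' ⧸ I₀) (T' ⧸ K) :=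
    Module.Free.of_equiv (e.extendScalarsOfSurjective Ideal.Quotient.mk_surjective).symm
  have hflat1 : Module.Flat (T' ⧸ K)
      (Localization.AtPrime k' ⧸ K.map (algebraMap T' (Localization.AtPrime k'))) :=
    IsLocalization.flat _ (Algebra.algebraMapSubmonoid (T' ⧸ K) k'.primeCompl)
  let _ : Algebra (A' ⧸ I₀)
      (Localization.AtPrime k' ⧸ K.map (algebraMap T' (Localization.AtPrime k'))) :=
    ((algebraMap (T' ⧸ K) (Localization.AtPrime k' ⧸
      K.map (algebraMap T' (Localization.AtPrime k')))).comp
      (algebraMap (A' ⧸ I₀) (T' ⧸ K))).toAlgebra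
  have htow2 : IsScalarTower (A' ⧸ I₀) (T' ⧸ K)
      (Localization.AtPrime k' ⧸ K.map (algebraMap T' (Localization.AtPrime k'))) :=
    IsScalarTower.of_algebraMap_eq (fun x => rfl)
  have hflat2 : Module.Flat (A' ⧸ I₀)
      (Localization.AtPrime k' ⧸ K.map (algebraMap T' (Localization.AtPrime k'))) :=
    Module.Flat.trans (A' ⧸ I₀) (T' ⧸ K) _
  -- local rings
  have hnt0 : Nontrivial (A' ⧸ I₀) := Ideal.Quotient.nontrivial_iff.mpr hI₀'
  have hloc0 : IsLocalRing (A' ⧸ I₀) :=
    IsLocalRing.of_surjective' (Ideal.Quotient.mk I₀) Ideal.Quotient.mk_surjective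
  have hJ₁ne : K.map (algebraMap T' (Localization.AtPrime k')) ≠ ⊤ := by
    intro h
    rw [h] at hJ₁le
    exact (maximalIdeal.isMaximal (Localization.AtPrime k')).ne_top (top_le_iff.mp hJ₁le)
  have hntP : Nontrivial
      (Localization.AtPrime k' ⧸ K.map (algebraMap T' (Localization.AtPrime k'))) :=
    Ideal.Quotient.nontrivial_iff.mpr hJ₁ne
  have hlocP : IsLocalRing
      (Localization.AtPrime k' ⧸ K.map (algebraMap T' (Localization.AtPrime k'))) :=
    IsLocalRing.of_surjective' (Ideal.Quotient.mk _) Ideal.Quotient.mk_surjective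
  have hmkloc : IsLocalHom (Ideal.Quotient.mk
      (K.map (algebraMap T' (Localization.AtPrime k')))) :=
    IsLocalHom.of_surjective _ Ideal.Quotient.mk_surjective
  have hcompat : ∀ a : A', algebraMap (A' ⧸ I₀)
      (Localization.AtPrime k' ⧸ K.map (algebraMap T' (Localization.AtPrime k')))
      (Ideal.Quotient.mk I₀ a) =
      Ideal.Quotient.mk _ (algebraMap A' (Localization.AtPrime k') a) := by
    intro a
    rw [IsScalarTower.algebraMap_apply A' T' (Localization.AtPrime k')]
    rfl
  have hlocalhom : IsLocalHom (algebraMap (A' ⧸ I₀)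
      (Localization.AtPrime k' ⧸ K.map (algebraMap T' (Localization.AtPrime k')))) := by
    refine ⟨fun a ha => ?_⟩
    obtain ⟨a, rfl⟩ := Ideal.Quotient.mk_surjective a
    rw [hcompat] at ha
    have h1 := isUnit_of_map_unit (Ideal.Quotient.mk
      (K.map (algebraMap T' (Localization.AtPrime k')))) _ ha
    have h2 := isUnit_of_map_unit (algebraMap A' (Localization.AtPrime k')) a h1
    exact h2.map (Ideal.Quotient.mk I₀)
  -- the surjection
  have hker : RingHom.ker (Ideal.Quotient.factor hJ₁₂) =
      (maximalIdeal (A' ⧸ I₀)).map (algebraMap (A' ⧸ I₀)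
        (Localization.AtPrime k' ⧸ K.map (algebraMap T' (Localization.AtPrime k')))) := by
    rw [Ideal.Quotient.factor_ker hJ₁₂,
      ← IsLocalRing.map_maximalIdeal_of_surjective (Ideal.Quotient.mk I₀)
        Ideal.Quotient.mk_surjective]
    have hc : (algebraMap (A' ⧸ I₀)
        (Localization.AtPrime k' ⧸ K.map (algebraMap T' (Localization.AtPrime k')))).comp
        (Ideal.Quotient.mk I₀) =
        (Ideal.Quotient.mk (K.map (algebraMap T' (Localization.AtPrime k')))).comp
          ((algebraMap T' (Localization.AtPrime k')).comp (algebraMap A' T')) := by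
      ext a
      rw [RingHom.comp_apply, hcompat,
        IsScalarTower.algebraMap_apply A' T' (Localization.AtPrime k')]
      rfl
    have hR : ((maximalIdeal A').map (Ideal.Quotient.mk I₀)).map (algebraMap (A' ⧸ I₀)
        (Localization.AtPrime k' ⧸ K.map (algebraMap T' (Localization.AtPrime k')))) =
        (((maximalIdeal A').map (algebraMap A' T')).map
          (algebraMap T' (Localization.AtPrime k'))).map (Ideal.Quotient.mk _) := by
      rw [Ideal.map_map, hc, ← Ideal.map_map, ← Ideal.map_map]
    rw [hR, Ideal.map_sup, Ideal.map_sup, Ideal.map_quotient_self, bot_sup_eq]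
  have key := length_eq_mul_length_of_flat_of_ker_eq' (A := A' ⧸ I₀)
    (Ideal.Quotient.factor hJ₁₂) (Ideal.Quotient.factor_surjective hJ₁₂) hker
  rw [← Module.length_eq_of_surjective (S := Localization.AtPrime k')
      (M := Localization.AtPrime k' ⧸ K.map (algebraMap T' (Localization.AtPrime k')))
      Ideal.Quotient.mk_surjective,
    ← Module.length_eq_of_surjective (S := A') (M := A' ⧸ I₀) Ideal.Quotient.mk_surjective,
    ← Module.length_eq_of_surjective (S := Localization.AtPrime k')
      (M := Localization.AtPrime k' ⧸ (K ⊔ (maximalIdeal A').map (algebraMap A' T')).map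
        (algebraMap T' (Localization.AtPrime k')))
      Ideal.Quotient.mk_surjective] at key
  exact key

end fibremulaux

section fibremul

variable {A : Type u} [CommRing A] [IsLocalRing A] {T : Type u} [CommRing T] [Algebra A T]
  {A' : Type u} [CommRing A'] [IsLocalRing A'] [Algebra A A'] [IsLocalHom (algebraMap A A')]

attribute [local instance] Algebra.TensorProduct.rightAlgebra

omit [IsLocalRing A'] [IsLocalHom (algebraMap A A')] in
theorem map_maximalIdeal_le_of_isLocalHom (k : Ideal T) [hk : k.IsMaximal]
    [hl : IsLocalHom (algebraMap A (Localization.AtPrime k))] :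
    (maximalIdeal A).map (algebraMap A T) ≤ k := by
  rw [Ideal.map_le_iff_le_comap]
  intro x hx
  rw [Ideal.mem_comap]
  have h1 : algebraMap A (Localization.AtPrime k) x ∈ maximalIdeal (Localization.AtPrime k) := by
    rw [mem_maximalIdeal, mem_nonunits_iff]
    intro hu
    exact hx (isUnit_of_map_unit (algebraMap A (Localization.AtPrime k)) x hu)
  rw [IsScalarTower.algebraMap_apply A T (Localization.AtPrime k), ← Ideal.mem_comap] at h1
  have h2 : Ideal.comap (algebraMap T (Localization.AtPrime k))
      (maximalIdeal (Localization.AtPrime k)) = k :=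
    Localization.AtPrime.under_maximalIdeal (I := k)
  rw [h2] at h1
  exact h1

theorem length_fibre_mul [Module.Finite A T] (k : Ideal T) [hk : k.IsMaximal]
    [hl : IsLocalHom (algebraMap A (Localization.AtPrime k))]
    (k' : Ideal (A' ⊗[A] T)) [hk' : k'.IsPrime]
    [hl' : IsLocalHom (algebraMap A' (Localization.AtPrime k'))] :
    Module.length (Localization.AtPrime k')
      (Localization.AtPrime k' ⧸ (k.map (algebraMap T (A' ⊗[A] T))).map
        (algebraMap (A' ⊗[A] T) (Localization.AtPrime k'))) =
    Module.length A' (A' ⧸ (maximalIdeal A).map (algebraMap A A')) *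
    Module.length (Localization.AtPrime k')
      (Localization.AtPrime k' ⧸ (k.map (algebraMap T (A' ⊗[A] T)) ⊔
        (maximalIdeal A').map (algebraMap A' (A' ⊗[A] T))).map
        (algebraMap (A' ⊗[A] T) (Localization.AtPrime k'))) := by
  classical
  by_cases hle : k.map (algebraMap T (A' ⊗[A] T)) ≤ k'
  swap
  · have htop : (k.map (algebraMap T (A' ⊗[A] T))).map
        (algebraMap (A' ⊗[A] T) (Localization.AtPrime k')) = ⊤ := by
      obtain ⟨x, hx, hxk⟩ := SetLike.not_le_iff_exists.mp hle
      apply Ideal.eq_top_of_isUnit_mem _ (Ideal.mem_map_of_mem _ hx)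
      exact IsLocalization.map_units (Localization.AtPrime k') (⟨x, hxk⟩ : k'.primeCompl)
    have htop2 : (k.map (algebraMap T (A' ⊗[A] T)) ⊔
        (maximalIdeal A').map (algebraMap A' (A' ⊗[A] T))).map
        (algebraMap (A' ⊗[A] T) (Localization.AtPrime k')) = ⊤ := by
      rw [Ideal.map_sup, htop, top_sup_eq]
    have h1 : Subsingleton (Localization.AtPrime k' ⧸ (k.map (algebraMap T (A' ⊗[A] T))).map
        (algebraMap (A' ⊗[A] T) (Localization.AtPrime k'))) := by
      rw [htop]; exact Ideal.Quotient.subsingleton_iff.mpr rfl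
    have h2 : Subsingleton (Localization.AtPrime k' ⧸ (k.map (algebraMap T (A' ⊗[A] T)) ⊔
        (maximalIdeal A').map (algebraMap A' (A' ⊗[A] T))).map
        (algebraMap (A' ⊗[A] T) (Localization.AtPrime k'))) := by
      rw [htop2]; exact Ideal.Quotient.subsingleton_iff.mpr rfl
    rw [Module.length_eq_zero (M := Localization.AtPrime k' ⧸
        (k.map (algebraMap T (A' ⊗[A] T))).map (algebraMap (A' ⊗[A] T) (Localization.AtPrime k'))),
      Module.length_eq_zero (M := Localization.AtPrime k' ⧸
        (k.map (algebraMap T (A' ⊗[A] T)) ⊔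
        (maximalIdeal A').map (algebraMap A' (A' ⊗[A] T))).map
        (algebraMap (A' ⊗[A] T) (Localization.AtPrime k'))), mul_zero]
  obtain ⟨n, ⟨e⟩⟩ := exists_quot_equiv_pi (A := A) A' k
  have hI₀ : (maximalIdeal A).map (algebraMap A A') ≤
      (k.map (algebraMap T (A' ⊗[A] T))).comap (algebraMap A' (A' ⊗[A] T)) := by
    rw [Ideal.map_le_iff_le_comap]
    intro x hx
    rw [Ideal.mem_comap, Ideal.mem_comap, ← IsScalarTower.algebraMap_apply A A' (A' ⊗[A] T),
      IsScalarTower.algebraMap_apply A T (A' ⊗[A] T)]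
    apply Ideal.mem_map_of_mem
    exact map_maximalIdeal_le_of_isLocalHom k (Ideal.mem_map_of_mem _ hx)
  have hI₀' : (maximalIdeal A).map (algebraMap A A') ≠ ⊤ :=
    (IsLocalRing.map_maximalIdeal_lt_top (algebraMap A A')).ne
  exact length_fibre_mul_aux (k.map (algebraMap T (A' ⊗[A] T)))
    ((maximalIdeal A).map (algebraMap A A')) hI₀ hI₀' e k' hle

end fibremul

end Groth.Agent.Lib.Helper71.Dim1
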