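import Mathlib
import Groth.Prelude.Def_Tame
import Groth.Agent.Lib.Helper71.Dim2C
import Groth.Agent.Lib.Helper71.Dim1Z

set_option autoImplicit false
universe u

namespace Groth.Agent.Lib.Helper71.Dim1

open nonZeroDivisors IsLocalRing TensorProduct CycAlg

section flatnzd

theorem algebraMap_mem_nzd_of_flat {R S : Type*} [CommRing R] [CommRing S] [Algebra R S]
    [Module.Flat R S] {r : R} (hr : r ∈ R⁰) : algebraMap R S r ∈ S⁰ := by
  have h := Module.Flat.isSMulRegular_of_nonZeroDivisors (M := S) hr
  rw [mem_nonZeroDivisors_iff_right]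
  intro x hx
  apply h
  show r • x = r • 0
  rw [smul_zero, Algebra.smul_def, mul_comm]
  exact hx

end flatnzd

section basechange

variable {A : Type u} [CommRing A] [IsLocalRing A] {T : Type u} [CommRing T] [Algebra A T]
  {A' : Type u} [CommRing A'] [IsLocalRing A'] [Algebra A A'] [IsLocalHom (algebraMap A A')]
  [Module.Flat A A']

attribute [local instance] Algebra.TensorProduct.rightAlgebra

omit [IsLocalRing A] [IsLocalRing A'] [IsLocalHom (algebraMap A A')] in
theorem flat_tensor_right : Module.Flat T (A' ⊗[A] T) := by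
  have h : Algebra.IsPushout A T A' (A' ⊗[A] T) := inferInstance
  exact Module.Flat.isBaseChange (R := A) (S := T) (M := A') (A' ⊗[A] T) h.out

omit [IsLocalRing A] [IsLocalHom (algebraMap A A')] in
theorem isFinExt_tensor (hArt' : ∀ γ ∈ A'⁰, IsArtinianRing (A' ⧸ Ideal.span {γ}))
    (hAT : IsBir A T) : CycAlg.IsFinExt A' (A' ⊗[A] T) (maximalIdeal A') := by
  have hfinT := hAT.finite
  apply isFinExt_of_den hArt'
  · intro x y h
    exact Algebra.TensorProduct.includeLeft_injective (S := A') (R := A) (A := A') (B := T)
      hAT.inj h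
  · infer_instance
  · obtain ⟨z, hz, hden⟩ := hAT.den
    refine ⟨algebraMap A A' z, algebraMap_mem_nzd_of_flat hz, fun s => ?_⟩
    induction s using TensorProduct.induction_on with
    | zero => exact ⟨0, by simp⟩
    | tmul a t =>
      obtain ⟨α, hα⟩ := hden t
      refine ⟨algebraMap A A' α * a, ?_⟩
      rw [Algebra.TensorProduct.algebraMap_apply, Algebra.TensorProduct.algebraMap_apply,
        Algebra.TensorProduct.tmul_mul_tmul, one_mul, Algebra.algebraMap_self, RingHom.id_apply,
        RingHom.id_apply, ← Algebra.smul_def, ← Algebra.smul_def, TensorProduct.smul_tmul,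
        TensorProduct.smul_tmul, Algebra.smul_def, Algebra.smul_def, mul_one, hα]
    | add x y hx hy =>
      obtain ⟨α, hα⟩ := hx
      obtain ⟨β, hβ⟩ := hy
      exact ⟨α + β, by rw [map_add, hα, hβ, mul_add]⟩

omit [Module.Flat A A'] in
theorem under_isMaximal [Module.Finite A T] (k' : Ideal (A' ⊗[A] T)) [hk' : k'.IsMaximal] :
    (k'.under T).IsMaximal := by
  have hintT : Algebra.IsIntegral A T := Algebra.IsIntegral.of_finite A T
  have hintT' : Algebra.IsIntegral A' (A' ⊗[A] T) := Algebra.IsIntegral.of_finite A' _
  have h1 : (k'.under A').IsMaximal := Ideal.isMaximal_comap_of_isIntegral_of_isMaximal k'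
  have h2 : k'.under A' = maximalIdeal A' := IsLocalRing.eq_maximalIdeal h1
  have h3 : (k'.under T).under A = maximalIdeal A := by
    rw [Ideal.under_under, ← Ideal.under_under (B := A'), h2]
    exact IsLocalRing.maximalIdeal_comap (algebraMap A A')
  have hprime : (k'.under T).IsPrime := Ideal.IsPrime.under T k'
  apply Ideal.isMaximal_of_isIntegral_of_isMaximal_comap (R := A)
  show ((k'.under T).under A).IsMaximal
  rw [h3]
  exact maximalIdeal.isMaximal A

/-- the maximal ideal of `T` below a maximal ideal of `A' ⊗ T`. -/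
abbrev down [Module.Finite A T] (k' : MaximalSpectrum (A' ⊗[A] T)) : MaximalSpectrum T :=
  ⟨k'.asIdeal.under T, by have := k'.isMaximal; exact under_isMaximal k'.asIdeal⟩

attribute [local instance] Localization.AtPrime.algebraOfLiesOver

/-- base change of a family of factorizations along `A → A'`. -/
noncomputable def Fac.baseChange [Module.Finite A T] {π : T} {x : A} (F : Fac A π x) :
    Fac A' (algebraMap T (A' ⊗[A] T) π) (algebraMap A A' x) where
  u := fun k' => Units.map ((algebraMap (Localization.AtPrime (down k').asIdeal)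
      (Localization.AtPrime k'.asIdeal)) : _ →* _) (F.u (down k'))
  e := fun k' => F.e (down k')
  fac := by
    intro k'
    rw [← IsScalarTower.algebraMap_apply A A' (Localization.AtPrime k'.asIdeal),
      IsScalarTower.algebraMap_apply A (Localization.AtPrime (down k').asIdeal)
        (Localization.AtPrime k'.asIdeal),
      F.fac (down k'), map_mul, map_pow, Units.coe_map,
      ← IsScalarTower.algebraMap_apply T (Localization.AtPrime (down k').asIdeal)
        (Localization.AtPrime k'.asIdeal),
      IsScalarTower.algebraMap_apply T (A' ⊗[A] T) (Localization.AtPrime k'.asIdeal)]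
    rfl

theorem ord_baseChange [Module.Finite A T] (k' : MaximalSpectrum (A' ⊗[A] T)) (π : T) :
    Ring.ord (Localization.AtPrime k'.asIdeal)
      (algebraMap (A' ⊗[A] T) (Localization.AtPrime k'.asIdeal)
        (algebraMap T (A' ⊗[A] T) π)) =
    Ring.ord (Localization.AtPrime (down k').asIdeal)
      (algebraMap T (Localization.AtPrime (down k').asIdeal) π) *
      Module.length (Localization.AtPrime k'.asIdeal)
        (Localization.AtPrime k'.asIdeal ⧸
          ((down k').asIdeal.map (algebraMap T (A' ⊗[A] T))).map
            (algebraMap (A' ⊗[A] T) (Localization.AtPrime k'.asIdeal))) := by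
  have hflatT : Module.Flat T (A' ⊗[A] T) := flat_tensor_right
  have hflat : Module.Flat (Localization.AtPrime (down k').asIdeal)
      (Localization.AtPrime k'.asIdeal) := inferInstance
  have hloc : IsLocalHom (algebraMap (Localization.AtPrime (down k').asIdeal)
      (Localization.AtPrime k'.asIdeal)) := inferInstance
  have hff : Module.FaithfullyFlat (Localization.AtPrime (down k').asIdeal)
      (Localization.AtPrime k'.asIdeal) := Module.FaithfullyFlat.of_flat_of_isLocalHom
  have key := Groth.Agent.Lib.Helper12.LengthTensor.length_tensor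
    (A := Localization.AtPrime (down k').asIdeal) (B := Localization.AtPrime k'.asIdeal)
    (Localization.AtPrime k'.asIdeal)
    (Localization.AtPrime (down k').asIdeal ⧸
      Ideal.span {algebraMap T (Localization.AtPrime (down k').asIdeal) π})
  rw [(Groth.Agent.Lib.Helper12.LengthTensor.tensorQuotEquiv
    (B := Localization.AtPrime k'.asIdeal) (Localization.AtPrime k'.asIdeal)
    (Ideal.span {algebraMap T (Localization.AtPrime (down k').asIdeal) π})).length_eq] at key
  have hsm : ∀ J : Ideal (Localization.AtPrime k'.asIdeal),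
      (J • (⊤ : Submodule (Localization.AtPrime k'.asIdeal) (Localization.AtPrime k'.asIdeal))) =
        J := by
    intro J
    show J * (⊤ : Ideal _) = J
    exact Ideal.mul_top J
  have hcomp : (algebraMap (Localization.AtPrime (down k').asIdeal)
      (Localization.AtPrime k'.asIdeal)).comp (algebraMap T _) =
      (algebraMap (A' ⊗[A] T) (Localization.AtPrime k'.asIdeal)).comp
        (algebraMap T (A' ⊗[A] T)) := by
    rw [← IsScalarTower.algebraMap_eq, ← IsScalarTower.algebraMap_eq]
  have h1 : (Ideal.span {algebraMap T (Localization.AtPrime (down k').asIdeal) π}).map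
      (algebraMap (Localization.AtPrime (down k').asIdeal) (Localization.AtPrime k'.asIdeal)) =
      Ideal.span {algebraMap (A' ⊗[A] T) (Localization.AtPrime k'.asIdeal)
        (algebraMap T (A' ⊗[A] T) π)} := by
    rw [Ideal.map_span, Set.image_singleton, ← RingHom.comp_apply, hcomp, RingHom.comp_apply]
  have h2 : (maximalIdeal (Localization.AtPrime (down k').asIdeal)).map
      (algebraMap (Localization.AtPrime (down k').asIdeal) (Localization.AtPrime k'.asIdeal)) =
      ((down k').asIdeal.map (algebraMap T (A' ⊗[A] T))).map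
        (algebraMap (A' ⊗[A] T) (Localization.AtPrime k'.asIdeal)) := by
    rw [← Localization.AtPrime.map_eq_maximalIdeal, Ideal.map_map, hcomp, ← Ideal.map_map]
  rw [hsm, hsm, h1, h2] at key
  exact key

omit [Module.Flat A A'] in
theorem length_fibre_eq_zero [Module.Finite A T] (k : MaximalSpectrum T)
    (k' : MaximalSpectrum (A' ⊗[A] T)) (h : k ≠ down k') :
    Module.length (Localization.AtPrime k'.asIdeal)
      (Localization.AtPrime k'.asIdeal ⧸ (k.asIdeal.map (algebraMap T (A' ⊗[A] T))).map
        (algebraMap (A' ⊗[A] T) (Localization.AtPrime k'.asIdeal))) = 0 := by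
  have hle : ¬ k.asIdeal.map (algebraMap T (A' ⊗[A] T)) ≤ k'.asIdeal := by
    intro hle
    apply h
    apply MaximalSpectrum.ext
    rw [Ideal.map_le_iff_le_comap] at hle
    exact k.isMaximal.eq_of_le (down k').isMaximal.ne_top hle
  have htop : (k.asIdeal.map (algebraMap T (A' ⊗[A] T))).map
      (algebraMap (A' ⊗[A] T) (Localization.AtPrime k'.asIdeal)) = ⊤ := by
    obtain ⟨x, hx, hxk⟩ := SetLike.not_le_iff_exists.mp hle
    apply Ideal.eq_top_of_isUnit_mem _ (Ideal.mem_map_of_mem _ hx)
    exact IsLocalization.map_units (Localization.AtPrime k'.asIdeal)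
      (⟨x, hxk⟩ : k'.asIdeal.primeCompl)
  have h1 : Subsingleton (Localization.AtPrime k'.asIdeal ⧸
      (k.asIdeal.map (algebraMap T (A' ⊗[A] T))).map
      (algebraMap (A' ⊗[A] T) (Localization.AtPrime k'.asIdeal))) := by
    rw [htop]; exact Ideal.Quotient.subsingleton_iff.mpr rfl
  exact Module.length_eq_zero

omit [Module.Flat A A'] in
theorem norm_fibre_pow [Module.Finite A T]
    [hlocT : ∀ q : MaximalSpectrum T, IsLocalHom (algebraMap A (Localization.AtPrime q.asIdeal))]
    [hloc' : ∀ q : MaximalSpectrum (A' ⊗[A] T),
      IsLocalHom (algebraMap A' (Localization.AtPrime q.asIdeal))]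
    [Fintype (MaximalSpectrum (A' ⊗[A] T))] (k : MaximalSpectrum T) (t₀ : T) :
    algebraMap (ResidueField A) (ResidueField A') (Algebra.norm (ResidueField A)
        (residue (Localization.AtPrime k.asIdeal)
          (algebraMap T (Localization.AtPrime k.asIdeal) t₀))) ^
      (Module.length A' (A' ⧸ (maximalIdeal A).map (algebraMap A A'))).toNat =
    ∏ k' : MaximalSpectrum (A' ⊗[A] T), locNorm A' (algebraMap T (A' ⊗[A] T) t₀) k' ^
      (Module.length (Localization.AtPrime k'.asIdeal) (Localization.AtPrime k'.asIdeal ⧸
        (k.asIdeal.map (algebraMap T (A' ⊗[A] T))).map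
          (algebraMap (A' ⊗[A] T) (Localization.AtPrime k'.asIdeal)))).toNat := by
  have hk := k.isMaximal
  have hl := hlocT k
  rw [norm_fibre_eq k.asIdeal t₀, ← Finset.prod_pow]
  apply Finset.prod_congr rfl
  intro k' _
  have hl' := hloc' k'
  rw [length_fibre_mul k.asIdeal k'.asIdeal, ENat.toNat_mul, ← pow_mul, mul_comm]
  rfl

end basechange

end Groth.Agent.Lib.Helper71.Dim1
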