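import Mathlib
import Groth.Prelude.Def_Tame
import Groth.Agent.Lib.Helper71.Dim2D

set_option autoImplicit false
universe u

namespace Groth.Agent.Lib.Helper71.Dim1

open nonZeroDivisors IsLocalRing TensorProduct CycAlg

section final

attribute [local instance] Algebra.TensorProduct.rightAlgebra
attribute [local instance] Localization.AtPrime.algebraOfLiesOver

theorem exists_lift_residue {T : Type u} [CommRing T] (k : Ideal T) [hk : k.IsMaximal]
    (y : ResidueField (Localization.AtPrime k)) :
    ∃ t : T, residue (Localization.AtPrime k) (algebraMap T (Localization.AtPrime k) t) = y := by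
  obtain ⟨t, ht⟩ := Ideal.Quotient.mk_surjective
    ((IsLocalization.AtPrime.equivQuotMaximalIdeal k (Localization.AtPrime k)).symm y)
  refine ⟨t, ?_⟩
  have h := IsLocalization.AtPrime.equivQuotMaximalIdeal_apply_mk k (Localization.AtPrime k) t
  rw [ht] at h
  exact h.symm.trans ((IsLocalization.AtPrime.equivQuotMaximalIdeal k
    (Localization.AtPrime k)).apply_symm_apply _)

variable {A A' : Type u} [CommRing A] [CommRing A'] [IsNoetherianRing A] [IsNoetherianRing A']
  [IsLocalRing A] [IsLocalRing A'] [Algebra A A'] [IsLocalHom (algebraMap A A')]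
  [Module.Flat A A']

open Classical in
/-- **Flat base change of the tame symbol.** -/
theorem tameSymbol_flat_baseChange (hA : ringKrullDim A = 1) (hA' : ringKrullDim A' = 1)
    {a₁ a₂ : A} (h₁ : a₁ ∈ A⁰) (h₂ : a₂ ∈ A⁰) :
    IsLocalRing.ResidueField.map (algebraMap A A') (tameSymbol A a₁ a₂) ^
      (Module.length A' (A' ⧸ Ideal.map (algebraMap A A') (maximalIdeal A))).toNat =
    tameSymbol A' (algebraMap A A' a₁) (algebraMap A A' a₂) := by
  have hArt : ∀ γ ∈ A⁰, IsArtinianRing (A ⧸ Ideal.span {γ}) :=
    fun γ hγ => isArtinianRing_quotient_of_dim_one hA γ hγ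
  have hArt' : ∀ γ ∈ A'⁰, IsArtinianRing (A' ⧸ Ideal.span {γ}) :=
    fun γ hγ => isArtinianRing_quotient_of_dim_one hA' γ hγ
  obtain ⟨T, _, _, hAT, π, hπ, hF⟩ := exists_common_fac hArt 2 ![a₁, a₂]
    (fun i => by fin_cases i <;> simp [h₁, h₂])
  obtain ⟨F₁⟩ : Nonempty (Fac A π a₁) := hF 0
  obtain ⟨F₂⟩ : Nonempty (Fac A π a₂) := hF 1
  have hfinT := hAT.finite
  have hintAT : Algebra.IsIntegral A T := Algebra.IsIntegral.of_finite A T
  have hlocT : ∀ k : MaximalSpectrum T,
      IsLocalHom (algebraMap A (Localization.AtPrime k.asIdeal)) := fun k => by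
    have := k.isMaximal
    exact isLocalHom_of_isIntegral k.asIdeal
  have hfinMT := finite_maximalSpectrum (A := A) T
  let _ := Fintype.ofFinite (MaximalSpectrum T)
  -- the base change
  have hfe' : CycAlg.IsFinExt A' (A' ⊗[A] T) (maximalIdeal A') := isFinExt_tensor hArt' hAT
  have hintT' : Algebra.IsIntegral A' (A' ⊗[A] T) := Algebra.IsIntegral.of_finite A' _
  have hloc' : ∀ k' : MaximalSpectrum (A' ⊗[A] T),
      IsLocalHom (algebraMap A' (Localization.AtPrime k'.asIdeal)) := fun k' => by
    have := k'.isMaximal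
    exact isLocalHom_of_isIntegral k'.asIdeal
  have hfinMT' := finite_maximalSpectrum (A := A') (A' ⊗[A] T)
  let _ := Fintype.ofFinite (MaximalSpectrum (A' ⊗[A] T))
  have hflatT : Module.Flat T (A' ⊗[A] T) := flat_tensor_right
  have hπ' : algebraMap T (A' ⊗[A] T) π ∈ (A' ⊗[A] T)⁰ := algebraMap_mem_nzd_of_flat hπ
  have h₁' : algebraMap A A' a₁ ∈ A'⁰ := algebraMap_mem_nzd_of_flat h₁
  have h₂' : algebraMap A A' a₂ ∈ A'⁰ := algebraMap_mem_nzd_of_flat h₂
  rw [tameSymbol_eq hArt hAT π hπ h₁ h₂ F₁ F₂,
    tameSymbol_eq' hArt' hfe' (algebraMap T (A' ⊗[A] T) π) hπ' h₁' h₂' F₁.baseChange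
      F₂.baseChange]
  -- lifts of the tame units
  have hlift : ∀ k : MaximalSpectrum T, ∃ t : T,
      residue (Localization.AtPrime k.asIdeal) (algebraMap T _ t) =
        tameUnit (Localization.AtPrime k.asIdeal) (F₁.u k) (F₂.u k) (F₁.e k) (F₂.e k) := by
    intro k
    have := k.isMaximal
    exact exists_lift_residue k.asIdeal _
  choose t ht using hlift
  -- the terms on the `A'`-side
  have hR : ∀ k' : MaximalSpectrum (A' ⊗[A] T),
      LF A' (Localization.AtPrime k'.asIdeal)
        (algebraMap (A' ⊗[A] T) _ (algebraMap T (A' ⊗[A] T) π))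
        (F₁.baseChange.u k') (F₂.baseChange.u k') (F₁.baseChange.e k') (F₂.baseChange.e k') =
      locNorm A' (algebraMap T (A' ⊗[A] T) (t (down k'))) k' ^
        ((Ring.ord (Localization.AtPrime (down k').asIdeal)
            (algebraMap T (Localization.AtPrime (down k').asIdeal) π)).toNat *
          (Module.length (Localization.AtPrime k'.asIdeal) (Localization.AtPrime k'.asIdeal ⧸
            ((down k').asIdeal.map (algebraMap T (A' ⊗[A] T))).map
              (algebraMap (A' ⊗[A] T) (Localization.AtPrime k'.asIdeal)))).toNat) := by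
    intro k'
    have hk' := k'.isMaximal
    have hkd := (down k').isMaximal
    unfold LF
    rw [ord_baseChange k' π, ENat.toNat_mul]
    congr 1
    unfold locNorm
    congr 1
    show tameUnit (Localization.AtPrime k'.asIdeal)
      (Units.map _ (F₁.u (down k'))) (Units.map _ (F₂.u (down k')))
      (F₁.e (down k')) (F₂.e (down k')) = _
    rw [tameUnit_map (down k').asIdeal k'.asIdeal, ← ht (down k'),
      ResidueField.algebraMap_residue,
      ← IsScalarTower.algebraMap_apply T (Localization.AtPrime (down k').asIdeal)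
        (Localization.AtPrime k'.asIdeal),
      IsScalarTower.algebraMap_apply T (A' ⊗[A] T) (Localization.AtPrime k'.asIdeal)]
  -- the terms on the `A`-side
  have hL : ∀ k : MaximalSpectrum T,
      LF A (Localization.AtPrime k.asIdeal) (algebraMap T (Localization.AtPrime k.asIdeal) π)
        (F₁.u k) (F₂.u k) (F₁.e k) (F₂.e k) =
      (Algebra.norm (ResidueField A)
        (residue (Localization.AtPrime k.asIdeal) (algebraMap T _ (t k)))) ^
        (Ring.ord (Localization.AtPrime k.asIdeal)
          (algebraMap T (Localization.AtPrime k.asIdeal) π)).toNat := by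
    intro k
    unfold LF
    rw [ht k]
  rw [Finset.prod_congr rfl (fun k _ => hL k), Finset.prod_congr rfl (fun k' _ => hR k'),
    map_prod, ← Finset.prod_pow]
  have hterm : ∀ k : MaximalSpectrum T,
      (IsLocalRing.ResidueField.map (algebraMap A A') ((Algebra.norm (ResidueField A)
        (residue (Localization.AtPrime k.asIdeal) (algebraMap T _ (t k)))) ^
        (Ring.ord (Localization.AtPrime k.asIdeal)
          (algebraMap T (Localization.AtPrime k.asIdeal) π)).toNat)) ^
        (Module.length A' (A' ⧸ Ideal.map (algebraMap A A') (maximalIdeal A))).toNat =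
      ∏ k' : MaximalSpectrum (A' ⊗[A] T), locNorm A' (algebraMap T (A' ⊗[A] T) (t k)) k' ^
        ((Ring.ord (Localization.AtPrime k.asIdeal)
            (algebraMap T (Localization.AtPrime k.asIdeal) π)).toNat *
          (Module.length (Localization.AtPrime k'.asIdeal) (Localization.AtPrime k'.asIdeal ⧸
            (k.asIdeal.map (algebraMap T (A' ⊗[A] T))).map
              (algebraMap (A' ⊗[A] T) (Localization.AtPrime k'.asIdeal)))).toNat) := by
    intro k
    rw [map_pow, ← pow_mul, mul_comm, pow_mul]
    have h := norm_fibre_pow (A := A) (A' := A') k (t k)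
    rw [show IsLocalRing.ResidueField.map (algebraMap A A') =
      algebraMap (ResidueField A) (ResidueField A') from rfl, h, ← Finset.prod_pow]
    apply Finset.prod_congr rfl
    intro k' _
    rw [← pow_mul, mul_comm]
  rw [Finset.prod_congr rfl (fun k _ => hterm k), Finset.prod_comm]
  apply Finset.prod_congr rfl
  intro k' _
  rw [Finset.prod_eq_single (down k')]
  · intro k _ hk
    rw [length_fibre_eq_zero k k' hk, ENat.toNat_zero, mul_zero, pow_zero]
  · intro h
    exact absurd (Finset.mem_univ _) h

end final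

end Groth.Agent.Lib.Helper71.Dim1
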