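import Mathlib
import Groth.Prelude.Def_Tame
import Groth.Agent.Lib.Helper71.Dim1Z
import Groth.Agent.Lib.Helper74.LatticeDet

set_option autoImplicit false
set_option linter.unusedSectionVars false
universe u

namespace Groth.Agent.Lib.Helper71.Dim3

open nonZeroDivisors IsLocalRing CycAlg Groth.Agent.Lib.Helper71.Dim1

section basics

variable {A : Type u} [CommRing A] [IsNoetherianRing A] [IsLocalRing A]

omit [IsNoetherianRing A] in
/-- a height-one prime of a two-dimensional local ring is not the maximal ideal. -/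
theorem ne_maximalIdeal_of_height_one (hA : ringKrullDim A = 2) (q : Ideal A)
    (hq : q.height = 1) : q ≠ maximalIdeal A := by
  intro h
  have h1 := IsLocalRing.maximalIdeal_height_eq_ringKrullDim (R := A)
  rw [← h, hq, hA] at h1
  exact absurd h1 (by decide)

omit [IsNoetherianRing A] in
/-- a prime containing a nonzerodivisor and different from the maximal ideal has height one. -/
theorem height_one_of_mem (hA : ringKrullDim A = 2) (q : Ideal A) [hq : q.IsPrime]
    {t : A} (ht : t ∈ A⁰) (htq : t ∈ q) (hqm : q ≠ maximalIdeal A) : q.height = 1 := by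
  have hfin : FiniteRingKrullDim A := by
    rw [finiteRingKrullDim_iff_ne_bot_and_top, hA]
    exact ⟨by decide, by decide⟩
  apply le_antisymm
  · have hlt : q < maximalIdeal A := lt_of_le_of_ne (le_maximalIdeal hq.ne_top) hqm
    have h1 := Ideal.height_add_one_le_of_lt_of_isPrime hlt
    have h2 : ((maximalIdeal A).height : WithBot ℕ∞) = 2 := by
      rw [IsLocalRing.maximalIdeal_height_eq_ringKrullDim, hA]
    have h3 : (maximalIdeal A).height = 2 := WithBot.coe_injective (h2.trans rfl)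
    rw [h3] at h1
    have h4 : q.height ≠ ⊤ := Ideal.height_ne_top_of_isPrime
    obtain ⟨n, hn⟩ := ENat.ne_top_iff_exists.1 h4
    rw [← hn] at h1 ⊢
    have : n + 1 ≤ 2 := by exact_mod_cast h1
    exact_mod_cast (by omega : n ≤ 1)
  · rw [Order.one_le_iff_ne_zero]
    intro h0
    rw [Ideal.height_eq_zero_iff] at h0
    exact Set.disjoint_left.mp (Ideal.disjoint_nonZeroDivisors_of_mem_minimalPrimes h0) htq ht

omit [IsNoetherianRing A] in
/-- primes above a height-one prime. -/
theorem eq_or_eq_of_le (hA : ringKrullDim A = 2) (q : Ideal A) [hq : q.IsPrime]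
    (hq1 : q.height = 1) (p : Ideal A) [hp : p.IsPrime] (hqp : q ≤ p) :
    p = q ∨ p = maximalIdeal A := by
  by_contra hcon
  push Not at hcon
  obtain ⟨h1, h2⟩ := hcon
  have hlt1 : q < p := lt_of_le_of_ne hqp (Ne.symm h1)
  have hlt2 : p < maximalIdeal A := lt_of_le_of_ne (le_maximalIdeal hp.ne_top) h2
  have e1 := Ideal.height_add_one_le_of_lt_of_isPrime hlt1
  have e2 := Ideal.height_add_one_le_of_lt_of_isPrime hlt2
  have h2' : ((maximalIdeal A).height : WithBot ℕ∞) = 2 := by
    rw [IsLocalRing.maximalIdeal_height_eq_ringKrullDim, hA]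
  have h3 : (maximalIdeal A).height = 2 := WithBot.coe_injective (h2'.trans rfl)
  rw [h3] at e2
  rw [hq1] at e1
  have e3 : (1 : ℕ∞) + 1 + 1 ≤ 2 := (add_le_add_left e1 1).trans e2
  exact absurd e3 (by decide)

/-- the localization at a height-one prime is one-dimensional. -/
theorem dim_loc_eq_one (q : Ideal A) [hq : q.IsPrime] (hq1 : q.height = 1) :
    ringKrullDim (Localization.AtPrime q) = 1 := by
  rw [IsLocalization.AtPrime.ringKrullDim_eq_height q, hq1]
  rfl

theorem hArt_loc (q : Ideal A) [hq : q.IsPrime] (hq1 : q.height = 1) :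
    ∀ γ ∈ (Localization.AtPrime q)⁰,
      IsArtinianRing (Localization.AtPrime q ⧸ Ideal.span {γ}) :=
  fun γ hγ => isArtinianRing_quotient_of_dim_one (dim_loc_eq_one q hq1) γ hγ

omit [IsNoetherianRing A] in
theorem krullDimLE_one_quot (hA : ringKrullDim A = 2) (q : Ideal A) [hq : q.IsPrime]
    (hq1 : q.height = 1) : Ring.KrullDimLE 1 (A ⧸ q) := by
  rw [Ring.krullDimLE_one_iff_of_noZeroDivisors]
  intro P hP hPp
  have hle : q ≤ P.comap (Ideal.Quotient.mk q) := by
    intro x hx
    rw [Ideal.mem_comap, Ideal.Quotient.eq_zero_iff_mem.mpr hx]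
    exact P.zero_mem
  have hcp : (P.comap (Ideal.Quotient.mk q)).IsPrime := Ideal.comap_isPrime _ _
  rcases eq_or_eq_of_le hA q hq1 _ hle with h | h
  · exfalso
    apply hP
    rw [eq_bot_iff]
    intro x hx
    obtain ⟨y, rfl⟩ := Ideal.Quotient.mk_surjective x
    have : y ∈ P.comap (Ideal.Quotient.mk q) := hx
    rw [h] at this
    rw [Ideal.mem_bot, Ideal.Quotient.eq_zero_iff_mem]
    exact this
  · have hmax : (P.comap (Ideal.Quotient.mk q)).IsMaximal := h ▸ inferInstance
    have hP' : P = (P.comap (Ideal.Quotient.mk q)).map (Ideal.Quotient.mk q) :=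
      (Ideal.map_comap_of_surjective _ Ideal.Quotient.mk_surjective P).symm
    rw [hP']
    exact (Ideal.map_eq_top_or_isMaximal_of_surjective _ Ideal.Quotient.mk_surjective hmax).resolve_left
      (by rw [← hP']; exact hPp.ne_top)

omit [IsNoetherianRing A] in
theorem dim_quot_eq_one (hA : ringKrullDim A = 2) (q : Ideal A) [hq : q.IsPrime]
    (hq1 : q.height = 1) : ringKrullDim (A ⧸ q) = 1 := by
  have hle := krullDimLE_one_quot hA q hq1
  rw [Ring.krullDimLE_iff] at hle
  have hnot : ¬ ringKrullDim (A ⧸ q) ≤ 0 := fun h => by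
    have : Ring.KrullDimLE 0 (A ⧸ q) := Ring.krullDimLE_iff.mpr h
    have hf : IsField (A ⧸ q) := Ring.KrullDimLE.isField_of_isDomain
    have hmax : q.IsMaximal := Ideal.Quotient.maximal_of_isField q hf
    exact ne_maximalIdeal_of_height_one hA q hq1 (IsLocalRing.eq_maximalIdeal hmax)
  exact le_antisymm hle (Order.succ_le_of_lt (lt_of_not_ge hnot))

/-- finitely many height one primes contain a given nonzerodivisor. -/
theorem finite_height_one_mem {t : A} (ht : t ∈ A⁰) :
    {q : PrimeSpectrum A | q.asIdeal.height = 1 ∧ t ∈ q.asIdeal}.Finite := by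
  have hfin := (Ideal.span {t}).finite_minimalPrimes_of_isNoetherianRing A
  have hinj : Function.Injective (fun q : PrimeSpectrum A => q.asIdeal) :=
    fun q₁ q₂ h => PrimeSpectrum.ext h
  refine Set.Finite.of_finite_image (f := fun q : PrimeSpectrum A => q.asIdeal)
    (hfin.subset ?_) hinj.injOn
  rintro _ ⟨q, ⟨hq1, htq⟩, rfl⟩
  have hle : Ideal.span {t} ≤ q.asIdeal := (Ideal.span_singleton_le_iff_mem _).mpr htq
  refine ⟨⟨q.isPrime, hle⟩, ?_⟩
  rintro p ⟨hp, htp⟩ hpq
  by_contra hne
  have hlt : p < q.asIdeal := lt_of_le_of_ne hpq (fun h => hne (h ▸ le_refl _))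
  have h1 := Ideal.height_add_one_le_of_lt_of_isPrime hlt
  rw [hq1] at h1
  have h0 : p.height = 0 := by
    have h4 : p.height ≠ ⊤ := Ideal.height_ne_top_of_isPrime
    obtain ⟨n, hn⟩ := ENat.ne_top_iff_exists.1 h4
    rw [← hn] at h1 ⊢
    have : n + 1 ≤ 1 := by exact_mod_cast h1
    exact_mod_cast (by omega : n = 0)
  rw [Ideal.height_eq_zero_iff] at h0
  exact Set.disjoint_left.mp (Ideal.disjoint_nonZeroDivisors_of_mem_minimalPrimes h0)
    (htp (Ideal.subset_span rfl)) ht

end basics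

section dimone

variable {R : Type u} [CommRing R] [IsLocalRing R] [IsNoetherianRing R]

/-- antisymmetry of the tame symbol. -/
theorem tameSymbol_antisymm (hR : ringKrullDim R = 1) {a b : R} (ha : a ∈ R⁰) (hb : b ∈ R⁰) :
    tameSymbol R a b * tameSymbol R b a = 1 := by
  have hArt : ∀ γ ∈ R⁰, IsArtinianRing (R ⧸ Ideal.span {γ}) :=
    fun γ hγ => isArtinianRing_quotient_of_dim_one hR γ hγ
  have hdim : Ring.KrullDimLE 1 R := Ring.krullDimLE_iff.mpr hR.le
  have hab : a * b ∈ R⁰ := mul_mem ha hb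
  have h1 := tameSymbol_self hArt hab
  rw [tameSymbol_mul_left hArt ha hb hab, tameSymbol_mul_right hArt ha hb ha,
    tameSymbol_mul_right hArt ha hb hb, tameSymbol_self hArt ha, tameSymbol_self hArt hb] at h1
  have hord : (Module.length R (R ⧸ Ideal.span {a * b})).toNat =
      (Module.length R (R ⧸ Ideal.span {a})).toNat +
        (Module.length R (R ⧸ Ideal.span {b})).toNat := by
    have h2 : Ring.ord R (a * b) = Ring.ord R a + Ring.ord R b := Ring.ord_mul R hb
    have h3 : Module.length R (R ⧸ Ideal.span {a * b}) =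
        Module.length R (R ⧸ Ideal.span {a}) + Module.length R (R ⧸ Ideal.span {b}) := h2
    rw [h3]
    exact ENat.toNat_add (Ring.ord_ne_top ha) (Ring.ord_ne_top hb)
  rw [hord, pow_add] at h1
  set x := (-1 : ResidueField R) ^ (Module.length R (R ⧸ Ideal.span {a})).toNat with hx
  set y := (-1 : ResidueField R) ^ (Module.length R (R ⧸ Ideal.span {b})).toNat with hy
  have hx0 : x ≠ 0 := pow_ne_zero _ (neg_ne_zero.mpr one_ne_zero)
  have hy0 : y ≠ 0 := pow_ne_zero _ (neg_ne_zero.mpr one_ne_zero)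
  have h4 : x * y * (tameSymbol R a b * tameSymbol R b a) = x * y * 1 := by
    rw [mul_one]; linear_combination h1
  exact mul_left_cancel₀ (mul_ne_zero hx0 hy0) h4

end dimone

section terms

variable {A : Type u} [CommRing A] [IsNoetherianRing A] [IsLocalRing A]

/-- the local term of the key sum. -/
noncomputable def term (q : PrimeSpectrum A) (a b : A) : ℤ :=
  CycAlg.ordFrac (A ⧸ q.asIdeal) q.asIdeal.ResidueField
    (CycAlg.tameSymbol (Localization.AtPrime q.asIdeal)
      (algebraMap A (Localization.AtPrime q.asIdeal) a)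
      (algebraMap A (Localization.AtPrime q.asIdeal) b))

theorem map_nzd (q : Ideal A) [q.IsPrime] {a : A} (ha : a ∈ A⁰) :
    algebraMap A (Localization.AtPrime q) a ∈ (Localization.AtPrime q)⁰ :=
  IsLocalization.map_nonZeroDivisors_le q.primeCompl (Localization.AtPrime q) ⟨a, ha, rfl⟩

theorem ordFracInt_pow {B : Type u} [CommRing B] [IsDomain B] [IsNoetherianRing B]
    [Ring.KrullDimLE 1 B] (K : Type u) [Field K] [Algebra B K] [IsFractionRing B K] {x : K}
    (hx : x ≠ 0) (n : ℕ) :
    CycAlg.ordFrac B K (x ^ n) = n * CycAlg.ordFrac B K x := by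
  induction n with
  | zero => simp [Groth.Agent.Lib.Helper74.ordFracInt_one]
  | succ n ih =>
    rw [pow_succ, Groth.Agent.Lib.Helper74.ordFracInt_mul B K (pow_ne_zero n hx) hx, ih]
    push_cast; ring

theorem term_mul_left (hA : ringKrullDim A = 2) (q : PrimeSpectrum A) (hq1 : q.asIdeal.height = 1)
    {a a' b : A} (ha : a ∈ A⁰) (ha' : a' ∈ A⁰) (hb : b ∈ A⁰) :
    term q (a * a') b = term q a b + term q a' b := by
  have hArt := hArt_loc q.asIdeal hq1
  have := krullDimLE_one_quot hA q.asIdeal hq1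
  unfold term
  rw [map_mul, tameSymbol_mul_left hArt (map_nzd q.asIdeal ha) (map_nzd q.asIdeal ha')
    (map_nzd q.asIdeal hb)]
  exact Groth.Agent.Lib.Helper74.ordFracInt_mul (A ⧸ q.asIdeal) _
    (tameSymbol_ne_zero hArt (map_nzd q.asIdeal ha) (map_nzd q.asIdeal hb))
    (tameSymbol_ne_zero hArt (map_nzd q.asIdeal ha') (map_nzd q.asIdeal hb))

theorem term_antisymm (hA : ringKrullDim A = 2) (q : PrimeSpectrum A) (hq1 : q.asIdeal.height = 1)
    {a b : A} (ha : a ∈ A⁰) (hb : b ∈ A⁰) :
    term q a b = - term q b a := by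
  have hArt := hArt_loc q.asIdeal hq1
  have := krullDimLE_one_quot hA q.asIdeal hq1
  have h1 := tameSymbol_antisymm (dim_loc_eq_one q.asIdeal hq1) (map_nzd q.asIdeal ha)
    (map_nzd q.asIdeal hb)
  have h2 := Groth.Agent.Lib.Helper74.ordFracInt_mul (A ⧸ q.asIdeal) q.asIdeal.ResidueField
    (tameSymbol_ne_zero hArt (map_nzd q.asIdeal ha) (map_nzd q.asIdeal hb))
    (tameSymbol_ne_zero hArt (map_nzd q.asIdeal hb) (map_nzd q.asIdeal ha))
  rw [h1, Groth.Agent.Lib.Helper74.ordFracInt_one] at h2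
  unfold term
  linarith

theorem term_mul_right (hA : ringKrullDim A = 2) (q : PrimeSpectrum A) (hq1 : q.asIdeal.height = 1)
    {a b b' : A} (ha : a ∈ A⁰) (hb : b ∈ A⁰) (hb' : b' ∈ A⁰) :
    term q a (b * b') = term q a b + term q a b' := by
  rw [term_antisymm hA q hq1 ha (mul_mem hb hb'), term_mul_left hA q hq1 hb hb' ha,
    term_antisymm hA q hq1 ha hb, term_antisymm hA q hq1 ha hb']
  ring

/-- the term at a prime not containing the first argument. -/
theorem term_of_notMem_left (hA : ringKrullDim A = 2) (q : PrimeSpectrum A)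
    (hq1 : q.asIdeal.height = 1) {a b : A} (haq : a ∉ q.asIdeal) (hb : b ∈ A⁰) :
    term q a b =
      ((Ring.ord (Localization.AtPrime q.asIdeal)
          (algebraMap A (Localization.AtPrime q.asIdeal) b)).toNat : ℤ) *
        ((Ring.ord (A ⧸ q.asIdeal) (Ideal.Quotient.mk q.asIdeal a)).toNat : ℤ) := by
  have hArt := hArt_loc q.asIdeal hq1
  have := krullDimLE_one_quot hA q.asIdeal hq1
  have hu : IsUnit (algebraMap A (Localization.AtPrime q.asIdeal) a) :=
    IsLocalization.map_units (M := q.asIdeal.primeCompl) _ ⟨a, haq⟩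
  have h1 := tameSymbol_unit_left hArt hu.unit (map_nzd q.asIdeal hb)
  rw [IsUnit.unit_spec] at h1
  unfold term
  rw [h1]
  have hres : residue (Localization.AtPrime q.asIdeal)
      (algebraMap A (Localization.AtPrime q.asIdeal) a) =
      algebraMap (A ⧸ q.asIdeal) q.asIdeal.ResidueField (Ideal.Quotient.mk q.asIdeal a) := rfl
  have hne : Ideal.Quotient.mk q.asIdeal a ≠ 0 := by
    rw [ne_eq, Ideal.Quotient.eq_zero_iff_mem]; exact haq
  have hne' : algebraMap (A ⧸ q.asIdeal) q.asIdeal.ResidueField (Ideal.Quotient.mk q.asIdeal a) ≠ 0 := by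
    rw [ne_eq, map_eq_zero_iff _ (IsFractionRing.injective (A ⧸ q.asIdeal) q.asIdeal.ResidueField)]
    exact hne
  rw [hres, ordFracInt_pow _ hne', Groth.Agent.Lib.Helper74.ordFracInt_algebraMap _ _ hne]
  rfl

theorem term_eq_zero_of_notMem (hA : ringKrullDim A = 2) (q : PrimeSpectrum A)
    (hq1 : q.asIdeal.height = 1) {a b : A} (haq : a ∉ q.asIdeal) (hbq : b ∉ q.asIdeal)
    (hb : b ∈ A⁰) : term q a b = 0 := by
  rw [term_of_notMem_left hA q hq1 haq hb]
  have hu : IsUnit (algebraMap A (Localization.AtPrime q.asIdeal) b) :=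
    IsLocalization.map_units (M := q.asIdeal.primeCompl) _ ⟨b, hbq⟩
  rw [Ring.ord_of_isUnit hu]
  simp

end terms

section Dsum

variable {A : Type u} [CommRing A] [IsNoetherianRing A] [IsLocalRing A]

/-- the key sum. -/
noncomputable def D (a b : A) : ℤ :=
  ∑ᶠ (q : PrimeSpectrum A) (_ : q.asIdeal.height = 1), term q a b

/-- the finite set of height-one primes containing `t`. -/
noncomputable def Fset {t : A} (ht : t ∈ A⁰) : Finset (PrimeSpectrum A) :=
  (finite_height_one_mem ht).toFinset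

theorem mem_Fset {t : A} (ht : t ∈ A⁰) (q : PrimeSpectrum A) :
    q ∈ Fset ht ↔ q.asIdeal.height = 1 ∧ t ∈ q.asIdeal := by
  simp [Fset]

theorem D_eq_sum (hA : ringKrullDim A = 2) {a b t : A} (hb : b ∈ A⁰) (ht : t ∈ A⁰)
    (hdvd : a * b ∣ t) : D a b = ∑ q ∈ Fset ht, term q a b := by
  unfold D
  show ∑ᶠ q ∈ {q : PrimeSpectrum A | q.asIdeal.height = 1}, term q a b = _
  apply finsum_mem_eq_sum_of_inter_support_eq
  ext q
  simp only [Set.mem_inter_iff, Set.mem_ofPred_eq, Function.mem_support, Finset.mem_coe, mem_Fset]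
  constructor
  · rintro ⟨h1, hs⟩
    refine ⟨⟨h1, ?_⟩, hs⟩
    by_contra htq
    apply hs
    have haq : a ∉ q.asIdeal := fun h => htq (Ideal.mem_of_dvd _ hdvd (Ideal.mul_mem_right _ _ h))
    have hbq : b ∉ q.asIdeal := fun h => htq (Ideal.mem_of_dvd _ hdvd (Ideal.mul_mem_left _ _ h))
    exact term_eq_zero_of_notMem hA q h1 haq hbq hb
  · rintro ⟨⟨h1, -⟩, hs⟩
    exact ⟨h1, hs⟩

theorem D_mul_left (hA : ringKrullDim A = 2) {a a' b : A} (ha : a ∈ A⁰) (ha' : a' ∈ A⁰)
    (hb : b ∈ A⁰) : D (a * a') b = D a b + D a' b := by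
  have ht : a * a' * b ∈ A⁰ := mul_mem (mul_mem ha ha') hb
  rw [D_eq_sum hA hb ht (dvd_refl _), D_eq_sum hA hb ht ⟨a', by ring⟩,
    D_eq_sum hA hb ht ⟨a, by ring⟩, ← Finset.sum_add_distrib]
  refine Finset.sum_congr rfl fun q hq => ?_
  exact term_mul_left hA q ((mem_Fset ht q).1 hq).1 ha ha' hb

theorem D_antisymm (hA : ringKrullDim A = 2) {a b : A} (ha : a ∈ A⁰) (hb : b ∈ A⁰) :
    D a b = - D b a := by
  have ht : a * b ∈ A⁰ := mul_mem ha hb
  rw [D_eq_sum hA hb ht (dvd_refl _), D_eq_sum hA ha ht ⟨1, by ring⟩, ← Finset.sum_neg_distrib]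
  refine Finset.sum_congr rfl fun q hq => ?_
  exact term_antisymm hA q ((mem_Fset ht q).1 hq).1 ha hb

theorem D_mul_right (hA : ringKrullDim A = 2) {a b b' : A} (ha : a ∈ A⁰) (hb : b ∈ A⁰)
    (hb' : b' ∈ A⁰) : D a (b * b') = D a b + D a b' := by
  rw [D_antisymm hA ha (mul_mem hb hb'), D_mul_left hA hb hb' ha, D_antisymm hA ha hb,
    D_antisymm hA ha hb']
  ring

theorem D_one_left (hA : ringKrullDim A = 2) {b : A} (hb : b ∈ A⁰) : D (1 : A) b = 0 := by
  have h := D_mul_left hA (one_mem A⁰) (one_mem A⁰) hb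
  rw [mul_one] at h
  linarith

theorem D_pow_left (hA : ringKrullDim A = 2) {a b : A} (ha : a ∈ A⁰) (hb : b ∈ A⁰) (n : ℕ) :
    D (a ^ n) b = n * D a b := by
  induction n with
  | zero => simp [D_one_left hA hb]
  | succ n ih =>
    rw [pow_succ, D_mul_left hA (pow_mem ha n) ha hb, ih]
    push_cast; ring

theorem D_prod_left (hA : ringKrullDim A = 2) {ι : Type*} (s : Finset ι) (x : ι → A)
    (hx : ∀ i ∈ s, x i ∈ A⁰) {b : A} (hb : b ∈ A⁰) :
    D (∏ i ∈ s, x i) b = ∑ i ∈ s, D (x i) b := by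
  classical
  induction s using Finset.induction_on with
  | empty => simp [D_one_left hA hb]
  | insert i s hi ih =>
    rw [Finset.prod_insert hi, Finset.sum_insert hi,
      D_mul_left hA (hx i (Finset.mem_insert_self i s))
        (prod_mem fun j hj => hx j (Finset.mem_insert_of_mem hj)) hb,
      ih fun j hj => hx j (Finset.mem_insert_of_mem hj)]

end Dsum

end Groth.Agent.Lib.Helper71.Dim3
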