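import Mathlib
import Groth.Prelude.Def_Tame
import Groth.Agent.Lib.Helper71.Dim3A
import Groth.Agent.Lib.Helper71.Dim2B
import Groth.Agent.S1833

set_option autoImplicit false
set_option linter.unusedSectionVars false
universe u

namespace Groth.Agent.Lib.Helper71.Dim3

open nonZeroDivisors IsLocalRing CycAlg Groth.Agent.Lib.Helper71.Dim1
open Pointwise

theorem wb_le_one (d : WithBot ℕ∞) (h : d + 1 ≤ 2) : d ≤ 1 := by
  induction d using WithBot.recBotCoe with
  | bot => exact bot_le
  | coe n =>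
    have h' : ((n + 1 : ℕ∞) : WithBot ℕ∞) ≤ ((2 : ℕ∞) : WithBot ℕ∞) := h
    rw [WithBot.coe_le_coe] at h'
    induction n using ENat.recTopCoe with
    | top => simp at h'
    | coe m =>
      have : m + 1 ≤ 2 := by exact_mod_cast h'
      have : m ≤ 1 := by omega
      exact_mod_cast this

section symm

variable {A : Type u} [CommRing A] [IsNoetherianRing A] [IsLocalRing A]

theorem supportDim_quot_le_one (hA : ringKrullDim A = 2) {b : A} (hb : b ∈ A⁰) :
    Module.supportDim A (A ⧸ Ideal.span {b}) ≤ 1 := by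
  rw [Module.supportDim_quotient_eq_ringKrullDim]
  have h1 := ringKrullDim_quotient_succ_le_of_nonZeroDivisor hb
  rw [hA] at h1
  exact wb_le_one _ h1

theorem mem_support_quot_iff (I : Ideal A) (p : PrimeSpectrum A) :
    p ∈ Module.support A (A ⧸ I) ↔ I ≤ p.asIdeal := by
  rw [Module.mem_support_iff_of_finite, Ideal.annihilator_quotient]

theorem length_quot_smul_top (I : Ideal A) (a : A) :
    Module.length A ((A ⧸ I) ⧸ a • (⊤ : Submodule A (A ⧸ I))) =
      Module.length A (A ⧸ (I ⊔ Ideal.span {a})) := by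
  let π : A →ₗ[A] ((A ⧸ I) ⧸ a • (⊤ : Submodule A (A ⧸ I))) :=
    (Submodule.mkQ _).comp (Submodule.mkQ I)
  have hsurj : Function.Surjective π :=
    (Submodule.mkQ_surjective _).comp (Submodule.mkQ_surjective I)
  have hker : LinearMap.ker π = I ⊔ Ideal.span {a} := by
    ext x
    rw [LinearMap.mem_ker]
    show Submodule.mkQ _ (Submodule.mkQ I x) = 0 ↔ _
    rw [Submodule.mkQ_apply, Submodule.Quotient.mk_eq_zero, Submodule.mem_smul_pointwise_iff_exists]
    constructor
    · rintro ⟨y, -, hy⟩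
      obtain ⟨y, rfl⟩ := Submodule.mkQ_surjective I y
      have h1 : Submodule.mkQ I (a * y) = Submodule.mkQ I x := by
        rw [← hy, ← smul_eq_mul, map_smul]
      have h2 : x - a * y ∈ I := by
        rw [← Submodule.Quotient.mk_eq_zero I, Submodule.Quotient.mk_sub]
        exact sub_eq_zero.mpr h1.symm
      have : x = (x - a * y) + a * y := by ring
      rw [this]
      exact Ideal.add_mem _ (Ideal.mem_sup_left h2)
        (Ideal.mem_sup_right (Ideal.mul_mem_right _ _ (Ideal.subset_span rfl)))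
    · intro hx
      obtain ⟨i, hi, s, hs, rfl⟩ := Submodule.mem_sup.mp hx
      obtain ⟨c, rfl⟩ := Ideal.mem_span_singleton'.mp hs
      refine ⟨Submodule.mkQ I c, Submodule.mem_top, ?_⟩
      rw [← map_smul, map_add]
      have : Submodule.mkQ I i = 0 := (Submodule.Quotient.mk_eq_zero I).mpr hi
      rw [this, zero_add, smul_eq_mul, mul_comm]
  exact ((Submodule.quotEquivOfEq _ _ hker).symm.trans
    (LinearMap.quotKerEquivOfSurjective π hsurj)).length_eq.symm

/-- the kernels of `a` on `A/b` and of `b` on `A/a` have the same length. -/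
theorem length_ker_symm {a b : A} (ha : a ∈ A⁰) (hb : b ∈ A⁰) :
    Module.length A (LinearMap.ker (LinearMap.lsmul A (A ⧸ Ideal.span {b}) a)) =
      Module.length A (LinearMap.ker (LinearMap.lsmul A (A ⧸ Ideal.span {a}) b)) := by
  let φ : (A × A) →ₗ[A] A :=
    (LinearMap.lsmul A A a).comp (LinearMap.fst A A A) -
      (LinearMap.lsmul A A b).comp (LinearMap.snd A A A)
  have hφ : ∀ z : A × A, φ z = a * z.1 - b * z.2 := fun z => rfl
  let N := LinearMap.ker φ
  let f : N →ₗ[A] (A ⧸ Ideal.span {b}) :=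
    ((Submodule.mkQ (Ideal.span {b})).comp (LinearMap.fst A A A)).comp N.subtype
  let g : N →ₗ[A] (A ⧸ Ideal.span {a}) :=
    ((Submodule.mkQ (Ideal.span {a})).comp (LinearMap.snd A A A)).comp N.subtype
  have hf : ∀ z : N, f z = Submodule.mkQ (Ideal.span {b}) z.1.1 := fun z => rfl
  have hg : ∀ z : N, g z = Submodule.mkQ (Ideal.span {a}) z.1.2 := fun z => rfl
  have hN : ∀ z : N, a * z.1.1 = b * z.1.2 := fun z => by
    have := z.2
    rw [LinearMap.mem_ker, hφ] at this
    exact sub_eq_zero.mp this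
  have hrf : LinearMap.range f = LinearMap.ker (LinearMap.lsmul A (A ⧸ Ideal.span {b}) a) := by
    ext w
    constructor
    · rintro ⟨z, rfl⟩
      rw [LinearMap.mem_ker, hf, LinearMap.lsmul_apply, ← map_smul, smul_eq_mul, hN z]
      exact (Submodule.Quotient.mk_eq_zero _).mpr
        (Ideal.mul_mem_right _ _ (Ideal.subset_span rfl))
    · intro hw
      obtain ⟨x, rfl⟩ := Submodule.mkQ_surjective _ w
      rw [LinearMap.mem_ker, LinearMap.lsmul_apply, ← map_smul, smul_eq_mul] at hw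
      have hw' : a * x ∈ Ideal.span {b} := (Submodule.Quotient.mk_eq_zero _).mp hw
      obtain ⟨y, hy⟩ := Ideal.mem_span_singleton'.mp hw'
      refine ⟨⟨(x, y), ?_⟩, rfl⟩
      rw [LinearMap.mem_ker, hφ]
      show a * x - b * y = 0
      rw [← hy]; ring
  have hrg : LinearMap.range g = LinearMap.ker (LinearMap.lsmul A (A ⧸ Ideal.span {a}) b) := by
    ext w
    constructor
    · rintro ⟨z, rfl⟩
      rw [LinearMap.mem_ker, hg, LinearMap.lsmul_apply, ← map_smul, smul_eq_mul, ← hN z]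
      exact (Submodule.Quotient.mk_eq_zero _).mpr
        (Ideal.mul_mem_right _ _ (Ideal.subset_span rfl))
    · intro hw
      obtain ⟨y, rfl⟩ := Submodule.mkQ_surjective _ w
      rw [LinearMap.mem_ker, LinearMap.lsmul_apply, ← map_smul, smul_eq_mul] at hw
      have hw' : b * y ∈ Ideal.span {a} := (Submodule.Quotient.mk_eq_zero _).mp hw
      obtain ⟨x, hx⟩ := Ideal.mem_span_singleton'.mp hw'
      refine ⟨⟨(x, y), ?_⟩, rfl⟩
      rw [LinearMap.mem_ker, hφ]
      show a * x - b * y = 0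
      rw [← hx]; ring
  have hker : LinearMap.ker f = LinearMap.ker g := by
    ext z
    rw [LinearMap.mem_ker, LinearMap.mem_ker, hf, hg, Submodule.mkQ_apply, Submodule.mkQ_apply,
      Submodule.Quotient.mk_eq_zero, Submodule.Quotient.mk_eq_zero]
    constructor
    · intro h
      obtain ⟨c, hc⟩ := Ideal.mem_span_singleton'.mp h
      have h1 : b * (z.1.2 - c * a) = 0 := by
        rw [mul_sub, ← hN z, ← hc]; ring
      have h2 : z.1.2 - c * a = 0 := by
        rw [mul_comm] at h1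
        exact hb.2 _ h1
      rw [sub_eq_zero.mp h2]
      exact Ideal.mul_mem_left _ _ (Ideal.subset_span rfl)
    · intro h
      obtain ⟨c, hc⟩ := Ideal.mem_span_singleton'.mp h
      have h1 : a * (z.1.1 - c * b) = 0 := by
        rw [mul_sub, hN z, ← hc]; ring
      have h2 : z.1.1 - c * b = 0 := by
        rw [mul_comm] at h1
        exact ha.2 _ h1
      rw [sub_eq_zero.mp h2]
      exact Ideal.mul_mem_left _ _ (Ideal.subset_span rfl)
  rw [← hrf, ← hrg]
  exact ((LinearMap.quotKerEquivRange f).symm.trans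
    ((Submodule.quotEquivOfEq _ _ hker).trans (LinearMap.quotKerEquivRange g))).length_eq

end symm

section star

variable {A : Type u} [CommRing A] [IsNoetherianRing A] [IsLocalRing A]

/-- the integer `Σ_{q ∋ b} ord_q(b) ord_{A/q}(a)`. -/
noncomputable def Nsum {b : A} (hb : b ∈ A⁰) (a : A) : ℕ :=
  ∑ q ∈ Fset hb, (Ring.ord (Localization.AtPrime q.asIdeal)
      (algebraMap A (Localization.AtPrime q.asIdeal) b)).toNat *
      (Ring.ord (A ⧸ q.asIdeal) (Ideal.Quotient.mk q.asIdeal a)).toNat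

theorem length_quot_sup_ne_top (hA : ringKrullDim A = 2) {a b : A} (ha : a ∈ A⁰)
    (hdisj : ∀ q : PrimeSpectrum A, q.asIdeal.height = 1 → a ∈ q.asIdeal → b ∈ q.asIdeal → False) :
    Module.length A (A ⧸ (Ideal.span {b} ⊔ Ideal.span {a})) ≠ ⊤ := by
  set J : Ideal A := Ideal.span {b} ⊔ Ideal.span {a} with hJ
  have haJ : a ∈ J := Ideal.mem_sup_right (Ideal.subset_span rfl)
  have hbJ : b ∈ J := Ideal.mem_sup_left (Ideal.subset_span rfl)
  have hdim : Ring.KrullDimLE 0 (A ⧸ J) := by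
    rw [Ring.krullDimLE_zero_iff]
    intro P hP
    have hcp : (P.comap (Ideal.Quotient.mk J)).IsPrime := Ideal.comap_isPrime _ _
    have hle : J ≤ P.comap (Ideal.Quotient.mk J) := by
      intro x hx
      rw [Ideal.mem_comap, Ideal.Quotient.eq_zero_iff_mem.mpr hx]
      exact P.zero_mem
    have hm : P.comap (Ideal.Quotient.mk J) = maximalIdeal A := by
      by_contra hne
      have h1 := height_one_of_mem hA (P.comap (Ideal.Quotient.mk J)) ha (hle haJ) hne
      exact hdisj ⟨_, hcp⟩ h1 (hle haJ) (hle hbJ)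
    have hmax : (P.comap (Ideal.Quotient.mk J)).IsMaximal := hm ▸ inferInstance
    have hP' : P = (P.comap (Ideal.Quotient.mk J)).map (Ideal.Quotient.mk J) :=
      (Ideal.map_comap_of_surjective _ Ideal.Quotient.mk_surjective P).symm
    rw [hP']
    exact (Ideal.map_eq_top_or_isMaximal_of_surjective _ Ideal.Quotient.mk_surjective
      hmax).resolve_left (by rw [← hP']; exact hP.ne_top)
  have hart : IsArtinianRing (A ⧸ J) := IsNoetherianRing.isArtinianRing_of_krullDimLE_zero
  have hfl : IsFiniteLength (A ⧸ J) (A ⧸ J) := (isArtinianRing_iff_isFiniteLength (A ⧸ J)).mp hart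
  rw [Module.length_eq_of_surjective (S := A) (R := A ⧸ J) (M := A ⧸ J)
    Ideal.Quotient.mk_surjective]
  exact Module.length_ne_top_iff.mpr hfl

theorem S1833_sum_eq (hA : ringKrullDim A = 2) {a b : A} (hb : b ∈ A⁰)
    (hdisj : ∀ q : PrimeSpectrum A, q.asIdeal.height = 1 → a ∈ q.asIdeal → b ∈ q.asIdeal → False) :
    (∑ᶠ (p : PrimeSpectrum A) (_ : p ∈ Module.support A (A ⧸ Ideal.span {b}) ∧
        p.asIdeal ≠ IsLocalRing.maximalIdeal A),
      Ring.ord (A ⧸ p.asIdeal) (Ideal.Quotient.mk p.asIdeal a) *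
        Module.length (Localization.AtPrime p.asIdeal)
          (LocalizedModule p.asIdeal.primeCompl (A ⧸ Ideal.span {b}))) =
      ((Nsum hb a : ℕ) : ℕ∞) := by
  have hset : {p : PrimeSpectrum A | p ∈ Module.support A (A ⧸ Ideal.span {b}) ∧
      p.asIdeal ≠ IsLocalRing.maximalIdeal A} = ↑(Fset hb) := by
    ext p
    simp only [Set.mem_ofPred_eq, Finset.mem_coe, mem_Fset, mem_support_quot_iff,
      Ideal.span_singleton_le_iff_mem]
    constructor
    · rintro ⟨hbp, hpm⟩
      exact ⟨height_one_of_mem hA p.asIdeal hb hbp hpm, hbp⟩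
    · rintro ⟨h1, hbp⟩
      exact ⟨hbp, ne_maximalIdeal_of_height_one hA p.asIdeal h1⟩
  show ∑ᶠ p ∈ {p : PrimeSpectrum A | p ∈ Module.support A (A ⧸ Ideal.span {b}) ∧
      p.asIdeal ≠ IsLocalRing.maximalIdeal A}, _ = _
  rw [hset, finsum_mem_coe_finset]
  unfold Nsum
  rw [Nat.cast_sum]
  refine Finset.sum_congr rfl fun q hq => ?_
  obtain ⟨hq1, hbq⟩ := (mem_Fset hb q).1 hq
  have haq : a ∉ q.asIdeal := fun h => hdisj q hq1 h hbq
  have hd1 : Ring.KrullDimLE 1 (A ⧸ q.asIdeal) := krullDimLE_one_quot hA q.asIdeal hq1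
  have hd2 : Ring.KrullDimLE 1 (Localization.AtPrime q.asIdeal) :=
    Ring.krullDimLE_iff.mpr (dim_loc_eq_one q.asIdeal hq1).le
  have hne : Ideal.Quotient.mk q.asIdeal a ≠ 0 := by
    rw [ne_eq, Ideal.Quotient.eq_zero_iff_mem]; exact haq
  have hf1 : Ring.ord (A ⧸ q.asIdeal) (Ideal.Quotient.mk q.asIdeal a) ≠ ⊤ :=
    Ring.ord_ne_top (mem_nonZeroDivisors_of_ne_zero hne)
  have hf2 : Ring.ord (Localization.AtPrime q.asIdeal)
      (algebraMap A (Localization.AtPrime q.asIdeal) b) ≠ ⊤ :=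
    Ring.ord_ne_top (map_nzd q.asIdeal hb)
  have hlen : Module.length (Localization.AtPrime q.asIdeal)
      (LocalizedModule q.asIdeal.primeCompl (A ⧸ Ideal.span {b})) =
      Ring.ord (Localization.AtPrime q.asIdeal)
        (algebraMap A (Localization.AtPrime q.asIdeal) b) := by
    rw [length_localized_quot q.asIdeal (Ideal.span {b}), Ideal.map_span, Set.image_singleton]
    rfl
  rw [hlen, Nat.cast_mul, ENat.natCast_toNat hf1, ENat.natCast_toNat hf2, mul_comm]

theorem Nsum_symm (hA : ringKrullDim A = 2) {a b : A} (ha : a ∈ A⁰) (hb : b ∈ A⁰)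
    (hdisj : ∀ q : PrimeSpectrum A, q.asIdeal.height = 1 → a ∈ q.asIdeal → b ∈ q.asIdeal → False) :
    Nsum hb a = Nsum ha b := by
  have hdisj' : ∀ q : PrimeSpectrum A, q.asIdeal.height = 1 → b ∈ q.asIdeal → a ∈ q.asIdeal →
      False := fun q h1 h2 h3 => hdisj q h1 h3 h2
  have h0b : Module.supportDim A ((A ⧸ Ideal.span {b}) ⧸ a • (⊤ : Submodule A (A ⧸ Ideal.span {b})))
      ≤ 0 := by
    apply Groth.Agent.Lib.Helper79.LenMult.supportDim_quot_le_zero
    intro q hq haq
    rw [mem_support_quot_iff, Ideal.span_singleton_le_iff_mem] at hq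
    by_contra hne
    exact hdisj q (height_one_of_mem hA q.asIdeal ha haq hne) haq hq
  have h0a : Module.supportDim A ((A ⧸ Ideal.span {a}) ⧸ b • (⊤ : Submodule A (A ⧸ Ideal.span {a})))
      ≤ 0 := by
    apply Groth.Agent.Lib.Helper79.LenMult.supportDim_quot_le_zero
    intro q hq hbq
    rw [mem_support_quot_iff, Ideal.span_singleton_le_iff_mem] at hq
    by_contra hne
    exact hdisj q (height_one_of_mem hA q.asIdeal ha hq hne) hq hbq
  have Eb := Groth.Agent.S1833.result A (A ⧸ Ideal.span {b}) a (supportDim_quot_le_one hA hb) h0b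
  have Ea := Groth.Agent.S1833.result A (A ⧸ Ideal.span {a}) b (supportDim_quot_le_one hA ha) h0a
  rw [S1833_sum_eq hA hb hdisj, length_quot_smul_top] at Eb
  rw [S1833_sum_eq hA ha hdisj', length_quot_smul_top, length_ker_symm hb ha] at Ea
  have hL : Module.length A (A ⧸ (Ideal.span {a} ⊔ Ideal.span {b})) =
      Module.length A (A ⧸ (Ideal.span {b} ⊔ Ideal.span {a})) :=
    (Submodule.quotEquivOfEq _ _ (sup_comm _ _)).length_eq
  rw [hL] at Ea
  have hfin := length_quot_sup_ne_top hA ha hdisj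
  have hK : Module.length A (LinearMap.ker (LinearMap.lsmul A (A ⧸ Ideal.span {b}) a)) ≠ ⊤ := by
    intro h
    rw [h, top_add] at Eb
    exact hfin Eb
  obtain ⟨k, hk⟩ := ENat.ne_top_iff_exists.1 hK
  rw [← hk] at Eb Ea
  rw [Eb] at Ea
  have : k + Nsum hb a = k + Nsum ha b := by exact_mod_cast Ea
  omega

/-- **the symmetric formula**: the key sum vanishes for elements without common height one
primes. -/
theorem D_eq_zero_of_disjoint (hA : ringKrullDim A = 2) {a b : A} (ha : a ∈ A⁰) (hb : b ∈ A⁰)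
    (hdisj : ∀ q : PrimeSpectrum A, q.asIdeal.height = 1 → a ∈ q.asIdeal → b ∈ q.asIdeal → False) :
    D a b = 0 := by
  classical
  have ht : a * b ∈ A⁰ := mul_mem ha hb
  rw [D_eq_sum hA hb ht (dvd_refl _),
    ← Finset.sum_filter_add_sum_filter_not (Fset ht) (fun q => b ∈ q.asIdeal)]
  have hF1 : (Fset ht).filter (fun q => b ∈ q.asIdeal) = Fset hb := by
    ext q
    simp only [Finset.mem_filter, mem_Fset]
    constructor
    · rintro ⟨⟨h1, -⟩, h2⟩
      exact ⟨h1, h2⟩
    · rintro ⟨h1, h2⟩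
      exact ⟨⟨h1, Ideal.mul_mem_left _ _ h2⟩, h2⟩
  have hF2 : (Fset ht).filter (fun q => ¬ b ∈ q.asIdeal) = Fset ha := by
    ext q
    simp only [Finset.mem_filter, mem_Fset]
    constructor
    · rintro ⟨⟨h1, h3⟩, h2⟩
      exact ⟨h1, (q.isPrime.mem_or_mem h3).resolve_right h2⟩
    · rintro ⟨h1, h2⟩
      exact ⟨⟨h1, Ideal.mul_mem_right _ _ h2⟩, fun h3 => hdisj q h1 h2 h3⟩
  rw [hF1, hF2]
  have e1 : ∑ q ∈ Fset hb, term q a b = ((Nsum hb a : ℕ) : ℤ) := by
    unfold Nsum
    rw [Nat.cast_sum]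
    refine Finset.sum_congr rfl fun q hq => ?_
    obtain ⟨hq1, hbq⟩ := (mem_Fset hb q).1 hq
    have haq : a ∉ q.asIdeal := fun h => hdisj q hq1 h hbq
    rw [term_of_notMem_left hA q hq1 haq hb]
    push_cast; ring
  have e2 : ∑ q ∈ Fset ha, term q a b = - ((Nsum ha b : ℕ) : ℤ) := by
    unfold Nsum
    rw [Nat.cast_sum, ← Finset.sum_neg_distrib]
    refine Finset.sum_congr rfl fun q hq => ?_
    obtain ⟨hq1, haq⟩ := (mem_Fset ha q).1 hq
    have hbq : b ∉ q.asIdeal := fun h => hdisj q hq1 haq h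
    rw [term_antisymm hA q hq1 ha hb, term_of_notMem_left hA q hq1 hbq ha]
    push_cast; ring
  rw [e1, e2, Nsum_symm hA ha hb hdisj]
  ring

end star

end Groth.Agent.Lib.Helper71.Dim3
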