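import Mathlib
import Groth.Prelude.Def_Tame
import Groth.Agent.Lib.Helper71.Dim3B

set_option autoImplicit false
set_option linter.unusedSectionVars false
universe u

namespace Groth.Agent.Lib.Helper71.Dim3

open nonZeroDivisors IsLocalRing CycAlg Groth.Agent.Lib.Helper71.Dim1

section avoid

variable {A : Type u} [CommRing A]

/-- prime avoidance: an ideal not contained in any of finitely many primes has an element
outside all of them. -/
theorem exists_mem_forall_notMem (I : Ideal A) (S : Finset (Ideal A)) (hS : ∀ p ∈ S, p.IsPrime)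
    (h : ∀ p ∈ S, ¬ I ≤ p) : ∃ x ∈ I, ∀ p ∈ S, x ∉ p := by
  classical
  have h1 : ¬ ((I : Set A) ⊆ ⋃ p ∈ (↑S : Set (Ideal A)), (p : Set A)) := by
    rw [Ideal.subset_union_prime (f := fun p : Ideal A => p) ⊥ ⊥ (fun p hp _ _ => hS p hp)]
    rintro ⟨p, hp, hle⟩
    exact h p hp hle
  rw [Set.not_subset] at h1
  obtain ⟨x, hxI, hx⟩ := h1
  refine ⟨x, hxI, fun p hp hxp => hx ?_⟩
  exact Set.mem_iUnion₂.2 ⟨p, Finset.mem_coe.mpr hp, hxp⟩

/-- coset prime avoidance. -/
theorem exists_add_forall_notMem (p₀ : A) (J : Ideal A) (S : Finset (Ideal A))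
    (hS : ∀ p ∈ S, p.IsPrime) (h : ∀ p ∈ S, ¬ J ≤ p) :
    ∃ y ∈ J, ∀ p ∈ S, p₀ + y ∉ p := by
  classical
  -- maximal elements of `S`
  obtain ⟨S', hS'⟩ : ∃ S' : Finset (Ideal A), ∀ p, p ∈ S' ↔ p ∈ S ∧ Maximal (· ∈ S) p :=
    ⟨S.filter (fun p => Maximal (· ∈ S) p), fun p => Finset.mem_filter⟩
  have hS'S : ∀ p ∈ S', p ∈ S := fun p hp => ((hS' p).1 hp).1
  have hmax : ∀ p ∈ S', ∀ p' ∈ S', p ≤ p' → p = p' := by
    intro p hp p' hp' hle
    have h1 := ((hS' p).1 hp).2
    exact le_antisymm hle (h1.2 (hS'S p' hp') hle)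
  obtain ⟨S₁, hS₁⟩ : ∃ S₁ : Finset (Ideal A), ∀ p, p ∈ S₁ ↔ p ∈ S' ∧ p₀ ∈ p :=
    ⟨S'.filter (fun p => p₀ ∈ p), fun p => Finset.mem_filter⟩
  obtain ⟨S₂, hS₂⟩ : ∃ S₂ : Finset (Ideal A), ∀ p, p ∈ S₂ ↔ p ∈ S' ∧ p₀ ∉ p :=
    ⟨S'.filter (fun p => p₀ ∉ p), fun p => Finset.mem_filter⟩
  have hI' : ∀ p ∈ S₁, ¬ J * (S₂.prod id) ≤ p := by
    intro p hp hle
    have hpS' : p ∈ S' := ((hS₁ p).1 hp).1
    have hpp : p.IsPrime := hS p (hS'S p hpS')
    rcases hpp.mul_le.1 hle with h1 | h1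
    · exact h p (hS'S p hpS') h1
    · obtain ⟨p', hp', hle'⟩ := hpp.prod_le.1 h1
      have hp'S' : p' ∈ S' := ((hS₂ p').1 hp').1
      have := hmax p' hp'S' p hpS' hle'
      subst this
      exact ((hS₂ p').1 hp').2 ((hS₁ p').1 hp).2
  obtain ⟨y, hyI, hy⟩ := exists_mem_forall_notMem (J * (S₂.prod id)) S₁
    (fun p hp => hS p (hS'S p ((hS₁ p).1 hp).1)) hI'
  have hle1 : J * (S₂.prod id) ≤ J := Ideal.mul_le_left
  have hle2 : J * (S₂.prod id) ≤ S₂.prod id := Ideal.mul_le_right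
  have hyJ : y ∈ J := hle1 hyI
  have hy2 : ∀ p ∈ S₂, y ∈ p := by
    intro p hp
    have h1 : y ∈ S₂.prod id := hle2 hyI
    have h2 : S₂.prod id ≤ S₂.inf id := Ideal.prod_le_inf
    have h3 : S₂.inf id ≤ id p := Finset.inf_le hp
    exact h3 (h2 h1)
  have key : ∀ p ∈ S', p₀ + y ∉ p := by
    intro p hp hmem
    by_cases hp0 : p₀ ∈ p
    · have : p ∈ S₁ := (hS₁ p).2 ⟨hp, hp0⟩
      apply hy p this
      have := p.sub_mem hmem hp0
      rwa [add_sub_cancel_left] at this
    · have : p ∈ S₂ := (hS₂ p).2 ⟨hp, hp0⟩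
      apply hp0
      have := p.sub_mem hmem (hy2 p this)
      rwa [add_sub_cancel_right] at this
  refine ⟨y, hyJ, fun p hp hmem => ?_⟩
  obtain ⟨p', hle, hp'max⟩ := S.exists_le_maximal hp
  have hp'S' : p' ∈ S' := (hS' p').2 ⟨hp'max.1, hp'max⟩
  exact key p' hp'S' (hle hmem)

variable [IsNoetherianRing A]

/-- membership in `A⁰` by avoiding the associated primes. -/
theorem mem_nzd_of_forall_notMem_associatedPrimes (x : A)
    (h : ∀ p ∈ associatedPrimes A A, x ∉ p) : x ∈ A⁰ := by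
  by_contra hx
  have h1 : x ∈ (nonZeroDivisors A : Set A)ᶜ := hx
  rw [← biUnion_associatedPrimes_eq_compl_nonZeroDivisors A] at h1
  obtain ⟨p, hp, hxp⟩ := Set.mem_iUnion₂.1 h1
  exact h p hp hxp

theorem notMem_associatedPrimes_of_nzd {x : A} (hx : x ∈ A⁰) (p : Ideal A)
    (hp : p ∈ associatedPrimes A A) : x ∉ p := by
  intro hxp
  have h1 : x ∈ ⋃ p ∈ associatedPrimes A A, (p : Set A) := Set.mem_iUnion₂.2 ⟨p, hp, hxp⟩
  rw [biUnion_associatedPrimes_eq_compl_nonZeroDivisors A] at h1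
  exact h1 hx

/-- prime avoidance inside `A⁰`. -/
theorem exists_nzd_mem_forall_notMem (I : Ideal A) (S : Finset (Ideal A))
    (hS : ∀ p ∈ S, p.IsPrime) (h : ∀ p ∈ S, ¬ I ≤ p) (hI : ∃ x ∈ I, x ∈ A⁰) :
    ∃ x ∈ I, x ∈ A⁰ ∧ ∀ p ∈ S, x ∉ p := by
  classical
  obtain ⟨x₀, hx₀I, hx₀⟩ := hI
  have hfin := associatedPrimes.finite A A
  obtain ⟨x, hxI, hx⟩ := exists_mem_forall_notMem I (S ∪ hfin.toFinset)
    (by
      intro p hp
      rcases Finset.mem_union.1 hp with h1 | h1
      · exact hS p h1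
      · exact IsAssociatedPrime.isPrime (hfin.mem_toFinset.1 h1))
    (by
      intro p hp hle
      rcases Finset.mem_union.1 hp with h1 | h1
      · exact h p h1 hle
      · exact notMem_associatedPrimes_of_nzd hx₀ p (hfin.mem_toFinset.1 h1) (hle hx₀I))
  refine ⟨x, hxI, ?_, fun p hp => hx p (Finset.mem_union_left _ hp)⟩
  exact mem_nzd_of_forall_notMem_associatedPrimes x
    (fun p hp => hx p (Finset.mem_union_right _ (hfin.mem_toFinset.2 hp)))

end avoid

section constr

variable {A : Type u} [CommRing A] [IsNoetherianRing A] [IsLocalRing A]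

/-- **construction lemma**: an element of `A⁰` associated to a given nonzerodivisor of `A_q`
at the height one prime `q` and avoiding finitely many primes not containing `q`. -/
theorem exists_assoc_notMem (q : PrimeSpectrum A) (hq1 : q.asIdeal.height = 1)
    {t : A} (ht : t ∈ A⁰) (htq : t ∈ q.asIdeal)
    (ϖ : Localization.AtPrime q.asIdeal) (hϖ : ϖ ∈ (Localization.AtPrime q.asIdeal)⁰)
    (S : Finset (PrimeSpectrum A)) (hS : ∀ p ∈ S, ¬ q.asIdeal ≤ p.asIdeal) :
    ∃ x ∈ A⁰, Associated (algebraMap A (Localization.AtPrime q.asIdeal) x) ϖ ∧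
      ∀ p ∈ S, x ∉ p.asIdeal := by
  classical
  obtain ⟨p₀, s, hps⟩ := IsLocalization.exists_mk'_eq q.asIdeal.primeCompl ϖ
  have hspec : ϖ * algebraMap A (Localization.AtPrime q.asIdeal) s =
      algebraMap A (Localization.AtPrime q.asIdeal) p₀ := by
    rw [← hps]; exact IsLocalization.mk'_spec _ _ _
  obtain ⟨n, hn⟩ := exists_pow_le_span ϖ (hArt_loc q.asIdeal hq1 ϖ hϖ)
  have hfin := associatedPrimes.finite A A
  obtain ⟨y, hyJ, hy⟩ := exists_add_forall_notMem p₀ (q.asIdeal ^ (n + 1))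
    (S.image (fun p => p.asIdeal) ∪ hfin.toFinset)
    (by
      intro P hP
      rcases Finset.mem_union.1 hP with h1 | h1
      · obtain ⟨p, -, rfl⟩ := Finset.mem_image.1 h1
        exact p.isPrime
      · exact IsAssociatedPrime.isPrime (hfin.mem_toFinset.1 h1))
    (by
      intro P hP hle
      rcases Finset.mem_union.1 hP with h1 | h1
      · obtain ⟨p, hp, rfl⟩ := Finset.mem_image.1 h1
        have := p.isPrime
        exact hS p hp (Ideal.IsPrime.le_of_pow_le hle)
      · have hPp : P.IsPrime := IsAssociatedPrime.isPrime (hfin.mem_toFinset.1 h1)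
        exact notMem_associatedPrimes_of_nzd ht P (hfin.mem_toFinset.1 h1)
          (Ideal.IsPrime.le_of_pow_le hle htq))
  refine ⟨p₀ + y, ?_, ?_, ?_⟩
  · exact mem_nzd_of_forall_notMem_associatedPrimes _
      (fun P hP => hy P (Finset.mem_union_right _ (hfin.mem_toFinset.2 hP)))
  · have h1 : algebraMap A (Localization.AtPrime q.asIdeal) y ∈
        maximalIdeal (Localization.AtPrime q.asIdeal) ^ (n + 1) := by
      have := Ideal.mem_map_of_mem (algebraMap A (Localization.AtPrime q.asIdeal)) hyJ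
      rwa [Ideal.map_pow, IsLocalization.AtPrime.map_eq_maximalIdeal q.asIdeal
        (Localization.AtPrime q.asIdeal)] at this
    have h2 : maximalIdeal (Localization.AtPrime q.asIdeal) ^ (n + 1) ≤
        Ideal.span {ϖ} * maximalIdeal (Localization.AtPrime q.asIdeal) := by
      rw [pow_succ]
      exact Ideal.mul_mono_left hn
    obtain ⟨μ, hμ, hμy⟩ := Ideal.mem_span_singleton_mul.1 (h2 h1)
    have hsu : IsUnit (algebraMap A (Localization.AtPrime q.asIdeal) s) :=
      IsLocalization.map_units _ s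
    have hu : IsUnit (algebraMap A (Localization.AtPrime q.asIdeal) s + μ) := by
      by_contra hnu
      have h3 : algebraMap A (Localization.AtPrime q.asIdeal) s + μ ∈
          maximalIdeal (Localization.AtPrime q.asIdeal) := hnu
      have h4 := (maximalIdeal (Localization.AtPrime q.asIdeal)).sub_mem h3 hμ
      rw [add_sub_cancel_right] at h4
      exact h4 hsu
    have h5 : algebraMap A (Localization.AtPrime q.asIdeal) (p₀ + y) =
        ϖ * (algebraMap A (Localization.AtPrime q.asIdeal) s + μ) := by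
      rw [map_add, ← hspec, ← hμy]; ring
    rw [h5]
    exact associated_mul_unit_left ϖ _ hu
  · intro p hp
    exact hy p.asIdeal (Finset.mem_union_left _ (Finset.mem_image_of_mem _ hp))

end constr

end Groth.Agent.Lib.Helper71.Dim3
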