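import Mathlib
import Groth.Prelude.Def_Tame
import Groth.Agent.Lib.Helper71.Dim3C

set_option autoImplicit false
set_option linter.unusedSectionVars false
universe u

namespace Groth.Agent.Lib.Helper71.Dim3

open nonZeroDivisors IsLocalRing CycAlg Groth.Agent.Lib.Helper71.Dim1

section congr

variable {A : Type u} [CommRing A] [IsNoetherianRing A] [IsLocalRing A]

theorem isUnit_loc_of_notMem (q : PrimeSpectrum A) {u : A} (hu : u ∉ q.asIdeal) :
    IsUnit (algebraMap A (Localization.AtPrime q.asIdeal) u) :=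
  IsLocalization.map_units (M := q.asIdeal.primeCompl) _ ⟨u, hu⟩

theorem assoc_of_notMem (q : PrimeSpectrum A) {u v : A} (hu : u ∉ q.asIdeal)
    (hv : v ∉ q.asIdeal) :
    Associated (algebraMap A (Localization.AtPrime q.asIdeal) u)
      (algebraMap A (Localization.AtPrime q.asIdeal) v) :=
  (associated_one_iff_isUnit.2 (isUnit_loc_of_notMem q hu)).trans
    (associated_one_iff_isUnit.2 (isUnit_loc_of_notMem q hv)).symm

/-- **change of the first argument**: the key sum only depends on the germs of `a` at the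
height one primes containing `b`. -/
theorem D_congr_left (hA : ringKrullDim A = 2) {a a' b : A} (ha : a ∈ A⁰) (ha' : a' ∈ A⁰)
    (hb : b ∈ A⁰)
    (h : ∀ q : PrimeSpectrum A, q.asIdeal.height = 1 → b ∈ q.asIdeal →
      Associated (algebraMap A (Localization.AtPrime q.asIdeal) a)
        (algebraMap A (Localization.AtPrime q.asIdeal) a')) :
    D a b = D a' b := by
  classical
  let C : Ideal A := Submodule.comap (LinearMap.mulLeft A a') (Ideal.span {a})
  have hC : ∀ s, s ∈ C ↔ a' * s ∈ Ideal.span {a} := fun s => Iff.rfl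
  have haC : a ∈ C := (hC a).2 (Ideal.mul_mem_left _ _ (Ideal.subset_span rfl))
  obtain ⟨s, hsC, hs0, hs⟩ := exists_nzd_mem_forall_notMem C
    ((Fset hb).image (fun q => q.asIdeal))
    (by
      intro P hP
      obtain ⟨p, -, rfl⟩ := Finset.mem_image.1 hP
      exact p.isPrime)
    (by
      intro P hP hle
      obtain ⟨q, hq, rfl⟩ := Finset.mem_image.1 hP
      obtain ⟨hq1, hbq⟩ := (mem_Fset hb q).1 hq
      obtain ⟨u, hu⟩ := h q hq1 hbq
      obtain ⟨c, σ, hcσ⟩ := IsLocalization.exists_mk'_eq q.asIdeal.primeCompl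
        (u : Localization.AtPrime q.asIdeal)
      have h1 : algebraMap A (Localization.AtPrime q.asIdeal) (a * c) =
          algebraMap A (Localization.AtPrime q.asIdeal) (a' * σ) := by
        rw [map_mul, map_mul, ← hu, ← hcσ, mul_assoc, IsLocalization.mk'_spec]
      obtain ⟨σ', hσ'⟩ := (IsLocalization.eq_iff_exists q.asIdeal.primeCompl _).1 h1
      have h2 : (σ' : A) * σ ∈ C := by
        rw [hC]
        have : a' * ((σ' : A) * σ) = (σ' : A) * (a' * σ) := by ring
        rw [this, ← hσ']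
        exact Ideal.mul_mem_left _ _ (Ideal.mul_mem_right _ _ (Ideal.subset_span rfl))
      exact (σ' * σ).2 (hle h2))
    ⟨a, haC, ha⟩
  obtain ⟨r, hr⟩ := Ideal.mem_span_singleton'.1 ((hC s).1 hsC)
  have hr0 : r ∈ A⁰ := by
    have h1 : r * a ∈ A⁰ := hr ▸ mul_mem ha' hs0
    exact (mul_mem_nonZeroDivisors.1 h1).1
  have hrq : ∀ q ∈ Fset hb, r ∉ q.asIdeal := by
    intro q hq
    obtain ⟨hq1, hbq⟩ := (mem_Fset hb q).1 hq
    obtain ⟨u, hu⟩ := h q hq1 hbq
    have hsq : s ∉ q.asIdeal := hs q.asIdeal (Finset.mem_image_of_mem _ hq)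
    have h1 : algebraMap A (Localization.AtPrime q.asIdeal) r *
        algebraMap A (Localization.AtPrime q.asIdeal) a =
        algebraMap A (Localization.AtPrime q.asIdeal) a' *
          algebraMap A (Localization.AtPrime q.asIdeal) s := by
      rw [← map_mul, ← map_mul, hr]
    have h2 : algebraMap A (Localization.AtPrime q.asIdeal) a *
        (algebraMap A (Localization.AtPrime q.asIdeal) r -
          (u : Localization.AtPrime q.asIdeal) *
            algebraMap A (Localization.AtPrime q.asIdeal) s) = 0 := by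
      rw [mul_sub, mul_comm _ (algebraMap A (Localization.AtPrime q.asIdeal) r), h1, ← hu]
      ring
    have h3 := (map_nzd q.asIdeal ha).2 _ (by rw [mul_comm]; exact h2)
    have h4 : IsUnit (algebraMap A (Localization.AtPrime q.asIdeal) r) := by
      rw [sub_eq_zero.1 h3]
      exact u.isUnit.mul (isUnit_loc_of_notMem q hsq)
    exact (IsLocalization.AtPrime.isUnit_to_map_iff (Localization.AtPrime q.asIdeal)
      q.asIdeal r).1 h4
  have hDs : D s b = 0 := D_eq_zero_of_disjoint hA hs0 hb (fun q hq1 hsq hbq =>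
    hs q.asIdeal (Finset.mem_image_of_mem _ ((mem_Fset hb q).2 ⟨hq1, hbq⟩)) hsq)
  have hDr : D r b = 0 := D_eq_zero_of_disjoint hA hr0 hb (fun q hq1 hrq' hbq =>
    hrq q ((mem_Fset hb q).2 ⟨hq1, hbq⟩) hrq')
  have e1 := D_mul_left hA ha' hs0 hb
  have e2 := D_mul_left hA hr0 ha hb
  rw [hr] at e2
  linarith

theorem D_congr_right (hA : ringKrullDim A = 2) {a b b' : A} (ha : a ∈ A⁰) (hb : b ∈ A⁰)
    (hb' : b' ∈ A⁰)
    (h : ∀ q : PrimeSpectrum A, q.asIdeal.height = 1 → a ∈ q.asIdeal →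
      Associated (algebraMap A (Localization.AtPrime q.asIdeal) b)
        (algebraMap A (Localization.AtPrime q.asIdeal) b')) :
    D a b = D a b' := by
  rw [D_antisymm hA ha hb, D_antisymm hA ha hb', D_congr_left hA hb hb' ha h]

theorem D_pow_right (hA : ringKrullDim A = 2) {a b : A} (ha : a ∈ A⁰) (hb : b ∈ A⁰) (n : ℕ) :
    D a (b ^ n) = n * D a b := by
  rw [D_antisymm hA ha (pow_mem hb n), D_pow_left hA hb ha, D_antisymm hA ha hb]
  ring

theorem D_prod_right (hA : ringKrullDim A = 2) {ι : Type*} (s : Finset ι) (x : ι → A)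
    (hx : ∀ i ∈ s, x i ∈ A⁰) {a : A} (ha : a ∈ A⁰) :
    D a (∏ i ∈ s, x i) = ∑ i ∈ s, D a (x i) := by
  rw [D_antisymm hA ha (prod_mem hx), D_prod_left hA s x hx ha, ← Finset.sum_neg_distrib]
  exact Finset.sum_congr rfl fun i hi => (D_antisymm hA ha (hx i hi)).symm

omit [IsNoetherianRing A] in
theorem not_le_of_height_one (hA : ringKrullDim A = 2) (q p : PrimeSpectrum A)
    (hq1 : q.asIdeal.height = 1) (hp1 : p.asIdeal.height = 1) (hne : p ≠ q) :
    ¬ q.asIdeal ≤ p.asIdeal := by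
  intro hle
  rcases eq_or_eq_of_le hA q.asIdeal hq1 p.asIdeal hle with h | h
  · exact hne (PrimeSpectrum.ext h)
  · exact ne_maximalIdeal_of_height_one hA p.asIdeal hp1 h

/-- **three element trick**: the key sum of two elements which are associated at one height one
prime and have no other common height one prime vanishes. -/
theorem D_eq_zero_of_assoc (hA : ringKrullDim A = 2) {x y : A} (hx : x ∈ A⁰) (hy : y ∈ A⁰)
    (q : PrimeSpectrum A) (hq1 : q.asIdeal.height = 1)
    (hxy : Associated (algebraMap A (Localization.AtPrime q.asIdeal) x)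
      (algebraMap A (Localization.AtPrime q.asIdeal) y))
    (hdisj : ∀ q' : PrimeSpectrum A, q'.asIdeal.height = 1 → q' ≠ q → x ∈ q'.asIdeal →
      y ∈ q'.asIdeal → False) :
    D x y = 0 := by
  classical
  by_cases hxq : x ∈ q.asIdeal
  · have hxy0 : x * y ∈ A⁰ := mul_mem hx hy
    obtain ⟨z, hz0, hz, hzS⟩ := exists_assoc_notMem q hq1 hx hxq
      (algebraMap A (Localization.AtPrime q.asIdeal) x) (map_nzd q.asIdeal hx)
      ((Fset hxy0).erase q)
      (fun p hp => not_le_of_height_one hA q p hq1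
        ((mem_Fset hxy0 p).1 (Finset.mem_of_mem_erase hp)).1 (Finset.ne_of_mem_erase hp))
    have hmemS : ∀ q' : PrimeSpectrum A, q'.asIdeal.height = 1 → q' ≠ q →
        (x ∈ q'.asIdeal ∨ y ∈ q'.asIdeal) → q' ∈ (Fset hxy0).erase q := by
      intro q' h1 hne hor
      refine Finset.mem_erase.2 ⟨hne, (mem_Fset hxy0 q').2 ⟨h1, ?_⟩⟩
      rcases hor with h | h
      · exact Ideal.mul_mem_right _ _ h
      · exact Ideal.mul_mem_left _ _ h
    have e1 : D x y = D x z := by
      apply D_congr_right hA hx hy hz0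
      intro q' h1 hxq'
      rcases eq_or_ne q' q with rfl | hne
      · exact hxy.symm.trans hz.symm
      · exact assoc_of_notMem q' (fun hy' => hdisj q' h1 hne hxq' hy')
          (hzS q' (hmemS q' h1 hne (Or.inl hxq')))
    have e2 : D y z = D y x := by
      apply D_congr_right hA hy hz0 hx
      intro q' h1 hyq'
      rcases eq_or_ne q' q with rfl | hne
      · exact hz
      · exact assoc_of_notMem q' (hzS q' (hmemS q' h1 hne (Or.inr hyq')))
          (fun hx' => hdisj q' h1 hne hx' hyq')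
    have e3 : D z x = D z y := by
      apply D_congr_right hA hz0 hx hy
      intro q' h1 hzq'
      rcases eq_or_ne q' q with rfl | hne
      · exact hxy
      · exact assoc_of_notMem q'
          (fun hx' => hzS q' (hmemS q' h1 hne (Or.inl hx')) hzq')
          (fun hy' => hzS q' (hmemS q' h1 hne (Or.inr hy')) hzq')
    have a1 := D_antisymm hA hx hz0
    have a2 := D_antisymm hA hz0 hy
    have a3 := D_antisymm hA hy hx
    linarith
  · apply D_eq_zero_of_disjoint hA hx hy
    intro q' h1 hxq' hyq'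
    rcases eq_or_ne q' q with rfl | hne
    · exact hxq hxq'
    · exact hdisj q' h1 hne hxq' hyq'

end congr

section nice

variable {A : Type u} [CommRing A] [IsNoetherianRing A] [IsLocalRing A]

theorem isUnit_loc_prod (q' : PrimeSpectrum A) (F : Finset (PrimeSpectrum A))
    (x : PrimeSpectrum A → A) (e : PrimeSpectrum A → ℕ)
    (h2 : ∀ q ∈ F, x q ∉ q'.asIdeal) :
    IsUnit (algebraMap A (Localization.AtPrime q'.asIdeal) (∏ q ∈ F, x q ^ e q)) := by
  apply isUnit_loc_of_notMem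
  intro hmem
  have := q'.isPrime
  obtain ⟨q, hq, hq'⟩ := Ideal.IsPrime.prod_mem_iff.1 hmem
  exact h2 q hq (Ideal.IsPrime.mem_of_pow_mem inferInstance _ hq')

theorem assoc_loc_prod (q' : PrimeSpectrum A) (F : Finset (PrimeSpectrum A)) (hq' : q' ∈ F)
    (x : PrimeSpectrum A → A) (e : PrimeSpectrum A → ℕ)
    (ϖ' : Localization.AtPrime q'.asIdeal)
    (h1 : Associated (algebraMap A (Localization.AtPrime q'.asIdeal) (x q')) ϖ')
    (h2 : ∀ q ∈ F, q ≠ q' → x q ∉ q'.asIdeal) :
    Associated (algebraMap A (Localization.AtPrime q'.asIdeal) (∏ q ∈ F, x q ^ e q))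
      (ϖ' ^ e q') := by
  classical
  rw [← Finset.mul_prod_erase F _ hq', map_mul, map_pow]
  have hu := isUnit_loc_prod q' (F.erase q') x e
    (fun q hq => h2 q (Finset.mem_of_mem_erase hq) (Finset.ne_of_mem_erase hq))
  have := (h1.pow_pow (n := e q')).mul_mul (associated_one_iff_isUnit.2 hu)
  rwa [mul_one] at this

/-- **the nice case** of the key lemma: at every height one prime containing `a b` both
`a` and `b` are associated to powers of a nonzerodivisor. -/
theorem D_eq_zero_of_nice (hA : ringKrullDim A = 2) {a b : A} (ha : a ∈ A⁰) (hb : b ∈ A⁰)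
    (hnice : ∀ q : PrimeSpectrum A, q.asIdeal.height = 1 → a * b ∈ q.asIdeal →
      ∃ (ϖ : Localization.AtPrime q.asIdeal) (e f : ℕ),
        ϖ ∈ (Localization.AtPrime q.asIdeal)⁰ ∧
        Associated (algebraMap A (Localization.AtPrime q.asIdeal) a) (ϖ ^ e) ∧
        Associated (algebraMap A (Localization.AtPrime q.asIdeal) b) (ϖ ^ f)) :
    D a b = 0 := by
  classical
  have ht : a * b ∈ A⁰ := mul_mem ha hb
  obtain ⟨F, hFmem⟩ : ∃ F : Finset (PrimeSpectrum A),
      ∀ q, q ∈ F ↔ q.asIdeal.height = 1 ∧ a * b ∈ q.asIdeal := ⟨Fset ht, mem_Fset ht⟩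
  have hnice' : ∀ q : PrimeSpectrum A, ∃ (ϖ : Localization.AtPrime q.asIdeal) (e f : ℕ),
      q ∈ F → (ϖ ∈ (Localization.AtPrime q.asIdeal)⁰ ∧
        Associated (algebraMap A (Localization.AtPrime q.asIdeal) a) (ϖ ^ e) ∧
        Associated (algebraMap A (Localization.AtPrime q.asIdeal) b) (ϖ ^ f)) := by
    intro q
    by_cases hq : q ∈ F
    · obtain ⟨ϖ, e, f, h⟩ := hnice q ((hFmem q).1 hq).1 ((hFmem q).1 hq).2
      exact ⟨ϖ, e, f, fun _ => h⟩
    · exact ⟨1, 0, 0, fun h => absurd h hq⟩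
  choose ϖ e f hdata using hnice'
  -- the elements `x q`
  have hx' : ∀ q : PrimeSpectrum A, ∃ x : A, q ∈ F → (x ∈ A⁰ ∧
      Associated (algebraMap A (Localization.AtPrime q.asIdeal) x) (ϖ q) ∧
      ∀ p ∈ F.erase q, x ∉ p.asIdeal) := by
    intro q
    by_cases hq : q ∈ F
    · obtain ⟨x, hx0, hxa, hxS⟩ := exists_assoc_notMem q ((hFmem q).1 hq).1 ht
        ((hFmem q).1 hq).2 (ϖ q) (hdata q hq).1 (F.erase q)
        (fun p hp => not_le_of_height_one hA q p ((hFmem q).1 hq).1
          ((hFmem p).1 (Finset.mem_of_mem_erase hp)).1 (Finset.ne_of_mem_erase hp))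
      exact ⟨x, fun _ => ⟨hx0, hxa, hxS⟩⟩
    · exact ⟨1, fun h => absurd h hq⟩
  choose x hx using hx'
  have hX : a * b * ∏ q ∈ F, x q ∈ A⁰ := mul_mem ht (prod_mem fun q hq => (hx q hq).1)
  obtain ⟨G, hGmem⟩ : ∃ G : Finset (PrimeSpectrum A),
      ∀ q, q ∈ G ↔ q.asIdeal.height = 1 ∧ a * b * ∏ q ∈ F, x q ∈ q.asIdeal :=
    ⟨Fset hX, mem_Fset hX⟩
  have hFG : ∀ q ∈ F, q ∈ G := fun q hq =>
    (hGmem q).2 ⟨((hFmem q).1 hq).1, Ideal.mul_mem_right _ _ ((hFmem q).1 hq).2⟩
  have hxG : ∀ q ∈ F, ∀ p : PrimeSpectrum A, p.asIdeal.height = 1 → x q ∈ p.asIdeal → p ∈ G := by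
    intro q hq p hp1 hxp
    refine (hGmem p).2 ⟨hp1, Ideal.mul_mem_left _ _ ?_⟩
    exact Ideal.mem_of_dvd _ (Finset.dvd_prod_of_mem x hq) hxp
  -- the elements `y q`
  have hy' : ∀ q : PrimeSpectrum A, ∃ y : A, q ∈ F → (y ∈ A⁰ ∧
      Associated (algebraMap A (Localization.AtPrime q.asIdeal) y) (ϖ q) ∧
      ∀ p ∈ G.erase q, y ∉ p.asIdeal) := by
    intro q
    by_cases hq : q ∈ F
    · obtain ⟨y, hy0, hya, hyS⟩ := exists_assoc_notMem q ((hFmem q).1 hq).1 ht
        ((hFmem q).1 hq).2 (ϖ q) (hdata q hq).1 (G.erase q)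
        (fun p hp => not_le_of_height_one hA q p ((hFmem q).1 hq).1
          ((hGmem p).1 (Finset.mem_of_mem_erase hp)).1 (Finset.ne_of_mem_erase hp))
      exact ⟨y, fun _ => ⟨hy0, hya, hyS⟩⟩
    · exact ⟨1, fun h => absurd h hq⟩
  choose y hy using hy'
  have ha'0 : ∏ q ∈ F, x q ^ e q ∈ A⁰ := prod_mem fun q hq => pow_mem (hx q hq).1 _
  have hb'0 : ∏ q ∈ F, y q ^ f q ∈ A⁰ := prod_mem fun q hq => pow_mem (hy q hq).1 _
  -- step (i)
  have s1 : D a b = D (∏ q ∈ F, x q ^ e q) b := by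
    apply D_congr_left hA ha ha'0 hb
    intro q' h1 hbq'
    have hq'F : q' ∈ F := (hFmem q').2 ⟨h1, Ideal.mul_mem_left _ _ hbq'⟩
    refine (hdata q' hq'F).2.1.trans (assoc_loc_prod q' F hq'F x e (ϖ q') (hx q' hq'F).2.1 ?_).symm
    intro q hq hne
    exact (hx q hq).2.2 q' (Finset.mem_erase.2 ⟨Ne.symm hne, hq'F⟩)
  -- step (ii)
  have s2 : D (∏ q ∈ F, x q ^ e q) b = D (∏ q ∈ F, x q ^ e q) (∏ q ∈ F, y q ^ f q) := by
    apply D_congr_right hA ha'0 hb hb'0
    intro q' h1 ha'q'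
    have := q'.isPrime
    obtain ⟨q₀, hq₀, hq₀'⟩ := Ideal.IsPrime.prod_mem_iff.1 ha'q'
    have hxq' : x q₀ ∈ q'.asIdeal := Ideal.IsPrime.mem_of_pow_mem inferInstance _ hq₀'
    have hq'G : q' ∈ G := hxG q₀ hq₀ q' h1 hxq'
    by_cases hq'F : q' ∈ F
    · refine (hdata q' hq'F).2.2.trans
        (assoc_loc_prod q' F hq'F y f (ϖ q') (hy q' hq'F).2.1 ?_).symm
      intro q hq hne
      exact (hy q hq).2.2 q' (Finset.mem_erase.2 ⟨Ne.symm hne, hq'G⟩)
    · have hbq' : b ∉ q'.asIdeal := fun hbq' =>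
        hq'F ((hFmem q').2 ⟨h1, Ideal.mul_mem_left _ _ hbq'⟩)
      refine (associated_one_iff_isUnit.2 (isUnit_loc_of_notMem q' hbq')).trans
        (associated_one_iff_isUnit.2 (isUnit_loc_prod q' F y f ?_)).symm
      intro q hq
      refine (hy q hq).2.2 q' (Finset.mem_erase.2 ⟨?_, hq'G⟩)
      rintro rfl
      exact hq'F hq
  -- step (iii)
  have s3 : D (∏ q ∈ F, x q ^ e q) (∏ q ∈ F, y q ^ f q) = 0 := by
    rw [D_prod_left hA F _ (fun q hq => pow_mem (hx q hq).1 _) hb'0]
    refine Finset.sum_eq_zero fun q hq => ?_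
    rw [D_pow_left hA (hx q hq).1 hb'0,
      D_prod_right hA F _ (fun q'' hq'' => pow_mem (hy q'' hq'').1 _) (hx q hq).1]
    refine mul_eq_zero_of_right _ (Finset.sum_eq_zero fun q'' hq'' => ?_)
    rw [D_pow_right hA (hx q hq).1 (hy q'' hq'').1]
    refine mul_eq_zero_of_right _ ?_
    by_cases hqq : q = q''
    · subst hqq
      apply D_eq_zero_of_assoc hA (hx q hq).1 (hy q hq).1 q ((hFmem q).1 hq).1
        ((hx q hq).2.1.trans (hy q hq).2.1.symm)
      intro q' h1 hne hxq' hyq'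
      exact (hy q hq).2.2 q' (Finset.mem_erase.2 ⟨hne, hxG q hq q' h1 hxq'⟩) hyq'
    · apply D_eq_zero_of_disjoint hA (hx q hq).1 (hy q'' hq'').1
      intro p h1 hxp hyp
      have hpG : p ∈ G := hxG q hq p h1 hxp
      by_cases hp : p = q''
      · subst hp
        exact (hx q hq).2.2 p (Finset.mem_erase.2 ⟨Ne.symm hqq, hq''⟩) hxp
      · exact (hy q'' hq'').2.2 p (Finset.mem_erase.2 ⟨hp, hpG⟩) hyp
  rw [s1, s2, s3]

end nice

end Groth.Agent.Lib.Helper71.Dim3
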