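import Mathlib
import Groth.Prelude.Def_Tame
import Groth.Agent.Lib.Helper71.Dim3D

set_option autoImplicit false
set_option linter.unusedSectionVars false
universe u

namespace Groth.Agent.Lib.Helper71.Dim3

open nonZeroDivisors IsLocalRing CycAlg Groth.Agent.Lib.Helper71.Dim1

section gluesub

variable {A : Type u} [CommRing A] (t : A) (n : ℕ) (P : Ideal A)

/-- the subalgebra `t^{-n} P` of `A_t`, for an ideal `P ∋ t^n` with `P P ⊆ t^n P`. -/
def glueSub (hPP : P * P ≤ Ideal.span {t ^ n} * P) (htP : t ^ n ∈ P) :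
    Subalgebra A (Localization.Away t) where
  carrier := {x | ∃ z ∈ P, algebraMap A (Localization.Away t) z =
    algebraMap A (Localization.Away t) (t ^ n) * x}
  mul_mem' := by
    rintro x x' ⟨z, hz, hzx⟩ ⟨z', hz', hzx'⟩
    obtain ⟨z'', hz'', hzz⟩ := Ideal.mem_span_singleton_mul.1 (hPP (Ideal.mul_mem_mul hz hz'))
    refine ⟨z'', hz'', ?_⟩
    have hu : IsUnit (algebraMap A (Localization.Away t) (t ^ n)) := by
      rw [map_pow]
      exact (IsLocalization.Away.algebraMap_isUnit t).pow n
    apply hu.mul_left_cancel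
    rw [← map_mul, hzz, map_mul, hzx, hzx']
    ring
  one_mem' := ⟨t ^ n, htP, by rw [mul_one]⟩
  add_mem' := by
    rintro x x' ⟨z, hz, hzx⟩ ⟨z', hz', hzx'⟩
    exact ⟨z + z', P.add_mem hz hz', by rw [map_add, hzx, hzx', mul_add]⟩
  zero_mem' := ⟨0, P.zero_mem, by rw [map_zero, mul_zero]⟩
  algebraMap_mem' r := ⟨t ^ n * r, P.mul_mem_right _ htP, by rw [map_mul]⟩

variable {t n P}

theorem mem_glueSub (hPP : P * P ≤ Ideal.span {t ^ n} * P) (htP : t ^ n ∈ P)
    (x : Localization.Away t) :
    x ∈ glueSub t n P hPP htP ↔ ∃ z ∈ P, algebraMap A (Localization.Away t) z =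
      algebraMap A (Localization.Away t) (t ^ n) * x := Iff.rfl

theorem isUnit_tn : IsUnit (algebraMap A (Localization.Away t) (t ^ n)) := by
  rw [map_pow]
  exact (IsLocalization.Away.algebraMap_isUnit t).pow n

theorem injective_away (ht : t ∈ A⁰) :
    Function.Injective (algebraMap A (Localization.Away t)) :=
  IsLocalization.injective (Localization.Away t) (M := Submonoid.powers t)
    (Submonoid.powers_le.mpr ht)

theorem glueSub_injective (hPP : P * P ≤ Ideal.span {t ^ n} * P) (htP : t ^ n ∈ P)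
    (ht : t ∈ A⁰) :
    Function.Injective (algebraMap A (glueSub t n P hPP htP)) := by
  intro x y h
  apply injective_away ht
  exact congrArg Subtype.val h

theorem glueSub_den (hPP : P * P ≤ Ideal.span {t ^ n} * P) (htP : t ^ n ∈ P)
    (x : glueSub t n P hPP htP) :
    ∃ z ∈ P, algebraMap A (glueSub t n P hPP htP) z =
      algebraMap A (glueSub t n P hPP htP) (t ^ n) * x := by
  obtain ⟨z, hz, hzx⟩ := x.2
  exact ⟨z, hz, Subtype.ext hzx⟩

theorem glueSub_nzd (hPP : P * P ≤ Ideal.span {t ^ n} * P) (htP : t ^ n ∈ P) :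
    algebraMap A (glueSub t n P hPP htP) t ∈ (glueSub t n P hPP htP)⁰ := by
  rw [mem_nonZeroDivisors_iff_right]
  intro x hx
  have h1 : (x : Localization.Away t) * algebraMap A (Localization.Away t) t = 0 :=
    congrArg Subtype.val hx
  apply Subtype.ext
  exact (IsLocalization.Away.algebraMap_isUnit t).mul_left_eq_zero.1 h1

theorem glueSub_finite [IsNoetherianRing A] (hPP : P * P ≤ Ideal.span {t ^ n} * P)
    (htP : t ^ n ∈ P) : Module.Finite A (glueSub t n P hPP htP) := by
  -- multiplication by the unit `t^n` identifies the subalgebra with the image of `P`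
  let u : (Localization.Away t)ˣ := (isUnit_tn (t := t) (n := n)).unit
  let μ : Localization.Away t ≃ₗ[A] Localization.Away t :=
    { toFun := fun x => (u : Localization.Away t) * x
      invFun := fun x => ((u⁻¹ : (Localization.Away t)ˣ) : Localization.Away t) * x
      map_add' := fun x y => mul_add _ _ _
      map_smul' := fun r x => by simp [Algebra.smul_def, mul_left_comm]
      left_inv := fun x => by simp
      right_inv := fun x => by simp }
  have hμ : ∀ x, μ x = algebraMap A (Localization.Away t) (t ^ n) * x := fun x => by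
    show (u : Localization.Away t) * x = _
    rw [IsUnit.unit_spec]
  have hfg : (Submodule.map (Algebra.linearMap A (Localization.Away t)) P).FG :=
    Submodule.FG.map _ (IsNoetherian.noetherian P)
  have heq : Subalgebra.toSubmodule (glueSub t n P hPP htP) =
      Submodule.comap μ.toLinearMap (Submodule.map (Algebra.linearMap A (Localization.Away t)) P) := by
    ext x
    rw [Subalgebra.mem_toSubmodule, mem_glueSub, Submodule.mem_comap, Submodule.mem_map]
    constructor
    · rintro ⟨z, hz, hzx⟩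
      exact ⟨z, hz, by rw [LinearEquiv.coe_coe, hμ, ← hzx]; rfl⟩
    · rintro ⟨z, hz, hzx⟩
      refine ⟨z, hz, ?_⟩
      rw [LinearEquiv.coe_coe, hμ] at hzx
      rw [← hzx]; rfl
  have hfg' : (Subalgebra.toSubmodule (glueSub t n P hPP htP)).FG := by
    rw [heq, Submodule.comap_equiv_eq_map_symm]
    exact Submodule.FG.map _ hfg
  exact Module.Finite.of_fg hfg'

end gluesub

section gluelocal

variable {A : Type u} [CommRing A] [IsNoetherianRing A] [IsLocalRing A] {t : A} {n : ℕ}
  {J : Ideal A}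

theorem glueSub_comap_maximal
    (hPP : (Ideal.span {t ^ n} ⊔ J) * (Ideal.span {t ^ n} ⊔ J) ≤
      Ideal.span {t ^ n} * (Ideal.span {t ^ n} ⊔ J))
    (htP : t ^ n ∈ Ideal.span {t ^ n} ⊔ J)
    (N : Ideal (glueSub t n (Ideal.span {t ^ n} ⊔ J) hPP htP)) [hN : N.IsMaximal] :
    N.comap (algebraMap A (glueSub t n (Ideal.span {t ^ n} ⊔ J) hPP htP)) = maximalIdeal A := by
  have hfin := glueSub_finite hPP htP
  have hint : Algebra.IsIntegral A (glueSub t n (Ideal.span {t ^ n} ⊔ J) hPP htP) :=
    Algebra.IsIntegral.of_finite _ _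
  exact IsLocalRing.eq_maximalIdeal (Ideal.isMaximal_comap_of_isIntegral_of_isMaximal N)

theorem glueSub_mem_maximal
    (hPP : (Ideal.span {t ^ n} ⊔ J) * (Ideal.span {t ^ n} ⊔ J) ≤
      Ideal.span {t ^ n} * (Ideal.span {t ^ n} ⊔ J))
    (htP : t ^ n ∈ Ideal.span {t ^ n} ⊔ J)
    (hJJ : J * J ≤ Ideal.span {t ^ n} * (maximalIdeal A * J))
    (N : Ideal (glueSub t n (Ideal.span {t ^ n} ⊔ J) hPP htP)) [hN : N.IsMaximal]
    (x : glueSub t n (Ideal.span {t ^ n} ⊔ J) hPP htP) (y : A) (hy : y ∈ J)
    (hxy : algebraMap A (Localization.Away t) y =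
      algebraMap A (Localization.Away t) (t ^ n) * (x : Localization.Away t)) : x ∈ N := by
  have hcomap := glueSub_comap_maximal hPP htP N
  have hm : ∀ μ ∈ maximalIdeal A,
      algebraMap A (glueSub t n (Ideal.span {t ^ n} ⊔ J) hPP htP) μ ∈ N := by
    intro μ hμ
    rw [← hcomap] at hμ
    exact hμ
  have hu := isUnit_tn (t := t) (n := n)
  have key : ∀ y'' ∈ maximalIdeal A * J,
      ∃ x'' : glueSub t n (Ideal.span {t ^ n} ⊔ J) hPP htP,
        algebraMap A (Localization.Away t) y'' =
          algebraMap A (Localization.Away t) (t ^ n) * (x'' : Localization.Away t) ∧ x'' ∈ N := by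
    intro y'' hy''
    induction hy'' using Submodule.mul_induction_on' with
    | mem_mul_mem μ hμ j hj =>
      have hjmem : (hu.unit⁻¹ : (Localization.Away t)ˣ) * algebraMap A (Localization.Away t) j ∈
          glueSub t n (Ideal.span {t ^ n} ⊔ J) hPP htP := by
        refine ⟨j, Ideal.mem_sup_right hj, ?_⟩
        rw [← mul_assoc]
        have : algebraMap A (Localization.Away t) (t ^ n) *
            ((hu.unit⁻¹ : (Localization.Away t)ˣ) : Localization.Away t) = 1 := by
          have := hu.unit.mul_inv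
          rwa [IsUnit.unit_spec] at this
        rw [this, one_mul]
      refine ⟨algebraMap A _ μ * ⟨_, hjmem⟩, ?_, N.mul_mem_right _ (hm μ hμ)⟩
      show algebraMap A (Localization.Away t) (μ • j) =
        algebraMap A (Localization.Away t) (t ^ n) *
          (algebraMap A (Localization.Away t) μ *
            ((hu.unit⁻¹ : (Localization.Away t)ˣ) * algebraMap A (Localization.Away t) j))
      have h1 : algebraMap A (Localization.Away t) (t ^ n) *
          ((hu.unit⁻¹ : (Localization.Away t)ˣ) : Localization.Away t) = 1 := by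
        have := hu.unit.mul_inv
        rwa [IsUnit.unit_spec] at this
      rw [smul_eq_mul, map_mul]
      calc algebraMap A (Localization.Away t) μ * algebraMap A (Localization.Away t) j
          = (algebraMap A (Localization.Away t) (t ^ n) *
              ((hu.unit⁻¹ : (Localization.Away t)ˣ) : Localization.Away t)) *
              (algebraMap A (Localization.Away t) μ * algebraMap A (Localization.Away t) j) := by
            rw [h1, one_mul]
        _ = _ := by ring
    | add y₁ _ y₂ _ ih₁ ih₂ =>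
      obtain ⟨x₁, h₁, hx₁⟩ := ih₁
      obtain ⟨x₂, h₂, hx₂⟩ := ih₂
      refine ⟨x₁ + x₂, ?_, N.add_mem hx₁ hx₂⟩
      rw [map_add, h₁, h₂]
      push_cast
      ring
  obtain ⟨y'', hy'', hyy⟩ := Ideal.mem_span_singleton_mul.1 (hJJ (Ideal.mul_mem_mul hy hy))
  obtain ⟨x'', hx''eq, hx''⟩ := key y'' hy''
  have hsq : x'' = x * x := by
    apply Subtype.ext
    apply hu.mul_left_cancel
    rw [← hx''eq]
    apply hu.mul_left_cancel
    rw [← map_mul, hyy, map_mul, hxy]
    push_cast
    ring
  rw [hsq] at hx''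
  exact (hN.isPrime.mem_or_mem hx'').elim id id

theorem glueSub_res
    (hPP : (Ideal.span {t ^ n} ⊔ J) * (Ideal.span {t ^ n} ⊔ J) ≤
      Ideal.span {t ^ n} * (Ideal.span {t ^ n} ⊔ J))
    (htP : t ^ n ∈ Ideal.span {t ^ n} ⊔ J)
    (hJJ : J * J ≤ Ideal.span {t ^ n} * (maximalIdeal A * J))
    (x : glueSub t n (Ideal.span {t ^ n} ⊔ J) hPP htP) :
    ∃ r : A, ∀ N : Ideal (glueSub t n (Ideal.span {t ^ n} ⊔ J) hPP htP), N.IsMaximal →
      x - algebraMap A _ r ∈ N := by
  obtain ⟨z, hz, hzx⟩ := x.2
  obtain ⟨z₁, hz₁, y, hy, rfl⟩ := Submodule.mem_sup.1 hz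
  obtain ⟨r, rfl⟩ := Ideal.mem_span_singleton'.1 hz₁
  refine ⟨r, fun N hN => ?_⟩
  apply glueSub_mem_maximal hPP htP hJJ N _ y hy
  rw [map_add, map_mul] at hzx
  have hcoe : ((x - algebraMap A (glueSub t n (Ideal.span {t ^ n} ⊔ J) hPP htP) r :
      glueSub t n (Ideal.span {t ^ n} ⊔ J) hPP htP) : Localization.Away t) =
      (x : Localization.Away t) - algebraMap A (Localization.Away t) r := rfl
  rw [hcoe, mul_sub, ← hzx]
  ring

theorem glueSub_isLocalRing
    (hPP : (Ideal.span {t ^ n} ⊔ J) * (Ideal.span {t ^ n} ⊔ J) ≤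
      Ideal.span {t ^ n} * (Ideal.span {t ^ n} ⊔ J))
    (htP : t ^ n ∈ Ideal.span {t ^ n} ⊔ J)
    (hJJ : J * J ≤ Ideal.span {t ^ n} * (maximalIdeal A * J)) (ht : t ∈ A⁰) :
    IsLocalRing (glueSub t n (Ideal.span {t ^ n} ⊔ J) hPP htP) := by
  have hnt : Nontrivial (glueSub t n (Ideal.span {t ^ n} ⊔ J) hPP htP) :=
    (glueSub_injective hPP htP ht).nontrivial
  apply IsLocalRing.of_unique_max_ideal
  obtain ⟨N, hN⟩ := Ideal.exists_maximal (glueSub t n (Ideal.span {t ^ n} ⊔ J) hPP htP)
  refine ⟨N, hN, fun N' hN' => ?_⟩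
  have hle : N' ≤ N := by
    intro x hx
    obtain ⟨r, hr⟩ := glueSub_res hPP htP hJJ x
    have h1 := hr N' hN'
    have h2 : algebraMap A _ r ∈ N' := by
      have := N'.sub_mem hx h1
      rwa [sub_sub_cancel] at this
    have h3 : r ∈ maximalIdeal A := by
      rw [← glueSub_comap_maximal hPP htP N']
      exact h2
    have h4 : algebraMap A _ r ∈ N := by
      rw [← glueSub_comap_maximal hPP htP N] at h3
      exact h3
    have := N.add_mem (hr N hN) h4
    rwa [sub_add_cancel] at this
  exact hN'.eq_of_le hN.ne_top hle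

end gluelocal

section gluelift

variable {A : Type u} [CommRing A] {t : A} {n : ℕ} {P : Ideal A} {T : Type u} [CommRing T]
  (f : A →+* T)

/-- the relation defining the lift of `f` to the glued ring. -/
def LiftRel (t : A) (n : ℕ) (x : Localization.Away t) (w : T) : Prop :=
  ∃ z : A, algebraMap A (Localization.Away t) z =
    algebraMap A (Localization.Away t) (t ^ n) * x ∧ f z = f t ^ n * w

variable {f}

theorem LiftRel.unique (ht : t ∈ A⁰) (hft : f t ∈ T⁰) {x : Localization.Away t} {w w' : T}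
    (h : LiftRel f t n x w) (h' : LiftRel f t n x w') : w = w' := by
  obtain ⟨z, hz, hw⟩ := h
  obtain ⟨z', hz', hw'⟩ := h'
  have hzz : z = z' := injective_away ht (hz.trans hz'.symm)
  subst hzz
  have h1 : f t ^ n * w = f t ^ n * w' := hw.symm.trans hw'
  have h2 : f t ^ n ∈ T⁰ := pow_mem hft n
  have h3 : (w - w') * f t ^ n = 0 := by
    rw [sub_mul, mul_comm w, mul_comm w', h1, sub_self]
  exact sub_eq_zero.1 (h2.2 _ h3)

theorem LiftRel.exists (hPP : P * P ≤ Ideal.span {t ^ n} * P) (htP : t ^ n ∈ P)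
    (hP : ∀ z ∈ P, ∃ w, f z = f t ^ n * w) (x : glueSub t n P hPP htP) :
    ∃ w, LiftRel f t n (x : Localization.Away t) w := by
  obtain ⟨z, hz, hzx⟩ := x.2
  obtain ⟨w, hw⟩ := hP z hz
  exact ⟨w, z, hzx, hw⟩

theorem LiftRel.algebraMap (r : A) :
    LiftRel f t n (algebraMap A (Localization.Away t) r) (f r) :=
  ⟨t ^ n * r, by rw [map_mul], by rw [map_mul, map_pow]⟩

theorem LiftRel.add {x x' : Localization.Away t} {w w' : T}
    (h : LiftRel f t n x w) (h' : LiftRel f t n x' w') : LiftRel f t n (x + x') (w + w') := by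
  obtain ⟨z, hz, hw⟩ := h
  obtain ⟨z', hz', hw'⟩ := h'
  exact ⟨z + z', by rw [map_add, hz, hz', mul_add], by rw [map_add, hw, hw', mul_add]⟩

theorem LiftRel.mul (ht : t ∈ A⁰) (hft : f t ∈ T⁰) {x x' : Localization.Away t} {w w' w'' : T}
    (h : LiftRel f t n x w) (h' : LiftRel f t n x' w') (h'' : LiftRel f t n (x * x') w'') :
    w'' = w * w' := by
  obtain ⟨z, hz, hw⟩ := h
  obtain ⟨z', hz', hw'⟩ := h'
  obtain ⟨z'', hz'', hw''⟩ := h''
  have h1 : t ^ n * z'' = z * z' := by
    apply injective_away ht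
    rw [map_mul, map_mul, hz, hz', hz'']
    ring
  have h2 : f t ^ n * (f t ^ n * w'') = f t ^ n * (f t ^ n * (w * w')) := by
    rw [← hw'', ← map_pow, ← map_mul, h1, map_mul, hw, hw', map_pow]
    ring
  have h3 : f t ^ n ∈ T⁰ := pow_mem hft n
  have h4 : (w'' - w * w') * (f t ^ n * f t ^ n) = 0 := by
    have : (w'' - w * w') * (f t ^ n * f t ^ n) =
        f t ^ n * (f t ^ n * w'') - f t ^ n * (f t ^ n * (w * w')) := by ring
    rw [this, h2, sub_self]
  exact sub_eq_zero.1 ((mul_mem h3 h3).2 _ h4)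

/-- the lift of `f : A → T` to the glued ring. -/
noncomputable def glueLift (ht : t ∈ A⁰) (hft : f t ∈ T⁰)
    (hPP : P * P ≤ Ideal.span {t ^ n} * P) (htP : t ^ n ∈ P)
    (hP : ∀ z ∈ P, ∃ w, f z = f t ^ n * w) : glueSub t n P hPP htP →+* T where
  toFun x := Classical.choose (LiftRel.exists hPP htP hP x)
  map_one' := by
    have h1 := Classical.choose_spec (LiftRel.exists hPP htP hP (1 : glueSub t n P hPP htP))
    have h2 : LiftRel f t n ((1 : glueSub t n P hPP htP) : Localization.Away t) (f 1) := by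
      have := LiftRel.algebraMap (f := f) (t := t) (n := n) 1
      rwa [map_one] at this
    rw [LiftRel.unique ht hft h1 h2, map_one]
  map_mul' x x' := by
    have h := Classical.choose_spec (LiftRel.exists hPP htP hP x)
    have h' := Classical.choose_spec (LiftRel.exists hPP htP hP x')
    have h'' := Classical.choose_spec (LiftRel.exists hPP htP hP (x * x'))
    exact LiftRel.mul ht hft h h' h''
  map_zero' := by
    have h1 := Classical.choose_spec (LiftRel.exists hPP htP hP (0 : glueSub t n P hPP htP))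
    have h2 : LiftRel f t n ((0 : glueSub t n P hPP htP) : Localization.Away t) (f 0) := by
      have := LiftRel.algebraMap (f := f) (t := t) (n := n) 0
      rwa [map_zero] at this
    rw [LiftRel.unique ht hft h1 h2, map_zero]
  map_add' x x' := by
    have h := Classical.choose_spec (LiftRel.exists hPP htP hP x)
    have h' := Classical.choose_spec (LiftRel.exists hPP htP hP x')
    have h'' := Classical.choose_spec (LiftRel.exists hPP htP hP (x + x'))
    exact LiftRel.unique ht hft h'' (h.add h')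

theorem glueLift_rel (ht : t ∈ A⁰) (hft : f t ∈ T⁰)
    (hPP : P * P ≤ Ideal.span {t ^ n} * P) (htP : t ^ n ∈ P)
    (hP : ∀ z ∈ P, ∃ w, f z = f t ^ n * w) (x : glueSub t n P hPP htP) :
    LiftRel f t n (x : Localization.Away t) (glueLift ht hft hPP htP hP x) :=
  Classical.choose_spec (LiftRel.exists hPP htP hP x)

theorem glueLift_algebraMap (ht : t ∈ A⁰) (hft : f t ∈ T⁰)
    (hPP : P * P ≤ Ideal.span {t ^ n} * P) (htP : t ^ n ∈ P)
    (hP : ∀ z ∈ P, ∃ w, f z = f t ^ n * w) (r : A) :
    glueLift ht hft hPP htP hP (algebraMap A (glueSub t n P hPP htP) r) = f r :=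
  LiftRel.unique ht hft (glueLift_rel ht hft hPP htP hP _) (LiftRel.algebraMap r)

/-- characterization of the lift. -/
theorem glueLift_eq (ht : t ∈ A⁰) (hft : f t ∈ T⁰)
    (hPP : P * P ≤ Ideal.span {t ^ n} * P) (htP : t ^ n ∈ P)
    (hP : ∀ z ∈ P, ∃ w, f z = f t ^ n * w) (x : glueSub t n P hPP htP) (z : A) (w : T)
    (hz : algebraMap A (Localization.Away t) z =
      algebraMap A (Localization.Away t) (t ^ n) * (x : Localization.Away t))
    (hw : f z = f t ^ n * w) : glueLift ht hft hPP htP hP x = w :=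
  LiftRel.unique ht hft (glueLift_rel ht hft hPP htP hP x) ⟨z, hz, hw⟩

end gluelift

end Groth.Agent.Lib.Helper71.Dim3
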