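import Mathlib
import Groth.Prelude.Def_Tame
import Groth.Agent.Lib.Helper71.Dim3E

set_option autoImplicit false
set_option linter.unusedSectionVars false
universe u

namespace Groth.Agent.Lib.Helper71.Dim3

open nonZeroDivisors IsLocalRing CycAlg Groth.Agent.Lib.Helper71.Dim1

section gluecore

variable {A : Type u} [CommRing A] [IsNoetherianRing A] [IsLocalRing A]
  {ι : Type u} [Fintype ι] (q : ι → Ideal A) [hqp : ∀ i, (q i).IsPrime]
  (T : ι → Type u) [∀ i, CommRing (T i)] (f : ∀ i, A →+* T i) (t : A) (n : ℕ)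

/-- elements of `A` lying in `t^n T_i` for all `i`. -/
def glueI : Ideal A := ⨅ i, Ideal.comap (f i) (Ideal.span {f i t ^ n})

variable {T f t n}

theorem mem_glueI {z : A} : z ∈ glueI T f t n ↔ ∀ i, ∃ w, f i z = f i t ^ n * w := by
  unfold glueI
  rw [Ideal.mem_iInf]
  refine forall_congr' fun i => ?_
  rw [Ideal.mem_comap, Ideal.mem_span_singleton']
  constructor
  · rintro ⟨w, hw⟩
    exact ⟨w, by rw [← hw, mul_comm]⟩
  · rintro ⟨w, hw⟩
    exact ⟨w, by rw [hw, mul_comm]⟩

theorem glueI_mul_le : glueI T f t n * glueI T f t n ≤ glueI T f t (2 * n) := by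
  rw [Ideal.mul_le]
  intro r hr s hs
  rw [mem_glueI] at hr hs ⊢
  intro i
  obtain ⟨w₁, h₁⟩ := hr i
  obtain ⟨w₂, h₂⟩ := hs i
  exact ⟨w₁ * w₂, by rw [map_mul, h₁, h₂, two_mul, pow_add]; ring⟩

theorem glueI_two_le : glueI T f t (2 * n) ≤ glueI T f t n := by
  intro z hz
  rw [mem_glueI] at hz ⊢
  intro i
  obtain ⟨w, hw⟩ := hz i
  exact ⟨f i t ^ n * w, by rw [hw, two_mul, pow_add]; ring⟩

theorem pow_mem_glueI : t ^ n ∈ glueI T f t n := by
  rw [mem_glueI]
  intro i
  exact ⟨1, by rw [map_pow, mul_one]⟩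

/-- a common cross-term killer. -/
theorem exists_sigma [DecidableEq ι]
    (F6 : ∀ i j, i ≠ j → ∃ σ ∉ q i, ∀ w : T j, ∃ w', f j σ * w = f j t ^ (2 * n) * w') (i : ι) :
    ∃ σ ∉ q i, ∀ j, j ≠ i → ∀ w : T j, ∃ w', f j σ * w = f j t ^ (2 * n) * w' := by
  have h : ∀ j : ι, ∃ σ ∉ q i, j ≠ i → ∀ w : T j, ∃ w', f j σ * w = f j t ^ (2 * n) * w' := by
    intro j
    by_cases hj : j = i
    · exact ⟨1, (Ideal.ne_top_iff_one _).1 (hqp i).ne_top, fun h => absurd hj h⟩
    · obtain ⟨σ, hσ, h⟩ := F6 i j (Ne.symm hj)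
      exact ⟨σ, hσ, fun _ => h⟩
  choose σ hσ hσw using h
  refine ⟨∏ j, σ j, ?_, ?_⟩
  · intro hmem
    obtain ⟨j, -, hj⟩ := (Ideal.IsPrime.prod_mem_iff (hp := hqp i)).1 hmem
    exact hσ j hj
  · intro j hj w
    obtain ⟨w', hw'⟩ := hσw j hj w
    refine ⟨f j (∏ k ∈ Finset.univ.erase j, σ k) * w', ?_⟩
    rw [← Finset.mul_prod_erase Finset.univ σ (Finset.mem_univ j), map_mul]
    calc f j (σ j) * f j (∏ k ∈ Finset.univ.erase j, σ k) * w
        = f j (∏ k ∈ Finset.univ.erase j, σ k) * (f j (σ j) * w) := by ring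
      _ = _ := by rw [hw']; ring

/-- the colon ideal `(t^n I : I')` is not contained in any `q i`. -/
theorem exists_colon_notMem [DecidableEq ι]
    (F3 : ∀ i, ∀ w : T i, ∃ z : A, ∃ s ∉ q i, f i z = f i s * (f i t ^ n * w))
    (F4 : ∀ i, ∀ z : A, f i z = 0 → ∃ s ∉ q i, s * z = 0)
    (F6 : ∀ i j, i ≠ j → ∃ σ ∉ q i, ∀ w : T j, ∃ w', f j σ * w = f j t ^ (2 * n) * w') (i : ι) :
    ∃ c ∉ q i, ∀ z ∈ glueI T f t (2 * n), c * z ∈ Ideal.span {t ^ n} * glueI T f t n := by
  classical
  obtain ⟨σ, hσ, hσw⟩ := exists_sigma q F6 i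
  -- single elements
  have single : ∀ z ∈ glueI T f t (2 * n), ∃ c ∉ q i,
      c * z ∈ Ideal.span {t ^ n} * glueI T f t n := by
    intro z hz
    obtain ⟨w, hw⟩ := mem_glueI.1 hz i
    obtain ⟨z₁, s, hs, hz₁⟩ := F3 i w
    have h1 : f i (s * z - t ^ n * z₁) = 0 := by
      rw [map_sub, map_mul, map_mul, hw, hz₁, map_pow, two_mul, pow_add]
      ring
    obtain ⟨s₂, hs₂, h2⟩ := F4 i _ h1
    refine ⟨σ * s₂ * s, ?_, ?_⟩
    · intro hmem
      rcases (hqp i).mem_or_mem hmem with h | h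
      · rcases (hqp i).mem_or_mem h with h | h
        · exact hσ h
        · exact hs₂ h
      · exact hs h
    · have h3 : σ * s₂ * s * z = t ^ n * (σ * (s₂ * z₁)) := by
        have : s₂ * (s * z) = s₂ * (t ^ n * z₁) := by
          have := h2
          rw [mul_sub] at this
          exact sub_eq_zero.1 this
        calc σ * s₂ * s * z = σ * (s₂ * (s * z)) := by ring
          _ = σ * (s₂ * (t ^ n * z₁)) := by rw [this]
          _ = _ := by ring
      rw [h3]
      refine Ideal.mul_mem_mul (Ideal.subset_span rfl) ?_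
      rw [mem_glueI]
      intro j
      by_cases hj : j = i
      · subst hj
        exact ⟨f j (σ * s₂) * (f j s * w), by rw [← mul_assoc σ, map_mul, hz₁]; ring⟩
      · obtain ⟨w', hw'⟩ := hσw j hj (f j (s₂ * z₁))
        exact ⟨f j t ^ n * w', by rw [map_mul, hw', two_mul, pow_add]; ring⟩
  -- finitely many generators
  obtain ⟨S, hS⟩ : (glueI T f t (2 * n)).FG := IsNoetherian.noetherian _
  have hSmem : ∀ z ∈ S, z ∈ glueI T f t (2 * n) := fun z hz => hS ▸ Ideal.subset_span hz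
  have h : ∀ z : A, ∃ c ∉ q i, z ∈ S → c * z ∈ Ideal.span {t ^ n} * glueI T f t n := by
    intro z
    by_cases hz : z ∈ S
    · obtain ⟨c, hc, h⟩ := single z (hSmem z hz)
      exact ⟨c, hc, fun _ => h⟩
    · exact ⟨1, (Ideal.ne_top_iff_one _).1 (hqp i).ne_top, fun h => absurd h hz⟩
  choose c hc hcz using h
  refine ⟨∏ z ∈ S, c z, ?_, ?_⟩
  · intro hmem
    obtain ⟨z, -, hz⟩ := (Ideal.IsPrime.prod_mem_iff (hp := hqp i)).1 hmem
    exact hc z hz
  · intro z hz
    rw [← hS] at hz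
    induction hz using Submodule.span_induction with
    | mem z hz =>
      rw [← Finset.mul_prod_erase S c hz]
      have : (c z * ∏ x ∈ S.erase z, c x) * z = (∏ x ∈ S.erase z, c x) * (c z * z) := by ring
      rw [this]
      exact Ideal.mul_mem_left _ _ (hcz z hz)
    | zero => rw [mul_zero]; exact Ideal.zero_mem _
    | add x y _ _ hx hy => rw [mul_add]; exact Ideal.add_mem _ hx hy
    | smul a x _ hx =>
      rw [smul_eq_mul, mul_left_comm]
      exact Ideal.mul_mem_left _ _ hx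

/-- **glueing**: a finite local extension `B ⊆ A_t` of `A` with prescribed localizations. -/
theorem exists_glue_core [DecidableEq ι] (ht : t ∈ A⁰) (hqm : ∀ i, q i ≠ maximalIdeal A)
    (F3 : ∀ i, ∀ w : T i, ∃ z : A, ∃ s ∉ q i, f i z = f i s * (f i t ^ n * w))
    (F4 : ∀ i, ∀ z : A, f i z = 0 → ∃ s ∉ q i, s * z = 0)
    (F5 : ∀ i, f i t ∈ (T i)⁰)
    (F6 : ∀ i j, i ≠ j → ∃ σ ∉ q i, ∀ w : T j, ∃ w', f j σ * w = f j t ^ (2 * n) * w') :
    ∃ (B : Type u) (_ : CommRing B) (_ : Algebra A B), Module.Finite A B ∧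
      Function.Injective (algebraMap A B) ∧ IsLocalRing B ∧
      (∀ x : B, ∃ r : A, ∀ N : Ideal B, N.IsMaximal → x - algebraMap A B r ∈ N) ∧
      (∀ x : B, ∃ z : A, algebraMap A B z = algebraMap A B (t ^ n) * x) ∧
      algebraMap A B t ∈ B⁰ ∧
      ∀ i, ∃ ψ : B →+* T i, (∀ r, ψ (algebraMap A B r) = f i r) ∧
        (∀ w : T i, ∃ β : B, ∃ s ∉ q i, ψ β = f i s * w) ∧
        (∀ β : B, ψ β = 0 → ∃ s ∉ q i, algebraMap A B s * β = 0) := by
  classical
  -- the ideals
  set I := glueI T f t n with hI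
  set I' := glueI T f t (2 * n) with hI'
  let b : Ideal A := (Ideal.span {t ^ n} * I).colon (I' : Set A)
  have hbI' : b * I' ≤ Ideal.span {t ^ n} * I := by
    rw [Ideal.mul_le]
    intro r hr s hs
    exact Submodule.mem_colon.1 hr s hs
  have hbq : ∀ i, ¬ b ≤ q i := by
    intro i hle
    obtain ⟨c, hc, hcz⟩ := exists_colon_notMem q F3 F4 F6 i
    exact hc (hle (Submodule.mem_colon.2 fun z hz => hcz z hz))
  set a : Ideal A := maximalIdeal A * b with ha
  have haq : ∀ i, ¬ a ≤ q i := by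
    intro i hle
    rcases (hqp i).mul_le.1 hle with h | h
    · exact hqm i ((maximalIdeal.isMaximal A).eq_of_le (hqp i).ne_top h).symm
    · exact hbq i h
  set J : Ideal A := a * I with hJ
  have hII : I * I ≤ I' := glueI_mul_le
  have hJJ : J * J ≤ Ideal.span {t ^ n} * (maximalIdeal A * J) := by
    calc J * J = (maximalIdeal A * maximalIdeal A * b) * (b * (I * I)) := by
          rw [hJ, ha]; ring
      _ ≤ (maximalIdeal A * maximalIdeal A * b) * (b * I') :=
          Ideal.mul_mono_right (Ideal.mul_mono_right hII)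
      _ ≤ (maximalIdeal A * maximalIdeal A * b) * (Ideal.span {t ^ n} * I) :=
          Ideal.mul_mono_right hbI'
      _ = Ideal.span {t ^ n} * (maximalIdeal A * J) := by
          rw [hJ, ha]; ring
  have htP : t ^ n ∈ Ideal.span {t ^ n} ⊔ J := Ideal.mem_sup_left (Ideal.subset_span rfl)
  have hPP : (Ideal.span {t ^ n} ⊔ J) * (Ideal.span {t ^ n} ⊔ J) ≤
      Ideal.span {t ^ n} * (Ideal.span {t ^ n} ⊔ J) := by
    rw [Ideal.sup_mul]
    refine sup_le le_rfl ?_
    rw [Ideal.mul_sup]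
    refine sup_le ?_ ?_
    · rw [mul_comm]
      exact Ideal.mul_mono_right le_sup_right
    · have h1 : maximalIdeal A * J ≤ J := Ideal.mul_le_right
      have h2 : J ≤ Ideal.span {t ^ n} ⊔ J := le_sup_right
      exact hJJ.trans (Ideal.mul_mono_right (h1.trans h2))
  have hPI : Ideal.span {t ^ n} ⊔ J ≤ I := by
    have h1 : J ≤ I := by
      rw [hJ]
      exact Ideal.mul_le_right
    refine sup_le ?_ h1
    rw [Ideal.span_singleton_le_iff_mem]
    exact pow_mem_glueI
  have hPf : ∀ i, ∀ z ∈ Ideal.span {t ^ n} ⊔ J, ∃ w, f i z = f i t ^ n * w :=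
    fun i z hz => mem_glueI.1 (hPI hz) i
  have hu := isUnit_tn (t := t) (n := n)
  have huinv : algebraMap A (Localization.Away t) (t ^ n) *
      ((hu.unit⁻¹ : (Localization.Away t)ˣ) : Localization.Away t) = 1 := by
    have := hu.unit.mul_inv
    rwa [IsUnit.unit_spec] at this
  refine ⟨glueSub t n (Ideal.span {t ^ n} ⊔ J) hPP htP, inferInstance, inferInstance,
    glueSub_finite hPP htP, glueSub_injective hPP htP ht,
    glueSub_isLocalRing hPP htP hJJ ht, glueSub_res hPP htP hJJ, ?_, glueSub_nzd hPP htP, ?_⟩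
  · intro x
    obtain ⟨z, -, hz⟩ := glueSub_den hPP htP x
    exact ⟨z, hz⟩
  · intro i
    refine ⟨glueLift ht (F5 i) hPP htP (hPf i), glueLift_algebraMap ht (F5 i) hPP htP (hPf i),
      ?_, ?_⟩
    · -- surjectivity up to denominators
      intro w
      obtain ⟨z, s, hs, hz⟩ := F3 i w
      obtain ⟨σ, hσ, hσw⟩ := exists_sigma q F6 i
      obtain ⟨μ, hμa, hμq⟩ := SetLike.not_le_iff_exists.1 (haq i)
      have hσz : σ * z ∈ I := by
        rw [hI, mem_glueI]
        intro j
        by_cases hj : j = i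
        · subst hj
          exact ⟨f j σ * (f j s * w), by rw [map_mul, hz]; ring⟩
        · obtain ⟨w', hw'⟩ := hσw j hj (f j z)
          exact ⟨f j t ^ n * w', by rw [map_mul, hw', two_mul, pow_add]; ring⟩
      have hy : μ * (σ * z) ∈ J := Ideal.mul_mem_mul hμa hσz
      have hmem : ((hu.unit⁻¹ : (Localization.Away t)ˣ) : Localization.Away t) *
          algebraMap A (Localization.Away t) (μ * (σ * z)) ∈
          glueSub t n (Ideal.span {t ^ n} ⊔ J) hPP htP := by
        refine ⟨μ * (σ * z), Ideal.mem_sup_right hy, ?_⟩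
        rw [← mul_assoc (algebraMap A (Localization.Away t) (t ^ n)), huinv, one_mul]
      refine ⟨⟨_, hmem⟩, μ * σ * s, ?_, ?_⟩
      · intro hmem'
        rcases (hqp i).mem_or_mem hmem' with h | h
        · rcases (hqp i).mem_or_mem h with h | h
          · exact hμq h
          · exact hσ h
        · exact hs h
      · apply glueLift_eq ht (F5 i) hPP htP (hPf i) _ (μ * (σ * z))
        · show _ = _ * (_ * _)
          rw [← mul_assoc (algebraMap A (Localization.Away t) (t ^ n)), huinv, one_mul]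
        · rw [map_mul, map_mul, hz, map_mul, map_mul]
          ring
    · -- injectivity up to denominators
      intro β hβ
      obtain ⟨z, hz, hw⟩ := glueLift_rel ht (F5 i) hPP htP (hPf i) β
      rw [hβ, mul_zero] at hw
      obtain ⟨s, hs, hsz⟩ := F4 i z hw
      refine ⟨s, hs, ?_⟩
      apply Subtype.ext
      show algebraMap A (Localization.Away t) s * (β : Localization.Away t) = 0
      apply hu.mul_left_cancel
      rw [mul_zero, mul_left_comm, ← hz, ← map_mul, hsz, map_zero]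

end gluecore

end Groth.Agent.Lib.Helper71.Dim3
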