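import Mathlib
import Groth.Prelude.Def_Tame
import Groth.Agent.Lib.Helper71.Dim3F

set_option autoImplicit false
set_option linter.unusedSectionVars false
universe u

namespace Groth.Agent.Lib.Helper71.Dim3

open nonZeroDivisors IsLocalRing CycAlg Groth.Agent.Lib.Helper71.Dim1

section gluewrap

variable {A : Type u} [CommRing A] [IsNoetherianRing A] [IsLocalRing A]
  {ι : Type u} [Fintype ι] (q : ι → Ideal A) [hqp : ∀ i, (q i).IsPrime]
  (T : ι → Type u) [∀ i, CommRing (T i)] [∀ i, Algebra (Localization.AtPrime (q i)) (T i)]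
  (t : A) (n : ℕ)

/-- **glueing** finite birational extensions of the localizations at finitely many height one
primes into a finite local extension of `A`. -/
theorem exists_glue (ht : t ∈ A⁰) (hq1 : ∀ i, (q i).height = 1)
    (hqm : ∀ i, q i ≠ maximalIdeal A) (hincomp : ∀ i j, i ≠ j → ¬ q j ≤ q i)
    (hinjT : ∀ i, Function.Injective (algebraMap (Localization.AtPrime (q i)) (T i)))
    (hnzdT : ∀ i, algebraMap (Localization.AtPrime (q i)) (T i)
      (algebraMap A (Localization.AtPrime (q i)) t) ∈ (T i)⁰)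
    (hdenT : ∀ i, ∀ w : T i, ∃ α : Localization.AtPrime (q i),
      algebraMap (Localization.AtPrime (q i)) (T i) α =
        algebraMap (Localization.AtPrime (q i)) (T i)
          (algebraMap A (Localization.AtPrime (q i)) t ^ n) * w) :
    ∃ (B : Type u) (_ : CommRing B) (_ : Algebra A B), Module.Finite A B ∧
      Function.Injective (algebraMap A B) ∧ IsLocalRing B ∧
      (∀ x : B, ∃ r : A, ∀ N : Ideal B, N.IsMaximal → x - algebraMap A B r ∈ N) ∧
      (∀ x : B, ∃ z : A, algebraMap A B z = algebraMap A B (t ^ n) * x) ∧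
      algebraMap A B t ∈ B⁰ ∧
      ∀ i, Nonempty (LocAt B (q i) ≃ₐ[Localization.AtPrime (q i)] T i) := by
  classical
  let f : ∀ i, A →+* T i := fun i =>
    (algebraMap (Localization.AtPrime (q i)) (T i)).comp (algebraMap A (Localization.AtPrime (q i)))
  have hf : ∀ i r, f i r = algebraMap (Localization.AtPrime (q i)) (T i)
      (algebraMap A (Localization.AtPrime (q i)) r) := fun i r => rfl
  have F3 : ∀ i, ∀ w : T i, ∃ z : A, ∃ s ∉ q i, f i z = f i s * (f i t ^ n * w) := by
    intro i w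
    obtain ⟨α, hα⟩ := hdenT i w
    obtain ⟨z, s, hzs⟩ := IsLocalization.exists_mk'_eq (q i).primeCompl α
    refine ⟨z, s, s.2, ?_⟩
    rw [hf, hf, hf, ← map_pow, ← hα, ← map_mul, ← hzs, mul_comm, IsLocalization.mk'_spec]
  have F4 : ∀ i, ∀ z : A, f i z = 0 → ∃ s ∉ q i, s * z = 0 := by
    intro i z hz
    have h1 : algebraMap A (Localization.AtPrime (q i)) z = 0 := by
      apply hinjT i
      rw [map_zero]
      exact hz
    obtain ⟨s, hs⟩ := (IsLocalization.map_eq_zero_iff (q i).primeCompl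
      (Localization.AtPrime (q i)) z).1 h1
    exact ⟨s, s.2, hs⟩
  have F5 : ∀ i, f i t ∈ (T i)⁰ := hnzdT
  have F6 : ∀ i j, i ≠ j → ∃ σ ∉ q i, ∀ w : T j, ∃ w', f j σ * w = f j t ^ (2 * n) * w' := by
    intro i j hij
    have hnz : algebraMap A (Localization.AtPrime (q j)) t ^ (2 * n) ∈
        (Localization.AtPrime (q j))⁰ := pow_mem (map_nzd (q j) ht) _
    obtain ⟨N, hN⟩ := exists_pow_le_span _ (hArt_loc (q j) (hq1 j) _ hnz)
    obtain ⟨x₀, hx₀j, hx₀i⟩ := SetLike.not_le_iff_exists.1 (hincomp i j hij)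
    refine ⟨x₀ ^ N, fun h => hx₀i ((hqp i).mem_of_pow_mem _ h), ?_⟩
    intro w
    have h1 : algebraMap A (Localization.AtPrime (q j)) (x₀ ^ N) ∈
        maximalIdeal (Localization.AtPrime (q j)) ^ N := by
      rw [map_pow]
      apply Ideal.pow_mem_pow
      rw [← IsLocalization.AtPrime.map_eq_maximalIdeal (q j) (Localization.AtPrime (q j))]
      exact Ideal.mem_map_of_mem _ hx₀j
    obtain ⟨c, hc⟩ := Ideal.mem_span_singleton'.1 (hN h1)
    refine ⟨algebraMap (Localization.AtPrime (q j)) (T j) c * w, ?_⟩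
    rw [hf, hf, ← hc, map_mul, map_pow]
    ring
  obtain ⟨B, iB, iAB, hfin, hinj, hloc, hres, hden, hnzd, hψ⟩ :=
    exists_glue_core q ht hqm F3 F4 F5 F6
  refine ⟨B, iB, iAB, hfin, hinj, hloc, hres, hden, hnzd, fun i => ?_⟩
  obtain ⟨ψ, hψ0, hψ1, hψ2⟩ := hψ i
  let algBT : Algebra B (T i) := ψ.toAlgebra
  have hψalg : ∀ β : B, algebraMap B (T i) β = ψ β := fun β => rfl
  have hloc' : IsLocalization (Algebra.algebraMapSubmonoid B (q i).primeCompl) (T i) := by
    refine ⟨?_, ?_, ?_⟩
    · rintro ⟨y, s, hs, rfl⟩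
      rw [hψalg, hψ0, hf]
      exact (IsLocalization.map_units (M := (q i).primeCompl) _ ⟨s, hs⟩).map _
    · intro w
      obtain ⟨β, s, hs, hβ⟩ := hψ1 w
      refine ⟨⟨β, ⟨algebraMap A B s, s, hs, rfl⟩⟩, ?_⟩
      show w * algebraMap B (T i) (algebraMap A B s) = algebraMap B (T i) β
      rw [hψalg, hψalg, hψ0, hβ, mul_comm]
    · intro β β' h
      have h0 : ψ (β - β') = 0 := by
        rw [map_sub]
        exact sub_eq_zero.2 h
      obtain ⟨s, hs, hsβ⟩ := hψ2 _ h0
      refine ⟨⟨algebraMap A B s, s, hs, rfl⟩, ?_⟩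
      show algebraMap A B s * β = algebraMap A B s * β'
      rw [mul_sub] at hsβ
      exact sub_eq_zero.1 hsβ
  let e : LocAt B (q i) ≃ₐ[B] T i :=
    IsLocalization.algEquiv (Algebra.algebraMapSubmonoid B (q i).primeCompl) (LocAt B (q i)) (T i)
  refine ⟨AlgEquiv.ofRingEquiv (f := e.toRingEquiv) ?_⟩
  intro x
  have hcomp : ((e.toRingEquiv : LocAt B (q i) →+* T i).comp
      (algebraMap (Localization.AtPrime (q i)) (LocAt B (q i)))) =
      algebraMap (Localization.AtPrime (q i)) (T i) := by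
    apply IsLocalization.ringHom_ext (q i).primeCompl
    ext r
    show e (algebraMap (Localization.AtPrime (q i)) (LocAt B (q i))
      (algebraMap A (Localization.AtPrime (q i)) r)) = f i r
    rw [← IsScalarTower.algebraMap_apply A (Localization.AtPrime (q i)) (LocAt B (q i)),
      IsScalarTower.algebraMap_apply A B (LocAt B (q i)), e.commutes, hψalg, hψ0]
  exact congrFun (congrArg DFunLike.coe hcomp) x

end gluewrap

end Groth.Agent.Lib.Helper71.Dim3
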