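import Mathlib
import Groth.Prelude.Def_Tame
import Groth.Agent.Lib.Helper71.Dim3A

set_option autoImplicit false
set_option linter.unusedSectionVars false
universe u

namespace Groth.Agent.Lib.Helper71.Dim3

open nonZeroDivisors IsLocalRing CycAlg Groth.Agent.Lib.Helper71.Dim1

section equiv

variable {L L' : Type u} [CommRing L] [CommRing L'] [IsLocalRing L] [IsLocalRing L']
  [IsNoetherianRing L]

/-- **invariance of the tame symbol under ring isomorphisms**. -/
theorem tameSymbol_ringEquiv (hL : ringKrullDim L = 1) (φ : L ≃+* L') {x y : L}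
    (hx : x ∈ L⁰) (hy : y ∈ L⁰) :
    tameSymbol L' (φ x) (φ y) = ResidueField.mapEquiv φ (tameSymbol L x y) := by
  have hArt : ∀ γ ∈ L⁰, IsArtinianRing (L ⧸ Ideal.span {γ}) :=
    fun γ hγ => isArtinianRing_quotient_of_dim_one hL γ hγ
  have hN' : IsNoetherianRing L' := isNoetherianRing_of_ringEquiv L φ
  have hL' : ringKrullDim L' = 1 := (ringKrullDim_eq_of_ringEquiv φ).symm.trans hL
  have hArt' : ∀ γ ∈ L'⁰, IsArtinianRing (L' ⧸ Ideal.span {γ}) :=
    fun γ hγ => isArtinianRing_quotient_of_dim_one hL' γ hγ
  obtain ⟨T, _, _, hLT, π, hπ, hF⟩ := exists_common_fac hArt 2 ![x, y]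
    (fun i => by fin_cases i <;> simp [hx, hy])
  obtain ⟨Fx⟩ : Nonempty (Fac L π x) := hF 0
  obtain ⟨Fy⟩ : Nonempty (Fac L π y) := hF 1
  -- the `L'`-algebra structure on `T`
  let algL'T : Algebra L' T := ((algebraMap L T).comp (φ.symm : L' →+* L)).toAlgebra
  have halg : ∀ z : L', algebraMap L' T z = algebraMap L T (φ.symm z) := fun z => rfl
  let algLL' : Algebra L L' := (φ : L →+* L').toAlgebra
  have htower : IsScalarTower L L' T := IsScalarTower.of_algebraMap_eq (fun l => by
    rw [halg]
    show _ = algebraMap L T (φ.symm (φ l))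
    rw [RingEquiv.symm_apply_apply])
  have hnzd' : ∀ γ : L', γ ∈ L'⁰ → φ.symm γ ∈ L⁰ := by
    intro γ hγ
    rw [mem_nonZeroDivisors_iff_right] at hγ ⊢
    intro c hc
    have h1 : φ c * γ = 0 := by
      have := congrArg φ hc
      rwa [map_mul, RingEquiv.apply_symm_apply, map_zero] at this
    have h2 := hγ _ h1
    exact (map_eq_zero_iff φ φ.injective).1 h2
  have hnzd : ∀ γ : L, γ ∈ L⁰ → φ γ ∈ L'⁰ := by
    intro γ hγ
    rw [mem_nonZeroDivisors_iff_right] at hγ ⊢
    intro c hc
    have h1 : φ.symm c * γ = 0 := by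
      have := congrArg φ.symm hc
      rwa [map_mul, RingEquiv.symm_apply_apply, map_zero] at this
    have h2 := hγ _ h1
    exact (map_eq_zero_iff φ.symm φ.symm.injective).1 h2
  have hfinLT := hLT.finite
  have hL'T : IsBir L' T :=
    { finite := Module.Finite.of_restrictScalars_finite L L' T
      inj := hLT.inj.comp φ.symm.injective
      nzd := fun γ hγ => hLT.nzd _ (hnzd' γ hγ)
      den := by
        obtain ⟨z, hz, h⟩ := hLT.den
        refine ⟨φ z, hnzd z hz, fun s => ?_⟩
        obtain ⟨α, hα⟩ := h s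
        exact ⟨φ α, by rw [halg, halg, RingEquiv.symm_apply_apply, RingEquiv.symm_apply_apply, hα]⟩ }
  have hint : Algebra.IsIntegral L T := Algebra.IsIntegral.of_finite L T
  have hfinL'T := hL'T.finite
  have hint' : Algebra.IsIntegral L' T := Algebra.IsIntegral.of_finite L' T
  have hloc : ∀ q : MaximalSpectrum T,
      IsLocalHom (algebraMap L (Localization.AtPrime q.asIdeal)) := fun q => by
    have := q.isMaximal
    exact isLocalHom_of_isIntegral q.asIdeal
  have hloc' : ∀ q : MaximalSpectrum T,
      IsLocalHom (algebraMap L' (Localization.AtPrime q.asIdeal)) := fun q => by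
    have := q.isMaximal
    exact isLocalHom_of_isIntegral q.asIdeal
  have hfinM := finite_maximalSpectrum (A := L) T
  let _ := Fintype.ofFinite (MaximalSpectrum T)
  have hmapeq : ∀ (q : MaximalSpectrum T) (l : L),
      algebraMap L' (Localization.AtPrime q.asIdeal) (φ l) =
        algebraMap L (Localization.AtPrime q.asIdeal) l := by
    intro q l
    rw [IsScalarTower.algebraMap_apply L' T (Localization.AtPrime q.asIdeal), halg,
      RingEquiv.symm_apply_apply, ← IsScalarTower.algebraMap_apply L T]
  let Fx' : Fac L' π (φ x) :=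
    { u := Fx.u
      e := Fx.e
      fac := fun q => by rw [hmapeq]; exact Fx.fac q }
  let Fy' : Fac L' π (φ y) :=
    { u := Fy.u
      e := Fy.e
      fac := fun q => by rw [hmapeq]; exact Fy.fac q }
  rw [tameSymbol_eq hArt hLT π hπ hx hy Fx Fy,
    tameSymbol_eq hArt' hL'T π hπ (hnzd x hx) (hnzd y hy) Fx' Fy', map_prod]
  refine Finset.prod_congr rfl fun q _ => ?_
  unfold LF
  rw [map_pow]
  congr 1
  symm
  apply Algebra.norm_eq_of_ringEquiv (ResidueField.mapEquiv φ)
  ext r
  obtain ⟨l, rfl⟩ := residue_surjective r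
  show algebraMap (ResidueField L') (ResidueField (Localization.AtPrime q.asIdeal))
    (ResidueField.mapEquiv φ (residue L l)) =
    algebraMap (ResidueField L) (ResidueField (Localization.AtPrime q.asIdeal)) (residue L l)
  have h1 : ResidueField.mapEquiv φ (residue L l) = residue L' (φ l) := by
    change ResidueField.map (φ : L →+* L') (residue L l) = _
    rw [ResidueField.map_residue]
    rfl
  rw [h1, ResidueField.algebraMap_residue, ResidueField.algebraMap_residue, hmapeq]

end equiv

end Groth.Agent.Lib.Helper71.Dim3
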