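import Mathlib
import Groth.Prelude.Def_Tame
import Groth.Agent.Lib.Helper71.Dim3A
import Groth.Agent.S14503

set_option autoImplicit false
set_option linter.unusedSectionVars false
universe u

namespace Groth.Agent.Lib.Helper71.Dim3

open nonZeroDivisors IsLocalRing CycAlg Groth.Agent.Lib.Helper71.Dim1
open Groth.Agent.Lib.Helper79.LocLength

section reslength

variable {A' C : Type u} [CommRing A'] [CommRing C] [IsLocalRing C] [Algebra A' C]

/-- lengths over `A'` and over a local `A'`-algebra `C` with the same residue field agree. -/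
theorem length_eq_of_residue_surjective
    (hres : ∀ x : C, ∃ r : A', x - algebraMap A' C r ∈ maximalIdeal C)
    (M : Type u) [AddCommGroup M] [Module C M] [Module A' M] [IsScalarTower A' C M]
    (hM : IsFiniteLength C M) : Module.length A' M = Module.length C M := by
  classical
  obtain ⟨s, hs_bot, hs_top⟩ := isFiniteLength_iff_exists_compositionSeries.mp hM
  have key : ∀ i : Fin (s.length + 1), Module.length A' (s i) = Module.length C (s i) := by
    intro i
    induction i using Fin.induction with
    | zero =>
      have h0 : s 0 = ⊥ := hs_bot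
      rw [h0]
      have : Subsingleton (⊥ : Submodule C M) := inferInstance
      rw [Module.length_eq_zero, Module.length_eq_zero]
    | succ i IH =>
      have hstep : s i.castSucc ⋖ s i.succ := s.step i
      rw [length_covBy_of_tower (A := A') hstep, length_covBy_of_tower (A := C) hstep, IH]
      congr 1
      have hsimple : IsSimpleModule C
          (↥(s i.succ) ⧸ Submodule.comap (s i.succ).subtype (s i.castSucc)) :=
        (covBy_iff_quot_is_simple hstep.le).mp hstep
      obtain ⟨I, hI, ⟨e⟩⟩ := isSimpleModule_iff_quot_maximal.mp hsimple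
      have hIm : I = maximalIdeal C := IsLocalRing.eq_maximalIdeal hI
      have hsurj : Function.Surjective (algebraMap A' (C ⧸ I)) := by
        intro x
        obtain ⟨x, rfl⟩ := Ideal.Quotient.mk_surjective x
        obtain ⟨r, hr⟩ := hres x
        refine ⟨r, ?_⟩
        rw [IsScalarTower.algebraMap_apply A' C (C ⧸ I)]
        symm
        rw [Ideal.Quotient.algebraMap_eq, Ideal.Quotient.eq, hIm]
        exact hr
      rw [(e.restrictScalars A').length_eq, e.length_eq,
        Module.length_eq_of_surjective (S := A') (R := C ⧸ I) (M := C ⧸ I) hsurj,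
        Module.length_eq_of_surjective (S := C) (R := C ⧸ I) (M := C ⧸ I)
          Ideal.Quotient.mk_surjective]
  have hlast : s (Fin.last s.length) = ⊤ := hs_top
  have h1 := key (Fin.last s.length)
  rw [hlast] at h1
  rw [← ((Submodule.topEquiv (R := C) (M := M)).restrictScalars A').length_eq, h1,
    (Submodule.topEquiv (R := C) (M := M)).length_eq]

end reslength

section ordnorm

variable {A' : Type u} [CommRing A'] [IsDomain A'] [IsNoetherianRing A'] [IsLocalRing A']
  {C : Type u} [CommRing C] [IsDomain C] [IsNoetherianRing C] [IsLocalRing C]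
  [Ring.KrullDimLE 1 C] [Algebra A' C] [Module.Finite A' C]
  (K L : Type u) [Field K] [Field L] [Algebra A' K] [IsFractionRing A' K] [Algebra C L]
  [IsFractionRing C L] [Algebra K L] [Algebra A' L] [IsScalarTower A' C L] [IsScalarTower A' K L]
  [FiniteDimensional K L]

/-- **order of a norm**, for a finite extension of one-dimensional local domains with trivial
residue field extension. -/
theorem ordFrac_norm_eq (hA' : ringKrullDim A' = 1)
    (hinj : Function.Injective (algebraMap A' C))
    (hres : ∀ x : C, ∃ r : A', x - algebraMap A' C r ∈ maximalIdeal C)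
    (θ : L) (hθ : θ ≠ 0) :
    CycAlg.ordFrac A' K (Algebra.norm K θ) = CycAlg.ordFrac C L θ := by
  have hdim : Ring.KrullDimLE 1 A' := Ring.krullDimLE_iff.mpr hA'.le
  have base : ∀ r : C, r ≠ 0 →
      CycAlg.ordFrac A' K (Algebra.norm K (algebraMap C L r)) =
        CycAlg.ordFrac C L (algebraMap C L r) := by
    intro r hr
    obtain ⟨hfin, heq⟩ := Groth.Agent.S14503.result A' hA' C hinj K L r hr
    rw [← heq, Groth.Agent.Lib.Helper74.ordFracInt_algebraMap C L hr]
    congr 2
    have hflA : IsFiniteLength A' (C ⧸ Ideal.span {r}) := Module.length_ne_top_iff.1 hfin.ne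
    have hflC : IsFiniteLength C (C ⧸ Ideal.span {r}) := by
      rw [isFiniteLength_iff_isNoetherian_isArtinian] at hflA ⊢
      exact ⟨isNoetherian_of_tower A' hflA.1, isArtinian_of_tower A' hflA.2⟩
    exact length_eq_of_residue_surjective hres _ hflC
  obtain ⟨r, s, hs, rfl⟩ := IsFractionRing.div_surjective (A := C) θ
  have hs0 : s ≠ 0 := nonZeroDivisors.ne_zero hs
  have hr0 : r ≠ 0 := by
    rintro rfl
    rw [map_zero, zero_div] at hθ
    exact hθ rfl
  have hr' : algebraMap C L r ≠ 0 :=
    (map_ne_zero_iff _ (IsFractionRing.injective C L)).2 hr0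
  have hs' : algebraMap C L s ≠ 0 :=
    (map_ne_zero_iff _ (IsFractionRing.injective C L)).2 hs0
  have hnr : Algebra.norm K (algebraMap C L r) ≠ 0 := Algebra.norm_ne_zero_iff.2 hr'
  have hns : Algebra.norm K (algebraMap C L s) ≠ 0 := Algebra.norm_ne_zero_iff.2 hs'
  have hinv : Algebra.norm K (algebraMap C L s)⁻¹ = (Algebra.norm K (algebraMap C L s))⁻¹ := by
    apply eq_inv_of_mul_eq_one_left
    rw [← map_mul, inv_mul_cancel₀ hs', map_one]
  rw [div_eq_mul_inv, map_mul, hinv,
    Groth.Agent.Lib.Helper74.ordFracInt_mul A' K hnr (inv_ne_zero hns),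
    Groth.Agent.Lib.Helper74.ordFracInt_inv A' K hns,
    Groth.Agent.Lib.Helper74.ordFracInt_mul C L hr' (inv_ne_zero hs'),
    Groth.Agent.Lib.Helper74.ordFracInt_inv C L hs', base r hr0, base s hs0]

end ordnorm

end Groth.Agent.Lib.Helper71.Dim3
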