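import Mathlib
import Groth.Prelude.Def_Tame
import Groth.Agent.Lib.Helper71.Dim3H
import Groth.Agent.Lib.Helper71.Dim3I

set_option autoImplicit false
set_option linter.unusedSectionVars false
universe u

namespace Groth.Agent.Lib.Helper71.Dim3

open nonZeroDivisors IsLocalRing CycAlg Groth.Agent.Lib.Helper71.Dim1

section corr

variable {A : Type u} [CommRing A] {B : Type u} [CommRing B] [Algebra A B] [Module.Finite A B]
  (q : Ideal A) [hq : q.IsPrime]

theorem comap_locAt_liesOver' (n : Ideal (LocAt B q)) [n.IsMaximal] :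
    (n.comap (algebraMap B (LocAt B q))).comap (algebraMap A B) = q := by
  have hint : Algebra.IsIntegral (Localization.AtPrime q) (LocAt B q) :=
    Algebra.IsIntegral.of_finite _ _
  have h1 : (n.comap (algebraMap (Localization.AtPrime q) (LocAt B q))).IsMaximal :=
    Ideal.isMaximal_comap_of_isIntegral_of_isMaximal n
  have h2 : n.comap (algebraMap (Localization.AtPrime q) (LocAt B q)) =
      maximalIdeal (Localization.AtPrime q) := IsLocalRing.eq_maximalIdeal h1
  rw [Ideal.comap_comap, ← IsScalarTower.algebraMap_eq A B (LocAt B q),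
    IsScalarTower.algebraMap_eq A (Localization.AtPrime q) (LocAt B q), ← Ideal.comap_comap, h2]
  exact Localization.AtPrime.under_maximalIdeal

/-- the prime of `B` under a maximal ideal of the localization `B_q`. -/
noncomputable def downPrime (n : MaximalSpectrum (LocAt B q)) : PrimeSpectrum B :=
  ⟨n.asIdeal.comap (algebraMap B (LocAt B q)), by
    have := n.isMaximal.isPrime
    exact Ideal.comap_isPrime _ _⟩

theorem downPrime_asIdeal (n : MaximalSpectrum (LocAt B q)) :
    (downPrime q n).asIdeal = n.asIdeal.comap (algebraMap B (LocAt B q)) := rfl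

theorem downPrime_injective : Function.Injective (downPrime (B := B) q) := by
  intro k₁ k₂ h
  have h1 : k₁.asIdeal.comap (algebraMap B (LocAt B q)) =
      k₂.asIdeal.comap (algebraMap B (LocAt B q)) := congrArg PrimeSpectrum.asIdeal h
  apply MaximalSpectrum.ext
  rw [← IsLocalization.map_under (Algebra.algebraMapSubmonoid B q.primeCompl) (LocAt B q)
    k₁.asIdeal, ← IsLocalization.map_under (Algebra.algebraMapSubmonoid B q.primeCompl) (LocAt B q)
    k₂.asIdeal]
  exact congrArg _ h1

theorem downPrime_comap (n : MaximalSpectrum (LocAt B q)) :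
    (downPrime q n).asIdeal.comap (algebraMap A B) = q := by
  have := n.isMaximal
  exact comap_locAt_liesOver' q n.asIdeal

theorem exists_downPrime_eq (q' : PrimeSpectrum B)
    (hq' : q'.asIdeal.comap (algebraMap A B) = q) :
    ∃ n : MaximalSpectrum (LocAt B q), downPrime q n = q' := by
  have hint : Algebra.IsIntegral A B := Algebra.IsIntegral.of_finite A B
  have hdisj : Disjoint (Algebra.algebraMapSubmonoid B q.primeCompl : Set B)
      (q'.asIdeal : Set B) := by
    rw [Set.disjoint_left]
    rintro _ ⟨c, hc, rfl⟩ hck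
    apply hc
    rw [← hq']
    exact hck
  have hcm : (q'.asIdeal.map (algebraMap B (LocAt B q))).comap (algebraMap B (LocAt B q)) =
      q'.asIdeal :=
    IsLocalization.under_map_of_isPrime_disjoint (Algebra.algebraMapSubmonoid B q.primeCompl)
      (LocAt B q) q'.isPrime hdisj
  have hprime : (q'.asIdeal.map (algebraMap B (LocAt B q))).IsPrime :=
    IsLocalization.isPrime_of_isPrime_disjoint (Algebra.algebraMapSubmonoid B q.primeCompl)
      (LocAt B q) q'.asIdeal q'.isPrime hdisj
  obtain ⟨n', hn'max, hle⟩ := Ideal.exists_le_maximal _ hprime.ne_top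
  have h3 : q'.asIdeal ≤ n'.comap (algebraMap B (LocAt B q)) := by
    rw [← hcm]; exact Ideal.comap_mono hle
  have hcp : (n'.comap (algebraMap B (LocAt B q))).IsPrime := Ideal.comap_isPrime _ _
  have h4 : q'.asIdeal = n'.comap (algebraMap B (LocAt B q)) := by
    by_contra hne
    have hlt : q'.asIdeal < n'.comap (algebraMap B (LocAt B q)) := lt_of_le_of_ne h3 hne
    have := q'.isPrime
    have h5 := Ideal.IsIntegral.comap_lt_comap (R := A) hlt
    rw [hq', comap_locAt_liesOver' q n'] at h5
    exact lt_irrefl _ h5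
  exact ⟨⟨n', hn'max⟩, PrimeSpectrum.ext h4.symm⟩

end corr

section perprime

variable {A : Type u} [CommRing A] [IsNoetherianRing A] [IsLocalRing A]
  {B : Type u} [CommRing B] [Algebra A B] [IsLocalRing B] [Module.Finite A B]
  [IsNoetherianRing B]

theorem isLocalRing_quot (R : Type u) [CommRing R] [IsLocalRing R] (I : Ideal R) [I.IsPrime] :
    IsLocalRing (R ⧸ I) :=
  IsLocalRing.of_surjective' (Ideal.Quotient.mk I) Ideal.Quotient.mk_surjective

/-- the order of the norm of the tame symbol at a maximal ideal of `B_q` is the term of `B` at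
the corresponding prime. -/
theorem ordFrac_norm_tameSymbol (hA : ringKrullDim A = 2) (hB : ringKrullDim B = 2)
    (hres : ∀ x : B, ∃ r : A, x - algebraMap A B r ∈ maximalIdeal B)
    (q : PrimeSpectrum A) (hq1 : q.asIdeal.height = 1)
    [hloc : ∀ n : MaximalSpectrum (LocAt B q.asIdeal),
      IsLocalHom (algebraMap (Localization.AtPrime q.asIdeal) (Localization.AtPrime n.asIdeal))]
    (n : MaximalSpectrum (LocAt B q.asIdeal))
    (hq'1 : (downPrime q.asIdeal n).asIdeal.height = 1)
    {x y : A} (hx : algebraMap A B x ∈ B⁰) (hy : algebraMap A B y ∈ B⁰) :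
    CycAlg.ordFrac (A ⧸ q.asIdeal) q.asIdeal.ResidueField
      (Algebra.norm (ResidueField (Localization.AtPrime q.asIdeal))
        (tameSymbol (Localization.AtPrime n.asIdeal)
          (algebraMap (Localization.AtPrime q.asIdeal) (Localization.AtPrime n.asIdeal)
            (algebraMap A (Localization.AtPrime q.asIdeal) x))
          (algebraMap (Localization.AtPrime q.asIdeal) (Localization.AtPrime n.asIdeal)
            (algebraMap A (Localization.AtPrime q.asIdeal) y)))) =
      term (downPrime q.asIdeal n) (algebraMap A B x) (algebraMap A B y) := by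
  have hnmax := n.isMaximal
  have hnprime : n.asIdeal.IsPrime := hnmax.isPrime
  set q' : PrimeSpectrum B := downPrime q.asIdeal n with hq'def
  have hq'comap : q'.asIdeal.comap (algebraMap A B) = q.asIdeal := downPrime_comap q.asIdeal n
  -- the local isomorphism
  let φ : Localization.AtPrime q'.asIdeal ≃ₐ[A] Localization.AtPrime n.asIdeal :=
    locIso (A := A) (B := A) (T := B) q.asIdeal n.asIdeal
  have htower : IsScalarTower A (Localization.AtPrime q.asIdeal)
      (Localization.AtPrime n.asIdeal) :=
    tower_locAt_atPrime (A := A) (T := B) q.asIdeal n.asIdeal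
  have hφa : ∀ a : A, φ (algebraMap B (Localization.AtPrime q'.asIdeal) (algebraMap A B a)) =
      algebraMap (Localization.AtPrime q.asIdeal) (Localization.AtPrime n.asIdeal)
        (algebraMap A (Localization.AtPrime q.asIdeal) a) := by
    intro a
    rw [← IsScalarTower.algebraMap_apply A B (Localization.AtPrime q'.asIdeal),
      ← IsScalarTower.algebraMap_apply A (Localization.AtPrime q.asIdeal)
        (Localization.AtPrime n.asIdeal)]
    exact φ.commutes a
  have hdim1 : ringKrullDim (Localization.AtPrime q'.asIdeal) = 1 :=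
    dim_loc_eq_one q'.asIdeal hq'1
  have hX : algebraMap B (Localization.AtPrime q'.asIdeal) (algebraMap A B x) ∈
      (Localization.AtPrime q'.asIdeal)⁰ := map_nzd q'.asIdeal hx
  have hY : algebraMap B (Localization.AtPrime q'.asIdeal) (algebraMap A B y) ∈
      (Localization.AtPrime q'.asIdeal)⁰ := map_nzd q'.asIdeal hy
  have hP2 := tameSymbol_ringEquiv hdim1 φ.toRingEquiv hX hY
  have hφX : φ.toRingEquiv (algebraMap B (Localization.AtPrime q'.asIdeal) (algebraMap A B x)) =
      algebraMap (Localization.AtPrime q.asIdeal) (Localization.AtPrime n.asIdeal)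
        (algebraMap A (Localization.AtPrime q.asIdeal) x) := hφa x
  have hφY : φ.toRingEquiv (algebraMap B (Localization.AtPrime q'.asIdeal) (algebraMap A B y)) =
      algebraMap (Localization.AtPrime q.asIdeal) (Localization.AtPrime n.asIdeal)
        (algebraMap A (Localization.AtPrime q.asIdeal) y) := hφa y
  rw [hφX, hφY] at hP2
  rw [hP2]
  -- the quotient rings
  have hlocA' : IsLocalRing (A ⧸ q.asIdeal) := isLocalRing_quot A q.asIdeal
  have hlocC : IsLocalRing (B ⧸ q'.asIdeal) := isLocalRing_quot B q'.asIdeal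
  have hdimC : Ring.KrullDimLE 1 (B ⧸ q'.asIdeal) := krullDimLE_one_quot hB q'.asIdeal hq'1
  have hle : q.asIdeal ≤ q'.asIdeal.comap (algebraMap A B) := hq'comap.ge
  let algA'C : Algebra (A ⧸ q.asIdeal) (B ⧸ q'.asIdeal) :=
    (Ideal.quotientMap q'.asIdeal (algebraMap A B) hle).toAlgebra
  have halgA'C : ∀ a : A, algebraMap (A ⧸ q.asIdeal) (B ⧸ q'.asIdeal)
      (Ideal.Quotient.mk q.asIdeal a) = Ideal.Quotient.mk q'.asIdeal (algebraMap A B a) :=
    fun a => rfl
  have htowerAA'C : IsScalarTower A (A ⧸ q.asIdeal) (B ⧸ q'.asIdeal) :=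
    IsScalarTower.of_algebraMap_eq (fun a => rfl)
  have hfinAC : Module.Finite A (B ⧸ q'.asIdeal) :=
    Module.Finite.of_surjective (Ideal.Quotient.mkₐ A q'.asIdeal).toLinearMap
      (Ideal.Quotient.mkₐ_surjective A _)
  have hfinA'C : Module.Finite (A ⧸ q.asIdeal) (B ⧸ q'.asIdeal) :=
    Module.Finite.of_restrictScalars_finite A _ _
  have hinjA'C : Function.Injective (algebraMap (A ⧸ q.asIdeal) (B ⧸ q'.asIdeal)) :=
    Ideal.quotientMap_injective' hq'comap.le
  have hresA'C : ∀ c : B ⧸ q'.asIdeal, ∃ r : A ⧸ q.asIdeal,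
      c - algebraMap (A ⧸ q.asIdeal) (B ⧸ q'.asIdeal) r ∈ maximalIdeal (B ⧸ q'.asIdeal) := by
    intro c
    obtain ⟨b, rfl⟩ := Ideal.Quotient.mk_surjective c
    obtain ⟨r, hr⟩ := hres b
    refine ⟨Ideal.Quotient.mk _ r, ?_⟩
    rw [halgA'C, ← map_sub]
    have hlh : IsLocalHom (Ideal.Quotient.mk q'.asIdeal) :=
      IsLocalHom.of_surjective _ Ideal.Quotient.mk_surjective
    intro hu
    exact hr (isUnit_of_map_unit (Ideal.Quotient.mk q'.asIdeal) _ hu)
  -- the fields
  let ψ : q'.asIdeal.ResidueField ≃+* ResidueField (Localization.AtPrime n.asIdeal) :=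
    ResidueField.mapEquiv φ.toRingEquiv
  have hψres : ∀ z : Localization.AtPrime q'.asIdeal,
      ψ (residue (Localization.AtPrime q'.asIdeal) z) =
        residue (Localization.AtPrime n.asIdeal) (φ z) := by
    intro z
    change ResidueField.map (φ.toRingEquiv : Localization.AtPrime q'.asIdeal →+*
      Localization.AtPrime n.asIdeal) (residue _ z) = _
    rw [ResidueField.map_residue]
    rfl
  let algKL : Algebra q.asIdeal.ResidueField q'.asIdeal.ResidueField :=
    ((ψ.symm : ResidueField (Localization.AtPrime n.asIdeal) →+* q'.asIdeal.ResidueField).comp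
      (algebraMap q.asIdeal.ResidueField (ResidueField (Localization.AtPrime n.asIdeal)))).toAlgebra
  let ψK : q'.asIdeal.ResidueField ≃ₐ[q.asIdeal.ResidueField]
      ResidueField (Localization.AtPrime n.asIdeal) :=
    AlgEquiv.ofRingEquiv (f := ψ) (fun c => ψ.apply_symm_apply _)
  have hfinKSn : Module.Finite q.asIdeal.ResidueField
      (ResidueField (Localization.AtPrime n.asIdeal)) :=
    finite_residueField_of_finite (A := Localization.AtPrime q.asIdeal) n.asIdeal
  have hfinKL : FiniteDimensional q.asIdeal.ResidueField q'.asIdeal.ResidueField :=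
    Module.Finite.equiv ψK.symm.toLinearEquiv
  let algA'L : Algebra (A ⧸ q.asIdeal) q'.asIdeal.ResidueField :=
    ((algebraMap q.asIdeal.ResidueField q'.asIdeal.ResidueField).comp
      (algebraMap (A ⧸ q.asIdeal) q.asIdeal.ResidueField)).toAlgebra
  have htowerA'KL : IsScalarTower (A ⧸ q.asIdeal) q.asIdeal.ResidueField
      q'.asIdeal.ResidueField := IsScalarTower.of_algebraMap_eq (fun _ => rfl)
  have htowerA'CL : IsScalarTower (A ⧸ q.asIdeal) (B ⧸ q'.asIdeal)
      q'.asIdeal.ResidueField := by
    apply IsScalarTower.of_algebraMap_eq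
    intro a'
    obtain ⟨a, rfl⟩ := Ideal.Quotient.mk_surjective a'
    rw [halgA'C]
    show ψ.symm (algebraMap q.asIdeal.ResidueField
      (ResidueField (Localization.AtPrime n.asIdeal))
        (algebraMap (A ⧸ q.asIdeal) q.asIdeal.ResidueField (Ideal.Quotient.mk _ a))) =
      algebraMap (B ⧸ q'.asIdeal) q'.asIdeal.ResidueField
        (Ideal.Quotient.mk _ (algebraMap A B a))
    rw [RingEquiv.symm_apply_eq]
    have e1 : algebraMap (A ⧸ q.asIdeal) q.asIdeal.ResidueField (Ideal.Quotient.mk _ a) =
        residue (Localization.AtPrime q.asIdeal)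
          (algebraMap A (Localization.AtPrime q.asIdeal) a) := rfl
    have e2 : algebraMap (B ⧸ q'.asIdeal) q'.asIdeal.ResidueField
        (Ideal.Quotient.mk _ (algebraMap A B a)) =
        residue (Localization.AtPrime q'.asIdeal)
          (algebraMap B (Localization.AtPrime q'.asIdeal) (algebraMap A B a)) := rfl
    rw [e1, e2, ResidueField.algebraMap_residue, hψres, hφa]
  -- the order of the norm
  have hθ0 : tameSymbol (Localization.AtPrime q'.asIdeal)
      (algebraMap B (Localization.AtPrime q'.asIdeal) (algebraMap A B x))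
      (algebraMap B (Localization.AtPrime q'.asIdeal) (algebraMap A B y)) ≠ 0 :=
    tameSymbol_ne_zero (hArt_loc q'.asIdeal hq'1) hX hY
  have hT1 := ordFrac_norm_eq (A' := A ⧸ q.asIdeal) (C := B ⧸ q'.asIdeal)
    q.asIdeal.ResidueField q'.asIdeal.ResidueField (dim_quot_eq_one hA q.asIdeal hq1)
    hinjA'C hresA'C _ hθ0
  have hnorm := Algebra.norm_eq_of_algEquiv ψK
    (tameSymbol (Localization.AtPrime q'.asIdeal)
      (algebraMap B (Localization.AtPrime q'.asIdeal) (algebraMap A B x))
      (algebraMap B (Localization.AtPrime q'.asIdeal) (algebraMap A B y)))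
  have hgoal : Algebra.norm (ResidueField (Localization.AtPrime q.asIdeal))
      (ResidueField.mapEquiv φ.toRingEquiv
        (tameSymbol (Localization.AtPrime q'.asIdeal)
          (algebraMap B (Localization.AtPrime q'.asIdeal) (algebraMap A B x))
          (algebraMap B (Localization.AtPrime q'.asIdeal) (algebraMap A B y)))) =
      Algebra.norm q.asIdeal.ResidueField
        (tameSymbol (Localization.AtPrime q'.asIdeal)
          (algebraMap B (Localization.AtPrime q'.asIdeal) (algebraMap A B x))
          (algebraMap B (Localization.AtPrime q'.asIdeal) (algebraMap A B y))) := hnorm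
  rw [hgoal, hT1]
  rfl

end perprime

end Groth.Agent.Lib.Helper71.Dim3
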