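import Mathlib
import Groth.Prelude.Def_Tame
import Groth.Agent.Lib.Helper71.Dim3J
import Groth.Agent.Lib.Helper71.Dim3D
import Groth.Agent.Lib.Helper55.KrullDimIntegral

set_option autoImplicit false
set_option linter.unusedSectionVars false
universe u

namespace Groth.Agent.Lib.Helper71.Dim3

open nonZeroDivisors IsLocalRing CycAlg Groth.Agent.Lib.Helper71.Dim1

section assoc

theorem notMem_associatedPrimes_of_mem_nzd {R : Type u} [CommRing R] [IsNoetherianRing R]
    {S : Type u} [CommRing S] [Algebra R S] (p : Ideal R) {z : R} (hz : z ∈ p)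
    (hzS : algebraMap R S z ∈ S⁰) : p ∉ associatedPrimes R S := by
  intro h
  rw [AssociatedPrimes.mem_iff, isAssociatedPrime_iff] at h
  obtain ⟨hp, x, hx⟩ := h
  have h1 : z ∈ (⊥ : Submodule R S).colon {x} := hx ▸ hz
  rw [Submodule.mem_colon_singleton, Submodule.mem_bot, Algebra.smul_def, mul_comm] at h1
  have hx0 : x = 0 := (mem_nonZeroDivisors_iff_right.1 hzS) x h1
  apply hp.ne_top
  rw [Ideal.eq_top_iff_one, hx, Submodule.mem_colon_singleton, hx0, smul_zero]
  exact Submodule.zero_mem _

end assoc

section transfer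

variable {A : Type u} [CommRing A] [IsNoetherianRing A] [IsLocalRing A]
  {B : Type u} [CommRing B] [Algebra A B] [IsLocalRing B] [Module.Finite A B]
  [IsNoetherianRing B]

theorem comap_maximalIdeal_eq : (maximalIdeal B).comap (algebraMap A B) = maximalIdeal A := by
  have hint : Algebra.IsIntegral A B := Algebra.IsIntegral.of_finite A B
  exact IsLocalRing.eq_maximalIdeal (Ideal.isMaximal_comap_of_isIntegral_of_isMaximal _)

theorem downPrime_height (hA : ringKrullDim A = 2) (hB : ringKrullDim B = 2)
    (q : PrimeSpectrum A) (hq1 : q.asIdeal.height = 1) {t : A} (htq : t ∈ q.asIdeal)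
    (htB : algebraMap A B t ∈ B⁰) (k : MaximalSpectrum (LocAt B q.asIdeal)) :
    (downPrime q.asIdeal k).asIdeal.height = 1 := by
  have hp := (downPrime q.asIdeal k).isPrime
  have h := downPrime_comap q.asIdeal k
  apply height_one_of_mem hB _ htB
  · show t ∈ (downPrime q.asIdeal k).asIdeal.comap (algebraMap A B)
    rw [h]; exact htq
  · intro hmax
    rw [hmax, comap_maximalIdeal_eq] at h
    exact ne_maximalIdeal_of_height_one hA _ hq1 h.symm

theorem term_transfer (hA : ringKrullDim A = 2) (hB : ringKrullDim B = 2)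
    (hinj : Function.Injective (algebraMap A B))
    (hres : ∀ x : B, ∃ r : A, x - algebraMap A B r ∈ maximalIdeal B)
    {t : A} (n : ℕ) (ht : t ∈ A⁰) (htB : algebraMap A B t ∈ B⁰)
    (hden : ∀ x : B, ∃ z : A, algebraMap A B z = algebraMap A B (t ^ n) * x)
    (q : PrimeSpectrum A) (hq1 : q.asIdeal.height = 1) (htq : t ∈ q.asIdeal)
    {a b : A} (ha : a ∈ A⁰) (hb : b ∈ A⁰) (haB : algebraMap A B a ∈ B⁰)
    (hbB : algebraMap A B b ∈ B⁰) [Fintype (MaximalSpectrum (LocAt B q.asIdeal))] :
    term q a b = ∑ k : MaximalSpectrum (LocAt B q.asIdeal),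
      term (downPrime q.asIdeal k) (algebraMap A B a) (algebraMap A B b) := by
  have hA1 : ringKrullDim (Localization.AtPrime q.asIdeal) = 1 := dim_loc_eq_one q.asIdeal hq1
  have hArt := hArt_loc q.asIdeal hq1
  have hfinq : Module.Finite (Localization.AtPrime q.asIdeal) (LocAt B q.asIdeal) := inferInstance
  have hintq : Algebra.IsIntegral (Localization.AtPrime q.asIdeal) (LocAt B q.asIdeal) :=
    Algebra.IsIntegral.of_finite _ _
  have hfe : CycAlg.IsFinExt (Localization.AtPrime q.asIdeal) (LocAt B q.asIdeal)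
      (maximalIdeal (Localization.AtPrime q.asIdeal)) :=
    isFinExt_of_den hArt (locAt_injective q.asIdeal hinj) hfinq
      (locAt_den q.asIdeal ⟨t ^ n, pow_mem ht n, hden⟩)
  have htm : algebraMap A (Localization.AtPrime q.asIdeal) t ∈
      maximalIdeal (Localization.AtPrime q.asIdeal) := by
    have h0 : (maximalIdeal (Localization.AtPrime q.asIdeal)).comap
        (algebraMap A (Localization.AtPrime q.asIdeal)) = q.asIdeal :=
      Localization.AtPrime.under_maximalIdeal
    rw [← Ideal.mem_comap, h0]
    exact htq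
  have htS : algebraMap (Localization.AtPrime q.asIdeal) (LocAt B q.asIdeal)
      (algebraMap A (Localization.AtPrime q.asIdeal) t) ∈ (LocAt B q.asIdeal)⁰ := by
    have := tower_locAt (A := A) (B := A) (T := B) q.asIdeal
    rw [← IsScalarTower.algebraMap_apply A (Localization.AtPrime q.asIdeal) (LocAt B q.asIdeal),
      IsScalarTower.algebraMap_apply A B (LocAt B q.asIdeal)]
    exact IsLocalization.map_nonZeroDivisors_le (Algebra.algebraMapSubmonoid B q.asIdeal.primeCompl)
      (LocAt B q.asIdeal) ⟨_, htB, rfl⟩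
  have hass : maximalIdeal (Localization.AtPrime q.asIdeal) ∉
      associatedPrimes (Localization.AtPrime q.asIdeal) (LocAt B q.asIdeal) :=
    notMem_associatedPrimes_of_mem_nzd _ htm htS
  have hloc : ∀ k : MaximalSpectrum (LocAt B q.asIdeal),
      IsLocalHom (algebraMap (Localization.AtPrime q.asIdeal)
        (Localization.AtPrime k.asIdeal)) := fun k => by
    have := k.isMaximal
    exact isLocalHom_of_isIntegral k.asIdeal
  have hX := map_nzd q.asIdeal ha
  have hY := map_nzd q.asIdeal hb
  have hformula := tameSymbol_eq_prod_norm hA1 hfe hass hX hY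
  rw [finprod_eq_prod_of_fintype] at hformula
  have hdimq := krullDimLE_one_quot hA q.asIdeal hq1
  unfold term
  rw [hformula]
  have hne : ∀ k ∈ (Finset.univ : Finset (MaximalSpectrum (LocAt B q.asIdeal))),
      Algebra.norm (ResidueField (Localization.AtPrime q.asIdeal))
        (tameSymbol (Localization.AtPrime k.asIdeal)
          (algebraMap (Localization.AtPrime q.asIdeal) (Localization.AtPrime k.asIdeal)
            (algebraMap A (Localization.AtPrime q.asIdeal) a))
          (algebraMap (Localization.AtPrime q.asIdeal) (Localization.AtPrime k.asIdeal)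
            (algebraMap A (Localization.AtPrime q.asIdeal) b))) ≠ 0 := by
    intro k _
    have hkmax := k.isMaximal
    have hfk : Module.Finite (ResidueField (Localization.AtPrime q.asIdeal))
        (ResidueField (Localization.AtPrime k.asIdeal)) :=
      finite_residueField_of_finite (A := Localization.AtPrime q.asIdeal) k.asIdeal
    rw [Algebra.norm_ne_zero_iff]
    have hAB : IsBir (Localization.AtPrime q.asIdeal) (LocAt B q.asIdeal) :=
      isBir_of_isFinExt hfe hass
    have hnz : ∀ x ∈ (Localization.AtPrime q.asIdeal)⁰,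
        algebraMap (Localization.AtPrime q.asIdeal) (Localization.AtPrime k.asIdeal) x ∈
          (Localization.AtPrime k.asIdeal)⁰ := by
      intro x hx
      rw [IsScalarTower.algebraMap_apply (Localization.AtPrime q.asIdeal) (LocAt B q.asIdeal)
        (Localization.AtPrime k.asIdeal)]
      exact IsLocalization.map_nonZeroDivisors_le k.asIdeal.primeCompl
        (Localization.AtPrime k.asIdeal) ⟨_, hAB.nzd x hx, rfl⟩
    exact tameSymbol_ne_zero
      (fun γ hγ => isArtinianRing_quotient_locAtPrime (A := Localization.AtPrime q.asIdeal)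
        (B := LocAt B q.asIdeal) hA1 k.asIdeal γ hγ) (hnz _ hX) (hnz _ hY)
  rw [Groth.Agent.Lib.Helper74.ordFracInt_prod (A ⧸ q.asIdeal) q.asIdeal.ResidueField
    Finset.univ _ hne]
  exact Finset.sum_congr rfl fun k _ =>
    ordFrac_norm_tameSymbol hA hB hres q hq1 k (downPrime_height hA hB q hq1 htq htB k) haB hbB

/-- **transfer** of the key sum to a finite, residually trivial, `t`-birational local extension. -/
theorem D_transfer (hA : ringKrullDim A = 2)
    (hinj : Function.Injective (algebraMap A B))
    (hres : ∀ x : B, ∃ r : A, x - algebraMap A B r ∈ maximalIdeal B)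
    {t : A} (n : ℕ) (ht : t ∈ A⁰) (htB : algebraMap A B t ∈ B⁰)
    (hden : ∀ x : B, ∃ z : A, algebraMap A B z = algebraMap A B (t ^ n) * x)
    {a b : A} (ha : a ∈ A⁰) (hb : b ∈ A⁰) (hdvd : a * b ∣ t) :
    D a b = D (algebraMap A B a) (algebraMap A B b) := by
  classical
  have hint : Algebra.IsIntegral A B := Algebra.IsIntegral.of_finite A B
  have hB : ringKrullDim B = 2 := by
    rw [Groth.Agent.Lib.Helper55.ringKrullDim_eq_of_isIntegral_of_injective A B hinj, hA]
  obtain ⟨c, hc⟩ := hdvd
  have htB' : algebraMap A B a * algebraMap A B b * algebraMap A B c ∈ B⁰ := by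
    rw [← map_mul, ← map_mul, ← hc]; exact htB
  have habB := (mul_mem_nonZeroDivisors.1 htB').1
  have haB := (mul_mem_nonZeroDivisors.1 habB).1
  have hbB := (mul_mem_nonZeroDivisors.1 habB).2
  rw [D_eq_sum hA hb ht ⟨c, hc⟩,
    D_eq_sum hB hbB htB ⟨algebraMap A B c, by rw [hc, map_mul, map_mul]⟩]
  have hmaps : ∀ q' ∈ Fset htB, PrimeSpectrum.comap (algebraMap A B) q' ∈ Fset ht := by
    intro q' hq'
    obtain ⟨hq'1, htq'⟩ := (mem_Fset htB q').1 hq'
    rw [mem_Fset]
    have hp : ((PrimeSpectrum.comap (algebraMap A B)) q').asIdeal.IsPrime :=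
      ((PrimeSpectrum.comap (algebraMap A B)) q').isPrime
    have hmem : t ∈ ((PrimeSpectrum.comap (algebraMap A B)) q').asIdeal := htq'
    refine ⟨height_one_of_mem hA _ ht hmem ?_, hmem⟩
    intro hmax
    have hq'max : q'.asIdeal.IsMaximal := by
      have := q'.isPrime
      apply Ideal.isMaximal_of_isIntegral_of_isMaximal_comap (R := A)
      have : q'.asIdeal.comap (algebraMap A B) = maximalIdeal A := hmax
      rw [this]
      infer_instance
    exact ne_maximalIdeal_of_height_one hB _ hq'1 (IsLocalRing.eq_maximalIdeal hq'max)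
  rw [← Finset.sum_fiberwise_of_maps_to hmaps]
  refine Finset.sum_congr rfl fun q hq => ?_
  obtain ⟨hq1, htq⟩ := (mem_Fset ht q).1 hq
  have hfinM := finite_maximalSpectrum (A := Localization.AtPrime q.asIdeal) (LocAt B q.asIdeal)
  let _ := Fintype.ofFinite (MaximalSpectrum (LocAt B q.asIdeal))
  rw [term_transfer hA hB hinj hres n ht htB hden q hq1 htq ha hb haB hbB]
  refine Finset.sum_bij (fun k _ => downPrime q.asIdeal k) ?_ ?_ ?_ ?_
  · intro k _
    rw [Finset.mem_filter, mem_Fset]
    refine ⟨⟨downPrime_height hA hB q hq1 htq htB k, ?_⟩, ?_⟩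
    · show t ∈ (downPrime q.asIdeal k).asIdeal.comap (algebraMap A B)
      rw [downPrime_comap]; exact htq
    · exact PrimeSpectrum.ext (downPrime_comap q.asIdeal k)
  · intro k₁ _ k₂ _ h
    exact downPrime_injective q.asIdeal h
  · intro q' hq'
    rw [Finset.mem_filter] at hq'
    obtain ⟨k, hk⟩ := exists_downPrime_eq q.asIdeal q' (congrArg PrimeSpectrum.asIdeal hq'.2)
    exact ⟨k, Finset.mem_univ _, hk⟩
  · intro k _
    rfl

end transfer

end Groth.Agent.Lib.Helper71.Dim3
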