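import Mathlib
import Groth.Prelude.Def_Tame
import Groth.Agent.Lib.Helper71.Dim3K
import Groth.Agent.Lib.Helper71.Dim3G

set_option autoImplicit false
set_option linter.unusedSectionVars false
universe u

namespace Groth.Agent.Lib.Helper71.Dim3

open nonZeroDivisors IsLocalRing CycAlg Groth.Agent.Lib.Helper71.Dim1

section equivs

/-- a ring isomorphism induces isomorphisms of the localizations at corresponding maximal
ideals. -/
theorem exists_atPrime_equiv {S T : Type u} [CommRing S] [CommRing T] (ρ : S ≃+* T)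
    (k : Ideal S) [hk : k.IsMaximal] :
    ∃ (k' : MaximalSpectrum T) (Ψ : Localization.AtPrime k ≃+* Localization.AtPrime k'.asIdeal),
      ∀ x : S, Ψ (algebraMap S (Localization.AtPrime k) x) =
        algebraMap T (Localization.AtPrime k'.asIdeal) (ρ x) := by
  have hmax : (k.comap (ρ.symm : T →+* S)).IsMaximal :=
    Ideal.comap_isMaximal_of_surjective _ ρ.symm.surjective
  have H : k.primeCompl.map ρ.toMonoidHom = (k.comap (ρ.symm : T →+* S)).primeCompl := by
    ext y
    constructor
    · rintro ⟨x, hx, rfl⟩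
      intro hy
      apply hx
      have : ρ.symm (ρ x) ∈ k := hy
      rwa [RingEquiv.symm_apply_apply] at this
    · intro hy
      refine ⟨ρ.symm y, hy, ?_⟩
      exact ρ.apply_symm_apply y
  refine ⟨⟨_, hmax⟩, IsLocalization.ringEquivOfRingEquiv (Localization.AtPrime k)
    (Localization.AtPrime (k.comap (ρ.symm : T →+* S))) ρ H, ?_⟩
  intro x
  exact IsLocalization.ringEquivOfRingEquiv_eq H x

theorem assoc_transport {L L' : Type u} [CommRing L] [CommRing L'] (Φ : L ≃+* L') {x : L}
    {π' : L'} (u' : L'ˣ) (e : ℕ) (h : Φ x = (u' : L') * π' ^ e) :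
    Associated x (Φ.symm π' ^ e) := by
  symm
  refine ⟨Units.map (Φ.symm : L' →* L) u', ?_⟩
  apply Φ.injective
  rw [map_mul, map_pow, RingEquiv.apply_symm_apply, h, Units.coe_map, mul_comm]
  simp

theorem nzd_transport {L L' : Type u} [CommRing L] [CommRing L'] (Φ : L ≃+* L') {π' : L'}
    (h : π' ∈ L'⁰) : Φ.symm π' ∈ L⁰ := by
  rw [mem_nonZeroDivisors_iff_right] at h ⊢
  intro x hx
  have h1 : Φ x * π' = 0 := by
    have := congrArg Φ hx
    rwa [map_mul, RingEquiv.apply_symm_apply, map_zero] at this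
  exact Φ.injective ((h _ h1).trans (map_zero Φ).symm)

end equivs

section nice

variable {A : Type u} [CommRing A] [IsNoetherianRing A] [IsLocalRing A]
  {B : Type u} [CommRing B] [Algebra A B] [Module.Finite A B]
  (q : Ideal A) [hq : q.IsPrime]
  {T : Type u} [CommRing T] [Algebra (Localization.AtPrime q) T]

/-- the localization of `B` at the prime under a maximal ideal `k` of `B_q` is a localization of
`T ≃ B_q` at a maximal ideal. -/
theorem exists_equiv_downPrime (ρ : LocAt B q ≃ₐ[Localization.AtPrime q] T)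
    (k : MaximalSpectrum (LocAt B q)) :
    ∃ (k' : MaximalSpectrum T)
      (Φ : Localization.AtPrime (downPrime q k).asIdeal ≃+* Localization.AtPrime k'.asIdeal),
      ∀ x : A, Φ (algebraMap B _ (algebraMap A B x)) =
        algebraMap (Localization.AtPrime q) (Localization.AtPrime k'.asIdeal)
          (algebraMap A (Localization.AtPrime q) x) := by
  have hkmax := k.isMaximal
  have hkprime : k.asIdeal.IsPrime := hkmax.isPrime
  obtain ⟨k', Ψ, hΨ⟩ := exists_atPrime_equiv ρ.toRingEquiv k.asIdeal
  let φ : Localization.AtPrime (downPrime q k).asIdeal ≃ₐ[A] Localization.AtPrime k.asIdeal :=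
    locIso (A := A) (B := A) (T := B) q k.asIdeal
  have htower : IsScalarTower A (Localization.AtPrime q) (LocAt B q) :=
    tower_locAt (A := A) (B := A) (T := B) q
  refine ⟨k', φ.toRingEquiv.trans Ψ, ?_⟩
  intro x
  have h1 : φ (algebraMap B (Localization.AtPrime (downPrime q k).asIdeal) (algebraMap A B x)) =
      algebraMap (LocAt B q) (Localization.AtPrime k.asIdeal)
        (algebraMap B (LocAt B q) (algebraMap A B x)) :=
    locIso_algebraMap (A := A) q k.asIdeal (algebraMap A B x)
  show Ψ (φ (algebraMap B _ (algebraMap A B x))) = _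
  rw [h1, hΨ, ← IsScalarTower.algebraMap_apply A B (LocAt B q),
    IsScalarTower.algebraMap_apply A (Localization.AtPrime q) (LocAt B q)]
  show algebraMap T _ (ρ _) = _
  rw [ρ.commutes, ← IsScalarTower.algebraMap_apply (Localization.AtPrime q) T
    (Localization.AtPrime k'.asIdeal)]

/-- niceness at the primes of `B` over `q`, from a common factorization over `T ≃ B_q`. -/
theorem nice_of_fac (ρ : LocAt B q ≃ₐ[Localization.AtPrime q] T)
    (k : MaximalSpectrum (LocAt B q)) (π : T) (hπ : π ∈ T⁰) {a b : A}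
    (Fa : Fac (Localization.AtPrime q) π (algebraMap A (Localization.AtPrime q) a))
    (Fb : Fac (Localization.AtPrime q) π (algebraMap A (Localization.AtPrime q) b)) :
    ∃ (ϖ : Localization.AtPrime (downPrime q k).asIdeal) (e f : ℕ),
      ϖ ∈ (Localization.AtPrime (downPrime q k).asIdeal)⁰ ∧
      Associated (algebraMap B (Localization.AtPrime (downPrime q k).asIdeal)
        (algebraMap A B a)) (ϖ ^ e) ∧
      Associated (algebraMap B (Localization.AtPrime (downPrime q k).asIdeal)
        (algebraMap A B b)) (ϖ ^ f) := by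
  obtain ⟨k', Φ, hΦ⟩ := exists_equiv_downPrime q ρ k
  have hπ' : algebraMap T (Localization.AtPrime k'.asIdeal) π ∈
      (Localization.AtPrime k'.asIdeal)⁰ :=
    IsLocalization.map_nonZeroDivisors_le k'.asIdeal.primeCompl
      (Localization.AtPrime k'.asIdeal) ⟨π, hπ, rfl⟩
  refine ⟨Φ.symm (algebraMap T (Localization.AtPrime k'.asIdeal) π), Fa.e k', Fb.e k',
    nzd_transport Φ hπ', ?_, ?_⟩
  · exact assoc_transport Φ (Fa.u k') (Fa.e k') ((hΦ a).trans (Fa.fac k'))
  · exact assoc_transport Φ (Fb.u k') (Fb.e k') ((hΦ b).trans (Fb.fac k'))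

end nice

section den

theorem exists_den_pow {R : Type u} [CommRing R] [IsLocalRing R] {T : Type u} [CommRing T]
    [Algebra R T] (hArt : ∀ γ ∈ R⁰, IsArtinianRing (R ⧸ Ideal.span {γ})) (hRT : IsBir R T)
    {τ : R} (hτ : τ ∈ maximalIdeal R) :
    ∃ N : ℕ, ∀ n, N ≤ n → ∀ w : T, ∃ α : R,
      algebraMap R T α = algebraMap R T (τ ^ n) * w := by
  obtain ⟨z, hz, hden⟩ := hRT.den
  obtain ⟨N, hN⟩ := exists_pow_le_span z (hArt z hz)
  refine ⟨N, fun n hn w => ?_⟩
  have h1 : τ ^ n ∈ Ideal.span {z} := hN (Ideal.pow_le_pow_right hn (Ideal.pow_mem_pow hτ n))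
  obtain ⟨c, hc⟩ := Ideal.mem_span_singleton'.1 h1
  obtain ⟨α, hα⟩ := hden w
  refine ⟨c * α, ?_⟩
  rw [map_mul, hα, ← hc, map_mul]; ring

end den

section assembly

variable {A : Type u} [CommRing A] [IsNoetherianRing A] [IsLocalRing A]

theorem comap_mem_Fset {B : Type u} [CommRing B] [Algebra A B] [IsLocalRing B]
    [Module.Finite A B] [IsNoetherianRing B] (hA : ringKrullDim A = 2)
    (hB : ringKrullDim B = 2) {t : A} (ht : t ∈ A⁰) (htB : algebraMap A B t ∈ B⁰)
    (q' : PrimeSpectrum B) (hq' : q' ∈ Fset htB) :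
    PrimeSpectrum.comap (algebraMap A B) q' ∈ Fset ht := by
  have hint : Algebra.IsIntegral A B := Algebra.IsIntegral.of_finite A B
  obtain ⟨hq'1, htq'⟩ := (mem_Fset htB q').1 hq'
  rw [mem_Fset]
  have hp : ((PrimeSpectrum.comap (algebraMap A B)) q').asIdeal.IsPrime :=
    ((PrimeSpectrum.comap (algebraMap A B)) q').isPrime
  have hmem : t ∈ ((PrimeSpectrum.comap (algebraMap A B)) q').asIdeal := htq'
  refine ⟨height_one_of_mem hA _ ht hmem ?_, hmem⟩
  intro hmax
  have hq'max : q'.asIdeal.IsMaximal := by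
    have := q'.isPrime
    apply Ideal.isMaximal_of_isIntegral_of_isMaximal_comap (R := A)
    have : q'.asIdeal.comap (algebraMap A B) = maximalIdeal A := hmax
    rw [this]
    infer_instance
  exact ne_maximalIdeal_of_height_one hB _ hq'1 (IsLocalRing.eq_maximalIdeal hq'max)

theorem key_of_data (hA : ringKrullDim A = 2) {a b : A} (ha : a ∈ A⁰) (hb : b ∈ A⁰)
    (T : {q : PrimeSpectrum A // q ∈ Fset (mul_mem ha hb)} → Type u)
    [∀ i, CommRing (T i)] [∀ i, Algebra (Localization.AtPrime i.1.asIdeal) (T i)]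
    (hBir : ∀ i, IsBir (Localization.AtPrime i.1.asIdeal) (T i))
    (π : ∀ i, T i) (hπ : ∀ i, π i ∈ (T i)⁰)
    (Fa : ∀ i, Fac (Localization.AtPrime i.1.asIdeal) (π i)
      (algebraMap A (Localization.AtPrime i.1.asIdeal) a))
    (Fb : ∀ i, Fac (Localization.AtPrime i.1.asIdeal) (π i)
      (algebraMap A (Localization.AtPrime i.1.asIdeal) b)) :
    D a b = 0 := by
  classical
  have ht : a * b ∈ A⁰ := mul_mem ha hb
  let q : {q : PrimeSpectrum A // q ∈ Fset ht} → Ideal A := fun i => i.1.asIdeal
  have hqp : ∀ i, (q i).IsPrime := fun i => i.1.isPrime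
  have hq1 : ∀ i, (q i).height = 1 := fun i => ((mem_Fset ht i.1).1 i.2).1
  have htq : ∀ i, a * b ∈ q i := fun i => ((mem_Fset ht i.1).1 i.2).2
  have hqm : ∀ i, q i ≠ maximalIdeal A := fun i => ne_maximalIdeal_of_height_one hA _ (hq1 i)
  have hincomp : ∀ i j, i ≠ j → ¬ q j ≤ q i := fun i j hij =>
    not_le_of_height_one hA j.1 i.1 (hq1 j) (hq1 i) (fun h => hij (Subtype.ext h))
  have htm : ∀ i, algebraMap A (Localization.AtPrime (q i)) (a * b) ∈
      maximalIdeal (Localization.AtPrime (q i)) := by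
    intro i
    have h0 : (maximalIdeal (Localization.AtPrime (q i))).comap
        (algebraMap A (Localization.AtPrime (q i))) = q i :=
      Localization.AtPrime.under_maximalIdeal
    rw [← Ideal.mem_comap, h0]
    exact htq i
  have hden0 : ∀ i, ∃ N : ℕ, ∀ n, N ≤ n → ∀ w : T i, ∃ α : Localization.AtPrime (q i),
      algebraMap (Localization.AtPrime (q i)) (T i) α =
        algebraMap (Localization.AtPrime (q i)) (T i)
          (algebraMap A (Localization.AtPrime (q i)) (a * b) ^ n) * w :=
    fun i => exists_den_pow (hArt_loc (q i) (hq1 i)) (hBir i) (htm i)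
  choose N hN using hden0
  have hNn : ∀ i, N i ≤ Finset.univ.sup N := fun i => Finset.le_sup (Finset.mem_univ i)
  obtain ⟨B, _, _, hfin, hinj, hloc, hres, hden, htB, hiso⟩ :=
    exists_glue q T (a * b) (Finset.univ.sup N) ht hq1 hqm hincomp (fun i => (hBir i).inj)
      (fun i => (hBir i).nzd _ (map_nzd (q i) ht)) (fun i w => hN i _ (hNn i) w)
  have hnoeth : IsNoetherianRing B := Algebra.FiniteType.isNoetherianRing A B
  have hres' : ∀ x : B, ∃ r : A, x - algebraMap A B r ∈ maximalIdeal B := fun x => by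
    obtain ⟨r, hr⟩ := hres x
    exact ⟨r, hr _ (maximalIdeal.isMaximal B)⟩
  have hint : Algebra.IsIntegral A B := Algebra.IsIntegral.of_finite A B
  have hB : ringKrullDim B = 2 := by
    rw [Groth.Agent.Lib.Helper55.ringKrullDim_eq_of_isIntegral_of_injective A B hinj, hA]
  rw [D_transfer hA hinj hres' (Finset.univ.sup N) ht htB hden ha hb (dvd_refl _)]
  have habB : algebraMap A B a * algebraMap A B b ∈ B⁰ := by rw [← map_mul]; exact htB
  have haB := (mul_mem_nonZeroDivisors.1 habB).1
  have hbB := (mul_mem_nonZeroDivisors.1 habB).2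
  apply D_eq_zero_of_nice hB haB hbB
  intro q' hq'1 habq'
  have hq'F : q' ∈ Fset htB := by
    rw [mem_Fset]
    refine ⟨hq'1, ?_⟩
    rw [map_mul]; exact habq'
  have hq0 : PrimeSpectrum.comap (algebraMap A B) q' ∈ Fset ht :=
    comap_mem_Fset hA hB ht htB q' hq'F
  obtain ⟨k, hk⟩ := exists_downPrime_eq
    (q ⟨PrimeSpectrum.comap (algebraMap A B) q', hq0⟩) q' rfl
  obtain ⟨ρ⟩ := hiso ⟨PrimeSpectrum.comap (algebraMap A B) q', hq0⟩
  have key := nice_of_fac (q ⟨PrimeSpectrum.comap (algebraMap A B) q', hq0⟩) ρ k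
    (π ⟨PrimeSpectrum.comap (algebraMap A B) q', hq0⟩) (hπ _) (Fa _) (Fb _)
  rw [hk] at key
  exact key

/-- **the key lemma**: the sum of the orders of the tame symbols over all height one primes of a
two-dimensional Noetherian local ring vanishes. -/
theorem key_lemma (hA : ringKrullDim A = 2) {a b : A} (ha : a ∈ A⁰) (hb : b ∈ A⁰) :
    D a b = 0 := by
  have ht : a * b ∈ A⁰ := mul_mem ha hb
  have hex : ∀ i : {q : PrimeSpectrum A // q ∈ Fset ht},
      ∃ (T : Type u) (_ : CommRing T) (_ : Algebra (Localization.AtPrime i.1.asIdeal) T),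
        IsBir (Localization.AtPrime i.1.asIdeal) T ∧ ∃ π : T, π ∈ T⁰ ∧
          ∀ j, Nonempty (Fac (Localization.AtPrime i.1.asIdeal) π
            ((![algebraMap A (Localization.AtPrime i.1.asIdeal) a,
              algebraMap A (Localization.AtPrime i.1.asIdeal) b] :
                Fin 2 → Localization.AtPrime i.1.asIdeal) j)) := fun i => by
    have := i.1.isPrime
    exact exists_common_fac (hArt_loc i.1.asIdeal ((mem_Fset ht i.1).1 i.2).1) 2 _
      (by
        intro j
        fin_cases j
        · exact map_nzd i.1.asIdeal ha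
        · exact map_nzd i.1.asIdeal hb)
  choose T instCR instAlg hBir π hπ hF using hex
  exact key_of_data hA ha hb T hBir π hπ (fun i => Classical.choice (hF i 0))
    (fun i => Classical.choice (hF i 1))

end assembly

end Groth.Agent.Lib.Helper71.Dim3
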