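import Mathlib
import Groth.Agent.Lib.Helper71.FppfDescent

/-!
# Finitely presented models of faithfully flat finitely presented algebras (helper71)

`exists_fp_model`: for ring maps `R → A → B` with `A → B` faithfully flat of finite presentation
there are a finitely presented `R`-algebra `A₀ → A` and a faithfully flat finitely presented
`A₀`-algebra `B₀` with `B ≅ A ⊗[A₀] B₀`.
-/

set_option autoImplicit false
set_option linter.unusedSectionVars false
universe u

open TensorProduct

namespace Groth.Agent.Lib.Helper71.FppfModel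

open Groth.Agent.Lib.Helper71.FFStage Groth.Agent.Lib.Helper71.FppfDescent

/-- The data of a finitely presented model. -/
def HasModel (R A B : Type u) [CommRing R] [CommRing A] [CommRing B] [Algebra R A]
    [Algebra A B] : Prop :=
  ∃ (A₀ B₀ : Type u) (_ : CommRing A₀) (_ : CommRing B₀) (_ : Algebra R A₀) (_ : Algebra A₀ A)
    (_ : IsScalarTower R A₀ A) (_ : Algebra A₀ B₀), Algebra.FinitePresentation R A₀ ∧
      Algebra.FinitePresentation A₀ B₀ ∧ Module.FaithfullyFlat A₀ B₀ ∧
      Nonempty (B ≃ₐ[A] A ⊗[A₀] B₀)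

set_option synthInstance.maxHeartbeats 200000 in
set_option maxHeartbeats 800000 in
/-- Core of the finite type case: abstract model `B₀` over `A₀ = R[X₁..Xₙ] ↠ A`. -/
theorem hasModel_core {R A₀ A B : Type u} [CommRing R] [CommRing A₀] [CommRing A]
    [CommRing B] [Algebra R A₀] [Algebra R A] [Algebra A₀ A] [IsScalarTower R A₀ A]
    [Algebra A B] [Algebra.FinitePresentation R A₀]
    (hsurj : Function.Surjective (algebraMap A₀ A)) [Module.FaithfullyFlat A B]
    (B₀ : Type u) [CommRing B₀] [Algebra A₀ B₀] [Algebra.FinitePresentation A₀ B₀]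
    (e : A ⊗[A₀] B₀ ≃ₐ[A] B) : HasModel R A B := by
  classical
  have hffA : Module.FaithfullyFlat A (A ⊗[A₀] B₀) :=
    Module.FaithfullyFlat.of_linearEquiv A B e.toLinearEquiv
  obtain ⟨J, hJ⟩ := exists_stage_faithfullyFlat (fun J : QIdx A₀ A => A₀ ⧸ J.1)
    (fun J J' h => Ideal.Quotient.factorₐ A₀ (QIdx.le_def.mp h)) A
    (isDirectedColimitRing_qStage hsurj) (B₀ := B₀)
  have hfpC : Algebra.FinitePresentation R (A₀ ⧸ J.1) :=
    Algebra.FinitePresentation.quotient (R := R) J.2.1
  have : IsScalarTower R (A₀ ⧸ J.1) A := by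
    refine IsScalarTower.of_algebraMap_eq fun r => ?_
    rw [IsScalarTower.algebraMap_apply R A₀ (A₀ ⧸ J.1), Ideal.Quotient.algebraMap_eq,
      qStage_algebraMap_mk, ← IsScalarTower.algebraMap_apply]
  refine ⟨A₀ ⧸ J.1, (A₀ ⧸ J.1) ⊗[A₀] B₀, inferInstance, inferInstance, inferInstance,
    inferInstance, inferInstance, inferInstance, hfpC, inferInstance, hJ, ⟨?_⟩⟩
  exact e.symm.trans
    (Algebra.TensorProduct.cancelBaseChange A₀ (A₀ ⧸ J.1) A A B₀).symm

set_option synthInstance.maxHeartbeats 200000 in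
set_option maxHeartbeats 800000 in
/-- The finite type case. -/
theorem hasModel_of_finiteType {R A B : Type u} [CommRing R] [CommRing A] [CommRing B]
    [Algebra R A] [Algebra A B] [Algebra.FiniteType R A] [Module.FaithfullyFlat A B]
    [Algebra.FinitePresentation A B] : HasModel R A B := by
  classical
  obtain ⟨n, π, hπ⟩ := Algebra.FiniteType.iff_quotient_mvPolynomial''.mp
    (inferInstance : Algebra.FiniteType R A)
  let _ : Algebra (MvPolynomial (Fin n) R) A := π.toRingHom.toAlgebra
  have : IsScalarTower R (MvPolynomial (Fin n) R) A :=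
    IsScalarTower.of_algebraMap_eq fun r => (π.commutes r).symm
  let _ : Algebra (MvPolynomial (Fin n) R) B := ((algebraMap A B).comp π.toRingHom).toAlgebra
  have : IsScalarTower (MvPolynomial (Fin n) R) A B := IsScalarTower.of_algebraMap_eq fun _ => rfl
  generalize hP : Algebra.Presentation.ofFinitePresentation A B = P
  have hasCoeffs : P.HasCoeffs (MvPolynomial (Fin n) R) :=
    ⟨fun x _ => hπ x⟩
  exact hasModel_core (R := R) (A₀ := MvPolynomial (Fin n) R) hπ
    (P.ModelOfHasCoeffs (MvPolynomial (Fin n) R))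
    (P.tensorModelOfHasCoeffsEquiv (MvPolynomial (Fin n) R))

set_option synthInstance.maxHeartbeats 200000 in
set_option maxHeartbeats 800000 in
/-- Transport of models along `S₁ → A` when `B ≅ A ⊗[S₁] B₁`. -/
theorem hasModel_of_baseChange {R S₁ A B B₁ : Type u} [CommRing R] [CommRing S₁] [CommRing A]
    [CommRing B] [CommRing B₁] [Algebra R S₁] [Algebra R A] [Algebra S₁ A] [IsScalarTower R S₁ A]
    [Algebra A B] [Algebra S₁ B₁] (e : A ⊗[S₁] B₁ ≃ₐ[A] B) (h : HasModel R S₁ B₁) :
    HasModel R A B := by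
  obtain ⟨A₀, B₀, _, _, _, _, _, _, h1, h2, h3, ⟨e₁⟩⟩ := h
  let _ : Algebra A₀ A := ((algebraMap S₁ A).comp (algebraMap A₀ S₁)).toAlgebra
  have : IsScalarTower A₀ S₁ A := IsScalarTower.of_algebraMap_eq fun _ => rfl
  have : IsScalarTower R A₀ A := by
    refine IsScalarTower.of_algebraMap_eq fun r => ?_
    rw [IsScalarTower.algebraMap_apply A₀ S₁ A, ← IsScalarTower.algebraMap_apply R A₀ S₁,
      ← IsScalarTower.algebraMap_apply R S₁ A]
  refine ⟨A₀, B₀, inferInstance, inferInstance, inferInstance, inferInstance, inferInstance,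
    inferInstance, h1, h2, h3, ⟨?_⟩⟩
  exact (e.symm.trans (Algebra.TensorProduct.congr AlgEquiv.refl e₁)).trans
    (Algebra.TensorProduct.cancelBaseChange A₀ S₁ A A B₀)

set_option synthInstance.maxHeartbeats 200000 in
set_option maxHeartbeats 800000 in
/-- Core of the general case: abstract model `B₀` over a f.g. subalgebra `S₀`. -/
theorem hasModel_core' {R A B : Type u} [CommRing R] [CommRing A] [CommRing B]
    [Algebra R A] [Algebra A B] [Module.FaithfullyFlat A B] (S₀ : Subalgebra R A) (hS₀fg : S₀.FG)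
    (B₀ : Type u) [CommRing B₀] [Algebra S₀ B₀] [Algebra.FinitePresentation S₀ B₀]
    (e : A ⊗[S₀] B₀ ≃ₐ[A] B) : HasModel R A B := by
  classical
  have hffA : Module.FaithfullyFlat A (A ⊗[S₀] B₀) :=
    Module.FaithfullyFlat.of_linearEquiv A B e.toLinearEquiv
  obtain ⟨S, hS⟩ := exists_stage_faithfullyFlat (fun S : Idx S₀ => S.1)
    (fun S T h => stageMap S T h) A (isDirectedColimitRing_stage hS₀fg) (B₀ := B₀)
  have hft : Algebra.FiniteType R S.1 := (Subalgebra.fg_iff_finiteType _).mp S.2.1
  have hmod : HasModel R S.1 (S.1 ⊗[S₀] B₀) := hasModel_of_finiteType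
  exact hasModel_of_baseChange
    ((Algebra.TensorProduct.cancelBaseChange S₀ S.1 A A B₀).trans e) hmod

/-- **Finitely presented models** of faithfully flat finitely presented algebras. -/
theorem exists_fp_model {R A B : Type u} [CommRing R] [CommRing A] [CommRing B]
    [Algebra R A] [Algebra A B] [Algebra.FinitePresentation A B] [Module.FaithfullyFlat A B] :
    HasModel R A B := by
  classical
  let _ : Algebra R B := ((algebraMap A B).comp (algebraMap R A)).toAlgebra
  have : IsScalarTower R A B := IsScalarTower.of_algebraMap_eq fun _ => rfl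
  obtain ⟨S₀, hS₀fg, hcoeff, -⟩ :=
    exists_base (R := R) (Algebra.Presentation.ofFinitePresentation A B) ∅
  generalize Algebra.Presentation.ofFinitePresentation A B = P at hcoeff
  have hasCoeffs : P.HasCoeffs S₀ := ⟨fun x hx => ⟨⟨x, hcoeff hx⟩, rfl⟩⟩
  exact hasModel_core' S₀ hS₀fg (P.ModelOfHasCoeffs S₀) (P.tensorModelOfHasCoeffsEquiv S₀)

end Groth.Agent.Lib.Helper71.FppfModel
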