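import Mathlib
import Groth.Prelude.Def_Cyc
import Groth.Agent.Lib.Helper49.FiberStalk
import Groth.Agent.Lib.Helper55.FiberTrdeg

set_option autoImplicit false
set_option linter.unusedSectionVars false
universe u

namespace Groth.Agent.Lib.Helper71.GenFib

open CategoryTheory AlgebraicGeometry IsLocalRing

section basics

variable {X Y : Scheme.{u}} (p : X ⟶ Y) [IsIntegral Y]

theorem map_fiberι (z : p.fiber (genericPoint Y)) :
    p (p.fiberι (genericPoint Y) z) = genericPoint Y := by
  have h : p.fiberι (genericPoint Y) z ∈ Set.range (p.fiberι (genericPoint Y)) := ⟨z, rfl⟩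
  rw [p.range_fiberι] at h
  exact h

theorem maximalIdeal_stalk_eq_bot (y : Y) (hy : y = genericPoint Y) :
    maximalIdeal (Y.presheaf.stalk y) = ⊥ := by
  subst hy
  exact IsLocalRing.isField_iff_maximalIdeal_eq.mp (Field.toIsField Y.functionField)

/-- the local rings of the generic fibre are those of the total space. -/
theorem stalkMap_fiberι_bijective (z : p.fiber (genericPoint Y)) :
    Function.Bijective ((p.fiberι (genericPoint Y)).stalkMap z).hom := by
  refine ⟨?_, (p.fiberι (genericPoint Y)).stalkMap_surjective z⟩
  rw [RingHom.injective_iff_ker_eq_bot, eq_bot_iff]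
  refine (Groth.Agent.Lib.Helper49.ker_le_map p (genericPoint Y) z).trans ?_
  rw [maximalIdeal_stalk_eq_bot _ (map_fiberι p z), Ideal.map_bot]

theorem fiberι_injective : Function.Injective (p.fiberι (genericPoint Y)) :=
  (p.fiberι (genericPoint Y)).isEmbedding.injective

theorem specializes_iff (a b : p.fiber (genericPoint Y)) :
    p.fiberι (genericPoint Y) a ⤳ p.fiberι (genericPoint Y) b ↔ a ⤳ b :=
  (p.fiberι (genericPoint Y)).isEmbedding.toIsInducing.specializes_iff

/-- the generic fibre is stable under generization. -/
theorem mem_range_of_specializes (x : X) (z : p.fiber (genericPoint Y))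
    (h : x ⤳ p.fiberι (genericPoint Y) z) : x ∈ Set.range (p.fiberι (genericPoint Y)) := by
  rw [p.range_fiberι]
  have h1 : p x ⤳ genericPoint Y := by
    rw [← map_fiberι p z]
    exact h.map p.continuous
  have h2 : genericPoint Y ⤳ p x := genericPoint_specializes (p x)
  exact (h1.antisymm h2).eq

end basics

section integral

variable {X Y : Scheme.{u}} (p : X ⟶ Y) [IsIntegral Y] [IsIntegral X]

/-- a point of the generic fibre over the generic point of `X` is dense. -/
theorem closure_singleton_eq_univ (z₀ : p.fiber (genericPoint Y))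
    (hz₀ : p.fiberι (genericPoint Y) z₀ = genericPoint X) :
    closure ({z₀} : Set (p.fiber (genericPoint Y))) = Set.univ := by
  rw [(p.fiberι (genericPoint Y)).isEmbedding.toIsInducing.closure_eq_preimage_closure_image,
    Set.image_singleton, hz₀, (genericPoint_spec X).def, Set.preimage_univ]

theorem irreducibleSpace_fiber (z₀ : p.fiber (genericPoint Y))
    (hz₀ : p.fiberι (genericPoint Y) z₀ = genericPoint X) :
    IrreducibleSpace (p.fiber (genericPoint Y)) := by
  rw [irreducibleSpace_def]
  have h := closure_singleton_eq_univ p z₀ hz₀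
  have h2 : IsIrreducible (closure ({z₀} : Set (p.fiber (genericPoint Y)))) :=
    isIrreducible_singleton.closure
  rw [h] at h2
  exact h2

theorem isReduced_fiber : IsReduced (p.fiber (genericPoint Y)) := by
  apply (config := { allowSynthFailures := true }) isReduced_of_isReduced_stalk
  intro z
  have hbij := stalkMap_fiberι_bijective p z
  let e := RingEquiv.ofBijective _ hbij
  exact isReduced_of_injective e.symm.toRingHom e.symm.injective

theorem isIntegral_fiber (z₀ : p.fiber (genericPoint Y))
    (hz₀ : p.fiberι (genericPoint Y) z₀ = genericPoint X) :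
    IsIntegral (p.fiber (genericPoint Y)) := by
  have := irreducibleSpace_fiber p z₀ hz₀
  have := isReduced_fiber p
  exact isIntegral_of_irreducibleSpace_of_isReduced _

theorem genericPoint_fiber (z₀ : p.fiber (genericPoint Y))
    (hz₀ : p.fiberι (genericPoint Y) z₀ = genericPoint X)
    [IsIntegral (p.fiber (genericPoint Y))] :
    genericPoint (p.fiber (genericPoint Y)) = z₀ := by
  have h1 : IsGenericPoint z₀ (Set.univ : Set (p.fiber (genericPoint Y))) :=
    closure_singleton_eq_univ p z₀ hz₀
  exact ((genericPoint_spec _).eq h1)

end integral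

section fibstr

variable {X Y : Scheme.{u}} (p : X ⟶ Y) (y : Y)

theorem locallyOfFiniteType_fiber [LocallyOfFiniteType p] :
    LocallyOfFiniteType (p.fiberToSpecResidueField y) :=
  MorphismProperty.IsStableUnderBaseChange.of_isPullback
    (IsPullback.of_hasPullback p (Y.fromSpecResidueField y)) ‹_›

theorem isProper_fiber [IsProper p] : IsProper (p.fiberToSpecResidueField y) :=
  MorphismProperty.IsStableUnderBaseChange.of_isPullback
    (IsPullback.of_hasPullback p (Y.fromSpecResidueField y)) ‹_›

end fibstr

section dim

variable {X Y : Scheme.{u}} (p : X ⟶ Y) [IsIntegral Y] [IsIntegral X] [LocallyOfFiniteType p]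

/-- the dimension of the generic fibre is the transcendence degree of the function fields. -/
theorem topologicalKrullDim_fiber (z₀ : p.fiber (genericPoint Y))
    (hz₀ : p.fiberι (genericPoint Y) z₀ = genericPoint X) (n : ℕ)
    (hn : @Algebra.trdeg (Y.residueField (p (genericPoint X))) (X.residueField (genericPoint X))
      _ _ (p.residueFieldMap (genericPoint X)).hom.toAlgebra = n) :
    topologicalKrullDim (p.fiber (genericPoint Y)) = n := by
  obtain ⟨m, hm1, hm2⟩ := Groth.Agent.Lib.Helper55.exists_dim_closure_fiber_eq_trdeg p
    (genericPoint Y) z₀ (genericPoint X) hz₀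
  rw [hn] at hm2
  have hmn : m = n := by exact_mod_cast hm2.symm
  subst hmn
  rw [← hm1]
  have hcl := closure_singleton_eq_univ p z₀ hz₀
  rw [hcl]
  exact (IsHomeomorph.topologicalKrullDim_eq _
    (Homeomorph.Set.univ (p.fiber (genericPoint Y))).isHomeomorph).symm

end dim

end Groth.Agent.Lib.Helper71.GenFib
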