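import Mathlib
import Groth.Prelude.Def_Cyc
import Groth.Agent.Lib.Helper71.GenFibA
import Groth.Agent.Lib.Helper85.IntMult.DivOpen

set_option autoImplicit false
set_option linter.unusedSectionVars false
set_option linter.unusedVariables false
universe u

namespace Groth.Agent.Lib.Helper71.GenFib

open CategoryTheory AlgebraicGeometry IsLocalRing
open Groth.Agent.Lib.Helper85.DivPullDict Groth.Agent.Lib.Helper85.DivPull
open Groth.Agent.Lib.Helper85.DivPullAlg Groth.Agent.Lib.Helper85.DivOpen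

section delta

variable {X Y : Scheme.{u}} (p : X ⟶ Y) [IsIntegral Y]

/-- a dimension function restricts to the generic fibre. -/
theorem isDimFun_fiber (δ : X → ℤ) (hdim : Cyc.IsDimFun X δ) :
    Cyc.IsDimFun (p.fiber (genericPoint Y)) (fun z => δ (p.fiberι (genericPoint Y) z)) := by
  intro x y hxy hne
  have hxy' : p.fiberι (genericPoint Y) x ⤳ p.fiberι (genericPoint Y) y :=
    hxy.map (p.fiberι (genericPoint Y)).continuous
  have hne' : p.fiberι (genericPoint Y) x ≠ p.fiberι (genericPoint Y) y :=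
    fun h => hne (fiberι_injective p h)
  obtain ⟨h1, h2⟩ := hdim _ _ hxy' hne'
  refine ⟨h1, fun himm => h2 ?_⟩
  intro z' hz1 hz2
  obtain ⟨z, rfl⟩ := mem_range_of_specializes p z' y hz2
  rcases himm z ((specializes_iff p x z).mp hz1) ((specializes_iff p z y).mp hz2) with h | h
  · exact Or.inl (congrArg _ h)
  · exact Or.inr (congrArg _ h)

end delta

section general

variable {Z X : Scheme.{u}} (j : Z ⟶ X) [IsLocallyNoetherian X] [IsLocallyNoetherian Z]
  (δ : X → ℤ) (hdim : Cyc.IsDimFun X δ) (hdimZ : Cyc.IsDimFun Z (fun z => δ (j z)))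
  (hbij : ∀ u : Z, Function.Bijective (j.stalkMap u).hom)

include hdim hdimZ hbij in
/-- the order of a rational function along a specialization can be computed on a scheme mapping
to `X` by a morphism inducing isomorphisms of local rings. -/
theorem ordAt_of_stalkMap_bijective {u ξ₀ : Z} (h₀ : ξ₀ ⤳ u) (h1 : δ (j u) + 1 = δ (j ξ₀))
    (g : X.residueField (j ξ₀)) :
    Cyc.ordAt u ξ₀ h₀ ((j.residueFieldMap ξ₀).hom g) =
      Cyc.ordAt (j u) (j ξ₀) (h₀.map j.continuous) g := by
  by_cases hg : g = 0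
  · subst hg
    rw [map_zero, ordAt_zero, ordAt_zero]
  obtain ⟨a, b, hb, hz⟩ := exists_specMap_div (h₀.map j.continuous) g
  have hb0 : Cyc.specMap (j u) (j ξ₀) (h₀.map j.continuous) b ≠ 0 :=
    fun h0 => hb (RingHom.mem_ker.mpr h0)
  have ha0 : Cyc.specMap (j u) (j ξ₀) (h₀.map j.continuous) a ≠ 0 := by
    intro h0
    apply hg
    rw [hz, h0, zero_div]
  have ha : a ∉ RingHom.ker (Cyc.specMap (j u) (j ξ₀) (h₀.map j.continuous)) :=
    fun hm => ha0 (RingHom.mem_ker.mp hm)
  have hinj : Function.Injective (j.residueFieldMap ξ₀).hom :=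
    (j.residueFieldMap ξ₀).hom.injective
  have e1 : (j.residueFieldMap ξ₀).hom g =
      Cyc.specMap u ξ₀ h₀ ((j.stalkMap u).hom a) / Cyc.specMap u ξ₀ h₀ ((j.stalkMap u).hom b) := by
    rw [hz, map_div₀, residueFieldMap_specMap j h₀ a, residueFieldMap_specMap j h₀ b]
  have ha' : (j.stalkMap u).hom a ∉ RingHom.ker (Cyc.specMap u ξ₀ h₀) := by
    intro hm
    apply ha0
    apply hinj
    rw [residueFieldMap_specMap j h₀ a, map_zero]
    exact RingHom.mem_ker.mp hm
  have hb' : (j.stalkMap u).hom b ∉ RingHom.ker (Cyc.specMap u ξ₀ h₀) := by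
    intro hm
    apply hb0
    apply hinj
    rw [residueFieldMap_specMap j h₀ b, map_zero]
    exact RingHom.mem_ker.mp hm
  rw [e1, ordAt_div (fun z => δ (j z)) hdimZ h₀ h1 _ _ ha' hb']
  conv_rhs => rw [hz]
  rw [ordAt_div δ hdim (h₀.map j.continuous) h1 a b ha hb]
  -- compare the lengths
  have hker : (RingHom.ker (Cyc.specMap (j u) (j ξ₀) (h₀.map j.continuous))).map
      (j.stalkMap u).hom = RingHom.ker (Cyc.specMap u ξ₀ h₀) := by
    rw [← comap_ker_specMap j h₀]
    exact Ideal.map_comap_of_surjective _ (hbij u).2 _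
  have hlen : ∀ c : X.presheaf.stalk (j u),
      Module.length (Z.presheaf.stalk u) (Z.presheaf.stalk u ⧸
        (RingHom.ker (Cyc.specMap u ξ₀ h₀) ⊔ Ideal.span {(j.stalkMap u).hom c})) =
      Module.length (X.presheaf.stalk (j u)) (X.presheaf.stalk (j u) ⧸
        (RingHom.ker (Cyc.specMap (j u) (j ξ₀) (h₀.map j.continuous)) ⊔ Ideal.span {c})) := by
    intro c
    rw [← length_quot_map_of_bijective (j.stalkMap u).hom (hbij u), Ideal.map_sup, hker,
      Ideal.map_span, Set.image_singleton]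
  rw [hlen a, hlen b]

end general

section fibdiv

variable {X Y : Scheme.{u}} (p : X ⟶ Y) [IsIntegral Y]
  [IsLocallyNoetherian X] [IsLocallyNoetherian (p.fiber (genericPoint Y))]
  (δ : X → ℤ) (hdim : Cyc.IsDimFun X δ)

include hdim in
/-- the principal divisor of a rational function restricts to the generic fibre. -/
theorem divFun_fiber (ξ₀ u : p.fiber (genericPoint Y))
    (g : X.residueField (p.fiberι (genericPoint Y) ξ₀)) :
    Cyc.divFun (fun z => δ (p.fiberι (genericPoint Y) z)) ξ₀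
        (((p.fiberι (genericPoint Y)).residueFieldMap ξ₀).hom g) u =
      Cyc.divFun δ (p.fiberι (genericPoint Y) ξ₀) g (p.fiberι (genericPoint Y) u) := by
  unfold Cyc.divFun
  by_cases h : ξ₀ ⤳ u ∧ δ (p.fiberι (genericPoint Y) u) + 1 = δ (p.fiberι (genericPoint Y) ξ₀)
  · rw [dif_pos h, dif_pos ⟨h.1.map (p.fiberι (genericPoint Y)).continuous, h.2⟩]
    exact ordAt_of_stalkMap_bijective (p.fiberι (genericPoint Y)) δ hdim (isDimFun_fiber p δ hdim)
      (stalkMap_fiberι_bijective p) h.1 h.2 g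
  · rw [dif_neg h, dif_neg]
    rintro ⟨h1, h2⟩
    exact h ⟨(specializes_iff p ξ₀ u).mp h1, h2⟩

end fibdiv

end Groth.Agent.Lib.Helper71.GenFib
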