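import Mathlib
import Groth.Prelude.Def_Cyc
import Groth.Agent.Lib.Helper71.GenFibB
import Groth.Agent.Lib.Helper67.CurveBasic

set_option autoImplicit false
set_option linter.unusedSectionVars false
set_option linter.unusedVariables false
set_option linter.style.haveILetI false
universe u

namespace Groth.Agent.Lib.Helper71.GenFib

open CategoryTheory AlgebraicGeometry IsLocalRing
open Groth.Agent.Lib.Helper67 Groth.Agent.Lib.Helper67.CurveFF Groth.Agent.Lib.Helper67.CurveBasic

section resdeg

variable (k : Type u) [Field k] (X : Scheme.{u}) (c : X ⟶ Spec (CommRingCat.of k))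

theorem resMap_eq_strHom (x : X) :
    letI : X.Over (Spec (CommRingCat.of k)) := ⟨c⟩
    Curv2.resMap k X x = strHom c x := by
  letI : X.Over (Spec (CommRingCat.of k)) := ⟨c⟩
  have h1 : Curv2.resMap k X x = (X.residue x).hom.comp (Curv2.stalkMap k X x) := rfl
  rw [h1, ← stalkHom_eq_stalkMap c x, residue_comp_stalkHom]

/-- the residue degree at the image of a field-valued point which is surjective on stalks. -/
theorem residueDegree_point (L : Type u) [Field L] (a : Spec (CommRingCat.of L) ⟶ X)
    (φ : k →+* L) (ha : a ≫ c = Spec.map (CommRingCat.ofHom φ))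
    (hsurj : Function.Surjective (Scheme.stalkClosedPointTo a).hom) :
    c.residueDegree (a (closedPoint L)) = @Module.finrank k L _ _ φ.toAlgebra.toModule := by
  let _ : X.Over (Spec (CommRingCat.of k)) := ⟨c⟩
  have h1 := finrank_strHom c (a (closedPoint L))
  have h2 : EGA4loc.residueDegree c (a (closedPoint L)) = c.residueDegree (a (closedPoint L)) := rfl
  rw [← h2, ← h1]
  set d := (Scheme.descResidueField (Scheme.stalkClosedPointTo a)).hom with hd
  have hcomp : d.comp (strHom c (a (closedPoint L))) = φ := by
    have h3 := Groth.Agent.Lib.Helper55.descResidueField_comp_resMap k X L a φ ha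
    rw [resMap_eq_strHom k X c] at h3
    exact h3
  have hdinj : Function.Injective d := d.injective
  have hdsurj : Function.Surjective d := by
    intro l
    obtain ⟨w, hw⟩ := hsurj l
    refine ⟨(X.residue _).hom w, ?_⟩
    have h4 : X.residue _ ≫ Scheme.descResidueField (Scheme.stalkClosedPointTo a) =
      Scheme.stalkClosedPointTo a := Scheme.residue_descResidueField _
    have := congr(($h4).hom w)
    exact this.trans hw
  let _ : Algebra k L := φ.toAlgebra
  let _ : Algebra k (X.residueField (a (closedPoint L))) := (strHom c (a (closedPoint L))).toAlgebra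
  let e : X.residueField (a (closedPoint L)) ≃ₐ[k] L :=
    { RingEquiv.ofBijective d ⟨hdinj, hdsurj⟩ with
      commutes' := fun r => congr(($hcomp) r) }
  exact e.toLinearEquiv.finrank_eq

end resdeg

section fibre

variable {X S : Scheme.{u}} (f : X ⟶ S)

/-- residue degrees of the structure map of a fibre are the residue degrees of the morphism. -/
theorem residueDegree_fiber (s : S) (z : f.fiber s) (x : X) (hx : f.fiberι s z = x) :
    (f.fiberToSpecResidueField s).residueDegree z = f.residueDegree x := by
  have hs : f x = s := by
    have : x ∈ Set.range (f.fiberι s) := ⟨z, hx⟩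
    rw [f.range_fiberι s] at this
    exact this
  subst hs
  have hz : z = f.asFiber x := by
    apply (f.fiberι (f x)).isEmbedding.injective
    rw [hx, f.fiberι_asFiber]
  subst hz
  have hpre : IsPreimmersion (f.asFiberHom x) := inferInstance
  have h1 := residueDegree_point (S.residueField (f x)) (f.fiber (f x))
    (f.fiberToSpecResidueField (f x)) (X.residueField x) (f.asFiberHom x)
    (f.residueFieldMap x).hom (f.asFiberHom_fiberToSpecResidueField x)
    (Groth.Agent.Lib.Helper55.stalkClosedPointTo_surjective_of_isPreimmersion
      (f.fiber (f x)) (X.residueField x) (f.asFiberHom x))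
  have h2 : f.asFiberHom x (closedPoint (X.residueField x)) = f.asFiber x :=
    f.asFiberHom_apply x _
  rw [h2] at h1
  rw [h1]
  rfl

end fibre

end Groth.Agent.Lib.Helper71.GenFib
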