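import Mathlib
import Groth.Prelude.Def_Tame
import Groth.Agent.FunFld.PlaceExt
import Groth.Agent.Lib.Helper71.Dim1W

set_option autoImplicit false
set_option linter.unusedSectionVars false
universe u

namespace Groth.Agent.Lib.Helper71.PDeg

open FunFld IsLocalRing WithZero
open Groth.Agent.FF Groth.Agent.Lib.Helper71.Dim1

section dvrplace

variable {K F : Type u} [Field K] [Field F] [Algebra K F]
  (R : Type u) [CommRing R] [IsDomain R] [IsDiscreteValuationRing R]
  [Algebra K R] [Algebra R F] [IsScalarTower K R F] [IsFractionRing R F]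

/-- the place of a discrete valuation ring with fraction field `F`. -/
noncomputable def placeOfDvr : Place K F :=
  ⟨(IsDiscreteValuationRing.maximalIdeal R).valuation F,
    fun c => by
      rw [IsScalarTower.algebraMap_apply K R F]
      exact IsDedekindDomain.HeightOneSpectrum.valuation_le_one _ _,
    IsDedekindDomain.HeightOneSpectrum.valuation_surjective F _⟩

theorem placeOfDvr_val (x : F) :
    (placeOfDvr (K := K) R).1 x = (IsDiscreteValuationRing.maximalIdeal R).valuation F x := rfl

theorem mem_O_placeOfDvr (x : F) :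
    x ∈ (placeOfDvr (K := K) (F := F) R).O ↔ x ∈ Set.range (algebraMap R F) := by
  constructor
  · intro hx
    obtain ⟨y, rfl⟩ := IsDiscreteValuationRing.exists_lift_of_le_one (K := F) hx
    exact ⟨y, rfl⟩
  · rintro ⟨y, rfl⟩
    exact IsDedekindDomain.HeightOneSpectrum.valuation_le_one _ _

theorem placeOfDvr_lt_one_iff (r : R) :
    (placeOfDvr (K := K) (F := F) R).1 (algebraMap R F r) < 1 ↔ r ∈ maximalIdeal R := by
  rw [placeOfDvr_val, IsDedekindDomain.HeightOneSpectrum.valuation_lt_one_iff_mem]
  rfl

theorem placeOfDvr_ord (r : R) (hr : r ≠ 0) :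
    (placeOfDvr (K := K) (F := F) R).ord (algebraMap R F r) = ((Ring.ord R r).toNat : ℤ) := by
  obtain ⟨ϖ, hϖ⟩ := IsDiscreteValuationRing.exists_irreducible R
  obtain ⟨n, u, rfl⟩ := IsDiscreteValuationRing.eq_unit_mul_pow_irreducible hr hϖ
  have h1 : (Ring.ord R ((u : R) * ϖ ^ n)).toNat = n := by
    rw [ord_unit_mul_pow (mem_nonZeroDivisors_of_ne_zero hϖ.ne_zero), Ring.ord_of_irreducible hϖ]
    simp
  rw [h1]
  unfold Place.ord
  rw [placeOfDvr_val, IsDedekindDomain.HeightOneSpectrum.valuation_of_algebraMap, map_mul, map_pow]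
  have h2 : (IsDiscreteValuationRing.maximalIdeal R).intValuation (u : R) = 1 := by
    simp [IsDiscreteValuationRing.maximalIdeal]
  rw [h2, one_mul, (IsDiscreteValuationRing.maximalIdeal R).intValuation_singleton hϖ.ne_zero
    hϖ.maximalIdeal_eq, ← WithZero.exp_nsmul, WithZero.log_exp]
  simp

theorem placeOfDvr_deg :
    (placeOfDvr (K := K) (F := F) R).deg = Module.finrank K (ResidueField R) := by
  set P := placeOfDvr (K := K) (F := F) R with hP
  let e : R ≃+* P.O := IsDiscreteValuationRing.equivValuationSubring (K := F)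
  have he : ∀ r : R, ((e r : P.O) : F) = algebraMap R F r := fun r => rfl
  let ē : ResidueField R ≃+* ResidueField P.O := ResidueField.mapEquiv e
  have hcomm : ∀ c : K, ē (algebraMap K (ResidueField R) c) =
      algebraMap K (ResidueField P.O) c := by
    intro c
    have h1 : algebraMap K (ResidueField R) c = residue R (algebraMap K R c) := rfl
    rw [h1]
    have h2 : ē (residue R (algebraMap K R c)) = residue P.O (e (algebraMap K R c)) := rfl
    rw [h2]
    have h3 : e (algebraMap K R c) = algebraMap K P.O c := by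
      apply Subtype.ext
      rw [he, ← IsScalarTower.algebraMap_apply K R F]
      rfl
    rw [h3]
    rfl
  let E : ResidueField R ≃ₐ[K] ResidueField P.O := AlgEquiv.ofRingEquiv (f := ē) hcomm
  unfold Place.deg
  exact E.toLinearEquiv.finrank_eq.symm

end dvrplace

end Groth.Agent.Lib.Helper71.PDeg
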