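import Mathlib
import Groth.Prelude.Def_Tame
import Groth.Agent.Lib.Helper71.PDegA
import Groth.Agent.Lib.Helper71.Dim1R

set_option autoImplicit false
set_option linter.unusedSectionVars false
universe u

namespace Groth.Agent.Lib.Helper71.PDeg

open FunFld IsLocalRing WithZero nonZeroDivisors
open Groth.Agent.FF Groth.Agent.Lib.Helper71.Dim1

section closure

variable {K F : Type u} [Field K] [Field F] [Algebra K F]
  (O : Type u) [CommRing O] [IsDomain O] [IsLocalRing O] [IsNoetherianRing O]
  [Algebra K O] [Algebra O F] [IsScalarTower K O F] [IsFractionRing O F]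
  [Module.Finite O (integralClosure O F)]

theorem dimensionLEOne_of_dim (hdim : ringKrullDim O = 1) : Ring.DimensionLEOne O := by
  have h1 : Ring.KrullDimLE 1 O := Ring.krullDimLE_iff.mpr hdim.le
  exact ⟨fun hp hpp => (Ring.krullDimLE_one_iff_of_noZeroDivisors.mp h1) _ hp hpp⟩

/-- the integral closure of a one-dimensional Noetherian local domain with finite normalization
is a Dedekind domain. -/
theorem isDedekindDomain_closure (hdim : ringKrullDim O = 1) :
    IsDedekindDomain (integralClosure O F) := by
  have := dimensionLEOne_of_dim O hdim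
  have hInt : Algebra.IsIntegral O (integralClosure O F) :=
    IsIntegralClosure.isIntegral_algebra O F
  have hNoeth : IsNoetherianRing (integralClosure O F) :=
    isNoetherian_of_tower O (isNoetherian_of_isNoetherianRing_of_finite O (integralClosure O F))
  exact
    { hNoeth,
      Ring.DimensionLEOne.of_isIntegral O (integralClosure O F),
      (isIntegrallyClosed_iff F).mpr fun {x} hx =>
        ⟨IsIntegralClosure.mk' (integralClosure O F) x (isIntegral_trans (R := O) _ hx),
          IsIntegralClosure.algebraMap_mk' _ _ _⟩ with : IsDedekindDomain (integralClosure O F) }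

theorem isFractionRing_closure : IsFractionRing (integralClosure O F) F :=
  IsIntegralClosure.isFractionRing_of_finite_extension O F F (integralClosure O F)

theorem algebraMap_closure_injective :
    Function.Injective (algebraMap O (integralClosure O F)) := by
  intro a b hab
  apply IsFractionRing.injective O F
  have := congrArg (algebraMap (integralClosure O F) F) hab
  rwa [← IsScalarTower.algebraMap_apply, ← IsScalarTower.algebraMap_apply] at this

/-- the integral closure is a finite birational extension. -/
theorem isBir_closure : IsBir O (integralClosure O F) where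
  finite := inferInstance
  inj := algebraMap_closure_injective O
  nzd := by
    intro γ hγ
    apply mem_nonZeroDivisors_of_ne_zero
    rw [Ne, map_eq_zero_iff _ (algebraMap_closure_injective O)]
    exact nonZeroDivisors.ne_zero hγ
  den := by
    classical
    obtain ⟨s, hs⟩ := (Module.finite_def (R := O) (M := integralClosure O F)).mp inferInstance
    obtain ⟨z, hz⟩ := IsLocalization.exist_integer_multiples_of_finset O⁰
      (s.image (fun b : integralClosure O F => (b : F)))
    refine ⟨z.1, z.2, ?_⟩
    intro b
    have hb : b ∈ Submodule.span O (s : Set (integralClosure O F)) := by rw [hs]; trivial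
    induction hb using Submodule.span_induction with
    | mem x hx =>
      obtain ⟨α, hα⟩ := hz (x : F) (Finset.mem_image_of_mem _ hx)
      refine ⟨α, ?_⟩
      apply Subtype.ext
      show algebraMap O F α = _
      rw [hα, Algebra.smul_def]
      rfl
    | zero => exact ⟨0, by simp⟩
    | add x y _ _ hx hy =>
      obtain ⟨α, hα⟩ := hx
      obtain ⟨β, hβ⟩ := hy
      exact ⟨α + β, by rw [map_add, hα, hβ, mul_add]⟩
    | smul c x _ hx =>
      obtain ⟨α, hα⟩ := hx
      refine ⟨c * α, ?_⟩
      rw [map_mul, hα, Algebra.smul_def]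
      ring

end closure

section atprime

variable {K F : Type u} [Field K] [Field F] [Algebra K F]
  (O : Type u) [CommRing O] [IsDomain O] [IsLocalRing O] [IsNoetherianRing O]
  [Algebra K O] [Algebra O F] [IsScalarTower K O F] [IsFractionRing O F]
  [Module.Finite O (integralClosure O F)]
  (𝔫 : Ideal (integralClosure O F)) [h𝔫 : 𝔫.IsMaximal]

/-- the canonical map from the localization of the integral closure to `F`. -/
noncomputable def locToF : Localization.AtPrime 𝔫 →+* F :=
  IsLocalization.lift (M := 𝔫.primeCompl) (g := algebraMap (integralClosure O F) F) (by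
    intro y
    apply IsUnit.mk0
    intro h0
    have h1 : (y : integralClosure O F) = 0 := Subtype.ext h0
    exact y.2 (by rw [h1]; exact 𝔫.zero_mem))

/-- `F` as an algebra over the localization. -/
@[reducible] noncomputable def algLF : Algebra (Localization.AtPrime 𝔫) F :=
  (locToF O 𝔫).toAlgebra

attribute [local instance] algLF

theorem towerBLF : IsScalarTower (integralClosure O F) (Localization.AtPrime 𝔫) F :=
  IsScalarTower.of_algebraMap_eq (fun b => (IsLocalization.lift_eq _ b).symm)

theorem towerOLF : IsScalarTower O (Localization.AtPrime 𝔫) F := by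
  have := towerBLF O 𝔫
  apply IsScalarTower.of_algebraMap_eq
  intro a
  rw [IsScalarTower.algebraMap_apply O (integralClosure O F) (Localization.AtPrime 𝔫),
    ← IsScalarTower.algebraMap_apply (integralClosure O F) (Localization.AtPrime 𝔫) F,
    ← IsScalarTower.algebraMap_apply O (integralClosure O F) F]

theorem towerKLF : IsScalarTower K (Localization.AtPrime 𝔫) F := by
  have := towerOLF O 𝔫
  apply IsScalarTower.of_algebraMap_eq
  intro c
  rw [IsScalarTower.algebraMap_apply K O (Localization.AtPrime 𝔫),
    ← IsScalarTower.algebraMap_apply O (Localization.AtPrime 𝔫) F,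
    ← IsScalarTower.algebraMap_apply K O F]

theorem isFractionRing_LF : IsFractionRing (Localization.AtPrime 𝔫) F := by
  have := towerBLF O 𝔫
  have := isFractionRing_closure O (F := F)
  exact IsFractionRing.isFractionRing_of_isDomain_of_isLocalization 𝔫.primeCompl
    (Localization.AtPrime 𝔫) F

theorem exists_mem_maximalIdeal_ne_zero (hdim : ringKrullDim O = 1) :
    ∃ t ∈ maximalIdeal O, t ≠ 0 := by
  have hne : maximalIdeal O ≠ ⊥ := by
    intro hbot
    have hfield : IsField O := IsLocalRing.isField_iff_maximalIdeal_eq.mpr hbot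
    have := ringKrullDim_eq_zero_of_isField hfield
    rw [hdim] at this
    exact one_ne_zero this
  exact Submodule.exists_mem_ne_zero_of_ne_bot hne

theorem maximal_ne_bot (hdim : ringKrullDim O = 1) : 𝔫 ≠ ⊥ := by
  obtain ⟨t, htm, ht0⟩ := exists_mem_maximalIdeal_ne_zero O hdim
  have hInt : Algebra.IsIntegral O (integralClosure O F) :=
    IsIntegralClosure.isIntegral_algebra O F
  have h1 : algebraMap O (integralClosure O F) t ∈ 𝔫 := algebraMap_mem_of_mem_maximalIdeal 𝔫 htm
  intro hbot
  rw [hbot, Ideal.mem_bot, map_eq_zero_iff _ (algebraMap_closure_injective O)] at h1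
  exact ht0 h1

theorem dvr_loc (hdim : ringKrullDim O = 1) :
    IsDiscreteValuationRing (Localization.AtPrime 𝔫) :=
  have := isDedekindDomain_closure O (F := F) hdim
  IsLocalization.AtPrime.isDiscreteValuationRing_of_dedekind_domain (integralClosure O F)
    (maximal_ne_bot O 𝔫 hdim) _

/-- the place of `F/K` attached to a maximal ideal of the integral closure. -/
noncomputable def placeAt (hdim : ringKrullDim O = 1) : Place K F :=
  have := dvr_loc O 𝔫 hdim
  have := towerKLF (K := K) O 𝔫
  have := isFractionRing_LF O 𝔫
  placeOfDvr (Localization.AtPrime 𝔫)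

theorem placeAt_mem_O (hdim : ringKrullDim O = 1) (x : F) :
    x ∈ (placeAt (K := K) O 𝔫 hdim).O ↔ x ∈ Set.range (algebraMap (Localization.AtPrime 𝔫) F) := by
  have := dvr_loc O 𝔫 hdim
  have := towerKLF (K := K) O 𝔫
  have := isFractionRing_LF O 𝔫
  exact mem_O_placeOfDvr (K := K) (Localization.AtPrime 𝔫) x

theorem placeAt_lt_one_iff (hdim : ringKrullDim O = 1) (r : Localization.AtPrime 𝔫) :
    (placeAt (K := K) O 𝔫 hdim).1 (algebraMap (Localization.AtPrime 𝔫) F r) < 1 ↔
      r ∈ maximalIdeal (Localization.AtPrime 𝔫) := by
  have := dvr_loc O 𝔫 hdim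
  have := towerKLF (K := K) O 𝔫
  have := isFractionRing_LF O 𝔫
  exact placeOfDvr_lt_one_iff (K := K) (Localization.AtPrime 𝔫) r

theorem placeAt_ord (hdim : ringKrullDim O = 1) (r : Localization.AtPrime 𝔫) (hr : r ≠ 0) :
    (placeAt (K := K) O 𝔫 hdim).ord (algebraMap (Localization.AtPrime 𝔫) F r) =
      ((Ring.ord (Localization.AtPrime 𝔫) r).toNat : ℤ) := by
  have := dvr_loc O 𝔫 hdim
  have := towerKLF (K := K) O 𝔫
  have := isFractionRing_LF O 𝔫
  exact placeOfDvr_ord (K := K) (Localization.AtPrime 𝔫) r hr

theorem placeAt_deg (hdim : ringKrullDim O = 1) :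
    (placeAt (K := K) O 𝔫 hdim).deg =
      Module.finrank K (ResidueField (Localization.AtPrime 𝔫)) := by
  have := dvr_loc O 𝔫 hdim
  have := towerKLF (K := K) O 𝔫
  have := isFractionRing_LF O 𝔫
  exact placeOfDvr_deg (K := K) (Localization.AtPrime 𝔫)

/-- the value of the place at an element of the integral closure. -/
theorem placeAt_le_one (hdim : ringKrullDim O = 1) (b : integralClosure O F) :
    (placeAt (K := K) O 𝔫 hdim).1 (b : F) ≤ 1 := by
  have := towerBLF O 𝔫
  have h1 : (b : F) ∈ (placeAt (K := K) O 𝔫 hdim).O := by
    rw [placeAt_mem_O]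
    exact ⟨algebraMap _ _ b, (IsScalarTower.algebraMap_apply (integralClosure O F)
      (Localization.AtPrime 𝔫) F b).symm⟩
  exact h1

theorem placeAt_lt_one_iff_mem (hdim : ringKrullDim O = 1) (b : integralClosure O F) :
    (placeAt (K := K) O 𝔫 hdim).1 (b : F) < 1 ↔ b ∈ 𝔫 := by
  have := towerBLF O 𝔫
  have h1 : (b : F) = algebraMap (Localization.AtPrime 𝔫) F
      (algebraMap (integralClosure O F) (Localization.AtPrime 𝔫) b) :=
    IsScalarTower.algebraMap_apply (integralClosure O F) (Localization.AtPrime 𝔫) F b
  rw [h1, placeAt_lt_one_iff,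
    IsLocalization.AtPrime.to_map_mem_maximal_iff (Localization.AtPrime 𝔫) 𝔫]

end atprime

end Groth.Agent.Lib.Helper71.PDeg
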