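import Mathlib
import Groth.Prelude.Def_Tame
import Groth.Agent.Lib.Helper71.PDegB

set_option autoImplicit false
set_option linter.unusedSectionVars false
universe u

namespace Groth.Agent.Lib.Helper71.PDeg

open FunFld IsLocalRing WithZero nonZeroDivisors
open Groth.Agent.FF Groth.Agent.Lib.Helper71.Dim1

section dom

variable {K F : Type u} [Field K] [Field F] [Algebra K F]
  (O : Type u) [CommRing O] [IsDomain O] [IsLocalRing O] [IsNoetherianRing O]
  [Algebra K O] [Algebra O F] [IsScalarTower K O F] [IsFractionRing O F]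
  [Module.Finite O (integralClosure O F)]

/-- the place `P` dominates the local ring `O`. -/
def Dom (P : Place K F) : Prop :=
  (∀ a : O, P.1 (algebraMap O F a) ≤ 1) ∧ ∀ a ∈ maximalIdeal O, P.1 (algebraMap O F a) < 1

theorem dom_placeAt (𝔫 : Ideal (integralClosure O F)) [h𝔫 : 𝔫.IsMaximal]
    (hdim : ringKrullDim O = 1) : Dom O (placeAt (K := K) O 𝔫 hdim) := by
  have hInt : Algebra.IsIntegral O (integralClosure O F) :=
    IsIntegralClosure.isIntegral_algebra O F
  constructor
  · intro a
    exact placeAt_le_one O 𝔫 hdim (algebraMap O (integralClosure O F) a)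
  · intro a ha
    have h1 : algebraMap O (integralClosure O F) a ∈ 𝔫 := algebraMap_mem_of_mem_maximalIdeal 𝔫 ha
    exact (placeAt_lt_one_iff_mem O 𝔫 hdim (algebraMap O (integralClosure O F) a)).mpr h1

theorem le_one_of_integral (P : Place K F) (h : ∀ a : O, P.1 (algebraMap O F a) ≤ 1) (b : F)
    (hb : IsIntegral O b) : P.1 b ≤ 1 := by
  let φ : O →+* P.O := (algebraMap O F).codRestrict P.O.toSubring h
  let _ : Algebra O P.O := φ.toAlgebra
  have htower : IsScalarTower O P.O F := IsScalarTower.of_algebraMap_eq (fun _ => rfl)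
  have hint' : IsIntegral P.O b := hb.tower_top
  exact (Valuation.valuationSubring.integers P.1).mem_of_integral hint'

/-- the centre of a dominating place on the integral closure. -/
def centreIdeal (P : Place K F) (h : ∀ a : O, P.1 (algebraMap O F a) ≤ 1) :
    Ideal (integralClosure O F) where
  carrier := {b | P.1 (b : F) < 1}
  add_mem' {a b} ha hb := by
    show P.1 ((a : F) + (b : F)) < 1
    exact lt_of_le_of_lt (P.1.map_add _ _) (max_lt ha hb)
  zero_mem' := by
    show P.1 (0 : F) < 1
    rw [map_zero]; exact zero_lt_one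
  smul_mem' c x hx := by
    show P.1 ((c : F) * (x : F)) < 1
    rw [map_mul]
    have hc : P.1 (c : F) ≤ 1 := le_one_of_integral O P h _ c.2
    calc P.1 (c : F) * P.1 (x : F) ≤ 1 * P.1 (x : F) := by gcongr
      _ = P.1 (x : F) := one_mul _
      _ < 1 := hx

theorem mem_centreIdeal (P : Place K F) (h : ∀ a : O, P.1 (algebraMap O F a) ≤ 1)
    (b : integralClosure O F) : b ∈ centreIdeal O P h ↔ P.1 (b : F) < 1 := Iff.rfl

theorem centreIdeal_isPrime (P : Place K F) (h : ∀ a : O, P.1 (algebraMap O F a) ≤ 1) :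
    (centreIdeal O P h).IsPrime := by
  constructor
  · intro htop
    have : (1 : integralClosure O F) ∈ centreIdeal O P h := by rw [htop]; trivial
    rw [mem_centreIdeal] at this
    simp at this
  · intro a b hab
    rw [mem_centreIdeal] at hab
    by_contra hcon
    push Not at hcon
    rw [mem_centreIdeal, mem_centreIdeal, not_lt, not_lt] at hcon
    have ha : P.1 (a : F) = 1 := le_antisymm (le_one_of_integral O P h _ a.2) hcon.1
    have hb : P.1 (b : F) = 1 := le_antisymm (le_one_of_integral O P h _ b.2) hcon.2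
    have : P.1 ((a * b : integralClosure O F) : F) = 1 := by
      show P.1 ((a : F) * (b : F)) = 1
      rw [map_mul, ha, hb, one_mul]
    rw [this] at hab
    exact lt_irrefl _ hab

theorem centreIdeal_isMaximal (hdim : ringKrullDim O = 1) (P : Place K F) (hP : Dom O P) :
    (centreIdeal O P hP.1).IsMaximal := by
  have := isDedekindDomain_closure O (F := F) hdim
  have hprime := centreIdeal_isPrime O P hP.1
  apply hprime.isMaximal
  obtain ⟨t, htm, ht0⟩ := exists_mem_maximalIdeal_ne_zero O hdim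
  intro hbot
  have h1 : algebraMap O (integralClosure O F) t ∈ centreIdeal O P hP.1 := hP.2 t htm
  rw [hbot, Ideal.mem_bot, map_eq_zero_iff _ (algebraMap_closure_injective O)] at h1
  exact ht0 h1

attribute [local instance] algLF

/-- values of a place on the localization at its centre. -/
theorem val_loc (𝔫 : Ideal (integralClosure O F)) [h𝔫 : 𝔫.IsMaximal] (P : Place K F)
    (h : ∀ a : O, P.1 (algebraMap O F a) ≤ 1)
    (h𝔫P : ∀ b : integralClosure O F, b ∈ 𝔫 ↔ P.1 (b : F) < 1)
    (r : Localization.AtPrime 𝔫) :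
    P.1 (algebraMap (Localization.AtPrime 𝔫) F r) ≤ 1 ∧
      (r ∈ maximalIdeal (Localization.AtPrime 𝔫) →
        P.1 (algebraMap (Localization.AtPrime 𝔫) F r) < 1) := by
  have := towerBLF O 𝔫
  obtain ⟨b, s, rfl⟩ := IsLocalization.exists_mk'_eq 𝔫.primeCompl r
  have hs1 : P.1 ((s : integralClosure O F) : F) = 1 := by
    apply le_antisymm (le_one_of_integral O P h _ (s : integralClosure O F).2)
    by_contra hlt
    push Not at hlt
    exact s.2 ((h𝔫P _).mpr hlt)
  have hspec : algebraMap (Localization.AtPrime 𝔫) F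
      (IsLocalization.mk' (Localization.AtPrime 𝔫) b s) * ((s : integralClosure O F) : F) =
      (b : F) := by
    have h1 := IsLocalization.mk'_spec (Localization.AtPrime 𝔫) b s
    have h2 := congrArg (algebraMap (Localization.AtPrime 𝔫) F) h1
    rw [map_mul, ← IsScalarTower.algebraMap_apply (integralClosure O F)
      (Localization.AtPrime 𝔫) F, ← IsScalarTower.algebraMap_apply (integralClosure O F)
      (Localization.AtPrime 𝔫) F] at h2
    exact h2
  have hval : P.1 (algebraMap (Localization.AtPrime 𝔫) F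
      (IsLocalization.mk' (Localization.AtPrime 𝔫) b s)) = P.1 (b : F) := by
    rw [← hspec, map_mul, hs1, mul_one]
  rw [hval]
  refine ⟨le_one_of_integral O P h _ b.2, fun hm => ?_⟩
  rw [IsLocalization.AtPrime.mk'_mem_maximal_iff (Localization.AtPrime 𝔫) 𝔫] at hm
  exact (h𝔫P b).mp hm

/-- a dominating place is the place of its centre. -/
theorem eq_placeAt_of_dom (hdim : ringKrullDim O = 1) (P : Place K F) (hP : Dom O P) :
    ∃ (𝔫 : Ideal (integralClosure O F)) (h𝔫 : 𝔫.IsMaximal), P = placeAt (K := K) O 𝔫 hdim := by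
  have h𝔫 := centreIdeal_isMaximal O hdim P hP
  refine ⟨centreIdeal O P hP.1, h𝔫, ?_⟩
  set 𝔫 := centreIdeal O P hP.1 with h𝔫def
  have hv := val_loc O 𝔫 P hP.1 (fun b => Iff.rfl)
  symm
  apply place_ext_of_O_eq
  apply le_antisymm
  · intro x hx
    rw [placeAt_mem_O] at hx
    obtain ⟨r, rfl⟩ := hx
    exact (hv r).1
  · intro x hx
    by_contra hnot
    have hx0 : x ≠ 0 := by
      rintro rfl
      exact hnot (ValuationSubring.zero_mem _)
    have hinv : x⁻¹ ∈ (placeAt (K := K) O 𝔫 hdim).O :=
      ((placeAt (K := K) O 𝔫 hdim).O.mem_or_inv_mem x).resolve_left hnot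
    have hinv' := hinv
    rw [placeAt_mem_O] at hinv
    obtain ⟨r, hr⟩ := hinv
    have hrm : r ∈ maximalIdeal (Localization.AtPrime 𝔫) := by
      rw [← placeAt_lt_one_iff (K := K) O 𝔫 hdim r, hr]
      have h1 : (placeAt (K := K) O 𝔫 hdim).1 x⁻¹ ≤ 1 := hinv'
      refine lt_of_le_of_ne h1 fun h1' => hnot ?_
      show (placeAt (K := K) O 𝔫 hdim).1 x ≤ 1
      rw [map_inv₀, inv_eq_one] at h1'
      exact h1'.le
    have h2 := (hv r).2 hrm
    rw [hr, map_inv₀] at h2
    have hx1 : P.1 x ≤ 1 := hx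
    have hxne : P.1 x ≠ 0 := (P.1.ne_zero_iff).mpr hx0
    have h3 : 1 ≤ (P.1 x)⁻¹ := (one_le_inv₀ (zero_lt_iff.mpr hxne)).mpr hx1
    exact absurd h2 (not_lt.mpr h3)

theorem placeAt_injective (hdim : ringKrullDim O = 1) (𝔫 𝔫' : Ideal (integralClosure O F))
    [h𝔫 : 𝔫.IsMaximal] [h𝔫' : 𝔫'.IsMaximal]
    (h : placeAt (K := K) O 𝔫 hdim = placeAt (K := K) O 𝔫' hdim) : 𝔫 = 𝔫' := by
  ext b
  rw [← placeAt_lt_one_iff_mem (K := K) O 𝔫 hdim b, ← placeAt_lt_one_iff_mem (K := K) O 𝔫' hdim b, h]

end dom

end Groth.Agent.Lib.Helper71.PDeg
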