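import Mathlib
import Groth.Prelude.Def_Tame
import Groth.Agent.Lib.Helper71.PDegC
import Groth.Agent.Lib.Helper74.LatticeDet

set_option autoImplicit false
set_option linter.unusedSectionVars false
universe u

namespace Groth.Agent.Lib.Helper71.PDeg

open FunFld IsLocalRing WithZero nonZeroDivisors
open Groth.Agent.FF Groth.Agent.Lib.Helper71.Dim1 Groth.Agent.Lib.Helper74

section sumformula

variable {K F : Type u} [Field K] [Field F] [Algebra K F]
  (O : Type u) [CommRing O] [IsDomain O] [IsLocalRing O] [IsNoetherianRing O]
  [Algebra K O] [Algebra O F] [IsScalarTower K O F] [IsFractionRing O F]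
  [Module.Finite O (integralClosure O F)]

theorem krullDimLE_of_dim (hdim : ringKrullDim O = 1) : Ring.KrullDimLE 1 O :=
  Ring.krullDimLE_iff.mpr hdim.le

attribute [local instance] algLF

theorem sum_formula_aux (hdim : ringKrullDim O = 1) (a : O) (ha : a ≠ 0)
    [Fintype (MaximalSpectrum (integralClosure O F))] :
    (Module.finrank K (ResidueField O) : ℤ) * CycAlg.ordFrac O F (algebraMap O F a) =
      ∑ q : MaximalSpectrum (integralClosure O F),
        ((placeAt (K := K) (h𝔫 := q.isMaximal) O q.asIdeal hdim).deg : ℤ) *
          (placeAt (K := K) (h𝔫 := q.isMaximal) O q.asIdeal hdim).ord (algebraMap O F a) := by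
  have hkd := krullDimLE_of_dim O hdim
  have hInt : Algebra.IsIntegral O (integralClosure O F) :=
    IsIntegralClosure.isIntegral_algebra O F
  have hloc : ∀ q : MaximalSpectrum (integralClosure O F),
      IsLocalHom (algebraMap O (Localization.AtPrime q.asIdeal)) := fun q =>
    have := q.isMaximal
    isLocalHom_of_isIntegral q.asIdeal
  have hArt : ∀ γ ∈ O⁰, IsArtinianRing (O ⧸ Ideal.span {γ}) :=
    fun γ hγ => isArtinianRing_quotient_of_dim_one hdim γ hγ
  have hBir := isBir_closure O (F := F)
  have ha' : a ∈ O⁰ := mem_nonZeroDivisors_of_ne_zero ha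
  have h1 := length_quot_eq_of_isBir hArt (IsBir.refl O) hBir a ha'
  have hfin : Module.length O (integralClosure O F ⧸
      Ideal.span {algebraMap O (integralClosure O F) a}) ≠ ⊤ :=
    hBir.FL hArt _ (hBir.nzd a ha')
  have h2 := length_quot_eq_sum_ord (A := O) (algebraMap O (integralClosure O F) a) hfin
  rw [h1] at h2
  rw [ordFracInt_algebraMap O F ha, h2]
  -- rewrite each term
  have hterm : ∀ q : MaximalSpectrum (integralClosure O F),
      resDeg O q * Ring.ord (Localization.AtPrime q.asIdeal)
        (algebraMap (integralClosure O F) (Localization.AtPrime q.asIdeal)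
          (algebraMap O (integralClosure O F) a)) =
      ((Module.finrank (ResidueField O) (ResidueField (Localization.AtPrime q.asIdeal)) *
        (Ring.ord (Localization.AtPrime q.asIdeal)
          (algebraMap (integralClosure O F) (Localization.AtPrime q.asIdeal)
            (algebraMap O (integralClosure O F) a))).toNat : ℕ) : ℕ∞) := by
    intro q
    have := q.isMaximal
    have h3 := finite_residueField_of_finite (A := O) q.asIdeal
    have h4 := ord_algebraMap_ne_top hArt hBir a ha' q
    rw [IsScalarTower.algebraMap_apply O (integralClosure O F)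
      (Localization.AtPrime q.asIdeal)] at h4
    unfold resDeg
    rw [Module.length_eq_finrank, Nat.cast_mul, ENat.natCast_toNat h4]
  simp_rw [hterm]
  rw [← Nat.cast_sum, ENat.toNat_natCast, Nat.cast_sum, Finset.mul_sum]
  apply Finset.sum_congr rfl
  intro q _
  have hq := q.isMaximal
  have htower := towerBLF O q.asIdeal
  have htower2 := towerOLF O q.asIdeal
  have hne : algebraMap (integralClosure O F) (Localization.AtPrime q.asIdeal)
      (algebraMap O (integralClosure O F) a) ≠ 0 := by
    have hdvr := dvr_loc O q.asIdeal hdim
    rw [← IsScalarTower.algebraMap_apply O (integralClosure O F)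
      (Localization.AtPrime q.asIdeal)]
    intro h0
    have := congrArg (algebraMap (Localization.AtPrime q.asIdeal) F) h0
    rw [← IsScalarTower.algebraMap_apply O (Localization.AtPrime q.asIdeal) F, map_zero,
      map_eq_zero_iff _ (IsFractionRing.injective O F)] at this
    exact ha this
  have hord := placeAt_ord (K := K) O q.asIdeal hdim _ hne
  rw [← IsScalarTower.algebraMap_apply (integralClosure O F) (Localization.AtPrime q.asIdeal) F,
    ← IsScalarTower.algebraMap_apply O (integralClosure O F) F] at hord
  rw [hord, placeAt_deg]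
  have hT : IsScalarTower K (ResidueField O) (ResidueField (Localization.AtPrime q.asIdeal)) := by
    apply IsScalarTower.of_algebraMap_eq
    intro c
    have h5 : algebraMap K (Localization.AtPrime q.asIdeal) c =
        algebraMap O (Localization.AtPrime q.asIdeal) (algebraMap K O c) := by
      rw [IsScalarTower.algebraMap_apply K (integralClosure O F) (Localization.AtPrime q.asIdeal),
        IsScalarTower.algebraMap_apply O (integralClosure O F) (Localization.AtPrime q.asIdeal)]
      congr 1
      apply Subtype.ext
      exact IsScalarTower.algebraMap_apply K O F c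
    show residue _ (algebraMap K (Localization.AtPrime q.asIdeal) c) =
      ResidueField.map (algebraMap O (Localization.AtPrime q.asIdeal))
        (residue _ (algebraMap K O c))
    rw [ResidueField.map_residue, h5]
  have hfr1 : Module.Free (ResidueField O) (ResidueField (Localization.AtPrime q.asIdeal)) :=
    Module.Free.of_divisionRing _ _
  have hfr2 : Module.Free K (ResidueField O) := Module.Free.of_divisionRing _ _
  rw [← Module.finrank_mul_finrank K (ResidueField O)
    (ResidueField (Localization.AtPrime q.asIdeal))]
  push_cast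
  ring

/-- the place attached to a point of the maximal spectrum of the integral closure. -/
noncomputable def placeMS (hdim : ringKrullDim O = 1)
    (q : MaximalSpectrum (integralClosure O F)) : Place K F :=
  placeAt (K := K) (h𝔫 := q.isMaximal) O q.asIdeal hdim

theorem bijOn_placeMS (hdim : ringKrullDim O = 1) :
    Set.BijOn (placeMS (K := K) O hdim) Set.univ {P : Place K F | Dom O P} := by
  refine ⟨?_, ?_, ?_⟩
  · intro q _
    have := q.isMaximal
    exact dom_placeAt O q.asIdeal hdim
  · intro q _ q' _ h
    have := q.isMaximal
    have := q'.isMaximal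
    exact MaximalSpectrum.ext (placeAt_injective O hdim q.asIdeal q'.asIdeal h)
  · intro P hP
    obtain ⟨𝔫, h𝔫, rfl⟩ := eq_placeAt_of_dom O hdim P hP
    exact ⟨⟨𝔫, h𝔫⟩, trivial, rfl⟩

theorem finite_dom (hdim : ringKrullDim O = 1) : {P : Place K F | Dom O P}.Finite := by
  have hfin : Finite (MaximalSpectrum (integralClosure O F)) := finite_maximalSpectrum (A := O) _
  rw [← (bijOn_placeMS (K := K) O hdim).image_eq]
  exact (Set.finite_univ).image _

/-- **local degree formula**: `[κ(O):K] · ord_O(g)` is the sum of `deg P · ord_P(g)` over the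
places `P` of `F/K` dominating `O`. -/
theorem sum_formula (hdim : ringKrullDim O = 1) (g : F) (hg : g ≠ 0) :
    (Module.finrank K (ResidueField O) : ℤ) * CycAlg.ordFrac O F g =
      ∑ᶠ (P : Place K F) (_ : Dom O P), (P.deg : ℤ) * P.ord g := by
  have hkd := krullDimLE_of_dim O hdim
  have hfin : Finite (MaximalSpectrum (integralClosure O F)) := finite_maximalSpectrum (A := O) _
  have _ : Fintype (MaximalSpectrum (integralClosure O F)) := Fintype.ofFinite _
  have hsum : ∑ᶠ (P : Place K F) (_ : Dom O P), (P.deg : ℤ) * P.ord g =
      ∑ q : MaximalSpectrum (integralClosure O F),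
        ((placeMS (K := K) O hdim q).deg : ℤ) * (placeMS (K := K) O hdim q).ord g := by
    have h1 := finsum_mem_eq_of_bijOn (f := fun q => ((placeMS (K := K) O hdim q).deg : ℤ) *
      (placeMS (K := K) O hdim q).ord g) (g := fun P : Place K F => (P.deg : ℤ) * P.ord g)
      (placeMS (K := K) O hdim) (bijOn_placeMS (K := K) O hdim) (fun x _ => rfl)
    rw [finsum_mem_univ, finsum_eq_sum_of_fintype] at h1
    rw [h1]
    rfl
  rw [hsum]
  obtain ⟨a, b, hb, rfl⟩ := IsFractionRing.div_surjective (A := O) g
  have hb0 : b ≠ 0 := nonZeroDivisors.ne_zero hb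
  have hbF : algebraMap O F b ≠ 0 := by
    rw [Ne, map_eq_zero_iff _ (IsFractionRing.injective O F)]; exact hb0
  have ha0 : a ≠ 0 := by
    rintro rfl
    rw [map_zero, zero_div] at hg
    exact hg rfl
  have haF : algebraMap O F a ≠ 0 := by
    rw [Ne, map_eq_zero_iff _ (IsFractionRing.injective O F)]; exact ha0
  rw [div_eq_mul_inv, ordFracInt_mul O F haF (inv_ne_zero hbF), ordFracInt_inv O F hbF, mul_add,
    mul_neg, sum_formula_aux O hdim a ha0, sum_formula_aux O hdim b hb0, ← Finset.sum_neg_distrib,
    ← Finset.sum_add_distrib]
  apply Finset.sum_congr rfl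
  intro q _
  rw [← div_eq_mul_inv, ord_div _ haF hbF]
  unfold placeMS
  ring

end sumformula

end Groth.Agent.Lib.Helper71.PDeg
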