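import Mathlib
import Groth.Prelude.Def_Tame
import Groth.Agent.Lib.Helper71.PDegD
import Groth.Agent.Lib.Helper67.CurveBasic
import Groth.Agent.Lib.Helper67.CurveTop
import Groth.Agent.Lib.Helper48.Japanese
import Groth.Agent.Lib.Helper48.FieldJapanese
import Groth.Agent.FunFld.ConstField

set_option autoImplicit false
set_option linter.unusedSectionVars false
universe u

namespace Groth.Agent.Lib.Helper71.PDeg

open CategoryTheory AlgebraicGeometry FunFld IsLocalRing
open Groth.Agent.FF Groth.Agent.Lib.Helper67 Groth.Agent.Lib.Helper67.CurveFF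
  Groth.Agent.Lib.Helper67.CurveVal Groth.Agent.Lib.Helper67.CurveBasic
  Groth.Agent.Lib.Helper67.CurveTop

section field

open IntermediateField

/-- a finitely generated field of transcendence degree one is a function field of one variable
over its field of constants. -/
theorem isFunctionField_algebraicClosure' {k F : Type u} [Field k] [Field F] [Algebra k F]
    (x : F) (hx : Transcendental k x)
    (hfin : FiniteDimensional (adjoin k ({x} : Set F)) F) :
    IsFunctionField (algebraicClosure k F) F := by
  have halgk : Algebra.IsAlgebraic k (algebraicClosure k F) := algebraicClosure.isAlgebraic k F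
  refine ⟨⟨x, ?_, ?_⟩, ?_⟩
  · intro halg
    exact hx (halg.restrictScalars k)
  · apply Groth.Agent.FF.Ext.finite_of_range_le (A := adjoin k ({x} : Set F))
    intro a
    let E : IntermediateField k F :=
      (adjoin (algebraicClosure k F) ({x} : Set F)).restrictScalars k
    have hle : adjoin k ({x} : Set F) ≤ E := by
      rw [adjoin_simple_le_iff]
      change x ∈ adjoin (algebraicClosure k F) ({x} : Set F)
      exact mem_adjoin_simple_self _ _
    exact hle a.2
  · intro y hy
    have h1 : IsAlgebraic k y := hy.restrictScalars k
    exact ⟨⟨y, mem_algebraicClosure_iff.mpr h1⟩, rfl⟩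

end field

section noeth

variable {K : Type u} [Field K] {X : Scheme.{u}} [IsIntegral X]
  (c : X ⟶ Spec (CommRingCat.of K)) [LocallyOfFiniteType c]

include c

theorem isLocallyNoetherian_of_lft : IsLocallyNoetherian X :=
  LocallyOfFiniteType.isLocallyNoetherian c

theorem isNoetherianRing_stalk (x : X) : IsNoetherianRing (X.presheaf.stalk x) := by
  have := isLocallyNoetherian_of_lft c
  infer_instance

/-- local rings of an integral scheme locally of finite type over a field have finite
normalization. -/
theorem finite_integralClosure_stalk (x : X) :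
    Module.Finite (X.presheaf.stalk x) (integralClosure (X.presheaf.stalk x) X.functionField) := by
  obtain ⟨U, hU, hxU, -⟩ := exists_isAffineOpen_mem_and_subset (x := x) (U := ⊤) trivial
  let : Algebra Γ(X, U) (X.presheaf.stalk x) :=
    TopCat.Presheaf.algebra_section_stalk X.presheaf ⟨x, hxU⟩
  have : IsLocalization.AtPrime (X.presheaf.stalk x) (hU.primeIdealOf ⟨x, hxU⟩).asIdeal :=
    hU.isLocalization_stalk ⟨x, hxU⟩
  have : Nonempty U := ⟨⟨x, hxU⟩⟩
  have : IsDomain Γ(X, U) := IsIntegral.component_integral (X := X) U
  have : IsFractionRing Γ(X, U) X.functionField :=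
    functionField_isFractionRing_of_isAffineOpen X U hU
  have : IsScalarTower Γ(X, U) (X.presheaf.stalk x) X.functionField :=
    functionField_isScalarTower X U ⟨x, hxU⟩
  let : Algebra K Γ(X, U) :=
    ((c.appLE ⊤ U le_top).hom.comp
      (Scheme.ΓSpecIso (CommRingCat.of K)).inv.hom).toAlgebra
  have : Algebra.FiniteType K Γ(X, U) := by
    have h := LocallyOfFiniteType.finiteType_appLE (f := c)
      (isAffineOpen_top _) hU le_top
    have h2 : ((c.appLE ⊤ U le_top).hom.comp
        (Scheme.ΓSpecIso (CommRingCat.of K)).inv.hom).FiniteType :=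
      h.comp (RingHom.FiniteType.of_surjective _
        (ConcreteCategory.bijective_of_isIso (Scheme.ΓSpecIso (CommRingCat.of K)).inv).2)
    exact h2
  have h0 : Module.Finite Γ(X, U) (integralClosure Γ(X, U) X.functionField) :=
    Groth.Agent.Lib.Helper48.finite_integralClosure_of_finiteType_field K Γ(X, U)
      X.functionField X.functionField
  exact Groth.Agent.Lib.Helper48.finite_integralClosure_of_isLocalization
    (hU.primeIdealOf ⟨x, hxU⟩).asIdeal.primeCompl (X.presheaf.stalk x) X.functionField h0

end noeth

section dim

variable {X : Scheme.{u}} [IsIntegral X]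

theorem ringKrullDim_stalk_le (x : X) :
    ringKrullDim (X.presheaf.stalk x) ≤ topologicalKrullDim X := by
  rw [ringKrullDim_stalk_eq_coheight,
    ← Order.coheight_orderIso (irreducibleSetEquivPoints (α := X)).symm x]
  exact Order.coheight_le_krullDim _

theorem ne_genericPoint_of_isClosed (hdim : topologicalKrullDim X = 1) (x : X)
    (hx : IsClosed ({x} : Set X)) : x ≠ genericPoint X := by
  rintro rfl
  apply not_subsingleton_of_dim_eq_one hdim
  have h1 : closure ({genericPoint X} : Set X) = Set.univ := (genericPoint_spec X).def
  rw [hx.closure_eq] at h1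
  refine ⟨fun a b => ?_⟩
  have ha : a ∈ ({genericPoint X} : Set X) := h1 ▸ Set.mem_univ a
  have hb : b ∈ ({genericPoint X} : Set X) := h1 ▸ Set.mem_univ b
  rw [Set.mem_singleton_iff.mp ha, Set.mem_singleton_iff.mp hb]

theorem isClosed_singleton_of_ne (hdim : topologicalKrullDim X = 1) (x : X)
    (hx : x ≠ genericPoint X) : IsClosed ({x} : Set X) := by
  apply isClosed_singleton_of_not_dense hdim.le
  intro hcl
  apply hx
  have h1 : IsGenericPoint x Set.univ := hcl
  exact (h1.eq (genericPoint_spec X))

/-- if the local ring at `x` is a field then `x` is the generic point. -/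
theorem eq_genericPoint_of_isField (x : X) (h : IsField (X.presheaf.stalk x)) :
    x = genericPoint X := by
  let := h.toField
  have hsub : Subsingleton (Spec (X.presheaf.stalk x)) :=
    inferInstanceAs (Subsingleton (PrimeSpectrum (X.presheaf.stalk x)))
  have h1 : x ∈ Set.range (X.fromSpecStalk x) := by
    rw [Scheme.range_fromSpecStalk]; exact specializes_rfl
  have h2 : genericPoint X ∈ Set.range (X.fromSpecStalk x) := by
    rw [Scheme.range_fromSpecStalk]; exact (genericPoint_spec X).specializes trivial
  obtain ⟨a, ha⟩ := h1
  obtain ⟨b, hb⟩ := h2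
  rw [← ha, ← hb, Subsingleton.elim a b]

theorem ringKrullDim_stalk_eq_one (hdim : topologicalKrullDim X = 1) (x : X)
    (hx : x ≠ genericPoint X) : ringKrullDim (X.presheaf.stalk x) = 1 := by
  apply le_antisymm
  · rw [← hdim]; exact ringKrullDim_stalk_le x
  · by_contra hlt
    push Not at hlt
    have h0 : ringKrullDim (X.presheaf.stalk x) ≤ 0 := by
      generalize ringKrullDim (X.presheaf.stalk x) = d at hlt
      induction d using WithBot.recBotCoe with
      | bot => exact bot_le
      | coe n =>
        have h' : ((n : ℕ∞) : WithBot ℕ∞) < ((1 : ℕ∞) : WithBot ℕ∞) := by exact_mod_cast hlt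
        rw [WithBot.coe_lt_coe, Order.lt_one_iff] at h'
        subst h'
        exact le_rfl
    have hk : Ring.KrullDimLE 0 (X.presheaf.stalk x) := Ring.krullDimLE_iff.mpr h0
    exact hx (eq_genericPoint_of_isField x Ring.KrullDimLE.isField_of_isDomain)

end dim

section scheme

variable (K : Type u) [Field K] {X : Scheme.{u}} [IsIntegral X]
  [X.Over (Spec (CommRingCat.of K))]

/-- the `K`-algebra structure on the local rings of a `K`-scheme. -/
@[instance_reducible] noncomputable def algSt (x : X) : Algebra K (X.presheaf.stalk x) :=
  (stalkHom (X ↘ Spec (CommRingCat.of K)) x).toAlgebra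

attribute [local instance] algSt

theorem algebraMap_algSt (x : X) (a : K) :
    algebraMap K (X.presheaf.stalk x) a = stalkHom (X ↘ Spec (CommRingCat.of K)) x a := rfl

theorem towerSt (x : X) : IsScalarTower K (X.presheaf.stalk x) X.functionField := by
  apply IsScalarTower.of_algebraMap_eq
  intro a
  have h := stalkSpecializes_comp_stalkHom (X ↘ Spec (CommRingCat.of K))
    ((genericPoint_spec X).specializes (Set.mem_univ x))
  exact (DFunLike.congr_fun h a).symm

attribute [local instance] towerSt

/-- the residue degree is the degree of the residue field over `K`. -/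
theorem residueDegree_eq (x : X) :
    (X ↘ Spec (CommRingCat.of K)).residueDegree x =
      Module.finrank K (ResidueField (X.presheaf.stalk x)) := by
  have h1 := finrank_strHom (X ↘ Spec (CommRingCat.of K)) x
  have h2 : EGA4loc.residueDegree (X ↘ Spec (CommRingCat.of K)) x =
      (X ↘ Spec (CommRingCat.of K)).residueDegree x := rfl
  rw [← h2, ← h1]
  have h3 : (strHom (X ↘ Spec (CommRingCat.of K)) x).toAlgebra =
      (inferInstance : Algebra K (ResidueField (X.presheaf.stalk x))) := by
    apply Algebra.algebra_ext
    intro a
    have h4 := residue_comp_stalkHom (X ↘ Spec (CommRingCat.of K)) x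
    exact (DFunLike.congr_fun h4 a).symm
  rw [h3]
  rfl


theorem isFunctionField_const [LocallyOfFiniteType (X ↘ Spec (CommRingCat.of K))]
    (hdim : topologicalKrullDim X = 1) :
    IsFunctionField (algebraicClosure K X.functionField) X.functionField := by
  obtain ⟨x, hx, hfin⟩ := exists_transcendental_finite (X ↘ Spec (CommRingCat.of K)) hdim
  exact isFunctionField_algebraicClosure' x hx (hfin x hx)

section centre

variable (P : Place K X.functionField)

theorem const_mem_O (a : K) :
    stalkHom (X ↘ Spec (CommRingCat.of K)) (genericPoint X) a ∈ P.O := P.2.1 a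

/-- existence of the centre of a place on a universally closed `K`-scheme. -/
theorem exists_dom (hex : ValuativeCriterion.Existence (X ↘ Spec (CommRingCat.of K))) :
    ∃ x : X, Dom (X.presheaf.stalk x) P := by
  obtain ⟨x, φ, hloc, hφ⟩ := exists_center (X ↘ Spec (CommRingCat.of K)) P.O
    (const_mem_O K P) hex
  refine ⟨x, fun s => ?_, fun s hs => ?_⟩
  · rw [← hφ s]; exact (φ s).2
  · rw [← hφ s]
    have hm : φ s ∈ maximalIdeal P.O := by
      rw [mem_maximalIdeal, mem_nonunits_iff] at hs ⊢
      intro hu
      exact hs (isUnit_of_map_unit φ s hu)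
    exact (Valuation.mem_maximalIdeal_iff (v := P.1)).mp hm

variable {P}

/-- the homomorphism from a dominated local ring to the valuation ring of the place. -/
noncomputable def domHom (x : X) (h : Dom (X.presheaf.stalk x) P) : X.presheaf.stalk x →+* P.O :=
  (algebraMap (X.presheaf.stalk x) X.functionField).codRestrict P.O h.1

theorem isLocalHom_domHom (x : X) (h : Dom (X.presheaf.stalk x) P) :
    IsLocalHom (domHom K x h) := by
  constructor
  intro s hu
  by_contra hs
  have hs' : s ∈ maximalIdeal (X.presheaf.stalk x) := (mem_maximalIdeal s).mpr hs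
  have h1 := h.2 s hs'
  have h2 : domHom K x h s ∈ maximalIdeal P.O := (Valuation.mem_maximalIdeal_iff (v := P.1)).mpr h1
  exact ((mem_maximalIdeal _).mp h2) hu

/-- the morphism `Spec O_P → X` of a dominated point. -/
noncomputable def domTo (x : X) (h : Dom (X.presheaf.stalk x) P) :
    Spec (CommRingCat.of P.O) ⟶ X :=
  Spec.map (CommRingCat.ofHom (domHom K x h)) ≫ X.fromSpecStalk x

theorem domTo_closedPoint (x : X) (h : Dom (X.presheaf.stalk x) P) :
    domTo K x h (closedPoint P.O) = x := by
  have := isLocalHom_domHom K x h
  have : IsLocalHom (CommRingCat.ofHom (domHom K x h)).hom := this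
  unfold domTo
  have h1 : Spec.map (CommRingCat.ofHom (domHom K x h)) (closedPoint P.O) =
      closedPoint (X.presheaf.stalk x) :=
    Spec_closedPoint (R := X.presheaf.stalk x) (S := CommRingCat.of P.O)
      (f := CommRingCat.ofHom (domHom K x h))
  change X.fromSpecStalk x (Spec.map (CommRingCat.ofHom (domHom K x h)) (closedPoint P.O)) = x
  rw [h1, Scheme.fromSpecStalk_closedPoint]

/-- the lift of the valuative square given by a dominated point. -/
noncomputable def domLift (x : X) (h : Dom (X.presheaf.stalk x) P) :
    (valSq (X ↘ Spec (CommRingCat.of K)) P.O (const_mem_O K P)).commSq.LiftStruct where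
  l := domTo K x h
  fac_left := by
    have hsp : genericPoint X ⤳ x := (genericPoint_spec X).specializes trivial
    have h1 : CommRingCat.ofHom (domHom K x h) ≫
        CommRingCat.ofHom (algebraMap P.O X.functionField) = X.presheaf.stalkSpecializes hsp := rfl
    show Spec.map (CommRingCat.ofHom (algebraMap P.O X.functionField)) ≫ domTo K x h =
      X.fromSpecStalk (genericPoint X)
    unfold domTo
    rw [← Spec.map_comp_assoc, h1, Scheme.SpecMap_stalkSpecializes_fromSpecStalk]
  fac_right := by
    show domTo K x h ≫ (X ↘ Spec (CommRingCat.of K)) =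
      Spec.map (CommRingCat.ofHom (toV (X ↘ Spec (CommRingCat.of K)) P.O (const_mem_O K P)))
    unfold domTo
    rw [Category.assoc, ← specMap_stalkHom, ← Spec.map_comp]
    congr 1
    ext a
    have hsp : genericPoint X ⤳ x := (genericPoint_spec X).specializes trivial
    have := congrArg (fun ψ => ψ a)
      (stalkSpecializes_comp_stalkHom (X ↘ Spec (CommRingCat.of K)) hsp)
    exact this

/-- uniqueness of the centre of a place on a separated `K`-scheme. -/
theorem dom_unique (huniq : ValuativeCriterion.Uniqueness (X ↘ Spec (CommRingCat.of K)))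
    (x y : X) (hx : Dom (X.presheaf.stalk x) P) (hy : Dom (X.presheaf.stalk y) P) : x = y := by
  have hsub := huniq (valSq (X ↘ Spec (CommRingCat.of K)) P.O (const_mem_O K P))
  have h1 : domLift K x hx = domLift K y hy := Subsingleton.elim _ _
  have h2 : domTo K x hx = domTo K y hy := congrArg CommSq.LiftStruct.l h1
  rw [← domTo_closedPoint K x hx, h2, domTo_closedPoint]

/-- a point whose local ring is dominated by a place is not the generic point. -/
theorem ne_genericPoint_of_dom (x : X) (hx : Dom (X.presheaf.stalk x) P) :
    x ≠ genericPoint X := by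
  rintro rfl
  apply place_O_ne_top P
  rw [eq_top_iff]
  intro a _
  have h1 := hx.1 a
  have h2 : (X.presheaf.stalkSpecializes
      ((genericPoint_spec X).specializes (Set.mem_univ (genericPoint X)))).hom a = a := by
    have : X.presheaf.stalkSpecializes (specializes_refl (genericPoint X)) = 𝟙 _ :=
      TopCat.Presheaf.stalkSpecializes_refl _ _
    exact congrArg (fun ψ => ψ.hom a) this
  exact (congrArg (fun z => P.1 z ≤ 1) h2).mp h1

end centre

end scheme

end Groth.Agent.Lib.Helper71.PDeg
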