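import Mathlib
import Groth.Prelude.Def_Tame
import Groth.Agent.Lib.Helper71.PDegE

set_option autoImplicit false
set_option linter.unusedSectionVars false
universe u

namespace Groth.Agent.Lib.Helper71.PDeg

open CategoryTheory AlgebraicGeometry FunFld IsLocalRing
open Groth.Agent.FF Groth.Agent.FF.Ext

section global

variable {k F : Type u} [Field k] [Field F] [Algebra k F]

/-- places over `k` and over the field of constants. -/
def placeEquiv (k F : Type u) [Field k] [Field F] [Algebra k F] :
    Place k F ≃ Place (algebraicClosure k F) F where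
  toFun := placeUp
  invFun := placeDown
  left_inv := placeDown_placeUp
  right_inv := placeUp_placeDown

theorem finite_support_deg_ord (hK : IsFunctionField (algebraicClosure k F) F) (f : F) :
    (Function.support fun P : Place k F => (P.deg : ℤ) * P.ord f).Finite := by
  have h1 := finite_support_ord hK f
  have h2 : (Function.support fun P : Place k F => (P.deg : ℤ) * P.ord f) ⊆
      (placeEquiv k F) ⁻¹' (Function.support fun P : Place (algebraicClosure k F) F => P.ord f) := by
    intro P hP
    rw [Function.mem_support] at hP
    rw [Set.mem_preimage, Function.mem_support]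
    intro h0
    apply hP
    have : P.ord f = 0 := h0
    rw [this, mul_zero]
  exact (h1.preimage ((placeEquiv k F).injective.injOn)).subset h2

/-- the degree of a principal divisor is zero, as a sum over the places over any base field. -/
theorem finsum_deg_ord_eq_zero (hK : IsFunctionField (algebraicClosure k F) F) (f : F) :
    ∑ᶠ P : Place k F, (P.deg : ℤ) * P.ord f = 0 := by
  have h1 : ∀ P : Place k F, (P.deg : ℤ) * P.ord f =
      (fun Q : Place (algebraicClosure k F) F =>
        (Module.finrank k (algebraicClosure k F) : ℤ) * ((Q.deg : ℤ) * Q.ord f))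
        (placeEquiv k F P) := by
    intro P
    show (P.deg : ℤ) * P.ord f = (Module.finrank k (algebraicClosure k F) : ℤ) *
      (((placeUp P).deg : ℤ) * (placeUp P).ord f)
    rw [deg_eq_mul_deg_placeUp P, placeUp_ord]
    push_cast
    ring
  rw [finsum_congr h1, finsum_comp_equiv (placeEquiv k F)
    (f := fun Q : Place (algebraicClosure k F) F =>
      (Module.finrank k (algebraicClosure k F) : ℤ) * ((Q.deg : ℤ) * Q.ord f))]
  have hsupp : (Function.support fun Q : Place (algebraicClosure k F) F =>
      (Q.deg : ℤ) * Q.ord f) ⊆ ((FunFld.div (algebraicClosure k F) f).support : Set _) := by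
    intro Q hQ
    rw [Function.mem_support] at hQ
    rw [Finset.mem_coe, Finsupp.mem_support_iff, div_apply hK]
    intro h0
    apply hQ
    rw [h0, mul_zero]
  rw [← mul_finsum, finsum_eq_sum_of_support_subset _ hsupp]
  have h2 := deg_div_eq_zero hK f
  unfold Divisor.deg Finsupp.sum at h2
  have h3 : ∑ Q ∈ (FunFld.div (algebraicClosure k F) f).support, (Q.deg : ℤ) * Q.ord f =
      ∑ Q ∈ (FunFld.div (algebraicClosure k F) f).support,
        (FunFld.div (algebraicClosure k F) f) Q * (Q.deg : ℤ) := by
    apply Finset.sum_congr rfl
    intro Q _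
    rw [div_apply hK, mul_comm]
  rw [h3, h2, mul_zero]

end global

section comb

open Classical in
/-- fibrewise decomposition of a finite sum. -/
theorem finsum_fiber {α β : Type*} (ctr : β → α) (p : α → Prop) (h : β → ℤ)
    (hfin : (Function.support h).Finite) (hp : ∀ b, p (ctr b)) :
    ∑ᶠ (a : α) (_ : p a), ∑ᶠ (b : β) (_ : ctr b = a), h b = ∑ᶠ b, h b := by
  set S := hfin.toFinset with hS
  have hsub : Function.support h ⊆ (S : Set β) := by
    intro b hb
    rw [hS, Set.Finite.coe_toFinset]
    exact hb
  have hinner : ∀ a, ∑ᶠ (b : β) (_ : ctr b = a), h b = ∑ b ∈ S with ctr b = a, h b := by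
    intro a
    have h1 : ∀ b, (∑ᶠ (_ : ctr b = a), h b) = if ctr b = a then h b else 0 := by
      intro b
      exact finsum_eq_if
    rw [finsum_congr h1, Finset.sum_filter]
    apply finsum_eq_sum_of_support_subset
    intro b hb
    rw [Function.mem_support] at hb
    apply hsub
    rw [Function.mem_support]
    intro h0
    apply hb
    rw [h0]
    split_ifs <;> rfl
  have houter : ∀ a, (∑ᶠ (_ : p a), ∑ᶠ (b : β) (_ : ctr b = a), h b) =
      if a ∈ S.image ctr then ∑ b ∈ S with ctr b = a, h b else 0 := by
    intro a
    by_cases ha : a ∈ S.image ctr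
    · rw [if_pos ha]
      obtain ⟨b, _, rfl⟩ := Finset.mem_image.mp ha
      rw [finsum_eq_if, if_pos (hp b), hinner]
    · rw [if_neg ha]
      have h0 : ∑ b ∈ S with ctr b = a, h b = 0 := by
        apply Finset.sum_eq_zero
        intro b hb
        rw [Finset.mem_filter] at hb
        exact absurd (Finset.mem_image.mpr ⟨b, hb.1, hb.2⟩) ha
      rw [finsum_eq_if, hinner, h0]
      split_ifs <;> rfl
  rw [finsum_congr houter, finsum_eq_sum_of_support_subset h hsub]
  rw [finsum_eq_sum_of_support_subset (s := S.image ctr)]
  · rw [Finset.sum_congr rfl (fun a ha => if_pos ha)]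
    exact Finset.sum_fiberwise_of_maps_to (fun b hb => Finset.mem_image_of_mem ctr hb) h
  · intro a ha
    rw [Function.mem_support] at ha
    by_contra hna
    exact ha (if_neg hna)

end comb

section main

open Groth.Agent.Lib.Helper67 Groth.Agent.Lib.Helper67.CurveFF

attribute [local instance] algSt towerSt

/-- the degree of a principal divisor on a proper integral curve over a field is zero. -/
theorem degree_principal_eq_zero (K : Type u) [Field K] (X : Scheme.{u}) [IsIntegral X]
    (c : X ⟶ Spec (CommRingCat.of K)) [IsProper c] (hdim : topologicalKrullDim X = 1)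
    (f : X.functionField) (hf : f ≠ 0) :
    ∑ᶠ (x : X) (_ : IsClosed ({x} : Set X)),
      (c.residueDegree x : ℤ) * CycAlg.ordFrac (X.presheaf.stalk x) X.functionField f = 0 := by
  let _ : X.Over (Spec (CommRingCat.of K)) := ⟨c⟩
  have hlft : LocallyOfFiniteType (X ↘ Spec (CommRingCat.of K)) :=
    (inferInstance : LocallyOfFiniteType c)
  have hN : ∀ x : X, IsNoetherianRing (X.presheaf.stalk x) := isNoetherianRing_stalk c
  have hfinIC : ∀ x : X, Module.Finite (X.presheaf.stalk x)
      (integralClosure (X.presheaf.stalk x) X.functionField) := finite_integralClosure_stalk c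
  have hex : ValuativeCriterion.Existence (X ↘ Spec (CommRingCat.of K)) :=
    (UniversallyClosed.eq_valuativeCriterion ▸ (inferInstance : UniversallyClosed c)).1
  have huniq : ValuativeCriterion.Uniqueness (X ↘ Spec (CommRingCat.of K)) :=
    IsSeparated.valuativeCriterion c
  have hK := isFunctionField_const K (X := X) hdim
  -- the centre of a place
  choose ctr hctr using fun P : Place K X.functionField => exists_dom K P hex
  have hctr_closed : ∀ P, IsClosed ({ctr P} : Set X) := fun P =>
    isClosed_singleton_of_ne hdim _ (ne_genericPoint_of_dom K _ (hctr P))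
  have hdom_iff : ∀ (x : X) (P : Place K X.functionField),
      Dom (X.presheaf.stalk x) P ↔ ctr P = x := by
    intro x P
    constructor
    · intro hx
      exact dom_unique K huniq _ _ (hctr P) hx
    · rintro rfl
      exact hctr P
  -- the local terms
  have hterm : ∀ x : X, (∑ᶠ (_ : IsClosed ({x} : Set X)),
      (c.residueDegree x : ℤ) * CycAlg.ordFrac (X.presheaf.stalk x) X.functionField f) =
      ∑ᶠ (_ : IsClosed ({x} : Set X)), ∑ᶠ (P : Place K X.functionField) (_ : ctr P = x),
        (P.deg : ℤ) * P.ord f := by
    intro x
    apply finsum_congr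
    intro hx
    have hne := ne_genericPoint_of_isClosed hdim x hx
    have hd := ringKrullDim_stalk_eq_one hdim x hne
    have h1 : c.residueDegree x = Module.finrank K (ResidueField (X.presheaf.stalk x)) :=
      residueDegree_eq K x
    rw [h1, sum_formula (K := K) (X.presheaf.stalk x) hd f hf]
    apply finsum_congr
    intro P
    exact finsum_congr_Prop (propext (hdom_iff x P)) (fun _ => rfl)
  rw [finsum_congr hterm]
  rw [finsum_fiber ctr (fun x => IsClosed ({x} : Set X))
    (fun P : Place K X.functionField => (P.deg : ℤ) * P.ord f)
    (finite_support_deg_ord hK f) hctr_closed]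
  exact finsum_deg_ord_eq_zero hK f

end main

end Groth.Agent.Lib.Helper71.PDeg
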