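import Mathlib
import Groth.Prelude.Def_Cyc
import Groth.Agent.Lib.Helper71.GenFibC
import Groth.Agent.Lib.Helper71.PDegF
import Groth.Agent.Lib.Helper85.IntMult.NormPush

set_option autoImplicit false
set_option linter.unusedSectionVars false
set_option linter.unusedVariables false
set_option linter.style.haveILetI false
universe u

namespace Groth.Agent.Lib.Helper71.GenFib

open CategoryTheory AlgebraicGeometry IsLocalRing
open Groth.Agent.Lib.Helper74 Groth.Agent.Lib.Helper85.NormPush

section ordfield

variable (R : Type u) [CommRing R] [IsDomain R] [IsNoetherianRing R] [Ring.KrullDimLE 1 R]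
  (K K' : Type u) [Field K] [Field K'] [Algebra R K] [Algebra R K'] [IsFractionRing R K]
  [IsFractionRing R K']

theorem ordFracInt_zero : CycAlg.ordFrac R K (0 : K) = 0 := by
  rw [ordFracInt_eq, map_zero]
  rfl

/-- the order does not depend on the model of the fraction field. -/
theorem ordFrac_map_field (e : K →+* K') (he : ∀ r, e (algebraMap R K r) = algebraMap R K' r)
    (g : K) : CycAlg.ordFrac R K' (e g) = CycAlg.ordFrac R K g := by
  by_cases hg : g = 0
  · subst hg
    rw [map_zero, ordFracInt_zero, ordFracInt_zero]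
  obtain ⟨a, b, hb, rfl⟩ := IsFractionRing.div_surjective (A := R) g
  have hb0 : b ≠ 0 := nonZeroDivisors.ne_zero hb
  have ha0 : a ≠ 0 := by
    rintro rfl
    rw [map_zero, zero_div] at hg
    exact hg rfl
  have haK : algebraMap R K a ≠ 0 := by
    rw [Ne, map_eq_zero_iff _ (IsFractionRing.injective R K)]; exact ha0
  have hbK : algebraMap R K b ≠ 0 := by
    rw [Ne, map_eq_zero_iff _ (IsFractionRing.injective R K)]; exact hb0
  have haK' : algebraMap R K' a ≠ 0 := by
    rw [Ne, map_eq_zero_iff _ (IsFractionRing.injective R K')]; exact ha0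
  have hbK' : algebraMap R K' b ≠ 0 := by
    rw [Ne, map_eq_zero_iff _ (IsFractionRing.injective R K')]; exact hb0
  rw [map_div₀, he, he, div_eq_mul_inv, div_eq_mul_inv,
    ordFracInt_mul R K' haK' (inv_ne_zero hbK'), ordFracInt_inv R K' hbK',
    ordFracInt_mul R K haK (inv_ne_zero hbK), ordFracInt_inv R K hbK,
    ordFracInt_algebraMap R K' ha0, ordFracInt_algebraMap R K' hb0,
    ordFracInt_algebraMap R K ha0, ordFracInt_algebraMap R K hb0]

end ordfield

section generic

variable {Z : Scheme.{u}} [IsIntegral Z] [IsLocallyNoetherian Z]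

/-- the order along the generic specialization in terms of the function field. -/
theorem ordAt_generic_eq_ordFrac (δ : Z → ℤ) (hdim : Cyc.IsDimFun Z δ) (z : Z)
    (h : genericPoint Z ⤳ z) (h1 : δ z + 1 = δ (genericPoint Z)) (w : Z.functionField) :
    Cyc.ordAt z (genericPoint Z) h ((Z.residue (genericPoint Z)).hom w) =
      CycAlg.ordFrac (Z.presheaf.stalk z) Z.functionField w := by
  rw [ordAt_eq_ordFrac_generic δ hdim z (genericPoint Z) rfl h h1]
  letI aK := (Cyc.specMap z (genericPoint Z) h).toAlgebra
  haveI frK := isFractionRing_specMap_generic z (genericPoint Z) rfl h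
  have hd1 : ringKrullDim (Z.presheaf.stalk z) = 1 :=
    ringKrullDim_stalk_generic δ hdim z (genericPoint Z) rfl h h1
  haveI : Ring.KrullDimLE 1 (Z.presheaf.stalk z) := by
    rw [Ring.krullDimLE_iff, hd1]
    rfl
  exact ordFrac_map_field (Z.presheaf.stalk z) Z.functionField (Z.residueField (genericPoint Z))
    (Z.residue (genericPoint Z)).hom (fun r => rfl) w

end generic

section key

variable {X Y : Scheme.{u}} [IsIntegral X] [IsIntegral Y] (δX : X → ℤ) (δY : Y → ℤ)
  (hX : Cyc.IsSetup X δX) (p : X ⟶ Y) [IsProper p]
  (hδ : Cyc.DeltaCompat p δX δY)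

include hX hδ in
open Classical in
/-- the contribution of the generic fibre to the push-forward of a principal divisor vanishes. -/
theorem finsum_generic_fibre_eq_zero (z₀ : p.fiber (genericPoint Y))
    (hz₀ : p.fiberι (genericPoint Y) z₀ = genericPoint X)
    (hn : δX (p.fiberι (genericPoint Y) z₀) = δY (genericPoint Y) + 1)
    (f : X.residueField (p.fiberι (genericPoint Y) z₀)) (hf : f ≠ 0) :
    ∑ᶠ x ∈ p ⁻¹' {genericPoint Y}, Cyc.divFun δX (p.fiberι (genericPoint Y) z₀) f x *
      ((AlgebraicCycle.mapCoeff p δX δY x : ℕ) : ℤ) = 0 := by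
  have hint : IsIntegral (p.fiber (genericPoint Y)) := isIntegral_fiber p z₀ hz₀
  have hgen := genericPoint_fiber p z₀ hz₀
  subst hgen
  have hXN : IsLocallyNoetherian X := hX.1
  have hdimX : Cyc.IsDimFun X δX := hX.2.2
  have hlft := locallyOfFiniteType_fiber p (genericPoint Y)
  have hprop := isProper_fiber p (genericPoint Y)
  have hNη : IsLocallyNoetherian (p.fiber (genericPoint Y)) :=
    LocallyOfFiniteType.isLocallyNoetherian (p.fiberToSpecResidueField (genericPoint Y))
  have hdimη := isDimFun_fiber p δX hdimX
  -- the dimension of the generic fibre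
  have hpgen : p (genericPoint X) = genericPoint Y := by
    rw [← hz₀]; exact map_fiberι p _
  obtain ⟨n, hn1, hn2⟩ := hδ (genericPoint X)
  have hn' : n = 1 := by
    rw [hpgen] at hn2
    rw [← hz₀, hn] at hn2
    omega
  have hdimtop : topologicalKrullDim (p.fiber (genericPoint Y)) = 1 := by
    have h := topologicalKrullDim_fiber p _ hz₀ n hn1
    rw [h, hn']
    rfl
  -- reindexing by the points of the fibre
  rw [← p.range_fiberι (genericPoint Y), finsum_mem_range (fiberι_injective p)]
  -- the rational function on the fibre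
  obtain ⟨w, hw⟩ := Scheme.residue_surjective (p.fiber (genericPoint Y)) (genericPoint _)
    (((p.fiberι (genericPoint Y)).residueFieldMap (genericPoint _)).hom f)
  have hw0 : w ≠ 0 := by
    rintro rfl
    rw [map_zero] at hw
    exact hf ((map_eq_zero _).mp hw.symm)
  have hterm : ∀ z : p.fiber (genericPoint Y),
      Cyc.divFun δX (p.fiberι (genericPoint Y) (genericPoint _)) f (p.fiberι (genericPoint Y) z) *
        ((AlgebraicCycle.mapCoeff p δX δY (p.fiberι (genericPoint Y) z) : ℕ) : ℤ) =
      ∑ᶠ (_ : IsClosed ({z} : Set (p.fiber (genericPoint Y)))),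
        (((p.fiberToSpecResidueField (genericPoint Y)).residueDegree z : ℕ) : ℤ) *
          CycAlg.ordFrac ((p.fiber (genericPoint Y)).presheaf.stalk z)
            (p.fiber (genericPoint Y)).functionField w := by
    intro z
    by_cases hz : z = genericPoint (p.fiber (genericPoint Y))
    · subst hz
      have h1 : Cyc.divFun δX (p.fiberι (genericPoint Y) (genericPoint _)) f
          (p.fiberι (genericPoint Y) (genericPoint _)) = 0 := by
        unfold Cyc.divFun
        rw [dif_neg]
        rintro ⟨-, h2⟩
        omega
      rw [h1, zero_mul, finsum_eq_if, if_neg]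
      intro hcl
      exact PDeg.ne_genericPoint_of_isClosed hdimtop _ hcl rfl
    · have hcl : IsClosed ({z} : Set (p.fiber (genericPoint Y))) :=
        PDeg.isClosed_singleton_of_ne hdimtop z hz
      have hsp : genericPoint (p.fiber (genericPoint Y)) ⤳ z := genericPoint_specializes z
      have hspX := hsp.map (p.fiberι (genericPoint Y)).continuous
      have hneX : p.fiberι (genericPoint Y) (genericPoint _) ≠ p.fiberι (genericPoint Y) z :=
        fun h => hz (fiberι_injective p h).symm
      obtain ⟨hlt, -⟩ := hdimX _ _ hspX hneX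
      obtain ⟨m, -, hm2⟩ := hδ (p.fiberι (genericPoint Y) z)
      have hpz : p (p.fiberι (genericPoint Y) z) = genericPoint Y := map_fiberι p z
      rw [hpz] at hm2
      have hδz : δX (p.fiberι (genericPoint Y) z) = δY (genericPoint Y) := by omega
      have h1 : δX (p.fiberι (genericPoint Y) z) + 1 =
          δX (p.fiberι (genericPoint Y) (genericPoint _)) := by omega
      have hmc : AlgebraicCycle.mapCoeff p δX δY (p.fiberι (genericPoint Y) z) =
          p.residueDegree (p.fiberι (genericPoint Y) z) := by
        unfold AlgebraicCycle.mapCoeff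
        rw [if_pos]
        rw [hpz]
        exact hδz
      have hrd := residueDegree_fiber p (genericPoint Y) z _ rfl
      have hdf := divFun_fiber p δX hdimX (genericPoint _) z f
      have hdf2 : Cyc.divFun (fun z => δX (p.fiberι (genericPoint Y) z)) (genericPoint _)
          (((p.fiberι (genericPoint Y)).residueFieldMap (genericPoint _)).hom f) z =
          Cyc.ordAt z (genericPoint _) hsp
            (((p.fiberι (genericPoint Y)).residueFieldMap (genericPoint _)).hom f) := by
        unfold Cyc.divFun
        rw [dif_pos ⟨hsp, h1⟩]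
      have hord := ordAt_generic_eq_ordFrac (fun z => δX (p.fiberι (genericPoint Y) z)) hdimη z
        hsp h1 w
      rw [hw] at hord
      rw [finsum_eq_if, if_pos hcl, ← hdf, hdf2, hord, hmc, hrd]
      ring
  rw [finsum_congr hterm]
  exact PDeg.degree_principal_eq_zero (Y.residueField (genericPoint Y)) (p.fiber (genericPoint Y))
    (p.fiberToSpecResidueField (genericPoint Y)) hdimtop w hw0

include hX hδ in
open Classical in
/-- all coefficients of the push-forward of a principal divisor vanish when the dimension drops. -/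
theorem finsum_fibre_divFun_eq_zero (hY : Cyc.IsSetup Y δY)
    (hdom : p (genericPoint X) = genericPoint Y)
    (hn : δX (genericPoint X) ≠ δY (genericPoint Y)) (f : X.residueField (genericPoint X))
    (hf : f ≠ 0) (y : Y) :
    ∑ᶠ x ∈ p ⁻¹' {y}, Cyc.divFun δX (genericPoint X) f x *
      ((AlgebraicCycle.mapCoeff p δX δY x : ℕ) : ℤ) = 0 := by
  by_cases hcase : y = genericPoint Y ∧ δX (genericPoint X) = δY (genericPoint Y) + 1
  · obtain ⟨rfl, hn1⟩ := hcase
    have hmem : genericPoint X ∈ Set.range (p.fiberι (genericPoint Y)) := by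
      rw [p.range_fiberι]; exact hdom
    obtain ⟨z₀, hz₀⟩ := hmem
    have key : ∀ (ξ : X) (_ : p.fiberι (genericPoint Y) z₀ = ξ) (f : X.residueField ξ), f ≠ 0 →
        δX ξ = δY (genericPoint Y) + 1 → ξ = genericPoint X →
        ∑ᶠ x ∈ p ⁻¹' {genericPoint Y}, Cyc.divFun δX ξ f x *
          ((AlgebraicCycle.mapCoeff p δX δY x : ℕ) : ℤ) = 0 := by
      rintro ξ rfl f hf hn hgen
      exact finsum_generic_fibre_eq_zero δX δY hX p hδ z₀ hgen hn f hf
    exact key (genericPoint X) hz₀ f hf hn1 rfl
  · apply finsum_mem_eq_zero_of_forall_eq_zero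
    intro x hx
    by_contra hne
    have hd : Cyc.divFun δX (genericPoint X) f x ≠ 0 := left_ne_zero_of_mul hne
    have hm : ((AlgebraicCycle.mapCoeff p δX δY x : ℕ) : ℤ) ≠ 0 := right_ne_zero_of_mul hne
    have hcond : genericPoint X ⤳ x ∧ δX x + 1 = δX (genericPoint X) := by
      by_contra hc
      apply hd
      unfold Cyc.divFun
      rw [dif_neg hc]
    have hc2 : δX x = δY (p x) := by
      by_contra hc
      apply hm
      unfold AlgebraicCycle.mapCoeff
      rw [if_neg hc]
      rfl
    have hpx : p x = y := hx
    rw [hpx] at hc2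
    obtain ⟨n, -, hn2⟩ := hδ (genericPoint X)
    rw [hdom] at hn2
    apply hcase
    by_cases hy : y = genericPoint Y
    · refine ⟨hy, ?_⟩
      subst hy
      omega
    · exfalso
      obtain ⟨hlt, -⟩ := hY.2.2 (genericPoint Y) y (genericPoint_specializes y) (Ne.symm hy)
      omega

end key

end Groth.Agent.Lib.Helper71.GenFib
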