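import Mathlib

/-!
# Finitely generated ℕ-graded algebras are eventually generated in a fixed degree

For a commutative ℕ-graded `R`-algebra `A = ⨁ 𝒜 i` of finite type over `𝒜 0`:

* `exists_homogeneous_generators`: finitely many homogeneous generators of positive degree;
* `exists_eventually_mul`: there are `q > 0` and `N` with `𝒜 (D + q) ≤ 𝒜 q * 𝒜 D` for `D ≥ N`;
* `eventually_mul_iter`: the iterated form.
-/

set_option autoImplicit false

namespace Groth.Agent.Lib.Helper71

open DirectSum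

section
variable {R A : Type*} [CommRing R] [CommRing A] [Algebra R A]
  (𝒜 : ℕ → Submodule R A) [GradedAlgebra 𝒜]

theorem graded_mul_le (i j : ℕ) : 𝒜 i * 𝒜 j ≤ 𝒜 (i + j) :=
  Submodule.mul_le.2 (fun _ hx _ hy => SetLike.mul_mem_graded hx hy)

theorem graded_pow_le (i n : ℕ) : 𝒜 i ^ n ≤ 𝒜 (n * i) := by
  induction n with
  | zero =>
    rw [pow_zero, zero_mul, Submodule.one_le]
    exact SetLike.GradedOne.one_mem
  | succ n ih =>
    rw [pow_succ, Nat.succ_mul]
    exact (mul_le_mul' ih le_rfl).trans (graded_mul_le 𝒜 _ _)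

theorem exists_homogeneous_generators [Algebra.FiniteType (𝒜 0) A] :
    ∃ T : Finset A, (∀ x ∈ T, ∃ i, 0 < i ∧ x ∈ 𝒜 i) ∧
      Algebra.adjoin (𝒜 0) (T : Set A) = ⊤ := by
  classical
  obtain ⟨s, hs⟩ := (Algebra.FiniteType.out : (⊤ : Subalgebra (𝒜 0) A).FG)
  refine ⟨s.biUnion (fun x => ((decompose 𝒜 x).support.filter (fun i => 0 < i)).image
      (fun i => (decompose 𝒜 x i : A))), ?_, ?_⟩
  · intro y hy
    simp only [Finset.mem_biUnion, Finset.mem_image, Finset.mem_filter] at hy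
    obtain ⟨x, _, i, ⟨_, hi⟩, rfl⟩ := hy
    exact ⟨i, hi, (decompose 𝒜 x i).2⟩
  · rw [eq_top_iff, ← hs]
    refine Algebra.adjoin_le (fun x hx => ?_)
    rw [← DirectSum.sum_support_decompose 𝒜 x]
    refine Subalgebra.sum_mem _ (fun i hi => ?_)
    rcases Nat.eq_zero_or_pos i with rfl | hpos
    · exact Subalgebra.algebraMap_mem _ (decompose 𝒜 x 0)
    · refine Algebra.subset_adjoin ?_
      simp only [Finset.coe_biUnion, Finset.coe_image, Set.mem_iUnion, Set.mem_image,
        Finset.mem_coe, Finset.mem_filter]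
      exact ⟨x, hx, i, ⟨hi, hpos⟩, rfl⟩

theorem exists_eventually_mul [Algebra.FiniteType (𝒜 0) A] :
    ∃ q N : ℕ, 0 < q ∧ ∀ D, N ≤ D → 𝒜 (D + q) ≤ 𝒜 q * 𝒜 D := by
  classical
  obtain ⟨T, hT, hgen⟩ := exists_homogeneous_generators 𝒜
  choose! d hd using hT
  have hqpos : 0 < ∏ x ∈ T, d x := Finset.prod_pos (fun x hx => (hd x hx).1)
  have hde : ∀ x ∈ T, ((∏ x ∈ T, d x) / d x) * d x = ∏ x ∈ T, d x :=
    fun x hx => Nat.div_mul_cancel (Finset.dvd_prod_of_mem d hx)
  refine ⟨∏ x ∈ T, d x, ∑ x ∈ T, ((∏ x ∈ T, d x) / d x) * d x, hqpos, fun D hD y hy => ?_⟩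
  generalize hq : ∏ x ∈ T, d x = q at *
  have hy' : y ∈ Submodule.span (𝒜 0) (Submonoid.closure (T : Set A) : Set A) := by
    rw [← Algebra.adjoin_eq_span, hgen]; trivial
  suffices h : (decompose 𝒜 y (D + q) : A) ∈ 𝒜 q * 𝒜 D by
    rwa [DirectSum.decompose_of_mem_same 𝒜 hy] at h
  clear hy
  induction hy' using Submodule.span_induction with
  | mem u hu =>
    obtain ⟨a, -, rfl⟩ := Submonoid.mem_closure_finset.1 hu
    have hdeg : ∏ x ∈ T, x ^ a x ∈ 𝒜 (∑ x ∈ T, a x * d x) :=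
      SetLike.prod_mem_graded _ _ _ (fun x hx => by
        have := SetLike.pow_mem_graded (a x) (hd x hx).2
        rwa [smul_eq_mul] at this)
    by_cases hD' : ∑ x ∈ T, a x * d x = D + q
    · have hex : ∃ x ∈ T, q / d x ≤ a x := by
        by_contra hcon
        push Not at hcon
        have : ∑ x ∈ T, a x * d x ≤ ∑ x ∈ T, (q / d x) * d x :=
          Finset.sum_le_sum (fun x hx => Nat.mul_le_mul_right _ (hcon x hx).le)
        omega
      obtain ⟨x, hxT, hx⟩ := hex
      rw [DirectSum.decompose_of_mem_same 𝒜 (hD' ▸ hdeg), ← Finset.mul_prod_erase T _ hxT]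
      have hsplit : x ^ a x = x ^ (q / d x) * x ^ (a x - q / d x) := by
        rw [← pow_add]; congr 1; omega
      rw [hsplit, mul_assoc]
      refine Submodule.mul_mem_mul ?_ ?_
      · have := SetLike.pow_mem_graded (q / d x) (hd x hxT).2
        rwa [smul_eq_mul, hde x hxT] at this
      · have h1 : x ^ (a x - q / d x) * ∏ y ∈ T.erase x, y ^ a y ∈
            𝒜 ((a x - q / d x) * d x + ∑ y ∈ T.erase x, a y * d y) :=
          SetLike.mul_mem_graded
            (by have := SetLike.pow_mem_graded (a x - q / d x) (hd x hxT).2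
                rwa [smul_eq_mul] at this)
            (SetLike.prod_mem_graded _ _ _ (fun y hy => by
              have := SetLike.pow_mem_graded (a y) (hd y (Finset.mem_of_mem_erase hy)).2
              rwa [smul_eq_mul] at this))
        have h2 : (a x - q / d x) * d x + ∑ y ∈ T.erase x, a y * d y = D := by
          have e1 := Finset.add_sum_erase T (fun y => a y * d y) hxT
          have e2 : a x * d x = (q / d x) * d x + (a x - q / d x) * d x := by
            rw [← add_mul]; congr 1; omega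
          have e3 := hde x hxT
          omega
        rwa [h2] at h1
    · rw [DirectSum.decompose_of_mem_ne 𝒜 hdeg hD']
      exact Submodule.zero_mem _
  | zero => simp
  | add a b _ _ ha hb =>
    rw [decompose_add, DirectSum.add_apply, Submodule.coe_add]
    exact add_mem ha hb
  | smul c a _ ha =>
    have hc : c • a = (c : A) * a := rfl
    rw [hc, coe_decompose_mul_of_left_mem_zero 𝒜 c.2]
    have h1 : (c : A) * (decompose 𝒜 a (D + q) : A) ∈ 𝒜 0 * (𝒜 q * 𝒜 D) :=
      Submodule.mul_mem_mul c.2 ha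
    rw [mul_left_comm] at h1
    have h2 : 𝒜 q * (𝒜 0 * 𝒜 D) ≤ 𝒜 q * 𝒜 D :=
      mul_le_mul' le_rfl (by simpa using graded_mul_le 𝒜 0 D)
    exact h2 h1

omit [GradedAlgebra 𝒜] in
theorem eventually_mul_iter {q N : ℕ} (hcore : ∀ D, N ≤ D → 𝒜 (D + q) ≤ 𝒜 q * 𝒜 D)
    (k D : ℕ) (hD : N ≤ D) : 𝒜 (D + k * q) ≤ 𝒜 q ^ k * 𝒜 D := by
  induction k with
  | zero => simp
  | succ k ih =>
    calc 𝒜 (D + (k + 1) * q) = 𝒜 ((D + k * q) + q) := by congr 1; ring
      _ ≤ 𝒜 q * 𝒜 (D + k * q) := hcore _ (le_trans hD (Nat.le_add_right _ _))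
      _ ≤ 𝒜 q * (𝒜 q ^ k * 𝒜 D) := mul_le_mul' le_rfl ih
      _ = 𝒜 q ^ (k + 1) * 𝒜 D := by rw [pow_succ', mul_assoc]

end

end Groth.Agent.Lib.Helper71
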