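import Mathlib

/-!
# Localization of a site at a subterminal object: `j_!` is fully faithful

For an object `U` of a site `(C, J)` such that every object has at most one morphism to `U`,
the forgetful functor `Over U ⥤ C` is fully faithful, and the unit of the adjunction
`j_! ⊣ j^*` (`Functor.sheafAdjunctionContinuous`) is an isomorphism.
-/

set_option autoImplicit false
universe v u
open CategoryTheory CategoryTheory.Limits Opposite

namespace Groth.Agent.Lib.Helper71

section
variable {C : Type u} [Category.{v} C] (J : GrothendieckTopology C) (U : C)
    (hU : ∀ V : C, Subsingleton (V ⟶ U))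

include hU in
lemma full_forget_of_subterminal : (Over.forget U).Full where
  map_surjective {_ _} f := ⟨Over.homMk f (Subsingleton.elim _ _), rfl⟩

include hU in
theorem isIso_unit_sheafAdjunctionContinuous_of_subterminal
    (A : Type*) [Category A]
    [∀ F : (Over U)ᵒᵖ ⥤ A, (Over.forget U).op.HasPointwiseRightKanExtension F]
    [((Over.forget U).sheafPushforwardContinuous A (J.over U) J).IsRightAdjoint] :
    IsIso ((Over.forget U).sheafAdjunctionContinuous A (J.over U) J).unit := by
  have := full_forget_of_subterminal U hU
  let t : Adjunction.Triple ((Over.forget U).sheafPullback A (J.over U) J)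
      ((Over.forget U).sheafPushforwardContinuous A (J.over U) J)
      ((Over.forget U).sheafPushforwardCocontinuous A (J.over U) J) :=
    ⟨(Over.forget U).sheafAdjunctionContinuous A (J.over U) J,
      (Over.forget U).sheafAdjunctionCocontinuous A (J.over U) J⟩
  rw [t.isIso_unit_iff_isIso_counit]
  have h : ∀ F, IsIso (((Over.forget U).sheafAdjunctionCocontinuous A (J.over U) J).counit.app F) := by
    intro F
    have : IsIso ((sheafToPresheaf _ _).map
        (((Over.forget U).sheafAdjunctionCocontinuous A (J.over U) J).counit.app F)) := by
      show IsIso (((Over.forget U).sheafAdjunctionCocontinuous A (J.over U) J).counit.app F).hom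
      rw [Functor.sheafAdjunctionCocontinuous_counit_app_hom]
      rw [Functor.ranAdjunction_counit]
      have h5 : ∀ X, IsIso (((Over.forget U).op.ranCounit.app F.obj).app X) := by
        intro X
        exact ((Over.forget U).op.isPointwiseRightKanExtensionRanCounit F.obj
          ((Over.forget U).op.obj X)).isIso_hom_app
      exact @NatIso.isIso_of_isIso_app _ _ _ _ _ _ _ h5
    exact isIso_of_reflects_iso _ (sheafToPresheaf _ _)
  exact NatIso.isIso_of_isIso_app _

end

end Groth.Agent.Lib.Helper71
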