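import Mathlib
import Groth.Agent.S9456
import Groth.Agent.Lib.Helper71.FlatKer

/-!
# Finitely presented syzygies of flat finitely presented modules (helper71)

* `cancelBaseChange_symm_naturality`, `baseChange_injective_of_flat`: base change along a pushout
  square `B = S ⊗[R] A` preserves injections of `A`-modules with `R`-flat cokernel.
* `exists_fp_syzygy`: for `B` f.p. over `A` and `M` an f.p. `B`-module flat over `A`, there is a
  finite free cover `B^n → M` with finitely presented kernel (EGA IV 11.3.9-style, via a
  Noetherian model from `S9456`).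
* `flat_ker`: the kernel is again `A`-flat.
-/

set_option autoImplicit false
universe u
open TensorProduct

namespace Groth.Agent.Lib.Helper71.PdSyzygy

section pushout

variable (R S A B : Type*) [CommRing R] [CommRing S] [CommRing A] [CommRing B]
  [Algebra R S] [Algebra R A] [Algebra R B] [Algebra A B] [Algebra S B]
  [IsScalarTower R A B] [IsScalarTower R S B]

/-- naturality of `Algebra.IsPushout.cancelBaseChange` -/
theorem cancelBaseChange_symm_naturality [Algebra.IsPushout R S A B] {X Y : Type*} [AddCommGroup X] [Module R X] [Module A X]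
    [IsScalarTower R A X] [AddCommGroup Y] [Module R Y] [Module A Y] [IsScalarTower R A Y]
    (φ : X →ₗ[A] Y) (z : S ⊗[R] X) :
    (Algebra.IsPushout.cancelBaseChange R S A B Y).symm ((φ.restrictScalars R).lTensor S z) =
      φ.baseChange B ((Algebra.IsPushout.cancelBaseChange R S A B X).symm z) := by
  induction z with
  | zero => simp
  | add x y hx hy => simp only [map_add, hx, hy]
  | tmul s x => simp

/-- Base change along a pushout square `B = S ⊗[R] A` of an injection of `A`-modules whose cokernel
is `R`-flat stays injective. -/
theorem baseChange_injective_of_flat [Algebra.IsPushout R S A B] {X Y Z : Type*} [AddCommGroup X] [Module R X] [Module A X]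
    [IsScalarTower R A X] [AddCommGroup Y] [Module R Y] [Module A Y] [IsScalarTower R A Y]
    [AddCommGroup Z] [Module R Z] [Module A Z] [IsScalarTower R A Z] [Module.Flat R Z]
    (i : X →ₗ[A] Y) (π : Y →ₗ[A] Z) (hi : Function.Injective i) (hπ : Function.Surjective π)
    (hex : Function.Exact i π) : Function.Injective (i.baseChange B) := by
  have h1 : Function.Injective ((i.restrictScalars R).lTensor S) :=
    LinearMap.lTensor_injective_of_exact_of_flat (π.restrictScalars R) hπ (i.restrictScalars R) hi
      hex S
  intro a b hab
  obtain ⟨a', rfl⟩ := (Algebra.IsPushout.cancelBaseChange R S A B X).symm.surjective a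
  obtain ⟨b', rfl⟩ := (Algebra.IsPushout.cancelBaseChange R S A B X).symm.surjective b
  rw [← cancelBaseChange_symm_naturality, ← cancelBaseChange_symm_naturality] at hab
  rw [h1 ((Algebra.IsPushout.cancelBaseChange R S A B Y).symm.injective hab)]

end pushout

section basechange_exact

variable {B : Type*} [CommRing B] (T : Type*) [CommRing T] [Algebra B T]
  {X Y Z : Type*} [AddCommGroup X] [Module B X] [AddCommGroup Y] [Module B Y]
  [AddCommGroup Z] [Module B Z]

theorem baseChange_exact (i : X →ₗ[B] Y) (π : Y →ₗ[B] Z) (hπ : Function.Surjective π)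
    (hex : Function.Exact i π) : Function.Exact (i.baseChange T) (π.baseChange T) := by
  have := lTensor_exact T hex hπ
  intro y
  exact this y

theorem baseChange_surjective (π : Y →ₗ[B] Z) (hπ : Function.Surjective π) :
    Function.Surjective (π.baseChange T) :=
  LinearMap.lTensor_surjective T hπ

end basechange_exact

/-- **Finitely presented syzygies.** If `B` is a finitely presented `A`-algebra and `M` is a finitely
presented `B`-module flat over `A`, then `M` has a finite free cover whose kernel is again finitely
presented. -/
theorem exists_fp_syzygy (A B M : Type u) [CommRing A] [CommRing B] [Algebra A B]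
    [Algebra.FinitePresentation A B] [AddCommGroup M] [Module B M] [Module A M]
    [IsScalarTower A B M] [Module.FinitePresentation B M] [Module.Flat A M] :
    ∃ (n : ℕ) (π : (Fin n → B) →ₗ[B] M), Function.Surjective π ∧
      Module.FinitePresentation B (LinearMap.ker π) := by
  obtain ⟨R₀, _, _, S₀, _, _, _, _, _, _, M₀, _, _, _, _, _, _, f, hR₀, hS₀, hM₀fin, hM₀flat,
    hpo, hbc⟩ := Groth.Agent.S9456.result A B M
  have hZS₀ : Algebra.FiniteType ℤ S₀ := Algebra.FiniteType.trans hR₀ hS₀
  have hnoeth : IsNoetherianRing S₀ := Algebra.FiniteType.isNoetherianRing ℤ S₀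
  obtain ⟨n, g₀, hg₀⟩ := Module.Finite.exists_fin' S₀ M₀
  have hK₀fin : Module.Finite S₀ (LinearMap.ker g₀) := inferInstance
  have hK₀fp : Module.FinitePresentation S₀ (LinearMap.ker g₀) :=
    Module.finitePresentation_of_finite S₀ _
  have hinj : Function.Injective ((LinearMap.ker g₀).subtype.baseChange B) :=
    baseChange_injective_of_flat R₀ A S₀ B (LinearMap.ker g₀).subtype g₀
      Subtype.val_injective hg₀ (LinearMap.exact_subtype_ker_map g₀)
  have hex := baseChange_exact B (LinearMap.ker g₀).subtype g₀ hg₀
    (LinearMap.exact_subtype_ker_map g₀)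
  have hsurj := baseChange_surjective B g₀ hg₀
  let e : B ⊗[S₀] (Fin n → S₀) ≃ₗ[B] (Fin n → B) := TensorProduct.piScalarRight S₀ B B (Fin n)
  let π : (Fin n → B) →ₗ[B] M := hbc.equiv.toLinearMap ∘ₗ g₀.baseChange B ∘ₗ e.symm.toLinearMap
  let i : B ⊗[S₀] (LinearMap.ker g₀) →ₗ[B] (Fin n → B) :=
    e.toLinearMap ∘ₗ (LinearMap.ker g₀).subtype.baseChange B
  have hi : Function.Injective i := e.injective.comp hinj
  have hπ : Function.Surjective π :=
    hbc.equiv.surjective.comp (hsurj.comp e.symm.surjective)
  have hrange : LinearMap.range i = LinearMap.ker π := by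
    ext x
    simp only [LinearMap.mem_range, LinearMap.mem_ker, i, π, LinearMap.comp_apply,
      LinearEquiv.coe_coe]
    constructor
    · rintro ⟨y, rfl⟩
      rw [LinearEquiv.symm_apply_apply, hex.apply_apply_eq_zero, map_zero]
    · intro h
      have h2 : g₀.baseChange B (e.symm x) = 0 := hbc.equiv.injective (by rw [h, map_zero])
      obtain ⟨y, hy⟩ := (hex _).mp h2
      exact ⟨y, by rw [hy, LinearEquiv.apply_symm_apply]⟩
  refine ⟨n, π, hπ, ?_⟩
  rw [← hrange]
  exact Module.FinitePresentation.of_equiv (LinearEquiv.ofInjective i hi)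

/-- The kernel of a `B`-linear surjection of `A`-flat modules is `A`-flat (as a `B`-submodule with
its inherited `A`-structure). -/
theorem flat_ker (A : Type*) {B : Type*} [CommRing A] [CommRing B] [Algebra A B] {F M : Type*}
    [AddCommGroup F] [Module B F] [Module A F] [IsScalarTower A B F] [AddCommGroup M] [Module B M]
    [Module A M] [IsScalarTower A B M] [Module.Flat A F] [Module.Flat A M] (π : F →ₗ[B] M)
    (hπ : Function.Surjective π) : Module.Flat A (LinearMap.ker π) := by
  have h := Groth.Agent.Lib.Helper71.flat_ker_of_surjective (π.restrictScalars A) hπ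
  let e : LinearMap.ker (π.restrictScalars A) ≃ₗ[A] LinearMap.ker π :=
    { toFun := fun x => ⟨x.1, x.2⟩
      invFun := fun x => ⟨x.1, x.2⟩
      map_add' := fun _ _ => rfl
      map_smul' := fun _ _ => rfl
      left_inv := fun _ => rfl
      right_inv := fun _ => rfl }
  exact Module.Flat.of_linearEquiv e.symm

end Groth.Agent.Lib.Helper71.PdSyzygy
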