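import Mathlib
import Groth.Agent.Lib.Helper71.PdLocal
import Groth.Agent.H76.FlatLocal
import Groth.Agent.S0387

set_option autoImplicit false
universe u
open TensorProduct IsLocalRing
open scoped Pointwise

namespace Groth.Agent.Lib.Helper71.PdLocSyz

section descent

/-- A finitely presented module over a localization `R = W⁻¹B` is the localization of a finitely
presented `B`-module. -/
theorem exists_fp_descent {B : Type u} [CommRing B] (W : Submonoid B) (R : Type u) [CommRing R]
    [Algebra B R] [IsLocalization W R] (M : Type u) [AddCommGroup M] [Module R M] [Module B M]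
    [IsScalarTower B R M] [Module.FinitePresentation R M] :
    ∃ (M₁ : Type u) (_ : AddCommGroup M₁) (_ : Module B M₁) (f : M₁ →ₗ[B] M),
      Module.FinitePresentation B M₁ ∧ IsLocalizedModule W f := by
  classical
  obtain ⟨n, K, e, hK⟩ := Module.FinitePresentation.exists_fin R M
  obtain ⟨t, rfl⟩ := hK
  let f₀ : (Fin n → B) →ₗ[B] (Fin n → R) := (Algebra.linearMap B R).compLeft (Fin n)
  have hf₀ : IsLocalizedModule W f₀ :=
    (isLocalizedModule_iff_isBaseChange W R f₀).mpr
      (IsBaseChange.finitePow (Fin n) (IsBaseChange.linearMap B R))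
  let t' : Finset (Fin n → B) := IsLocalizedModule.finsetIntegerMultiple W f₀ t
  let N : Submodule B (Fin n → B) := Submodule.span B (t' : Set (Fin n → B))
  have himg : f₀ '' (t' : Set (Fin n → B)) =
      IsLocalizedModule.commonDenomOfFinset W f₀ t • (t : Set (Fin n → R)) :=
    IsLocalizedModule.finsetIntegerMultiple_image W f₀ t
  have hloc : N.localized' R W f₀ = Submodule.span R (t : Set (Fin n → R)) := by
    rw [Submodule.localized'_span, himg]
    set c := IsLocalizedModule.commonDenomOfFinset W f₀ t with hc
    have hcu : IsUnit (algebraMap B R (c : B)) := IsLocalization.map_units R c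
    apply le_antisymm
    · rw [Submodule.span_le]
      rintro _ ⟨v, hv, rfl⟩
      show c • v ∈ _
      rw [Submonoid.smul_def, ← algebraMap_smul R (c : B) v]
      exact Submodule.smul_mem _ _ (Submodule.subset_span hv)
    · rw [Submodule.span_le]
      intro v hv
      have h1 : c • v ∈ Submodule.span R (c • (t : Set (Fin n → R))) :=
        Submodule.subset_span ⟨v, hv, rfl⟩
      have h2 : v = (↑hcu.unit⁻¹ : R) • (c • v) := by
        rw [Submonoid.smul_def, ← algebraMap_smul R (c : B) v, smul_smul,
          IsUnit.val_inv_mul, one_smul]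
      rw [h2]
      exact Submodule.smul_mem _ _ h1
  let q : ((Fin n → B) ⧸ N) →ₗ[B] (Fin n → R) ⧸ N.localized' R W f₀ :=
    N.toLocalizedQuotient' R W f₀
  have hq : IsLocalizedModule W q := inferInstance
  let e₂ : ((Fin n → R) ⧸ N.localized' R W f₀) ≃ₗ[R] M :=
    (Submodule.quotEquivOfEq _ _ hloc).trans e.symm
  refine ⟨(Fin n → B) ⧸ N, inferInstance, inferInstance,
    (e₂.restrictScalars B).toLinearMap ∘ₗ q, ?_, ?_⟩
  · exact Module.finitePresentation_of_surjective N.mkQ N.mkQ_surjective
      (by rw [Submodule.ker_mkQ]; exact ⟨t', rfl⟩)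
  · exact IsLocalizedModule.of_linearEquiv W q (e₂.restrictScalars B)

end descent

section transfer

/-- Transfer of a finite free cover with finitely presented kernel along a localization. -/
theorem exists_syzygy_of_isLocalizedModule {C : Type u} [CommRing C] (W : Submonoid C)
    (R : Type u) [CommRing R] [Algebra C R] [IsLocalization W R]
    {X M : Type u} [AddCommGroup X] [Module C X] [AddCommGroup M] [Module C M] [Module R M]
    [IsScalarTower C R M] (ℓ : X →ₗ[C] M) [IsLocalizedModule W ℓ] {r : ℕ}
    (π₀ : (Fin r → C) →ₗ[C] X) (hπ₀ : Function.Surjective π₀)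
    [Module.FinitePresentation C (LinearMap.ker π₀)] :
    ∃ π : (Fin r → R) →ₗ[R] M, Function.Surjective π ∧
      Module.FinitePresentation R (LinearMap.ker π) := by
  let f₀ : (Fin r → C) →ₗ[C] (Fin r → R) := (Algebra.linearMap C R).compLeft (Fin r)
  have hf₀ : IsLocalizedModule W f₀ :=
    (isLocalizedModule_iff_isBaseChange W R f₀).mpr
      (IsBaseChange.finitePow (Fin r) (IsBaseChange.linearMap C R))
  refine ⟨(IsLocalizedModule.map W f₀ ℓ π₀).extendScalarsOfIsLocalization W R, ?_, ?_⟩
  · exact IsLocalizedModule.map_surjective W f₀ ℓ π₀ hπ₀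
  · rw [← LinearMap.localized'_ker_eq_ker_localizedMap R W f₀ ℓ π₀]
    have h1 : IsLocalizedModule W ((LinearMap.ker π₀).toLocalized' R W f₀) := inferInstance
    exact FinitePresentation.of_isBaseChange ((LinearMap.ker π₀).toLocalized' R W f₀)
      ((isLocalizedModule_iff_isBaseChange W R _).mp h1)

end transfer

section basic_open

/-- If a module is flat over `A` at all points of a basic open `D(g)`, its localization at `g`
is flat over `A`. -/
theorem flat_localized_powers (A : Type*) {B M : Type*} [CommRing A] [CommRing B] [Algebra A B]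
    [AddCommGroup M] [Module A M] [Module B M] [IsScalarTower A B M] (g : B)
    (h : ∀ q : PrimeSpectrum B, g ∉ q.asIdeal →
      Module.Flat A (LocalizedModule q.asIdeal.primeCompl M)) :
    Module.Flat A (LocalizedModule (Submonoid.powers g) M) := by
  rw [Groth.Agent.H76.FlatLocal.flat_localized_iff]
  intro I hI z hz
  have hrad : g ∈ (Ideal.torsionOf B (M ⊗[A] I) z).radical := by
    rw [Ideal.radical_eq_sInf, Submodule.mem_sInf]
    rintro q ⟨hle, hq⟩
    by_contra hg
    have hqp : Ideal.IsPrime (q : Ideal B) := hq
    have := h ⟨q, hqp⟩ hg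
    obtain ⟨w, hw, hwz⟩ := Groth.Agent.H76.FlatLocal.exists_smul_eq_zero_of_flat
      (R := A) (M := M) (Ideal.primeCompl q) I.subtype Subtype.val_injective z hz
    exact hw (hle ((Ideal.mem_torsionOf_iff _ _).mpr hwz))
  obtain ⟨k, hk⟩ := hrad
  exact ⟨g ^ k, ⟨k, rfl⟩, (Ideal.mem_torsionOf_iff _ _).mp hk⟩

end basic_open

section main

/-- Local rings of finitely presented `A`-algebras have finitely presented syzygies for finitely
presented `A`-flat modules. -/
theorem hasFPSyzygies_atPrime (A : Type u) {B : Type u} [CommRing A] [CommRing B] [Algebra A B]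
    [Algebra.FinitePresentation A B] (P : Ideal B) [P.IsPrime] (R : Type u) [CommRing R]
    [Algebra B R] [Algebra A R] [IsScalarTower A B R] [IsLocalization.AtPrime R P] :
    PdLocal.HasFPSyzygies A R := by
  intro M _ _ _ _ _ _
  let _ : Module B M := Module.compHom M (algebraMap B R)
  have hBRM : IsScalarTower B R M := IsScalarTower.of_algebraMap_smul (fun _ _ => rfl)
  have hABM : IsScalarTower A B M := ⟨fun a b m => by
    show algebraMap B R (a • b) • m = a • (algebraMap B R b • m)
    rw [Algebra.smul_def, map_mul, ← IsScalarTower.algebraMap_apply, mul_smul, algebraMap_smul]⟩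
  obtain ⟨M₁, _, _, f, hfp, hloc⟩ := exists_fp_descent P.primeCompl R M
  let _ : Module A M₁ := Module.compHom M₁ (algebraMap A B)
  have hABM₁ : IsScalarTower A B M₁ := IsScalarTower.of_algebraMap_smul (fun _ _ => rfl)
  -- flat at `P`
  have hflatP : Module.Flat A (LocalizedModule P.primeCompl M₁) :=
    Module.Flat.of_linearEquiv ((IsLocalizedModule.iso P.primeCompl f).restrictScalars A)
  -- open flat locus
  have hopen := Groth.Agent.S0387.result (R := A) (S := B) (M := M₁)
  obtain ⟨v, ⟨g, rfl⟩, hPg, hsub⟩ :=
    PrimeSpectrum.isTopologicalBasis_basic_opens.exists_subset_of_mem_open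
      (show (⟨P, inferInstance⟩ : PrimeSpectrum B) ∈ _ from hflatP) hopen
  have hgP : g ∉ P := hPg
  have hflatg : Module.Flat A (LocalizedModule (Submonoid.powers g) M₁) :=
    flat_localized_powers A g (fun q hq => hsub hq)
  -- the basic open `D(g)`
  have hle : Submonoid.powers g ≤ P.primeCompl := Submonoid.powers_le.mpr hgP
  have hCfp' : Algebra.FinitePresentation B (Localization.Away g) :=
    IsLocalization.Away.finitePresentation g
  have hCfp : Algebra.FinitePresentation A (Localization.Away g) :=
    Algebra.FinitePresentation.trans A B (Localization.Away g)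
  obtain ⟨r, π₀, hπ₀, hK₀⟩ := PdSyzygy.exists_fp_syzygy A (Localization.Away g)
    (LocalizedModule (Submonoid.powers g) M₁)
  -- `R` as an algebra over `C = B_g`
  let _ : Algebra (Localization.Away g) R :=
    IsLocalization.localizationAlgebraOfSubmonoidLe (Localization.Away g) R
      (Submonoid.powers g) P.primeCompl hle
  have hBCR : IsScalarTower B (Localization.Away g) R :=
    IsLocalization.localization_isScalarTower_of_submonoid_le (Localization.Away g) R
      (Submonoid.powers g) P.primeCompl hle
  have hlocCR : IsLocalization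
      (Algebra.algebraMapSubmonoid (Localization.Away g) P.primeCompl) R :=
    IsLocalization.isLocalization_of_submonoid_le (Localization.Away g) R
      (Submonoid.powers g) P.primeCompl hle
  let _ : Module (Localization.Away g) M := Module.compHom M (algebraMap (Localization.Away g) R)
  have hCRM : IsScalarTower (Localization.Away g) R M :=
    IsScalarTower.of_algebraMap_smul (fun _ _ => rfl)
  have hBCM : IsScalarTower B (Localization.Away g) M := ⟨fun b c m => by
    show algebraMap (Localization.Away g) R (b • c) • m =
      b • (algebraMap (Localization.Away g) R c • m)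
    rw [Algebra.smul_def, map_mul, ← IsScalarTower.algebraMap_apply, mul_smul, algebraMap_smul]⟩
  let ℓ₀ : LocalizedModule (Submonoid.powers g) M₁ →ₗ[B] M :=
    IsLocalizedModule.liftOfLE (Submonoid.powers g) P.primeCompl hle
      (LocalizedModule.mkLinearMap (Submonoid.powers g) M₁) f
  have hℓ₀ : IsLocalizedModule P.primeCompl ℓ₀ := inferInstance
  let ℓ : LocalizedModule (Submonoid.powers g) M₁ →ₗ[Localization.Away g] M :=
    ℓ₀.extendScalarsOfIsLocalization (Submonoid.powers g) (Localization.Away g)
  have hℓ' : IsLocalizedModule P.primeCompl (ℓ.restrictScalars B) := hℓ₀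
  have hℓ : IsLocalizedModule
      (Algebra.algebraMapSubmonoid (Localization.Away g) P.primeCompl) ℓ :=
    IsLocalizedModule.of_restrictScalars P.primeCompl ℓ
  obtain ⟨π, hπ, hK⟩ := exists_syzygy_of_isLocalizedModule
    (Algebra.algebraMapSubmonoid (Localization.Away g) P.primeCompl) R ℓ π₀ hπ₀
  exact ⟨r, π, hπ, hK⟩

end main

end Groth.Agent.Lib.Helper71.PdLocSyz
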