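import Mathlib
import Groth.Agent.Lib.Helper71.PdSyzygy
import Groth.Agent.Lib.Helper63.TorBridge
import Groth.Agent.Lib.Helper82.RegTor

/-!
# Projective dimension equals Tor-dimension for flat finitely presented modules (helper71)

`B` a finitely presented flat `A`-algebra, `M` a finitely presented `B`-module flat over `A`.
* `hasProjectiveDimensionLE_iff_TD`: `pd_B M ≤ n ↔ Tor-dim_B M ≤ n` (induction on `n` using
  `PdSyzygy.exists_fp_syzygy`).
* `projectiveDimension_eq_torDimension`: the resulting equality in `WithBot ℕ∞`.
The `TD` lemmas are copied from `Lib/Helper35/TorDim` (to keep the import closure light).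
-/

set_option autoImplicit false
universe u
open CategoryTheory CategoryTheory.Limits MonoidalCategory TensorProduct

namespace Groth.Agent.Lib.Helper71.PdTor

section TD

variable {R : Type u} [CommRing R]

/-- `Tor_p(M, N)` for objects. -/
noncomputable abbrev TorZ (p : ℕ) (M N : ModuleCat.{u} R) : ModuleCat.{u} R :=
  ((Tor (ModuleCat.{u} R) p).obj M).obj N

/-- tor dimension `≤ n`, for objects (copied from `Lib/Helper35/TorDim`, to keep imports light). -/
def TD (n : ℕ) (M : ModuleCat.{u} R) : Prop :=
  ∀ (N : ModuleCat.{u} R) (p : ℕ), n < p → IsZero (TorZ p M N)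

theorem TD_zero_of_flat (M : ModuleCat.{u} R) [Module.Flat R M] : TD 0 M := by
  intro N p hp
  obtain ⟨q, rfl⟩ : ∃ q, p = q + 1 := ⟨p - 1, by omega⟩
  exact Groth.Agent.Lib.Helper82.RegTor.isZero_T_of_flat M N q

theorem flat_of_TD_zero (M : ModuleCat.{u} R) (h : TD 0 M) : Module.Flat R M := by
  rw [Module.Flat.iff_lTensor_injective']
  intro I
  have hproj : Projective (Groth.Agent.Lib.Helper63.quotSC (R := R) (N := R) I).X₂ :=
    (IsProjective.iff_projective (R := R) R).mp inferInstance
  have := (Groth.Agent.Lib.Helper63.tor_one_isZero_iff M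
    (Groth.Agent.Lib.Helper63.quotSC (R := R) (N := R) I)
    (Groth.Agent.Lib.Helper63.quotSC_shortExact I)).1 (h _ 1 (by omega))
  exact this

theorem TD_zero_iff_flat (M : ModuleCat.{u} R) : TD 0 M ↔ Module.Flat R M :=
  ⟨flat_of_TD_zero M, fun _ => TD_zero_of_flat M⟩

/-- Dimension shifting in the first variable. -/
theorem TD_succ_iff (S : ShortComplex (ModuleCat.{u} R)) (hS : S.ShortExact)
    [Module.Flat R S.X₂] (d : ℕ) : TD (d + 1) S.X₃ ↔ TD d S.X₁ := by
  have key : ∀ (N : ModuleCat.{u} R) (q : ℕ), 1 ≤ q →
      (IsZero (TorZ (q + 1) S.X₃ N) ↔ IsZero (TorZ q S.X₁ N)) := by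
    intro N q hq
    obtain ⟨-, δ, w₁, w₂, h₁, h₂⟩ := Groth.Agent.Lib.Helper73.tor_les_first hS N q
    have hz1 : IsZero (TorZ (q + 1) S.X₂ N) := TD_zero_of_flat S.X₂ N (q + 1) (by omega)
    have hz2 : IsZero (TorZ q S.X₂ N) := TD_zero_of_flat S.X₂ N q (by omega)
    have hmono : Mono δ := h₁.mono_g (hz1.eq_of_src _ _)
    have hepi : Epi δ := h₂.epi_f (hz2.eq_of_tgt _ _)
    constructor
    · intro h
      exact IsZero.of_epi_eq_zero δ (h.eq_of_src _ _)
    · intro h
      exact IsZero.of_mono_eq_zero δ (h.eq_of_tgt _ _)
  constructor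
  · intro h N p hp
    exact (key N p (by omega)).1 (h N (p + 1) (by omega))
  · intro h N p hp
    obtain ⟨q, rfl⟩ : ∃ q, p = q + 1 := ⟨p - 1, by omega⟩
    exact (key N q (by omega)).2 (h N q (by omega))

/-- `Tor_0(M, R)` vanishes only if `M` does. -/
theorem subsingleton_of_isZero_torZero (M : ModuleCat.{u} R)
    (h : IsZero (TorZ 0 M (ModuleCat.of R R))) : Subsingleton M := by
  have h1 : Subsingleton (Groth.Agent.Lib.Helper73.TorFirstVar.T 0 M (ModuleCat.of R R)) :=
    ModuleCat.subsingleton_of_isZero h
  have e := Groth.Agent.Lib.Helper82.RegTor.torZeroEquiv M (ModuleCat.of R R)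
  have h2 : Subsingleton (M ⊗[R] R) := e.symm.toEquiv.subsingleton
  exact (TensorProduct.rid R M).symm.toEquiv.subsingleton

/-- `Tor_0(M, N)` vanishes if `M` does. -/
theorem isZero_torZero_of_subsingleton (M N : ModuleCat.{u} R) [Subsingleton M] :
    IsZero (TorZ 0 M N) := by
  have e := Groth.Agent.Lib.Helper82.RegTor.torZeroEquiv M N
  have h2 : Subsingleton (M ⊗[R] N) := inferInstance
  have : Subsingleton (TorZ 0 M N) := e.toEquiv.subsingleton
  exact ModuleCat.isZero_of_subsingleton _

end TD

section main

variable (A B : Type u) [CommRing A] [CommRing B] [Algebra A B]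
  [Algebra.FinitePresentation A B] [Module.Flat A B]

/-- For `M` finitely presented over `B` and flat over `A` (with `B` f.p. flat over `A`):
projective dimension `≤ n` iff Tor-dimension `≤ n`. -/
theorem hasProjectiveDimensionLE_iff_TD (n : ℕ) :
    ∀ (M : Type u) [AddCommGroup M] [Module B M] [Module A M] [IsScalarTower A B M]
      [Module.FinitePresentation B M] [Module.Flat A M],
      HasProjectiveDimensionLE (ModuleCat.of B M) n ↔ TD n (ModuleCat.of B M) := by
  induction n with
  | zero =>
    intro M _ _ _ _ _ _
    rw [← projective_iff_hasProjectiveDimensionLE_zero, ← IsProjective.iff_projective,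
      TD_zero_iff_flat]
    constructor
    · intro h
      exact (inferInstance : Module.Flat B M)
    · intro h
      have : Module.Flat B M := h
      exact Module.Flat.projective_of_finitePresentation
  | succ n ih =>
    intro M _ _ _ _ _ _
    obtain ⟨r, π, hπ, hfp⟩ := PdSyzygy.exists_fp_syzygy A B M
    have hFflat : Module.Flat A (Fin r → B) := Module.Flat.trans A B (Fin r → B)
    have hflat : Module.Flat A (LinearMap.ker π) := PdSyzygy.flat_ker A π hπ
    have hS : (ModuleCat.shortComplexOfCompEqZero (LinearMap.ker π).subtype π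
        (LinearMap.exact_subtype_ker_map π).linearMap_comp_eq_zero).ShortExact :=
      ModuleCat.shortComplex_shortExact _ (LinearMap.exact_subtype_ker_map π)
        Subtype.val_injective hπ
    have hproj : Projective (ModuleCat.of B (Fin r → B)) :=
      (IsProjective.iff_projective (R := B) (Fin r → B)).mp inferInstance
    have h1 := hS.hasProjectiveDimensionLT_X₃_iff n hproj
    have hfl : Module.Flat B (ModuleCat.of B (Fin r → B)) :=
      (inferInstance : Module.Flat B (Fin r → B))
    have h2 := TD_succ_iff _ hS (d := n)
    have h3 := ih (LinearMap.ker π)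
    exact h1.trans (h3.trans h2.symm)

/-- **Projective dimension equals Tor-dimension** for finitely presented `B`-modules flat over `A`,
`B` a finitely presented flat `A`-algebra. -/
theorem projectiveDimension_eq_torDimension (M : Type u) [AddCommGroup M] [Module B M]
    [Module A M] [IsScalarTower A B M] [Module.FinitePresentation B M] [Module.Flat A M] :
    projectiveDimension (ModuleCat.of B M) =
      sInf {n : WithBot ℕ∞ | ∀ i : ℕ, n < i → ∀ N : ModuleCat.{u} B,
        Limits.IsZero (((Tor (ModuleCat.{u} B) i).obj (ModuleCat.of B M)).obj N)} := by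
  unfold projectiveDimension
  congr 1
  ext n
  simp only [Set.mem_ofPred_eq]
  induction n with
  | bot =>
    constructor
    · intro h i _ N
      have h0 : IsZero (ModuleCat.of B M) :=
        (hasProjectiveDimensionLT_zero_iff_isZero _).mp (h 0 (by simp))
      have hsub : Subsingleton (ModuleCat.of B M) := ModuleCat.subsingleton_of_isZero h0
      rcases i with _ | i
      · exact isZero_torZero_of_subsingleton _ N
      · have : Module.Flat B (ModuleCat.of B M) := inferInstance
        exact TD_zero_of_flat (ModuleCat.of B M) N (i + 1) (by omega)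
    · intro h i _
      have hsub : Subsingleton (ModuleCat.of B M) :=
        subsingleton_of_isZero_torZero _ (h 0 (by simp) (ModuleCat.of B B))
      have h0 : IsZero (ModuleCat.of B M) := ModuleCat.isZero_of_subsingleton _
      have := (hasProjectiveDimensionLT_zero_iff_isZero _).mpr h0
      exact hasProjectiveDimensionLT_of_ge _ 0 i (by omega)
  | coe n =>
    induction n with
    | top =>
      constructor
      · intro _ i hi
        exact absurd hi (by simp)
      · intro _ i hi
        exact absurd hi (by simp)
    | coe m =>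
      have hlt : ∀ i : ℕ, (((m : ℕ∞) : WithBot ℕ∞) < (i : WithBot ℕ∞)) ↔ m < i := by
        intro i
        exact_mod_cast Iff.rfl
      constructor
      · intro h i hi N
        have h1 : HasProjectiveDimensionLE (ModuleCat.of B M) m := h (m + 1) (by
          rw [hlt]; omega)
        exact ((hasProjectiveDimensionLE_iff_TD A B m M).mp h1) N i ((hlt i).mp hi)
      · intro h i hi
        have h1 : TD m (ModuleCat.of B M) := fun N p hp => h p ((hlt p).mpr hp) N
        have h2 : HasProjectiveDimensionLE (ModuleCat.of B M) m :=
          (hasProjectiveDimensionLE_iff_TD A B m M).mpr h1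
        exact hasProjectiveDimensionLT_of_ge _ (m + 1) i (by have := (hlt i).mp hi; omega)

end main

end Groth.Agent.Lib.Helper71.PdTor
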