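import Mathlib

/-!
# Perfect rings of characteristic `p` without characteristic type classes (helper71)

`IsPerf p R` : `p = 0` in `R` and `x ↦ x ^ p` is bijective.  Roots, reducedness, quotients by
root-closed ideals, tensor products.
-/

set_option autoImplicit false
set_option linter.unusedSectionVars false
universe u v w
open TensorProduct

namespace Groth.Agent.Lib.Helper71.PerfTor

variable (p : ℕ) [hp : Fact p.Prime]

/-- `R` has `p = 0` and bijective `p`-th power map. -/
structure IsPerf (R : Type*) [CommRing R] : Prop where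
  char : (p : R) = 0
  bij : Function.Bijective (fun r : R => r ^ p)

namespace IsPerf

variable {p} {R : Type*} [CommRing R] (h : IsPerf p R)
include h

theorem add_pow (x y : R) : (x + y) ^ p = x ^ p + y ^ p := by
  obtain ⟨r, hr⟩ := exists_add_pow_prime_eq hp.out x y
  rw [hr, h.char]
  ring

theorem sub_pow (x y : R) : (x - y) ^ p = x ^ p - y ^ p := by
  have := h.add_pow (x - y) y
  rw [sub_add_cancel] at this
  rw [this, add_sub_cancel_right]

theorem eq_zero_of_pow_p (x : R) (hx : x ^ p = 0) : x = 0 := by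
  apply h.bij.1
  change x ^ p = 0 ^ p
  rw [hx, zero_pow hp.out.ne_zero]

theorem eq_zero_of_pow_p_pow (x : R) (n : ℕ) (hx : x ^ (p ^ n) = 0) : x = 0 := by
  induction n generalizing x with
  | zero => simpa using hx
  | succ n ih =>
    apply h.eq_zero_of_pow_p
    apply ih
    rw [← pow_mul, ← pow_succ']
    exact hx

theorem eq_zero_of_pow (x : R) (k : ℕ) (hx : x ^ k = 0) : x = 0 := by
  apply h.eq_zero_of_pow_p_pow x k
  have hk : k ≤ p ^ k := (Nat.lt_pow_self hp.out.one_lt).le
  obtain ⟨d, hd⟩ := Nat.exists_eq_add_of_le hk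
  rw [hd, pow_add, hx, zero_mul]

theorem isReduced : IsReduced R :=
  ⟨fun x ⟨k, hk⟩ => h.eq_zero_of_pow x k hk⟩

/-- The `p`-th root. -/
noncomputable def root (x : R) : R := (Equiv.ofBijective _ h.bij).symm x

@[simp] theorem root_pow (x : R) : (h.root x) ^ p = x :=
  (Equiv.ofBijective _ h.bij).apply_symm_apply x

@[simp] theorem root_pow_self (x : R) : h.root (x ^ p) = x :=
  (Equiv.ofBijective _ h.bij).symm_apply_apply x

theorem root_unique (x y : R) (hxy : y ^ p = x) : h.root x = y := by
  rw [← hxy, root_pow_self]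

theorem root_mul (x y : R) : h.root (x * y) = h.root x * h.root y :=
  h.root_unique _ _ (by rw [mul_pow, root_pow, root_pow])

theorem root_add (x y : R) : h.root (x + y) = h.root x + h.root y :=
  h.root_unique _ _ (by rw [h.add_pow, root_pow, root_pow])

theorem root_zero : h.root 0 = 0 :=
  h.root_unique _ _ (zero_pow hp.out.ne_zero)

end IsPerf

/-- An ideal closed under `p`-th roots. -/
def RootClosed {R : Type*} [CommRing R] (J : Ideal R) : Prop := ∀ x : R, x ^ p ∈ J → x ∈ J

variable {p}

theorem IsPerf.quotient {R : Type*} [CommRing R] (h : IsPerf p R) (J : Ideal R)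
    (hJ : RootClosed p J) : IsPerf p (R ⧸ J) := by
  refine ⟨?_, ?_, ?_⟩
  · rw [← map_natCast (Ideal.Quotient.mk J), h.char, map_zero]
  · intro x y hxy
    obtain ⟨x, rfl⟩ := Ideal.Quotient.mk_surjective x
    obtain ⟨y, rfl⟩ := Ideal.Quotient.mk_surjective y
    simp only [← map_pow] at hxy
    rw [Ideal.Quotient.eq] at hxy ⊢
    rw [← h.sub_pow] at hxy
    exact hJ _ hxy
  · intro x
    obtain ⟨x, rfl⟩ := Ideal.Quotient.mk_surjective x
    exact ⟨Ideal.Quotient.mk J (h.root x), by simp [← map_pow]⟩

theorem rootClosed_ker {R S : Type*} [CommRing R] [CommRing S] (hS : IsPerf p S) (f : R →+* S) :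
    RootClosed p (RingHom.ker f) := by
  intro x hx
  rw [RingHom.mem_ker] at hx ⊢
  rw [map_pow] at hx
  exact hS.eq_zero_of_pow_p _ hx

theorem IsPerf.of_ringEquiv {R S : Type*} [CommRing R] [CommRing S] (h : IsPerf p R)
    (e : R ≃+* S) : IsPerf p S := by
  refine ⟨?_, ?_, ?_⟩
  · rw [← map_natCast e, h.char, map_zero]
  · intro x y hxy
    apply e.symm.injective
    apply h.bij.1
    change (e.symm x) ^ p = (e.symm y) ^ p
    rw [← map_pow, ← map_pow]
    exact congrArg e.symm hxy
  · intro x
    refine ⟨e (h.root (e.symm x)), ?_⟩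
    change (e (h.root (e.symm x))) ^ p = x
    rw [← map_pow, h.root_pow, e.apply_symm_apply]

section tensor

variable {k R S : Type*} [CommRing k] [CommRing R] [CommRing S] [Algebra k R] [Algebra k S]

theorem IsPerf.root_algebraMap (hk : IsPerf p k) (hR : IsPerf p R) (r : k) :
    hR.root (algebraMap k R r) = algebraMap k R (hk.root r) :=
  hR.root_unique _ _ (by rw [← map_pow, hk.root_pow])

theorem IsPerf.root_smul (hk : IsPerf p k) (hR : IsPerf p R) (r : k) (x : R) :
    hR.root (r • x) = hk.root r • hR.root x := by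
  rw [Algebra.smul_def, Algebra.smul_def, hR.root_mul, hk.root_algebraMap hR]

/-- the inverse of Frobenius on a tensor product of perfect algebras -/
noncomputable def tensorRoot (hk : IsPerf p k) (hR : IsPerf p R) (hS : IsPerf p S) :
    R ⊗[k] S →+ R ⊗[k] S :=
  TensorProduct.liftAddHom
    (AddMonoidHom.mk' (fun z : R => AddMonoidHom.mk' (fun c : S => hR.root z ⊗ₜ[k] hS.root c)
      (fun a b => by rw [hS.root_add, tmul_add]))
      (fun a b => by
        ext c
        simp only [AddMonoidHom.mk'_apply, AddMonoidHom.add_apply]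
        rw [hR.root_add, add_tmul]))
    (fun r z c => by
      simp only [AddMonoidHom.mk'_apply]
      rw [hk.root_smul hR, hk.root_smul hS, smul_tmul])

@[simp] theorem tensorRoot_tmul (hk : IsPerf p k) (hR : IsPerf p R) (hS : IsPerf p S) (z : R)
    (c : S) : tensorRoot hk hR hS (z ⊗ₜ[k] c) = hR.root z ⊗ₜ[k] hS.root c := rfl

theorem IsPerf.tensorProduct (hk : IsPerf p k) (hR : IsPerf p R) (hS : IsPerf p S) :
    IsPerf p (R ⊗[k] S) := by
  have hchar : ((p : ℕ) : R ⊗[k] S) = 0 := by
    rw [← map_natCast (algebraMap k (R ⊗[k] S)), hk.char, map_zero]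
  have hadd : ∀ x y : R ⊗[k] S, (x + y) ^ p = x ^ p + y ^ p := by
    intro x y
    obtain ⟨r, hr⟩ := exists_add_pow_prime_eq hp.out x y
    rw [hr, hchar]
    ring
  have h1 : ∀ x : R ⊗[k] S, (tensorRoot hk hR hS x) ^ p = x := by
    intro x
    induction x using TensorProduct.induction_on with
    | zero => rw [map_zero, zero_pow hp.out.ne_zero]
    | tmul z c =>
      rw [tensorRoot_tmul, Algebra.TensorProduct.tmul_pow, hR.root_pow, hS.root_pow]
    | add x y hx hy => rw [map_add, hadd, hx, hy]
  have h2 : ∀ x : R ⊗[k] S, tensorRoot hk hR hS (x ^ p) = x := by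
    intro x
    induction x using TensorProduct.induction_on with
    | zero => rw [zero_pow hp.out.ne_zero, map_zero]
    | tmul z c =>
      rw [Algebra.TensorProduct.tmul_pow, tensorRoot_tmul, hR.root_pow_self, hS.root_pow_self]
    | add x y hx hy => rw [hadd, map_add, hx, hy]
  refine ⟨hchar, ?_, ?_⟩
  · intro x y hxy
    have := congrArg (tensorRoot hk hR hS) hxy
    simpa only [h2] using this
  · intro x
    exact ⟨tensorRoot hk hR hS x, h1 x⟩

end tensor

theorem isPerf_zmod : IsPerf p (ZMod p) := by
  refine ⟨by simp, ?_⟩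
  have : (fun r : ZMod p => r ^ p) = id := by
    ext r
    exact ZMod.pow_card r
  rw [this]
  exact Function.bijective_id

end Groth.Agent.Lib.Helper71.PerfTor
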