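import Mathlib
import Groth.Agent.Lib.Helper15.TorSymm
import Groth.Agent.Lib.Helper63.TorBridge
import Groth.Agent.Lib.Helper82.RegTor
import Groth.Agent.Lib.Helper71.PdFibre

/-!
# A flatness criterion via `Tor` vanishing along an ideal (helper71)

`TZ k X N` : `Tor_k(X, N) = 0` for modules (types).  Basic calculus (dimension shifting in the
first variable, long exact sequences in the second) and vanishing lemmas.
-/

set_option autoImplicit false
universe u
open CategoryTheory CategoryTheory.Limits MonoidalCategory TensorProduct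

namespace Groth.Agent.Lib.Helper71.TorCrit

variable {A : Type u} [CommRing A]

/-- `Tor_k(X, N) = 0`. -/
def TZ (k : ℕ) (X N : Type u) [AddCommGroup X] [Module A X] [AddCommGroup N] [Module A N] : Prop :=
  IsZero (((Tor (ModuleCat.{u} A) k).obj (ModuleCat.of A X)).obj (ModuleCat.of A N))

section basics

variable (X N : Type u) [AddCommGroup X] [Module A X] [AddCommGroup N] [Module A N]

/-- symmetry -/
theorem TZ_symm (k : ℕ) : TZ (A := A) k X N ↔ TZ (A := A) k N X := by
  unfold TZ
  have e := ((Groth.Agent.Lib.Helper15.TorSymm.torSymm (R := A) k).app (ModuleCat.of A X)).app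
    (ModuleCat.of A N)
  exact ⟨fun h => IsZero.of_iso h e.symm, fun h => IsZero.of_iso h e⟩

end basics

section ses

variable {K F X : Type u} [AddCommGroup K] [Module A K] [AddCommGroup F] [Module A F]
  [AddCommGroup X] [Module A X]

/-- The short complex of a pair of composable linear maps. -/
noncomputable abbrev mkSC (i : K →ₗ[A] F) (π : F →ₗ[A] X) (hex : Function.Exact i π) :
    ShortComplex (ModuleCat.{u} A) :=
  ShortComplex.mk (ModuleCat.ofHom i) (ModuleCat.ofHom π) (by
    ext x
    exact hex.apply_apply_eq_zero x)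

theorem mkSC_shortExact (i : K →ₗ[A] F) (π : F →ₗ[A] X) (hex : Function.Exact i π)
    (hi : Function.Injective i) (hπ : Function.Surjective π) : (mkSC i π hex).ShortExact :=
  ModuleCat.shortComplex_shortExact _ hex hi hπ

variable (N : Type u) [AddCommGroup N] [Module A N]

/-- `Tor₁(X, N) = 0` iff `N ⊗ K → N ⊗ F` is injective, for a presentation `0 → K → F → X → 0` with
`F` projective. -/
theorem TZ_one_iff (i : K →ₗ[A] F) (π : F →ₗ[A] X) (hex : Function.Exact i π)
    (hi : Function.Injective i) (hπ : Function.Surjective π) [Module.Projective A F] :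
    TZ (A := A) 1 X N ↔ Function.Injective (i.lTensor N) := by
  rw [TZ_symm]
  have hproj : Projective (mkSC i π hex).X₂ :=
    (IsProjective.iff_projective (R := A) F).mp inferInstance
  exact Groth.Agent.Lib.Helper63.tor_one_isZero_iff (ModuleCat.of A N) (mkSC i π hex)
    (mkSC_shortExact i π hex hi hπ)

/-- Dimension shifting in the first variable. -/
theorem TZ_succ_iff (i : K →ₗ[A] F) (π : F →ₗ[A] X) (hex : Function.Exact i π)
    (hi : Function.Injective i) (hπ : Function.Surjective π) [Module.Flat A F] (q : ℕ)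
    (hq : 1 ≤ q) : TZ (A := A) (q + 1) X N ↔ TZ (A := A) q K N := by
  unfold TZ
  have hS := mkSC_shortExact i π hex hi hπ
  obtain ⟨-, δ, w₁, w₂, h₁, h₂⟩ := Groth.Agent.Lib.Helper73.tor_les_first hS (ModuleCat.of A N) q
  have hflat : Module.Flat A (mkSC i π hex).X₂ := ‹Module.Flat A F›
  have hz1 : IsZero (((Tor (ModuleCat.{u} A) (q + 1)).obj (mkSC i π hex).X₂).obj
      (ModuleCat.of A N)) :=
    Groth.Agent.Lib.Helper82.RegTor.isZero_T_of_flat _ _ q
  have hz2 : IsZero (((Tor (ModuleCat.{u} A) q).obj (mkSC i π hex).X₂).obj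
      (ModuleCat.of A N)) := by
    obtain ⟨q', rfl⟩ : ∃ q', q = q' + 1 := ⟨q - 1, by omega⟩
    exact Groth.Agent.Lib.Helper82.RegTor.isZero_T_of_flat _ _ q'
  have hmono : Mono δ := h₁.mono_g (hz1.eq_of_src _ _)
  have hepi : Epi δ := h₂.epi_f (hz2.eq_of_tgt _ _)
  constructor
  · intro h
    exact IsZero.of_epi_eq_zero δ (h.eq_of_src _ _)
  · intro h
    exact IsZero.of_mono_eq_zero δ (h.eq_of_tgt _ _)

end ses

section les2

variable (X : Type u) [AddCommGroup X] [Module A X]
  {N₁ N₂ N₃ : Type u} [AddCommGroup N₁] [Module A N₁] [AddCommGroup N₂] [Module A N₂]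
  [AddCommGroup N₃] [Module A N₃]

/-- middle term of a short exact sequence (second variable) -/
theorem TZ_mid (i : N₁ →ₗ[A] N₂) (π : N₂ →ₗ[A] N₃) (hex : Function.Exact i π)
    (hi : Function.Injective i) (hπ : Function.Surjective π) (k : ℕ)
    (h1 : TZ (A := A) k X N₁) (h3 : TZ (A := A) k X N₃) : TZ (A := A) k X N₂ := by
  unfold TZ at *
  have hS := mkSC_shortExact i π hex hi hπ
  obtain ⟨⟨w₀, hex'⟩, -⟩ := Groth.Agent.Lib.Helper73.leftDerived_les
    ((tensoringLeft (ModuleCat.{u} A)).obj (ModuleCat.of A X)) hS k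
  exact hex'.isZero_of_both_zeros (h1.eq_of_src _ _) (h3.eq_of_tgt _ _)

/-- left term of a short exact sequence (second variable) -/
theorem TZ_left (i : N₁ →ₗ[A] N₂) (π : N₂ →ₗ[A] N₃) (hex : Function.Exact i π)
    (hi : Function.Injective i) (hπ : Function.Surjective π) (k : ℕ)
    (h2 : TZ (A := A) k X N₂) (h3 : TZ (A := A) (k + 1) X N₃) : TZ (A := A) k X N₁ := by
  unfold TZ at *
  have hS := mkSC_shortExact i π hex hi hπ
  obtain ⟨-, δ, w₁, w₂, ex₁, ex₂⟩ := Groth.Agent.Lib.Helper73.leftDerived_les
    ((tensoringLeft (ModuleCat.{u} A)).obj (ModuleCat.of A X)) hS k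
  exact ex₂.isZero_of_both_zeros (h3.eq_of_src _ _) (h2.eq_of_tgt _ _)

end les2

section canonical

variable (A)

/-- The canonical free cover `A^(X) → X`. -/
noncomputable def pres (X : Type u) [AddCommGroup X] [Module A X] : (X →₀ A) →ₗ[A] X :=
  Finsupp.linearCombination A (id : X → X)

theorem pres_surjective (X : Type u) [AddCommGroup X] [Module A X] :
    Function.Surjective (pres A X) := by
  intro x
  exact ⟨Finsupp.single x 1, by simp [pres]⟩

/-- The first syzygy of `X` (with respect to the canonical free cover). -/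
noncomputable abbrev Syz (X : Type u) [AddCommGroup X] [Module A X] : Submodule A (X →₀ A) :=
  LinearMap.ker (pres A X)

variable {A}

theorem exact_syz (X : Type u) [AddCommGroup X] [Module A X] :
    Function.Exact (Syz A X).subtype (pres A X) :=
  LinearMap.exact_subtype_ker_map _

theorem TZ_one_iff' (X N : Type u) [AddCommGroup X] [Module A X] [AddCommGroup N] [Module A N] :
    TZ (A := A) 1 X N ↔ Function.Injective ((Syz A X).subtype.lTensor N) := by
  have hproj : Module.Projective A (X →₀ A) := inferInstance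
  have h := @TZ_one_iff A _ (Syz A X) (X →₀ A) X _ _ _ _ _ _ N _ _ (Syz A X).subtype (pres A X)
    (exact_syz X) Subtype.val_injective (pres_surjective A X) hproj
  exact h

theorem TZ_succ_iff' (X N : Type u) [AddCommGroup X] [Module A X] [AddCommGroup N] [Module A N]
    (q : ℕ) (hq : 1 ≤ q) : TZ (A := A) (q + 1) X N ↔ TZ (A := A) q (Syz A X) N :=
  TZ_succ_iff (K := Syz A X) (F := X →₀ A) (X := X) N (Syz A X).subtype (pres A X) (exact_syz X)
    Subtype.val_injective (pres_surjective A X) q hq

/-- Dimension-shifting induction principle. -/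
theorem TZ_induction (N : Type u) [AddCommGroup N] [Module A N]
    (P : ℕ → ∀ (X : Type u) [AddCommGroup X] [Module A X], Prop)
    (hbase : ∀ (X : Type u) [AddCommGroup X] [Module A X], P 1 X →
      Function.Injective ((Syz A X).subtype.lTensor N))
    (hstep : ∀ (n : ℕ), 1 ≤ n → ∀ (X : Type u) [AddCommGroup X] [Module A X],
      P (n + 1) X → P n (Syz A X)) :
    ∀ (n : ℕ), 1 ≤ n → ∀ (X : Type u) [AddCommGroup X] [Module A X], P n X →
      TZ (A := A) n X N := by
  intro n hn
  induction n, hn using Nat.le_induction with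
  | base =>
    intro X _ _ hX
    exact (TZ_one_iff' X N).mpr (hbase X hX)
  | succ n hn ih =>
    intro X _ _ hX
    exact (TZ_succ_iff' X N n hn).mpr (ih (Syz A X) (hstep n hn X hX))

end canonical

end Groth.Agent.Lib.Helper71.TorCrit
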