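import Mathlib
import Groth.Agent.Lib.Helper71.TorCrit
import Groth.Agent.Lib.Helper71.FlatKer
import Groth.Agent.S4494
import Groth.Agent.S3527
import Groth.Agent.S12205

/-!
# Tor-vanishing lemmas for the flatness criterion along an ideal (helper71)

* `TZ_of_localized_flat`: `Tor_k^A(X, Y) = 0` if `X_g` is flat over `A_g` and `Y` is an `A_g`-module.
* `TZ_of_killed`: `Tor_k^A(X, N) = 0` (`1 ≤ k ≤ n`) for `N` killed by `I`, if `X/IX` is flat over
  `A/I` and `Tor_k^A(X, A/I) = 0` for `1 ≤ k ≤ n`.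
* `TZ_of_chain`: `Tor` vanishing passes to unions of increasing chains of submodules.
-/

set_option autoImplicit false
universe u
open CategoryTheory CategoryTheory.Limits MonoidalCategory TensorProduct

namespace Groth.Agent.Lib.Helper71.TorCrit

variable {A : Type u} [CommRing A]

theorem TZ_iff_subsingleton (k : ℕ) (X N : Type u) [AddCommGroup X] [Module A X] [AddCommGroup N]
    [Module A N] : TZ (A := A) k X N ↔ Subsingleton (DRing.Tor A k X N) :=
  ModuleCat.isZero_iff_subsingleton

/-- `Tor_k^A(X, Y) = 0` when `X_g` is flat and `Y` is an `A_g`-module. -/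
theorem TZ_of_localized_flat (g : A) (X : Type u) [AddCommGroup X] [Module A X]
    (hX : Module.Flat (Localization.Away g) (LocalizedModule (Submonoid.powers g) X))
    (Y : Type u) [AddCommGroup Y] [Module A Y] [Module (Localization.Away g) Y]
    [IsScalarTower A (Localization.Away g) Y] (k : ℕ) (hk : 1 ≤ k) : TZ (A := A) k X Y := by
  rw [TZ_symm, TZ_iff_subsingleton]
  obtain ⟨φ, hφ⟩ := Groth.Agent.S4494.result A (Localization.Away g) Y X k
  have hb : IsBaseChange (Localization.Away g)
      (LocalizedModule.mkLinearMap (Submonoid.powers g) X) :=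
    IsLocalizedModule.isBaseChange (Submonoid.powers g) (Localization.Away g) _
  have hfl : Module.Flat (Localization.Away g) (TensorProduct A (Localization.Away g) X) :=
    Module.Flat.of_linearEquiv hb.equiv
  have hs := (Groth.Agent.S3527.result (Localization.Away g)
    (TensorProduct A (Localization.Away g) X) Y k (by omega)).2
  exact hφ.1.subsingleton

/-- Variant of the dimension-shifting induction with `Tor₁`-vanishing as base. -/
theorem TZ_induction' (N : Type u) [AddCommGroup N] [Module A N]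
    (P : ℕ → ∀ (X : Type u) [AddCommGroup X] [Module A X], Prop)
    (hbase : ∀ (X : Type u) [AddCommGroup X] [Module A X], P 1 X → TZ (A := A) 1 X N)
    (hstep : ∀ (n : ℕ), 1 ≤ n → ∀ (X : Type u) [AddCommGroup X] [Module A X],
      P (n + 1) X → P n (Syz A X)) :
    ∀ (n : ℕ), 1 ≤ n → ∀ (X : Type u) [AddCommGroup X] [Module A X], P n X →
      TZ (A := A) n X N :=
  TZ_induction N P (fun X _ _ h => (TZ_one_iff' X N).mp (hbase X h)) hstep

section killed

variable (I : Ideal A)

/-- flatness of the reduction of the kernel of a presentation -/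
theorem flat_quot_ker {K F X : Type u} [AddCommGroup K] [Module A K] [AddCommGroup F] [Module A F]
    [AddCommGroup X] [Module A X] (i : K →ₗ[A] F) (π : F →ₗ[A] X) (hex : Function.Exact i π)
    (hπ : Function.Surjective π) (hinj : Function.Injective (i.lTensor (A ⧸ I)))
    (hF : Module.Flat (A ⧸ I) ((A ⧸ I) ⊗[A] F))
    (hfl : Module.Flat (A ⧸ I) ((A ⧸ I) ⊗[A] X)) :
    Module.Flat (A ⧸ I) ((A ⧸ I) ⊗[A] K) := by
  have hinj' : Function.Injective (i.baseChange (A ⧸ I)) := hinj
  have hex' : Function.Exact (i.baseChange (A ⧸ I)) (π.baseChange (A ⧸ I)) :=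
    lTensor_exact (A ⧸ I) hex hπ
  have hsurj : Function.Surjective (π.baseChange (A ⧸ I)) :=
    LinearMap.lTensor_surjective (A ⧸ I) hπ
  have hK := flat_ker_of_surjective (π.baseChange (A ⧸ I)) hsurj
  have hrange : LinearMap.range (i.baseChange (A ⧸ I)) =
      LinearMap.ker (π.baseChange (A ⧸ I)) :=
    (LinearMap.exact_iff.mp hex').symm
  let e : ((A ⧸ I) ⊗[A] K) ≃ₗ[A ⧸ I] LinearMap.ker (π.baseChange (A ⧸ I)) :=
    (LinearEquiv.ofInjective _ hinj').trans (LinearEquiv.ofEq _ _ hrange)
  exact Module.Flat.of_linearEquiv e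

/-- flatness of the reduction of the syzygy -/
theorem flat_quot_syz (X : Type u) [AddCommGroup X] [Module A X]
    (hfl : Module.Flat (A ⧸ I) ((A ⧸ I) ⊗[A] X)) (h1 : TZ (A := A) 1 X (A ⧸ I)) :
    Module.Flat (A ⧸ I) ((A ⧸ I) ⊗[A] (Syz A X)) := by
  have hinj := (TZ_one_iff' X (A ⧸ I)).mp h1
  have hF : Module.Flat (A ⧸ I) ((A ⧸ I) ⊗[A] (X →₀ A)) := inferInstance
  exact @flat_quot_ker A _ I (Syz A X) (X →₀ A) X _ _ _ _ _ _ (Syz A X).subtype (pres A X)
    (exact_syz X) (pres_surjective A X) hinj hF hfl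

/-- `Tor_k^A(X, N) = 0` for `N` killed by `I`, when `X/IX` is flat over `A/I` and
`Tor_k^A(X, A/I) = 0` in the range `1 ≤ k ≤ n`. -/
theorem TZ_of_killed (X : Type u) [AddCommGroup X] [Module A X]
    (hfl : Module.Flat (A ⧸ I) ((A ⧸ I) ⊗[A] X)) (n : ℕ)
    (hT : ∀ k, 1 ≤ k → k ≤ n → TZ (A := A) k X (A ⧸ I))
    (N : Type u) [AddCommGroup N] [Module A N] (hN : ∀ a ∈ I, ∀ x : N, a • x = 0) :
    ∀ k, 1 ≤ k → k ≤ n → TZ (A := A) k X N := by
  have key := TZ_induction' (A := A) N
    (fun n X _ _ => Module.Flat (A ⧸ I) ((A ⧸ I) ⊗[A] X) ∧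
      ∀ k, 1 ≤ k → k ≤ n → TZ (A := A) k X (A ⧸ I))
    (by
      intro X _ _ ⟨hfl, hT⟩
      rw [TZ_symm]
      have h := (TZ_symm X (A ⧸ I) 1).mp (hT 1 le_rfl le_rfl)
      exact Groth.Agent.S12205.result A I X h N 1 (by simpa using hN))
    (by
      intro n hn X _ _ ⟨hfl, hT⟩
      refine ⟨flat_quot_syz I X hfl (hT 1 le_rfl (by omega)), ?_⟩
      intro k hk hkn
      exact (TZ_succ_iff' X (A ⧸ I) k hk).mp (hT (k + 1) (by omega) (by omega)))
  intro k hk hkn
  exact key k hk X ⟨hfl, fun j hj hjk => hT j hj (by omega)⟩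

end killed

section chain

variable {N : Type u} [AddCommGroup N] [Module A N] (S : ℕ → Submodule A N) (hS : Monotone S)
  (hcov : ∀ x : N, ∃ m, x ∈ S m)

include hS hcov in
/-- every element of `N ⊗ K` comes from some `S m ⊗ K` -/
theorem exists_lift_chain (K : Type u) [AddCommGroup K] [Module A K] (z : N ⊗[A] K) :
    ∃ (m : ℕ) (w : (S m) ⊗[A] K), (S m).subtype.rTensor K w = z := by
  induction z using TensorProduct.induction_on with
  | zero => exact ⟨0, 0, by simp⟩
  | tmul x k =>
    obtain ⟨m, hm⟩ := hcov x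
    exact ⟨m, (⟨x, hm⟩ : S m) ⊗ₜ[A] k, by simp⟩
  | add z₁ z₂ h₁ h₂ =>
    obtain ⟨m₁, w₁, rfl⟩ := h₁
    obtain ⟨m₂, w₂, rfl⟩ := h₂
    have hle₁ : S m₁ ≤ S (max m₁ m₂) := hS (le_max_left _ _)
    have hle₂ : S m₂ ≤ S (max m₁ m₂) := hS (le_max_right _ _)
    refine ⟨max m₁ m₂, (Submodule.inclusion hle₁).rTensor K w₁ +
      (Submodule.inclusion hle₂).rTensor K w₂, ?_⟩
    rw [map_add]
    congr 1
    · rw [← LinearMap.comp_apply, ← LinearMap.rTensor_comp, Submodule.subtype_comp_inclusion]
    · rw [← LinearMap.comp_apply, ← LinearMap.rTensor_comp, Submodule.subtype_comp_inclusion]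

include hS hcov in
theorem lTensor_injective_of_chain {K F : Type u} [AddCommGroup K] [Module A K] [AddCommGroup F]
    [Module A F] [Module.Flat A F] (i : K →ₗ[A] F)
    (h : ∀ m, Function.Injective (i.lTensor (S m))) : Function.Injective (i.lTensor N) := by
  rw [injective_iff_map_eq_zero]
  intro z hz
  obtain ⟨m, w, rfl⟩ := exists_lift_chain S hS hcov K z
  have hcomm : i.lTensor N ((S m).subtype.rTensor K w) =
      (S m).subtype.rTensor F (i.lTensor (S m) w) := by
    rw [← LinearMap.comp_apply, ← LinearMap.comp_apply, LinearMap.lTensor_comp_rTensor,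
      LinearMap.rTensor_comp_lTensor]
  rw [hcomm] at hz
  have hinj : Function.Injective ((S m).subtype.rTensor F) :=
    Module.Flat.rTensor_preserves_injective_linearMap _ (S m).injective_subtype
  have h0 : i.lTensor (S m) w = 0 := hinj (by rw [hz, map_zero])
  have hw : w = 0 := h m (by rw [h0, map_zero])
  rw [hw, map_zero]

set_option maxSynthPendingDepth 3 in
include hS hcov in
/-- `Tor` vanishing passes to the union of an increasing chain of submodules. -/
theorem TZ_of_chain (X : Type u) [AddCommGroup X] [Module A X] (n : ℕ) (hn : 1 ≤ n)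
    (h : ∀ m, TZ (A := A) n X (S m)) : TZ (A := A) n X N := by
  have key := TZ_induction (A := A) N
    (fun n X _ _ => ∀ m, TZ (A := A) n X (S m))
    (by
      intro X _ _ hX
      have hfl : Module.Flat A (X →₀ A) := inferInstance
      exact @lTensor_injective_of_chain A _ N _ _ S hS hcov (Syz A X) (X →₀ A) _ _ _ _ hfl
        (Syz A X).subtype (fun m => (TZ_one_iff' X (S m)).mp (hX m)))
    (by
      intro n hn X _ _ hX m
      exact (TZ_succ_iff' X (S m) n hn).mp (hX m))
  exact key n hn X h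

end chain

end Groth.Agent.Lib.Helper71.TorCrit
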