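import Mathlib
import Groth.Agent.Lib.Helper71.PerfBasic
import Groth.Agent.Lib.Helper71.TorCrit2

set_option autoImplicit false
set_option linter.unusedSectionVars false
universe u
open TensorProduct

namespace Groth.Agent.Lib.Helper71.PerfTor

variable (p : ℕ) [hp : Fact p.Prime]

section rootIdeal

variable {A : Type u} [CommRing A]

/-- a compatible sequence of `p`-power roots -/
def IsRootSeq (g : ℕ → A) : Prop := ∀ n, g (n + 1) ^ p = g n

/-- the ideal generated by a sequence -/
def rootIdeal (g : ℕ → A) : Ideal A := Ideal.span (Set.range g)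

variable {p} {g : ℕ → A}

theorem IsRootSeq.eq_mul_succ (hg : IsRootSeq p g) (n : ℕ) :
    g n = g (n + 1) ^ (p - 1) * g (n + 1) := by
  rw [← pow_succ, Nat.sub_add_cancel hp.out.one_le, hg n]

theorem IsRootSeq.exists_mul_of_le (hg : IsRootSeq p g) {n k : ℕ} (hnk : n ≤ k) :
    ∃ c, g n = c * g k := by
  induction k, hnk using Nat.le_induction with
  | base => exact ⟨1, (one_mul _).symm⟩
  | succ k _ ih =>
    obtain ⟨c, hc⟩ := ih
    exact ⟨c * g (k + 1) ^ (p - 1), by rw [hc, hg.eq_mul_succ k, mul_assoc]⟩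

theorem mem_rootIdeal (n : ℕ) : g n ∈ rootIdeal g := Ideal.subset_span ⟨n, rfl⟩

theorem IsRootSeq.mem_rootIdeal_iff (hg : IsRootSeq p g) (y : A) :
    y ∈ rootIdeal g ↔ ∃ n a, y = a * g n := by
  constructor
  · intro hy
    induction hy using Submodule.span_induction with
    | mem x hx =>
      obtain ⟨n, rfl⟩ := hx
      exact ⟨n, 1, (one_mul _).symm⟩
    | zero => exact ⟨0, 0, (zero_mul _).symm⟩
    | add x y _ _ hx hy =>
      obtain ⟨n, a, rfl⟩ := hx
      obtain ⟨m, b, rfl⟩ := hy
      obtain ⟨c, hc⟩ := hg.exists_mul_of_le (le_max_left n m)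
      obtain ⟨d, hd⟩ := hg.exists_mul_of_le (le_max_right n m)
      exact ⟨max n m, a * c + b * d, by rw [hc, hd]; ring⟩
    | smul r x _ hx =>
      obtain ⟨n, a, rfl⟩ := hx
      exact ⟨n, r * a, by rw [smul_eq_mul, mul_assoc]⟩
  · rintro ⟨n, a, rfl⟩
    exact Ideal.mul_mem_left _ _ (mem_rootIdeal n)

/-- the generators as elements of the ideal -/
def gI (g : ℕ → A) (n : ℕ) : rootIdeal g := ⟨g n, mem_rootIdeal n⟩

variable (N : Type u) [AddCommGroup N] [Module A N]

theorem IsRootSeq.exists_tmul_eq (hg : IsRootSeq p g) (z : N ⊗[A] (rootIdeal g)) :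
    ∃ (n : ℕ) (x : N), z = x ⊗ₜ[A] gI g n := by
  induction z using TensorProduct.induction_on with
  | zero => exact ⟨0, 0, (zero_tmul _ _).symm⟩
  | tmul x y =>
    obtain ⟨n, a, hy⟩ := (hg.mem_rootIdeal_iff y.1).mp y.2
    refine ⟨n, a • x, ?_⟩
    have : y = a • gI g n := Subtype.ext (by
      change y.1 = a * g n
      exact hy)
    rw [this, tmul_smul, smul_tmul']
  | add z₁ z₂ h₁ h₂ =>
    obtain ⟨n, x, rfl⟩ := h₁
    obtain ⟨m, y, rfl⟩ := h₂
    obtain ⟨c, hc⟩ := hg.exists_mul_of_le (le_max_left n m)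
    obtain ⟨d, hd⟩ := hg.exists_mul_of_le (le_max_right n m)
    refine ⟨max n m, c • x + d • y, ?_⟩
    have h1 : gI g n = c • gI g (max n m) := Subtype.ext (by
      change g n = c * g (max n m)
      exact hc)
    have h2 : gI g m = d • gI g (max n m) := Subtype.ext (by
      change g m = d * g (max n m)
      exact hd)
    rw [add_tmul, h1, h2, tmul_smul, tmul_smul, ← smul_tmul', ← smul_tmul']

/-- **Key lemma**: tensoring the inclusion of a root ideal with a module which is "reduced along
the sequence" stays injective. -/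
theorem IsRootSeq.lTensor_injective (hg : IsRootSeq p g)
    (hN : ∀ (n : ℕ) (x : N), g n • x = 0 → g (n + 1) ^ (p - 1) • x = 0) :
    Function.Injective ((rootIdeal g).subtype.lTensor N) := by
  rw [injective_iff_map_eq_zero]
  intro z hz
  obtain ⟨n, x, rfl⟩ := hg.exists_tmul_eq N z
  have h1 : g n • x = 0 := by
    have := congrArg (TensorProduct.rid A N) hz
    simpa [gI] using this
  have h2 : gI g n = g (n + 1) ^ (p - 1) • gI g (n + 1) := Subtype.ext (by
    change g n = g (n + 1) ^ (p - 1) * g (n + 1)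
    exact hg.eq_mul_succ n)
  rw [h2, tmul_smul, smul_tmul', hN n x h1, zero_tmul]

end rootIdeal

section step1

open Groth.Agent.Lib.Helper71.TorCrit

variable {p} {A : Type u} [CommRing A] {g : ℕ → A}

/-- perfect algebras are "reduced along a root sequence" -/
theorem IsRootSeq.smul_eq_zero_of_perf (hg : IsRootSeq p g) {C : Type u} [CommRing C]
    [Algebra A C] (hC : IsPerf p C) (n : ℕ) (x : C) (hx : g n • x = 0) :
    g (n + 1) ^ (p - 1) • x = 0 := by
  apply hC.eq_zero_of_pow_p
  have hp2 : 2 ≤ p := hp.out.two_le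
  rw [Algebra.smul_def] at hx ⊢
  rw [mul_pow, ← map_pow, ← pow_mul, _root_.mul_comm (p - 1) p, pow_mul, hg n]
  obtain ⟨e, he⟩ : ∃ e, p = e + 2 := ⟨p - 2, by omega⟩
  have h1 : p - 1 = e + 1 := by omega
  rw [h1, map_pow, pow_succ, he, pow_succ x (e + 1)]
  calc (algebraMap A C (g n)) ^ e * algebraMap A C (g n) * (x ^ (e + 1) * x)
      = (algebraMap A C (g n)) ^ e * x ^ (e + 1) * (algebraMap A C (g n) * x) := by ring
    _ = 0 := by rw [hx, mul_zero]

theorem IsRootSeq.flat_rootIdeal (hA : IsPerf p A) (hg : IsRootSeq p g) :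
    Module.Flat A (rootIdeal g) := by
  rw [Module.Flat.iff_rTensor_injective']
  intro J
  have h1 : Function.Injective ((rootIdeal g).subtype.lTensor J) := by
    apply hg.lTensor_injective J
    intro n x hx
    have hx' : g n • x.1 = 0 := by
      have := congrArg Subtype.val hx
      simpa using this
    have := hg.smul_eq_zero_of_perf hA n x.1 hx'
    exact Subtype.ext (by simpa using this)
  have h2 : Function.Injective (J.subtype.rTensor A) :=
    Module.Flat.rTensor_preserves_injective_linearMap _ J.injective_subtype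
  have hcomp : (rootIdeal g).subtype.lTensor A ∘ₗ J.subtype.rTensor (rootIdeal g) =
      J.subtype.rTensor A ∘ₗ (rootIdeal g).subtype.lTensor J := by
    rw [LinearMap.lTensor_comp_rTensor, LinearMap.rTensor_comp_lTensor]
  have h3 : Function.Injective
      ((rootIdeal g).subtype.lTensor A ∘ₗ J.subtype.rTensor (rootIdeal g)) := by
    rw [hcomp]
    exact h2.comp h1
  exact Function.Injective.of_comp h3

/-- **Step 1**: `Tor_i^A(A/I_g, C) = 0` for `i ≥ 1`. -/
theorem IsRootSeq.TZ_quot (hA : IsPerf p A) (hg : IsRootSeq p g) (C : Type u) [CommRing C]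
    [Algebra A C] (hC : IsPerf p C) (i : ℕ) (hi : 1 ≤ i) :
    TZ (A := A) i (A ⧸ rootIdeal g) C := by
  have hex : Function.Exact (rootIdeal g).subtype (rootIdeal g).mkQ :=
    LinearMap.exact_subtype_mkQ _
  have hinj : Function.Injective (rootIdeal g).subtype := Subtype.val_injective
  have hsurj : Function.Surjective (rootIdeal g).mkQ := Submodule.mkQ_surjective _
  obtain ⟨q, rfl⟩ : ∃ q, i = q + 1 := ⟨i - 1, by omega⟩
  rcases Nat.eq_zero_or_pos q with rfl | hq
  · rw [zero_add]
    have hproj : Module.Projective A A := inferInstance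
    rw [TZ_one_iff C (rootIdeal g).subtype (rootIdeal g).mkQ hex hinj hsurj]
    exact hg.lTensor_injective C (fun n x hx => hg.smul_eq_zero_of_perf hC n x hx)
  · rw [TZ_succ_iff C (rootIdeal g).subtype (rootIdeal g).mkQ hex hinj hsurj q hq]
    have := hg.flat_rootIdeal hA
    rw [TZ_iff_subsingleton]
    exact (Groth.Agent.S3527.result A (rootIdeal g) C q hq).1

end step1

end Groth.Agent.Lib.Helper71.PerfTor
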