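import Mathlib
import Groth.Agent.Lib.Helper71.PerfRoot
import Groth.Agent.S3537

set_option autoImplicit false
set_option linter.unusedSectionVars false
universe u
open TensorProduct CategoryTheory CategoryTheory.Limits

namespace Groth.Agent.Lib.Helper71.PerfTor

open Groth.Agent.Lib.Helper71.TorCrit

section congr

variable {A : Type u} [CommRing A]

theorem TZ_congr_right {N N' : Type u} [AddCommGroup N] [Module A N] [AddCommGroup N']
    [Module A N'] (e : N ≃ₗ[A] N') (k : ℕ) (X : Type u) [AddCommGroup X] [Module A X]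
    (h : TZ (A := A) k X N) : TZ (A := A) k X N' := by
  unfold TZ at *
  exact IsZero.of_iso h (((Tor (ModuleCat.{u} A) k).obj (ModuleCat.of A X)).mapIso
    e.symm.toModuleIso)

theorem TZ_congr_left {X X' : Type u} [AddCommGroup X] [Module A X] [AddCommGroup X']
    [Module A X'] (e : X ≃ₗ[A] X') (k : ℕ) (N : Type u) [AddCommGroup N] [Module A N]
    (h : TZ (A := A) k X N) : TZ (A := A) k X' N :=
  (TZ_symm _ _ k).mpr (TZ_congr_right e k N ((TZ_symm _ _ k).mp h))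

end congr

variable (p : ℕ) [hp : Fact p.Prime]

/-- `J` is good: `Tor_i^A(C, A/J) = 0` for all perfect `A`-algebras `C` and `i ≥ 1`. -/
def Good (A : Type u) [CommRing A] (J : Ideal A) : Prop :=
  ∀ (C : Type u) [CommRing C] [Algebra A C], IsPerf p C → ∀ i, 1 ≤ i →
    TZ (A := A) i C (A ⧸ J)

variable {p} {A : Type u} [CommRing A]

theorem Good.sup_rootIdeal (hA : IsPerf p A) (J : Ideal A) (hJ : RootClosed p J)
    (hG : Good p A J) (g : ℕ → A) (hg : IsRootSeq p g) : Good p A (J ⊔ rootIdeal g) := by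
  intro C _ _ hC i hi
  have hA₁ : IsPerf p (A ⧸ J) := hA.quotient J hJ
  have hP : ∀ q : ℕ, 0 < q → Subsingleton (DRing.Tor A q C (A ⧸ J)) := fun q hq =>
    (TZ_iff_subsingleton q C (A ⧸ J)).mp (hG C hC q hq)
  let g' : ℕ → A ⧸ J := fun n => Ideal.Quotient.mk J (g n)
  have hg' : IsRootSeq p g' := fun n => by
    change (Ideal.Quotient.mk J (g (n + 1))) ^ p = Ideal.Quotient.mk J (g n)
    rw [← map_pow, hg n]
  have hC₁ : IsPerf p ((A ⧸ J) ⊗[A] C) := IsPerf.tensorProduct hA hA₁ hC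
  obtain ⟨φ, hφ⟩ := Groth.Agent.S3537.result A (A ⧸ J) C ((A ⧸ J) ⧸ rootIdeal g') hP i
  have h1 : TZ (A := A ⧸ J) i ((A ⧸ J) ⧸ rootIdeal g') ((A ⧸ J) ⊗[A] C) :=
    hg'.TZ_quot hA₁ ((A ⧸ J) ⊗[A] C) hC₁ i hi
  have h2 : Subsingleton (DRing.Tor (A ⧸ J) i ((A ⧸ J) ⊗[A] C) ((A ⧸ J) ⧸ rootIdeal g')) :=
    (TZ_iff_subsingleton i _ _).mp ((TZ_symm _ _ i).mp h1)
  have h3 : TZ (A := A) i C ((A ⧸ J) ⧸ rootIdeal g') :=
    (TZ_iff_subsingleton i _ _).mpr hφ.1.subsingleton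
  have hI' : rootIdeal g' = (rootIdeal g).map (Ideal.Quotient.mkₐ A J) := by
    unfold rootIdeal
    rw [Ideal.map_span, ← Set.range_comp]
    rfl
  let e₁ : ((A ⧸ J) ⧸ rootIdeal g') ≃ₗ[A]
      ((A ⧸ J) ⧸ (rootIdeal g).map (Ideal.Quotient.mkₐ A J)) :=
    (Submodule.quotEquivOfEq _ _ hI').restrictScalars A
  let e₂ : ((A ⧸ J) ⧸ (rootIdeal g).map (Ideal.Quotient.mkₐ A J)) ≃ₗ[A]
      (A ⧸ (J ⊔ rootIdeal g)) :=
    (DoubleQuot.quotQuotEquivQuotSupₐ A J (rootIdeal g)).toLinearEquiv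
  exact TZ_congr_right (e₁.trans e₂) i C h3

end Groth.Agent.Lib.Helper71.PerfTor
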