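import Mathlib
import Groth.Agent.Lib.Helper71.PerfStep2

set_option autoImplicit false
set_option linter.unusedSectionVars false
universe u
open TensorProduct CategoryTheory CategoryTheory.Limits

namespace Groth.Agent.Lib.Helper71.PerfTor

open Groth.Agent.Lib.Helper71.TorCrit

section directed

variable {A : Type u} [CommRing A]

theorem one_tmul_eq_zero_iff (I : Ideal A) {M : Type u} [AddCommGroup M] [Module A M] (y : M) :
    (1 : A ⧸ I) ⊗ₜ[A] y = 0 ↔ y ∈ I • (⊤ : Submodule A M) := by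
  rw [← (TensorProduct.quotTensorEquivQuotSMul M I).map_eq_zero_iff,
    TensorProduct.quotTensorEquivQuotSMul_mk_one_tmul, Submodule.Quotient.mk_eq_zero]

theorem exists_one_tmul (I : Ideal A) {M : Type u} [AddCommGroup M] [Module A M]
    (z : (A ⧸ I) ⊗[A] M) : ∃ y : M, z = (1 : A ⧸ I) ⊗ₜ[A] y := by
  obtain ⟨y, rfl⟩ := TensorProduct.mk_surjective A M (A ⧸ I) Ideal.Quotient.mk_surjective z
  exact ⟨y, rfl⟩

variable {ι : Type*} [Nonempty ι] (J : ι → Ideal A) (hJ : Directed (· ≤ ·) J)

include hJ in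
theorem lTensor_quot_injective_of_directed {K F : Type u} [AddCommGroup K] [Module A K]
    [AddCommGroup F] [Module A F] (i : K →ₗ[A] F)
    (h : ∀ s, Function.Injective (i.lTensor (A ⧸ J s))) :
    Function.Injective (i.lTensor (A ⧸ ⨆ s, J s)) := by
  rw [injective_iff_map_eq_zero]
  intro z hz
  obtain ⟨k, rfl⟩ := exists_one_tmul _ z
  rw [LinearMap.lTensor_tmul, one_tmul_eq_zero_iff, Submodule.iSup_smul] at hz
  have hdir : Directed (· ≤ ·) (fun s => J s • (⊤ : Submodule A F)) := by
    intro s t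
    obtain ⟨r, hs, ht⟩ := hJ s t
    exact ⟨r, Submodule.smul_mono_left hs, Submodule.smul_mono_left ht⟩
  obtain ⟨s, hs⟩ := (Submodule.mem_iSup_of_directed _ hdir).mp hz
  have h1 : i.lTensor (A ⧸ J s) ((1 : A ⧸ J s) ⊗ₜ[A] k) = 0 := by
    rw [LinearMap.lTensor_tmul, one_tmul_eq_zero_iff]
    exact hs
  have h2 : (1 : A ⧸ J s) ⊗ₜ[A] k = 0 := h s (by rw [h1, map_zero])
  rw [one_tmul_eq_zero_iff] at h2 ⊢
  exact Submodule.smul_mono_left (le_iSup J s) h2

set_option maxSynthPendingDepth 3 in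
include hJ in
/-- `Tor` vanishing passes to quotients by directed unions of ideals. -/
theorem TZ_quot_of_directed (X : Type u) [AddCommGroup X] [Module A X] (n : ℕ) (hn : 1 ≤ n)
    (h : ∀ s, TZ (A := A) n X (A ⧸ J s)) : TZ (A := A) n X (A ⧸ ⨆ s, J s) := by
  have key := TZ_induction (A := A) (A ⧸ ⨆ s, J s)
    (fun n X _ _ => ∀ s, TZ (A := A) n X (A ⧸ J s))
    (by
      intro X _ _ hX
      exact @lTensor_quot_injective_of_directed A _ ι _ J hJ (Syz A X) (X →₀ A) _ _ _ _
        (Syz A X).subtype (fun s => (TZ_one_iff' X (A ⧸ J s)).mp (hX s)))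
    (by
      intro n hn X _ _ hX s
      exact (TZ_succ_iff' X (A ⧸ J s) n hn).mp (hX s))
  exact key n hn X h

end directed

variable (p : ℕ) [hp : Fact p.Prime]
variable {p} {A : Type u} [CommRing A]

/-- the canonical sequence of `p`-power roots of an element -/
noncomputable def rootSeq (hA : IsPerf p A) (f : A) : ℕ → A := fun n => (hA.root)^[n] f

theorem isRootSeq_rootSeq (hA : IsPerf p A) (f : A) : IsRootSeq p (rootSeq hA f) := by
  intro n
  change ((hA.root)^[n + 1] f) ^ p = (hA.root)^[n] f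
  rw [Function.iterate_succ_apply', hA.root_pow]

theorem rootSeq_mem (hA : IsPerf p A) (I : Ideal A) (hI : RootClosed p I) (f : A) (hf : f ∈ I)
    (n : ℕ) : rootSeq hA f n ∈ I := by
  induction n with
  | zero => exact hf
  | succ n ih =>
    apply hI
    rw [isRootSeq_rootSeq hA f n]
    exact ih

theorem rootClosed_bot (hA : IsPerf p A) : RootClosed p (⊥ : Ideal A) := by
  intro x hx
  rw [Ideal.mem_bot] at hx ⊢
  exact hA.eq_zero_of_pow_p x hx

theorem rootClosed_sup (hA : IsPerf p A) (J : Ideal A) (hJ : RootClosed p J) (g : ℕ → A)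
    (hg : IsRootSeq p g) : RootClosed p (J ⊔ rootIdeal g) := by
  intro x hx
  obtain ⟨j, hj, y, hy, hxy⟩ := Submodule.mem_sup.mp hx
  obtain ⟨n, a, rfl⟩ := (hg.mem_rootIdeal_iff y).mp hy
  have hx' : x = hA.root j + hA.root a * g (n + 1) := by
    rw [← hA.root_pow_self x, ← hxy, hA.root_add, hA.root_mul, ← hg n, hA.root_pow_self]
  rw [hx']
  refine Submodule.add_mem_sup (hJ _ (by rw [hA.root_pow]; exact hj)) ?_
  exact Ideal.mul_mem_left _ _ (mem_rootIdeal (n + 1))

theorem good_bot (_hA : IsPerf p A) : Good p A (⊥ : Ideal A) := by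
  intro C _ _ hC i hi
  have e : (A ⧸ (⊥ : Ideal A)) ≃ₗ[A] A := Submodule.quotEquivOfEqBot _ rfl
  have hfl : Module.Flat A (A ⧸ (⊥ : Ideal A)) := Module.Flat.of_linearEquiv e
  rw [TZ_iff_subsingleton]
  exact (Groth.Agent.S3527.result A (A ⧸ (⊥ : Ideal A)) C i hi).2

theorem good_finset_sup (hA : IsPerf p A) {κ : Type*} (F : κ → ℕ → A)
    (hF : ∀ f, IsRootSeq p (F f)) (S : Finset κ) :
    RootClosed p (S.sup (fun f => rootIdeal (F f))) ∧
      Good p A (S.sup (fun f => rootIdeal (F f))) := by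
  classical
  induction S using Finset.induction_on with
  | empty =>
    rw [Finset.sup_empty]
    exact ⟨rootClosed_bot hA, good_bot hA⟩
  | insert f S hf ih =>
    rw [Finset.sup_insert, sup_comm]
    exact ⟨rootClosed_sup hA _ ih.1 _ (hF f), Good.sup_rootIdeal hA _ ih.1 ih.2 _ (hF f)⟩

theorem good_iSup (hA : IsPerf p A) {κ : Type*} (F : κ → ℕ → A)
    (hF : ∀ f, IsRootSeq p (F f)) : Good p A (⨆ f, rootIdeal (F f)) := by
  classical
  have hJ := good_finset_sup hA F hF
  have hmono : Monotone (fun S : Finset κ => S.sup (fun f => rootIdeal (F f))) :=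
    fun S T hST => Finset.sup_mono hST
  have hdir := hmono.directed_le
  have hsup : (⨆ S : Finset κ, S.sup (fun f => rootIdeal (F f))) = ⨆ f, rootIdeal (F f) := by
    simp_rw [Finset.sup_eq_iSup]
    exact (iSup_eq_iSup_finset _).symm
  intro C _ _ hC i hi
  have := TZ_quot_of_directed _ hdir C i hi (fun S => (hJ S).2 C hC i hi)
  rw [hsup] at this
  exact this

theorem iSup_rootIdeal_eq (hA : IsPerf p A) (I : Ideal A) (hI : RootClosed p I) :
    (⨆ f : I, rootIdeal (rootSeq hA f.1)) = I := by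
  apply le_antisymm
  · apply iSup_le
    intro f
    unfold rootIdeal
    rw [Ideal.span_le]
    rintro _ ⟨n, rfl⟩
    exact rootSeq_mem hA I hI f.1 f.2 n
  · intro f hf
    exact Submodule.mem_iSup_of_mem (⟨f, hf⟩ : I) (mem_rootIdeal (g := rootSeq hA f) 0)

/-- **Step 3**: every root-closed ideal of a perfect ring is good. -/
theorem good_of_rootClosed (hA : IsPerf p A) (I : Ideal A) (hI : RootClosed p I) :
    Good p A I := by
  have h := good_iSup hA (fun f : I => rootSeq hA f.1) (fun f => isRootSeq_rootSeq hA f.1)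
  rw [iSup_rootIdeal_eq hA I hI] at h
  exact h

end Groth.Agent.Lib.Helper71.PerfTor
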