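import Mathlib
import Groth.Agent.Lib.Helper71.PerfStep3
import Groth.Agent.S4494

set_option autoImplicit false
set_option linter.unusedSectionVars false
universe u
open TensorProduct CategoryTheory CategoryTheory.Limits

namespace Groth.Agent.Lib.Helper71.PerfTor

open Groth.Agent.Lib.Helper71.TorCrit

variable {p : ℕ} [hp : Fact p.Prime]

/-- The surjective case. -/
theorem TZ_of_surjective {P : Type u} [CommRing P] (hP : IsPerf p P) (B : Type u) [CommRing B]
    [Algebra P B] (hsurj : Function.Surjective (algebraMap P B)) (hB : IsPerf p B)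
    (C : Type u) [CommRing C] [Algebra P C] (hC : IsPerf p C) (i : ℕ) (hi : 1 ≤ i) :
    TZ (A := P) i B C := by
  have hI : RootClosed p (RingHom.ker (algebraMap P B)) := rootClosed_ker hB _
  have hG := good_of_rootClosed hP _ hI C hC i hi
  have e : (P ⧸ RingHom.ker (algebraMap P B)) ≃ₗ[P] B :=
    (Ideal.quotientKerAlgEquivOfSurjective (f := Algebra.ofId P B) hsurj).toLinearEquiv
  exact (TZ_symm _ _ i).mpr (TZ_congr_right e i C hG)

/-- **Tor vanishing for perfect rings.** -/
theorem TZ_of_isPerf (A : Type u) [CommRing A] [CharP A p] (hA : IsPerf p A) (B : Type u)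
    [CommRing B] [Algebra A B] (hB : IsPerf p B) (C : Type u) [CommRing C] [Algebra A C]
    (hC : IsPerf p C) (i : ℕ) (hi : 1 ≤ i) : TZ (A := A) i B C := by
  let _ : Algebra (ZMod p) A := ZMod.algebra A p
  let _ : Algebra (ZMod p) B := ((algebraMap A B).comp (algebraMap (ZMod p) A)).toAlgebra
  have : IsScalarTower (ZMod p) A B := IsScalarTower.of_algebraMap_eq (fun _ => rfl)
  have hP : IsPerf p (A ⊗[ZMod p] B) := IsPerf.tensorProduct isPerf_zmod hA hB
  let μ : A ⊗[ZMod p] B →ₐ[A] B :=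
    Algebra.TensorProduct.lift (Algebra.ofId A B) (AlgHom.id (ZMod p) B)
      (fun _ _ => Commute.all _ _)
  have hμ : Function.Surjective μ := fun b => ⟨1 ⊗ₜ b, by simp [μ]⟩
  let _ : Algebra (A ⊗[ZMod p] B) B := μ.toRingHom.toAlgebra
  have : IsScalarTower A (A ⊗[ZMod p] B) B :=
    IsScalarTower.of_algebraMap_eq (fun a => (μ.commutes a).symm)
  have hfl : Module.Flat A (A ⊗[ZMod p] B) := inferInstance
  have hC' : IsPerf p ((A ⊗[ZMod p] B) ⊗[A] C) := IsPerf.tensorProduct hA hP hC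
  obtain ⟨φ, hφ⟩ := Groth.Agent.S4494.result A (A ⊗[ZMod p] B) B C i
  have h1 : TZ (A := A ⊗[ZMod p] B) i B ((A ⊗[ZMod p] B) ⊗[A] C) :=
    TZ_of_surjective hP B hμ hB _ hC' i hi
  have h2 : Subsingleton (DRing.Tor (A ⊗[ZMod p] B) i B ((A ⊗[ZMod p] B) ⊗[A] C)) :=
    (TZ_iff_subsingleton i _ _).mp h1
  exact (TZ_iff_subsingleton i _ _).mpr hφ.1.subsingleton

end Groth.Agent.Lib.Helper71.PerfTor
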