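import Mathlib
import Groth.Prelude.Def_Cyc
import Groth.Agent.Lib.Helper85.IntMult.DivOpen

set_option autoImplicit false
set_option linter.unusedSectionVars false
set_option linter.unusedVariables false
set_option linter.style.haveILetI false
universe u

namespace Groth.Agent.Lib.Helper71.PushRat

open CategoryTheory AlgebraicGeometry IsLocalRing
open Groth.Agent.Lib.Helper85.DivPullDict Groth.Agent.Lib.Helper85.DivPull
open Groth.Agent.Lib.Helper85.DivPullAlg Groth.Agent.Lib.Helper85.DivOpen

section alg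

/-- a quotient of a universally catenary ring is universally catenary. -/
theorem isUniversallyCatenary_of_surjective {A B : Type u} [CommRing A] [CommRing B]
    (φ : A →+* B) (hφ : Function.Surjective φ) (hA : CAlg.IsUniversallyCatenary A) :
    CAlg.IsUniversallyCatenary B := by
  refine ⟨isNoetherianRing_of_surjective A B φ hφ (H := hA.1), ?_⟩
  intro S _ _ hS
  letI := φ.toAlgebra
  letI : Algebra A S := ((algebraMap B S).comp φ).toAlgebra
  haveI : IsScalarTower A B S := IsScalarTower.of_algebraMap_eq (fun _ => rfl)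
  haveI : Algebra.FiniteType A B := Algebra.FiniteType.of_surjective
    (Algebra.ofId A B) hφ
  exact hA.2 S (Algebra.FiniteType.trans (S := B) inferInstance hS)

/-- lengths of cyclic modules along a surjective ring homomorphism. -/
theorem length_quot_map_of_surjective {A B : Type u} [CommRing A] [CommRing B]
    (φ : A →+* B) (hφ : Function.Surjective φ) (J : Ideal A) (hJ : RingHom.ker φ ≤ J) :
    Module.length B (B ⧸ J.map φ) = Module.length A (A ⧸ J) := by
  letI := φ.toAlgebra
  -- `B ⧸ J.map φ` as an `A`-module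
  have h1 : Module.length A (B ⧸ J.map φ) = Module.length B (B ⧸ J.map φ) :=
    Module.length_eq_of_surjective (M := B ⧸ J.map φ) hφ
  rw [← h1]
  -- the `A`-linear map `A ⧸ J → B ⧸ J.map φ`
  let ψ : A →ₗ[A] (B ⧸ J.map φ) :=
    ((Ideal.Quotient.mkₐ A (J.map φ)).toLinearMap).comp (Algebra.linearMap A B)
  have hψ : ∀ a, ψ a = Ideal.Quotient.mk (J.map φ) (φ a) := fun a => rfl
  have hψsurj : Function.Surjective ψ := by
    intro y
    obtain ⟨b, rfl⟩ := Ideal.Quotient.mk_surjective y
    obtain ⟨a, rfl⟩ := hφ b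
    exact ⟨a, rfl⟩
  have hker : LinearMap.ker ψ = J.restrictScalars A := by
    ext a
    rw [LinearMap.mem_ker, hψ, Ideal.Quotient.eq_zero_iff_mem]
    constructor
    · intro h
      rw [Ideal.mem_map_iff_of_surjective φ hφ] at h
      obtain ⟨a', ha', hφa⟩ := h
      have : a - a' ∈ RingHom.ker φ := by rw [RingHom.mem_ker, map_sub, hφa, sub_self]
      have h2 : a - a' ∈ J := hJ this
      have : a = (a - a') + a' := by ring
      rw [this]
      exact J.add_mem h2 ha'
    · intro h
      exact Ideal.mem_map_of_mem φ h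
  have e := (ψ.quotKerEquivOfSurjective hψsurj)
  rw [← e.length_eq]
  exact (Submodule.quotEquivOfEq _ _ hker).length_eq

end alg

section closedImm

variable {W X : Scheme.{u}} (i : W ⟶ X) [IsClosedImmersion i]

theorem ci_injective : Function.Injective i := i.isClosedEmbedding.injective

theorem ci_specializes_iff (a b : W) : i a ⤳ i b ↔ a ⤳ b :=
  i.isClosedEmbedding.toIsInducing.specializes_iff

/-- the range of a closed immersion is stable under specialization. -/
theorem ci_mem_range_of_specializes (w : W) (x : X) (h : i w ⤳ x) : x ∈ Set.range i :=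
  h.mem_closed i.isClosedEmbedding.isClosed_range ⟨w, rfl⟩

theorem ci_stalkMap_surjective (w : W) : Function.Surjective (i.stalkMap w).hom :=
  i.stalkMap_surjective w

theorem ci_residueFieldMap_bijective (w : W) :
    Function.Bijective (i.residueFieldMap w).hom := by
  refine ⟨(i.residueFieldMap w).hom.injective, ?_⟩
  intro z
  obtain ⟨a, rfl⟩ := Scheme.residue_surjective W w z
  obtain ⟨b, rfl⟩ := ci_stalkMap_surjective i w a
  refine ⟨(X.residue (i w)).hom b, ?_⟩
  have h := Scheme.residue_residueFieldMap i w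
  exact congr(($h).hom b)

/-- a dimension function restricts to closed subschemes. -/
theorem ci_isDimFun (δ : X → ℤ) (hdim : Cyc.IsDimFun X δ) :
    Cyc.IsDimFun W (fun w => δ (i w)) := by
  intro x y hxy hne
  have hxy' : i x ⤳ i y := hxy.map i.continuous
  have hne' : i x ≠ i y := fun h => hne (ci_injective i h)
  obtain ⟨h1, h2⟩ := hdim _ _ hxy' hne'
  refine ⟨h1, fun himm => h2 ?_⟩
  intro z' hz1 hz2
  obtain ⟨z, rfl⟩ := ci_mem_range_of_specializes i x z' hz1
  rcases himm z ((ci_specializes_iff i x z).mp hz1) ((ci_specializes_iff i z y).mp hz2) with h | h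
  · exact Or.inl (congrArg _ h)
  · exact Or.inr (congrArg _ h)

include i in
theorem ci_isLocallyNoetherian [IsLocallyNoetherian X] : IsLocallyNoetherian W :=
  LocallyOfFiniteType.isLocallyNoetherian i

/-- the standing hypotheses pass to closed subschemes. -/
theorem ci_isSetup (δ : X → ℤ) (hX : Cyc.IsSetup X δ) : Cyc.IsSetup W (fun w => δ (i w)) := by
  obtain ⟨h1, h2, h3⟩ := hX
  refine ⟨ci_isLocallyNoetherian i, fun w => ?_, ci_isDimFun i δ h3⟩
  exact isUniversallyCatenary_of_surjective (i.stalkMap w).hom (ci_stalkMap_surjective i w)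
    (h2 (i w))

section fieldalg

variable {K L : Type u} [Field K] [Field L] [Algebra K L]

theorem trdeg_eq_zero_of_surjective (h : Function.Surjective (algebraMap K L)) :
    Algebra.trdeg K L = 0 := by
  have : Algebra.IsAlgebraic K L := ⟨fun x => by
    obtain ⟨a, rfl⟩ := h x
    exact isAlgebraic_algebraMap a⟩
  exact trdeg_eq_zero

theorem finrank_eq_one_of_surjective (h : Function.Surjective (algebraMap K L)) :
    Module.finrank K L = 1 :=
  _root_.finrank_eq_one (1 : L) one_ne_zero (fun w => by
    obtain ⟨a, rfl⟩ := h w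
    exact ⟨a, by rw [Algebra.smul_def, mul_one]⟩)

end fieldalg

theorem ci_deltaCompat (δ : X → ℤ) : Cyc.DeltaCompat i (fun w => δ (i w)) δ := by
  intro w
  refine ⟨0, ?_, by simp⟩
  letI := (i.residueFieldMap w).hom.toAlgebra
  have h : Function.Surjective (algebraMap (X.residueField (i w)) (W.residueField w)) :=
    (ci_residueFieldMap_bijective i w).2
  rw [trdeg_eq_zero_of_surjective h]
  rfl

theorem ci_residueDegree (w : W) : i.residueDegree w = 1 := by
  unfold Scheme.Hom.residueDegree
  letI := (i.residueFieldMap w).hom.toAlgebra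
  exact finrank_eq_one_of_surjective (ci_residueFieldMap_bijective i w).2

theorem ci_mapCoeff (δ : X → ℤ) (w : W) :
    AlgebraicCycle.mapCoeff i (fun w => δ (i w)) δ w = 1 := by
  unfold AlgebraicCycle.mapCoeff
  rw [if_pos rfl, ci_residueDegree]

/-- the push-forward of a cycle along a closed immersion, on the image. -/
theorem ci_map_apply (δ : X → ℤ) (D : AlgebraicCycle W ℤ) (w : W) :
    AlgebraicCycle.map i (fun w => δ (i w)) δ D (i w) = D w := by
  have hL : AlgebraicCycle.map i (fun w => δ (i w)) δ D (i w) =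
      ∑ᶠ x ∈ i ⁻¹' {i w}, D x * ((AlgebraicCycle.mapCoeff i (fun w => δ (i w)) δ x : ℕ) : ℤ) := rfl
  rw [hL]
  have hset : i ⁻¹' {i w} = {w} := by
    ext x
    simp only [Set.mem_preimage, Set.mem_singleton_iff]
    exact ⟨fun h => ci_injective i h, fun h => by rw [h]⟩
  rw [hset, finsum_mem_singleton, ci_mapCoeff]
  simp

/-- the push-forward of a cycle along a closed immersion, off the image. -/
theorem ci_map_apply_of_notMem (δ : X → ℤ) (D : AlgebraicCycle W ℤ) (x : X)
    (hx : x ∉ Set.range i) : AlgebraicCycle.map i (fun w => δ (i w)) δ D x = 0 := by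
  have hL : AlgebraicCycle.map i (fun w => δ (i w)) δ D x =
      ∑ᶠ x' ∈ i ⁻¹' {x}, D x' * ((AlgebraicCycle.mapCoeff i (fun w => δ (i w)) δ x' : ℕ) : ℤ) :=
    rfl
  rw [hL]
  have hset : i ⁻¹' {x} = ∅ := by
    ext x'
    simp only [Set.mem_preimage, Set.mem_singleton_iff, Set.mem_empty_iff_false, iff_false]
    exact fun h => hx ⟨x', h⟩
  rw [hset, finsum_mem_empty]

end closedImm

section general

variable {Z X : Scheme.{u}} (j : Z ⟶ X) [IsLocallyNoetherian X] [IsLocallyNoetherian Z]
  (δ : X → ℤ) (hdim : Cyc.IsDimFun X δ) (hdimZ : Cyc.IsDimFun Z (fun z => δ (j z)))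
  (hsurj : ∀ u : Z, Function.Surjective (j.stalkMap u).hom)

include hdim hdimZ hsurj in
/-- the order of a rational function along a specialization can be computed on a scheme mapping
to `X` by a morphism inducing surjections of local rings. -/
theorem ordAt_of_stalkMap_surjective {u ξ₀ : Z} (h₀ : ξ₀ ⤳ u) (h1 : δ (j u) + 1 = δ (j ξ₀))
    (g : X.residueField (j ξ₀)) :
    Cyc.ordAt u ξ₀ h₀ ((j.residueFieldMap ξ₀).hom g) =
      Cyc.ordAt (j u) (j ξ₀) (h₀.map j.continuous) g := by
  by_cases hg : g = 0
  · subst hg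
    rw [map_zero, ordAt_zero, ordAt_zero]
  obtain ⟨a, b, hb, hz⟩ := exists_specMap_div (h₀.map j.continuous) g
  have hb0 : Cyc.specMap (j u) (j ξ₀) (h₀.map j.continuous) b ≠ 0 :=
    fun h0 => hb (RingHom.mem_ker.mpr h0)
  have ha0 : Cyc.specMap (j u) (j ξ₀) (h₀.map j.continuous) a ≠ 0 := by
    intro h0
    apply hg
    rw [hz, h0, zero_div]
  have ha : a ∉ RingHom.ker (Cyc.specMap (j u) (j ξ₀) (h₀.map j.continuous)) :=
    fun hm => ha0 (RingHom.mem_ker.mp hm)
  have hinj : Function.Injective (j.residueFieldMap ξ₀).hom :=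
    (j.residueFieldMap ξ₀).hom.injective
  have e1 : (j.residueFieldMap ξ₀).hom g =
      Cyc.specMap u ξ₀ h₀ ((j.stalkMap u).hom a) / Cyc.specMap u ξ₀ h₀ ((j.stalkMap u).hom b) := by
    rw [hz, map_div₀, residueFieldMap_specMap j h₀ a, residueFieldMap_specMap j h₀ b]
  have ha' : (j.stalkMap u).hom a ∉ RingHom.ker (Cyc.specMap u ξ₀ h₀) := by
    intro hm
    apply ha0
    apply hinj
    rw [residueFieldMap_specMap j h₀ a, map_zero]
    exact RingHom.mem_ker.mp hm
  have hb' : (j.stalkMap u).hom b ∉ RingHom.ker (Cyc.specMap u ξ₀ h₀) := by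
    intro hm
    apply hb0
    apply hinj
    rw [residueFieldMap_specMap j h₀ b, map_zero]
    exact RingHom.mem_ker.mp hm
  rw [e1, ordAt_div (fun z => δ (j z)) hdimZ h₀ h1 _ _ ha' hb']
  conv_rhs => rw [hz]
  rw [ordAt_div δ hdim (h₀.map j.continuous) h1 a b ha hb]
  -- compare the lengths
  have hcomap := comap_ker_specMap j h₀
  have hker : (RingHom.ker (Cyc.specMap (j u) (j ξ₀) (h₀.map j.continuous))).map
      (j.stalkMap u).hom = RingHom.ker (Cyc.specMap u ξ₀ h₀) := by
    rw [← hcomap]
    exact Ideal.map_comap_of_surjective _ (hsurj u) _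
  have hkerle : RingHom.ker (j.stalkMap u).hom ≤
      RingHom.ker (Cyc.specMap (j u) (j ξ₀) (h₀.map j.continuous)) := by
    rw [← hcomap]
    intro c hc
    rw [Ideal.mem_comap, RingHom.mem_ker.mp hc]
    exact Ideal.zero_mem _
  have hlen : ∀ c : X.presheaf.stalk (j u),
      Module.length (Z.presheaf.stalk u) (Z.presheaf.stalk u ⧸
        (RingHom.ker (Cyc.specMap u ξ₀ h₀) ⊔ Ideal.span {(j.stalkMap u).hom c})) =
      Module.length (X.presheaf.stalk (j u)) (X.presheaf.stalk (j u) ⧸
        (RingHom.ker (Cyc.specMap (j u) (j ξ₀) (h₀.map j.continuous)) ⊔ Ideal.span {c})) := by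
    intro c
    rw [← length_quot_map_of_surjective (j.stalkMap u).hom (hsurj u) _
      (hkerle.trans le_sup_left), Ideal.map_sup, hker, Ideal.map_span, Set.image_singleton]
  rw [hlen a, hlen b]

end general

section closedImmDiv

variable {W X : Scheme.{u}} (i : W ⟶ X) [IsClosedImmersion i] [IsLocallyNoetherian X]
  (δ : X → ℤ) (hdim : Cyc.IsDimFun X δ)

include hdim in
/-- the principal divisor of a rational function on a closed subscheme. -/
theorem ci_divFun (w₀ w : W) (g : X.residueField (i w₀)) :
    Cyc.divFun (fun w => δ (i w)) w₀ ((i.residueFieldMap w₀).hom g) w =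
      Cyc.divFun δ (i w₀) g (i w) := by
  have hN : IsLocallyNoetherian W := ci_isLocallyNoetherian i
  unfold Cyc.divFun
  by_cases h : w₀ ⤳ w ∧ δ (i w) + 1 = δ (i w₀)
  · rw [dif_pos h, dif_pos ⟨h.1.map i.continuous, h.2⟩]
    exact ordAt_of_stalkMap_surjective i δ hdim (ci_isDimFun i δ hdim)
      (ci_stalkMap_surjective i) h.1 h.2 g
  · rw [dif_neg h, dif_neg]
    rintro ⟨h1, h2⟩
    exact h ⟨(ci_specializes_iff i w₀ w).mp h1, h2⟩

/-- the principal divisor vanishes off the closed subscheme. -/
theorem ci_divFun_of_notMem (w₀ : W) (x : X) (hx : x ∉ Set.range i)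
    (g : X.residueField (i w₀)) : Cyc.divFun δ (i w₀) g x = 0 := by
  unfold Cyc.divFun
  rw [dif_neg]
  rintro ⟨h1, -⟩
  exact hx (ci_mem_range_of_specializes i w₀ x h1)

end closedImmDiv

end Groth.Agent.Lib.Helper71.PushRat
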