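import Mathlib
import Groth.Prelude.Def_Cyc
import Groth.Agent.Lib.Helper71.PushRatA
import Groth.Agent.Lib.Helper19.Subscheme

set_option autoImplicit false
set_option linter.unusedSectionVars false
set_option linter.unusedVariables false
set_option linter.style.haveILetI false
universe u

namespace Groth.Agent.Lib.Helper71.PushRat

open CategoryTheory AlgebraicGeometry IsLocalRing

section trdeg

/-- additivity of transcendence degrees of residue field extensions along a composition. -/
theorem trdeg_comp {X Y Z : Scheme.{u}} (f : X ⟶ Y) (g : Y ⟶ Z) (x : X) :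
    @Algebra.trdeg (Z.residueField (g (f x))) (Y.residueField (f x)) _ _
        (g.residueFieldMap (f x)).hom.toAlgebra +
      @Algebra.trdeg (Y.residueField (f x)) (X.residueField x) _ _
        (f.residueFieldMap x).hom.toAlgebra =
    @Algebra.trdeg (Z.residueField ((f ≫ g) x)) (X.residueField x) _ _
        ((f ≫ g).residueFieldMap x).hom.toAlgebra := by
  let _ : Algebra (Z.residueField (g (f x))) (Y.residueField (f x)) :=
    (g.residueFieldMap (f x)).hom.toAlgebra
  let _ : Algebra (Y.residueField (f x)) (X.residueField x) :=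
    (f.residueFieldMap x).hom.toAlgebra
  let _ : Algebra (Z.residueField (g (f x))) (X.residueField x) :=
    ((f ≫ g).residueFieldMap x).hom.toAlgebra
  have htower : IsScalarTower (Z.residueField (g (f x))) (Y.residueField (f x))
      (X.residueField x) :=
    IsScalarTower.of_algebraMap_eq
      (fun r => congr($(Scheme.residueFieldMap_comp f g x) r))
  have hf1 : FaithfulSMul (Z.residueField (g (f x))) (Y.residueField (f x)) :=
    (faithfulSMul_iff_algebraMap_injective _ _).mpr
      (algebraMap (Z.residueField (g (f x))) (Y.residueField (f x))).injective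
  have hf2 : FaithfulSMul (Y.residueField (f x)) (X.residueField x) :=
    (faithfulSMul_iff_algebraMap_injective _ _).mpr
      (algebraMap (Y.residueField (f x)) (X.residueField x)).injective
  exact trdeg_add_eq (R := Z.residueField (g (f x))) (S := Y.residueField (f x))
    (A := X.residueField x)

theorem deltaCompat_comp {X Y Z : Scheme.{u}} (f : X ⟶ Y) (g : Y ⟶ Z) (δX : X → ℤ) (δY : Y → ℤ)
    (δZ : Z → ℤ) (hf : Cyc.DeltaCompat f δX δY) (hg : Cyc.DeltaCompat g δY δZ) :
    Cyc.DeltaCompat (f ≫ g) δX δZ := by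
  intro x
  obtain ⟨n, hn1, hn2⟩ := hf x
  obtain ⟨m, hm1, hm2⟩ := hg (f x)
  refine ⟨m + n, ?_, ?_⟩
  · have h := trdeg_comp f g x
    rw [hn1, hm1] at h
    rw [← h]
    push_cast
    rfl
  · rw [hn2, hm2]
    push_cast
    change δZ (g (f x)) + m + n = δZ (g (f x)) + (m + n)
    ring

theorem deltaCompat_congr {X Y : Scheme.{u}} (f f' : X ⟶ Y) (e : f = f') (δX : X → ℤ) (δY : Y → ℤ)
    (hf : Cyc.DeltaCompat f δX δY) : Cyc.DeltaCompat f' δX δY := by
  subst e
  exact hf

/-- cancelling a closed immersion on the target. -/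
theorem deltaCompat_of_comp_ci {W V Y : Scheme.{u}} (q : W ⟶ V) (i : V ⟶ Y) [IsClosedImmersion i]
    (δW : W → ℤ) (δY : Y → ℤ) (h : Cyc.DeltaCompat (q ≫ i) δW δY) :
    Cyc.DeltaCompat q δW (fun v => δY (i v)) := by
  intro w
  obtain ⟨n, hn1, hn2⟩ := h w
  refine ⟨n, ?_, hn2⟩
  have h1 := trdeg_comp q i w
  have h0 : @Algebra.trdeg (Y.residueField (i (q w))) (V.residueField (q w)) _ _
      (i.residueFieldMap (q w)).hom.toAlgebra = 0 := by
    letI := (i.residueFieldMap (q w)).hom.toAlgebra
    exact trdeg_eq_zero_of_surjective (ci_residueFieldMap_bijective i (q w)).2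
  rw [h0, zero_add] at h1
  rw [h1]
  exact hn1

end trdeg

section square

variable {W V X Y : Scheme.{u}} (iW : W ⟶ X) (iV : V ⟶ Y) (p : X ⟶ Y) (q : W ⟶ V)
  [IsClosedImmersion iW] [IsClosedImmersion iV] (hsq : q ≫ iV = iW ≫ p)

include hsq in
theorem sq_apply (w : W) : iV (q w) = p (iW w) := by
  have := congrArg (fun t : W ⟶ Y => t w) hsq
  simpa using this

include hsq in
theorem sq_deltaCompat (δX : X → ℤ) (δY : Y → ℤ) (hδ : Cyc.DeltaCompat p δX δY) :
    Cyc.DeltaCompat q (fun w => δX (iW w)) (fun v => δY (iV v)) := by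
  apply deltaCompat_of_comp_ci q iV
  apply deltaCompat_congr _ _ hsq.symm
  exact deltaCompat_comp iW p _ δX δY (ci_deltaCompat iW δX) hδ

include hsq in
theorem sq_isProper [IsProper p] : IsProper q := by
  have : IsProper (q ≫ iV) := by
    rw [hsq]
    infer_instance
  exact IsProper.of_comp q iV

end square

end Groth.Agent.Lib.Helper71.PushRat
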