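import Mathlib
import Groth.Prelude.Def_Cyc
import Groth.Agent.Lib.Helper71.PushRatB
import Groth.Agent.Lib.Helper55.CyclePush
import Groth.Agent.S1906
import Groth.Agent.S16921

set_option autoImplicit false
set_option linter.unusedSectionVars false
set_option linter.unusedVariables false
set_option linter.style.haveILetI false
universe u

namespace Groth.Agent.Lib.Helper71.PushRat

open CategoryTheory AlgebraicGeometry IsLocalRing
open Groth.Agent.Lib.Helper85.DivOpen

section divCycle

variable {X : Scheme.{u}} [IsLocallyNoetherian X] (δ : X → ℤ) (hdim : Cyc.IsDimFun X δ)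

include hdim in
theorem locallyFinite_divFun (ξ : X) (f : X.residueField ξ) (hf : f ≠ 0) :
    ∀ z ∈ (Set.univ : Set X), ∃ t ∈ nhds z,
      Set.Finite (t ∩ Function.support (Cyc.divFun δ ξ f)) := by
  intro x _
  obtain ⟨W', hW', hxW', -⟩ :=
    exists_isAffineOpen_mem_and_subset (x := x) (U := (⊤ : X.Opens)) trivial
  refine ⟨W', W'.isOpen.mem_nhds hxW', ?_⟩
  exact (finite_support_divFun_inter δ hdim W' hW' ξ f hf).subset (fun z hz => ⟨hz.1, hz.2⟩)

/-- the principal divisor of a nonzero rational function on the closure of a point, as a cycle. -/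
noncomputable def divCycle (ξ : X) (f : X.residueField ξ) (hf : f ≠ 0) : AlgebraicCycle X ℤ :=
  { toFun := Cyc.divFun δ ξ f
    supportWithinDomain' := fun _ _ => Set.mem_univ _
    supportLocallyFiniteWithinDomain' := locallyFinite_divFun δ hdim ξ f hf }

theorem coe_divCycle (ξ : X) (f : X.residueField ξ) (hf : f ≠ 0) :
    ⇑(divCycle δ hdim ξ f hf) = Cyc.divFun δ ξ f := rfl

end divCycle

section misc

theorem normGen_ne_zero {X Y : Scheme.{u}} (f : X ⟶ Y) (x : X) (g : X.residueField x)
    (hg : g ≠ 0) : Cyc.normGen f x g ≠ 0 := by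
  unfold Cyc.normGen
  letI := (f.residueFieldMap x).hom.toAlgebra
  by_cases hfin : Module.Finite (Y.residueField (f x)) (X.residueField x)
  · exact Algebra.norm_ne_zero_iff.mpr hg
  · rw [Algebra.norm_eq_one_of_not_module_finite hfin]
    exact one_ne_zero

theorem map_congr_hom {X Y : Scheme.{u}} (f f' : X ⟶ Y) (e : f = f') [QuasiCompact f]
    [QuasiCompact f'] (wx : X → ℤ) (wy : Y → ℤ) (c : AlgebraicCycle X ℤ) :
    AlgebraicCycle.map f wx wy c = AlgebraicCycle.map f' wx wy c := by
  subst e
  rfl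

theorem map_zero_cycle {X Y : Scheme.{u}} (f : X ⟶ Y) [QuasiCompact f] (wx : X → ℤ) (wy : Y → ℤ) :
    AlgebraicCycle.map f wx wy (0 : AlgebraicCycle X ℤ) = 0 := by
  ext y
  show (∑ᶠ x ∈ f ⁻¹' {y}, (0 : AlgebraicCycle X ℤ) x *
    ((AlgebraicCycle.mapCoeff f wx wy x : ℕ) : ℤ)) = 0
  apply finsum_mem_eq_zero_of_forall_eq_zero
  intro x _
  simp

theorem deltaCompat_le {X Y : Scheme.{u}} (p : X ⟶ Y) (δX : X → ℤ) (δY : Y → ℤ)
    (hδ : Cyc.DeltaCompat p δX δY) (x : X) : δY (p x) ≤ δX x := by
  obtain ⟨n, -, hn⟩ := hδ x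
  rw [hn]
  exact le_add_of_nonneg_right (Int.natCast_nonneg n)

end misc

section clSub

variable {X : Scheme.{u}} (ξ : X)

/-- the radical ideal sheaf of the closure of a point. -/
noncomputable def clIdeal : X.IdealSheafData :=
  Scheme.IdealSheafData.vanishingIdeal ⟨closure {ξ}, isClosed_closure⟩

/-- the closure of a point with its reduced structure. -/
noncomputable abbrev clSub : Scheme.{u} := (clIdeal ξ).subscheme

noncomputable abbrev clι : clSub ξ ⟶ X := (clIdeal ξ).subschemeι

theorem range_clι : Set.range (clι ξ) = closure {ξ} := by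
  rw [Scheme.IdealSheafData.range_subschemeι]
  exact Scheme.IdealSheafData.coe_support_vanishingIdeal _

theorem exists_clι_eq : ∃ w₀ : clSub ξ, clι ξ w₀ = ξ := by
  have : ξ ∈ Set.range (clι ξ) := by
    rw [range_clι]
    exact subset_closure rfl
  exact this

theorem closure_singleton_clSub (w₀ : clSub ξ) (hw₀ : clι ξ w₀ = ξ) :
    closure ({w₀} : Set (clSub ξ)) = Set.univ := by
  rw [(clι ξ).isClosedEmbedding.toIsInducing.closure_eq_preimage_closure_image,
    Set.image_singleton, hw₀, ← range_clι, Set.preimage_range]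

theorem isIntegral_clSub : IsIntegral (clSub ξ) := by
  obtain ⟨w₀, hw₀⟩ := exists_clι_eq ξ
  have hirr : IrreducibleSpace (clSub ξ) := by
    rw [irreducibleSpace_def]
    have h2 : IsIrreducible (closure ({w₀} : Set (clSub ξ))) := isIrreducible_singleton.closure
    rw [closure_singleton_clSub ξ w₀ hw₀] at h2
    exact h2
  have hred : IsReduced (clSub ξ) :=
    Groth.Agent.Lib.Helper19.isReduced_subscheme_vanishingIdeal _
  exact isIntegral_of_irreducibleSpace_of_isReduced _

theorem genericPoint_clSub [IsIntegral (clSub ξ)] : clι ξ (genericPoint (clSub ξ)) = ξ := by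
  obtain ⟨w₀, hw₀⟩ := exists_clι_eq ξ
  have h1 : IsGenericPoint w₀ (Set.univ : Set (clSub ξ)) := closure_singleton_clSub ξ w₀ hw₀
  rw [(genericPoint_spec _).eq h1, hw₀]

variable {Y : Scheme.{u}} (p : X ⟶ Y)

theorem clIdeal_le_map : clIdeal (p ξ) ≤ (clIdeal ξ).map p := by
  unfold clIdeal
  rw [Scheme.IdealSheafData.map_vanishingIdeal]
  apply Scheme.IdealSheafData.vanishingIdeal_antimono
  rw [TopologicalSpace.Closeds.closure_le]
  intro y hy
  have h1 := image_closure_subset_closure_image p.continuous hy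
  rw [Set.image_singleton] at h1
  exact h1

/-- the induced morphism between the closures. -/
noncomputable def clMap : clSub ξ ⟶ clSub (p ξ) :=
  Scheme.IdealSheafData.subschemeMap (clIdeal ξ) (clIdeal (p ξ)) p (clIdeal_le_map ξ p)

theorem clMap_clι : clMap ξ p ≫ clι (p ξ) = clι ξ ≫ p :=
  Scheme.IdealSheafData.subschemeMap_subschemeι _ _ _ _

end clSub

section single

variable {W V X Y : Scheme.{u}} [IsIntegral W] [IsIntegral V] (iW : W ⟶ X) (iV : V ⟶ Y)
  (p : X ⟶ Y) (q : W ⟶ V) [IsClosedImmersion iW] [IsClosedImmersion iV] [IsProper p]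
  (hsq : q ≫ iV = iW ≫ p) (δX : X → ℤ) (δY : Y → ℤ) (hX : Cyc.IsSetup X δX)
  (hY : Cyc.IsSetup Y δY) (hδ : Cyc.DeltaCompat p δX δY)

include hsq hX hY hδ in
theorem map_divCycle_square (ξ : X) (η : Y) (hξ : iW (genericPoint W) = ξ)
    (hη : iV (genericPoint V) = η) (hpξ : p ξ = η)
    (f : X.residueField ξ) (hf : f ≠ 0) (A : AlgebraicCycle X ℤ)
    (hA : ⇑A = Cyc.divFun δX ξ f) :
    ∃ g : Y.residueField η, g ≠ 0 ∧ ∀ y, AlgebraicCycle.map p δX δY A y =
      if δX ξ = δY η then Cyc.divFun δY η g y else 0 := by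
  subst hξ hη
  have hXN : IsLocallyNoetherian X := hX.1
  have hYN : IsLocallyNoetherian Y := hY.1
  have hWN : IsLocallyNoetherian W := ci_isLocallyNoetherian iW
  have hVN : IsLocallyNoetherian V := ci_isLocallyNoetherian iV
  have hW : Cyc.IsSetup W (fun w => δX (iW w)) := ci_isSetup iW δX hX
  have hV : Cyc.IsSetup V (fun v => δY (iV v)) := ci_isSetup iV δY hY
  have hq : IsProper q := sq_isProper iW iV p q hsq
  have hδq : Cyc.DeltaCompat q (fun w => δX (iW w)) (fun v => δY (iV v)) :=
    sq_deltaCompat iW iV p q hsq δX δY hδ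
  have hdom : q (genericPoint W) = genericPoint V := by
    apply ci_injective iV
    rw [sq_apply iW iV p q hsq, hpξ]
  have hfW : (iW.residueFieldMap (genericPoint W)).hom f ≠ 0 := by
    intro h
    apply hf
    apply (iW.residueFieldMap (genericPoint W)).hom.injective
    rw [h, map_zero]
  let DW : AlgebraicCycle W ℤ := divCycle (fun w => δX (iW w)) hW.2.2 (genericPoint W)
    ((iW.residueFieldMap (genericPoint W)).hom f) hfW
  have hDW : ⇑DW = Cyc.divFun (fun w => δX (iW w)) (genericPoint W)
    ((iW.residueFieldMap (genericPoint W)).hom f) := rfl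
  -- `A` is the push-forward of `DW`
  have hA' : A = AlgebraicCycle.map iW (fun w => δX (iW w)) δX DW := by
    ext x
    have hAx : A x = Cyc.divFun δX (iW (genericPoint W)) f x := congrFun hA x
    rw [hAx]
    by_cases hx : x ∈ Set.range iW
    · obtain ⟨w, rfl⟩ := hx
      rw [ci_map_apply iW δX DW w]
      exact (ci_divFun iW δX hX.2.2 (genericPoint W) w f).symm
    · rw [ci_map_apply_of_notMem iW δX DW x hx]
      exact ci_divFun_of_notMem iW δX (genericPoint W) x hx f
  have h1 : AlgebraicCycle.map p δX δY (AlgebraicCycle.map iW (fun w => δX (iW w)) δX DW) =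
      AlgebraicCycle.map (iW ≫ p) (fun w => δX (iW w)) δY DW :=
    Groth.Agent.Lib.Helper55.map_map_of_le iW p (fun w => δX (iW w)) δX δY
      (fun w => le_refl _) (deltaCompat_le p δX δY hδ) DW
  have h2 : AlgebraicCycle.map iV (fun v => δY (iV v)) δY
      (AlgebraicCycle.map q (fun w => δX (iW w)) (fun v => δY (iV v)) DW) =
      AlgebraicCycle.map (q ≫ iV) (fun w => δX (iW w)) δY DW :=
    Groth.Agent.Lib.Helper55.map_map_of_le q iV (fun w => δX (iW w)) (fun v => δY (iV v)) δY
      (deltaCompat_le q _ _ hδq) (fun v => le_refl _) DW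
  have h3 : AlgebraicCycle.map (q ≫ iV) (fun w => δX (iW w)) δY DW =
      AlgebraicCycle.map (iW ≫ p) (fun w => δX (iW w)) δY DW :=
    map_congr_hom _ _ hsq _ _ _
  by_cases hn : δX (iW (genericPoint W)) = δY (iV (genericPoint V))
  · have hS := Groth.Agent.S1906.result W V (fun w => δX (iW w)) (fun v => δY (iV v)) hW hV q hδq
      hdom hn ((iW.residueFieldMap (genericPoint W)).hom f) hfW DW hDW
    have hN := normGen_ne_zero q (genericPoint W) _ hfW
    have key2 : ∀ v, q (genericPoint W) = v → ∃ g : Y.residueField (iV v), g ≠ 0 ∧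
        ∀ y, (AlgebraicCycle.map iV (fun v => δY (iV v)) δY
          (AlgebraicCycle.map q (fun w => δX (iW w)) (fun v => δY (iV v)) DW)) y =
          Cyc.divFun δY (iV v) g y := by
      rintro _ rfl
      obtain ⟨g, hg⟩ := (ci_residueFieldMap_bijective iV (q (genericPoint W))).2
        (Cyc.normGen q (genericPoint W) ((iW.residueFieldMap (genericPoint W)).hom f))
      have hg0 : g ≠ 0 := by
        rintro rfl
        apply hN
        rw [← hg, map_zero]
      refine ⟨g, hg0, fun y => ?_⟩
      by_cases hy : y ∈ Set.range iV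
      · obtain ⟨v', rfl⟩ := hy
        rw [ci_map_apply iV δY _ v', congrFun hS v', ← hg]
        exact ci_divFun iV δY hY.2.2 (q (genericPoint W)) v' g
      · rw [ci_map_apply_of_notMem iV δY _ y hy]
        exact (ci_divFun_of_notMem iV δY (q (genericPoint W)) y hy g).symm
    obtain ⟨g, hg0, hg⟩ := key2 _ hdom
    refine ⟨g, hg0, fun y => ?_⟩
    rw [if_pos hn, hA', h1, ← h3, ← h2]
    exact hg y
  · have hS := Groth.Agent.S16921.result W V (fun w => δX (iW w)) (fun v => δY (iV v)) hW hV q hδq
      hdom hn ((iW.residueFieldMap (genericPoint W)).hom f) hfW DW hDW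
    refine ⟨1, one_ne_zero, fun y => ?_⟩
    rw [if_neg hn, hA', h1, ← h3, ← h2, hS, map_zero_cycle]
    rfl

end single

section point

variable {X Y : Scheme.{u}} (δX : X → ℤ) (δY : Y → ℤ) (hX : Cyc.IsSetup X δX)
  (hY : Cyc.IsSetup Y δY) (p : X ⟶ Y) [IsProper p] (hδ : Cyc.DeltaCompat p δX δY)

include hX hY hδ in
/-- the proper push-forward of a principal divisor on the closure of a point is the principal
divisor of a rational function on the closure of the image point, or zero. -/
theorem map_divCycle_point (ξ : X) (f : X.residueField ξ) (hf : f ≠ 0) (A : AlgebraicCycle X ℤ)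
    (hA : ⇑A = Cyc.divFun δX ξ f) :
    ∃ g : Y.residueField (p ξ), g ≠ 0 ∧ ∀ y, AlgebraicCycle.map p δX δY A y =
      if δX ξ = δY (p ξ) then Cyc.divFun δY (p ξ) g y else 0 := by
  have := isIntegral_clSub ξ
  have := isIntegral_clSub (p ξ)
  exact map_divCycle_square (clι ξ) (clι (p ξ)) p (clMap ξ p) (clMap_clι ξ p) δX δY hX hY hδ ξ (p ξ)
    (genericPoint_clSub ξ) (genericPoint_clSub (p ξ)) rfl f hf A hA

end point

end Groth.Agent.Lib.Helper71.PushRat
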