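import Mathlib
import Groth.Prelude.Def_Cyc
import Groth.Agent.Lib.Helper71.PushRatC

set_option autoImplicit false
set_option linter.unusedSectionVars false
set_option linter.unusedVariables false
set_option linter.style.haveILetI false
universe u

namespace Groth.Agent.Lib.Helper71.PushRat

open CategoryTheory AlgebraicGeometry IsLocalRing

section exchange

/-- exchanging a sum over a set with a sum over an index type, under finiteness conditions. -/
theorem finsum_mem_finsum_comm {α ι : Type*} (K : Set α) (F : ι → α → ℤ)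
    (I₀ : Set ι) (hI₀ : I₀.Finite) (hoff : ∀ i, i ∉ I₀ → ∀ x ∈ K, F i x = 0)
    (hfin : ∀ i ∈ I₀, (K ∩ Function.support (F i)).Finite) :
    ∑ᶠ x ∈ K, ∑ᶠ i, F i x = ∑ᶠ i, ∑ᶠ x ∈ K, F i x := by
  classical
  let T : Set α := ⋃ i ∈ I₀, (K ∩ Function.support (F i))
  have hT : T.Finite := hI₀.biUnion hfin
  have hTK : T ⊆ K := by
    intro x hx
    simp only [T, Set.mem_iUnion] at hx
    obtain ⟨i, _, hx⟩ := hx
    exact hx.1
  have h1 : ∀ x ∈ K, ∑ᶠ i, F i x = ∑ᶠ i ∈ I₀, F i x := by
    intro x hx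
    rw [← finsum_mem_univ]
    apply finsum_mem_inter_support_eq
    ext i
    simp only [Set.mem_inter_iff, Set.mem_univ, true_and, Function.mem_support]
    constructor
    · intro h
      exact ⟨by_contra (fun hi => h (hoff i hi x hx)), h⟩
    · exact fun h => h.2
  have h2 : ∑ᶠ x ∈ K, ∑ᶠ i, F i x = ∑ᶠ x ∈ T, ∑ᶠ i ∈ I₀, F i x := by
    rw [finsum_mem_congr rfl h1]
    apply finsum_mem_inter_support_eq
    ext x
    simp only [Set.mem_inter_iff, Function.mem_support]
    constructor
    · rintro ⟨hxK, hne⟩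
      refine ⟨?_, hne⟩
      obtain ⟨i, hi, hix⟩ := exists_ne_zero_of_finsum_mem_ne_zero hne
      exact Set.mem_biUnion hi ⟨hxK, hix⟩
    · rintro ⟨hxT, hne⟩
      exact ⟨hTK hxT, hne⟩
  have h3 : ∀ i ∈ I₀, ∑ᶠ x ∈ K, F i x = ∑ᶠ x ∈ T, F i x := by
    intro i hi
    apply finsum_mem_inter_support_eq
    ext x
    simp only [Set.mem_inter_iff, Function.mem_support]
    constructor
    · rintro ⟨hxK, hne⟩
      exact ⟨Set.mem_biUnion hi ⟨hxK, hne⟩, hne⟩
    · rintro ⟨hxT, hne⟩
      exact ⟨hTK hxT, hne⟩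
  have h4 : ∑ᶠ i, ∑ᶠ x ∈ K, F i x = ∑ᶠ i ∈ I₀, ∑ᶠ x ∈ T, F i x := by
    rw [← finsum_mem_congr rfl h3, ← finsum_mem_univ]
    apply finsum_mem_inter_support_eq
    ext i
    simp only [Set.mem_inter_iff, Set.mem_univ, true_and, Function.mem_support]
    constructor
    · intro h
      refine ⟨by_contra fun hi => h ?_, h⟩
      exact finsum_mem_eq_zero_of_forall_eq_zero (hoff i hi)
    · exact fun h => h.2
  rw [h2, h4, finsum_mem_comm _ hT hI₀]

end exchange

section locfin

variable {X Y : Scheme.{u}} (p : X ⟶ Y) [IsProper p]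

/-- a locally finite family of subsets of `X` is "locally finite over `Y`". -/
theorem exists_open_nhds_fiber {ι : Type*} (Z : ι → Set X)
    (hlf : ∀ x : X, ∃ U : Set X, IsOpen U ∧ x ∈ U ∧ {i | (Z i ∩ U).Nonempty}.Finite) (y : Y) :
    ∃ V : Set Y, IsOpen V ∧ y ∈ V ∧ {i | (Z i ∩ p ⁻¹' V).Nonempty}.Finite := by
  have hK : IsCompact (p ⁻¹' {y}) := p.isCompact_preimage_singleton y
  choose U hUo hxU hUfin using hlf
  obtain ⟨t, htK, hcover⟩ := hK.elim_nhds_subcover U (fun x _ => (hUo x).mem_nhds (hxU x))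
  let U' : Set X := ⋃ x ∈ t, U x
  have hU'o : IsOpen U' := isOpen_biUnion (fun x _ => hUo x)
  refine ⟨(p '' U'ᶜ)ᶜ, (p.isClosedMap _ hU'o.isClosed_compl).isOpen_compl, ?_, ?_⟩
  · rintro ⟨x, hx, hxy⟩
    exact hx (hcover hxy)
  · have hfin : (⋃ x ∈ t, {i | (Z i ∩ U x).Nonempty}).Finite :=
      t.finite_toSet.biUnion (fun x _ => hUfin x)
    refine hfin.subset ?_
    rintro i ⟨x, hxZ, hxV⟩
    have hxU' : x ∈ U' := by
      by_contra hx
      exact hxV ⟨x, hx, rfl⟩
    simp only [U', Set.mem_iUnion] at hxU'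
    obtain ⟨x₀, hx₀, hx⟩ := hxU'
    exact Set.mem_biUnion (Finset.mem_coe.mpr hx₀) ⟨x, hxZ, hx⟩

end locfin

section main

variable {X Y : Scheme.{u}} (δX : X → ℤ) (δY : Y → ℤ) (hX : Cyc.IsSetup X δX)
  (hY : Cyc.IsSetup Y δY) (p : X ⟶ Y) [IsProper p] (hδ : Cyc.DeltaCompat p δX δY)

include hX hY hδ in
/-- proper push-forward preserves rational equivalence. -/
theorem ratEquiv_map (k : ℤ) (α β : AlgebraicCycle X ℤ) (h : Cyc.RatEquiv δX k α β) :
    Cyc.RatEquiv δY k (AlgebraicCycle.map p δX δY α) (AlgebraicCycle.map p δX δY β) := by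
  classical
  obtain ⟨ι, ξ, f, hξ, hf, hlf, hsum⟩ := h
  have hXN : IsLocallyNoetherian X := hX.1
  have hYN : IsLocallyNoetherian Y := hY.1
  let D : ι → AlgebraicCycle X ℤ := fun i => divCycle δX hX.2.2 (ξ i) (f i) (hf i)
  have hD : ∀ i, ⇑(D i) = Cyc.divFun δX (ξ i) (f i) := fun i => rfl
  have hE := fun i => map_divCycle_point δX δY hX hY p hδ (ξ i) (f i) (hf i) (D i) (hD i)
  choose g hg0 hg using hE
  refine ⟨{i : ι // δX (ξ i) = δY (p (ξ i))}, fun i => p (ξ i.1), fun i => g i.1, ?_, ?_, ?_, ?_⟩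
  · intro i
    rw [← i.2]
    exact hξ i.1
  · intro i
    exact hg0 i.1
  · intro y
    obtain ⟨V, hVo, hyV, hfin⟩ := exists_open_nhds_fiber p (fun i => closure {ξ i}) hlf y
    refine ⟨V, hVo, hyV, ?_⟩
    refine (Set.Finite.preimage (Subtype.val_injective.injOn) hfin).subset ?_
    rintro i ⟨y', hy'cl, hy'V⟩
    have hsp : p (ξ i.1) ⤳ y' := specializes_iff_mem_closure.mpr hy'cl
    exact ⟨ξ i.1, subset_closure rfl, hsp.mem_open hVo hy'V⟩
  · intro y
    have hK : IsCompact (p ⁻¹' {y}) := p.isCompact_preimage_singleton y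
    -- the locally finite family meets the fibre in finitely many members
    have hLF : LocallyFinite (fun i => closure ({ξ i} : Set X)) := by
      intro x
      obtain ⟨U, hUo, hxU, hUfin⟩ := hlf x
      exact ⟨U, hUo.mem_nhds hxU, hUfin⟩
    have hI₀ : {i | (closure ({ξ i} : Set X) ∩ p ⁻¹' {y}).Nonempty}.Finite :=
      hLF.finite_nonempty_inter_compact hK
    have hfinα : (p ⁻¹' {y} ∩ Function.support α).Finite :=
      α.locallyFiniteSupport.finite_inter_support_of_isCompact hK
    have hfinβ : (p ⁻¹' {y} ∩ Function.support β).Finite :=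
      β.locallyFiniteSupport.finite_inter_support_of_isCompact hK
    have hfinD : ∀ i, (p ⁻¹' {y} ∩ Function.support (D i)).Finite := fun i =>
      (D i).locallyFiniteSupport.finite_inter_support_of_isCompact hK
    -- the left hand side
    have hL : (AlgebraicCycle.map p δX δY α - AlgebraicCycle.map p δX δY β) y =
        ∑ᶠ x ∈ p ⁻¹' {y}, (α x - β x) * ((AlgebraicCycle.mapCoeff p δX δY x : ℕ) : ℤ) := by
      have e1 : (AlgebraicCycle.map p δX δY α - AlgebraicCycle.map p δX δY β) y =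
          AlgebraicCycle.map p δX δY α y - AlgebraicCycle.map p δX δY β y := by
        rw [Function.locallyFinsuppWithin.coe_sub]
        rfl
      have e2 : AlgebraicCycle.map p δX δY α y =
          ∑ᶠ x ∈ p ⁻¹' {y}, α x * ((AlgebraicCycle.mapCoeff p δX δY x : ℕ) : ℤ) := rfl
      have e3 : AlgebraicCycle.map p δX δY β y =
          ∑ᶠ x ∈ p ⁻¹' {y}, β x * ((AlgebraicCycle.mapCoeff p δX δY x : ℕ) : ℤ) := rfl
      rw [e1, e2, e3, sub_eq_iff_eq_add, ← finsum_mem_add_distrib']
      · apply finsum_mem_congr rfl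
        intro x _
        ring
      · refine (hfinα.union hfinβ).subset ?_
        rintro x ⟨hxK, hx⟩
        by_cases hxa : α x = 0
        · right
          refine ⟨hxK, ?_⟩
          intro hxb
          apply hx
          show (α x - β x) * _ = 0
          rw [hxa, hxb, sub_zero, zero_mul]
        · exact Or.inl ⟨hxK, hxa⟩
      · refine hfinβ.subset ?_
        rintro x ⟨hxK, hx⟩
        refine ⟨hxK, ?_⟩
        intro hxb
        apply hx
        show β x * _ = 0
        rw [hxb, zero_mul]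
    rw [hL]
    have hab : ∀ x, α x - β x = ∑ᶠ i, D i x := by
      intro x
      have := hsum x
      rw [Function.locallyFinsuppWithin.coe_sub] at this
      exact this
    have e4 : ∑ᶠ x ∈ p ⁻¹' {y}, (α x - β x) * ((AlgebraicCycle.mapCoeff p δX δY x : ℕ) : ℤ) =
        ∑ᶠ x ∈ p ⁻¹' {y}, ∑ᶠ i, D i x * ((AlgebraicCycle.mapCoeff p δX δY x : ℕ) : ℤ) := by
      apply finsum_mem_congr rfl
      intro x _
      rw [hab x, finsum_mul]
    rw [e4, finsum_mem_finsum_comm (p ⁻¹' {y})
      (fun i x => D i x * ((AlgebraicCycle.mapCoeff p δX δY x : ℕ) : ℤ)) _ hI₀]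
    · -- now identify the summands
      have e5 : ∀ i, ∑ᶠ x ∈ p ⁻¹' {y}, D i x * ((AlgebraicCycle.mapCoeff p δX δY x : ℕ) : ℤ) =
          if δX (ξ i) = δY (p (ξ i)) then Cyc.divFun δY (p (ξ i)) (g i) y else 0 := fun i => hg i y
      rw [finsum_congr e5]
      have e6 := finsum_subtype_eq_finsum_cond
        (f := fun i => Cyc.divFun δY (p (ξ i)) (g i) y) (fun i => δX (ξ i) = δY (p (ξ i)))
      refine Eq.trans ?_ e6.symm
      apply finsum_congr
      intro i
      rw [finsum_eq_if]
    · intro i hi x hx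
      have : D i x = 0 := by
        by_contra hne
        apply hi
        have hne' : Cyc.divFun δX (ξ i) (f i) x ≠ 0 := hne
        have hc : ξ i ⤳ x := by
          by_contra hc
          apply hne'
          unfold Cyc.divFun
          rw [dif_neg (fun h => hc h.1)]
        exact ⟨x, specializes_iff_mem_closure.mp hc, hx⟩
      show D i x * _ = 0
      rw [this, zero_mul]
    · intro i _
      refine (hfinD i).subset ?_
      rintro x ⟨hxK, hx⟩
      refine ⟨hxK, ?_⟩
      intro h0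
      apply hx
      show D i x * _ = 0
      rw [h0, zero_mul]

end main

end Groth.Agent.Lib.Helper71.PushRat
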