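import Mathlib
import Groth.Prelude.Def_Cyc
import Groth.Agent.Lib.Helper71.PushRatC
import Groth.Agent.Lib.Helper74.LatticeDet

set_option autoImplicit false
set_option linter.unusedSectionVars false
set_option linter.unusedVariables false
set_option linter.style.haveILetI false
universe u

namespace Groth.Agent.Lib.Helper71.PushRat

open CategoryTheory AlgebraicGeometry IsLocalRing
open Groth.Agent.Lib.Helper85.DivOpen

section inv

theorem ordFrac_inv' (R : Type u) [CommRing R] (K : Type u) [Field K] [Algebra R K] (h : K)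
    (hh : h ≠ 0) : CycAlg.ordFrac R K h⁻¹ = - CycAlg.ordFrac R K h := by
  by_cases hcond : IsNoetherianRing R ∧ Ring.KrullDimLE 1 R ∧ Nontrivial R ∧ IsFractionRing R K
  · have := hcond.1; have := hcond.2.1; have := hcond.2.2.1; have := hcond.2.2.2
    have : IsDomain R :=
      Function.Injective.isDomain (algebraMap R K) (IsFractionRing.injective R K)
    exact Groth.Agent.Lib.Helper74.ordFracInt_inv R K hh
  · unfold CycAlg.ordFrac
    rw [dif_neg hcond, dif_neg hcond, neg_zero]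

theorem divFun_inv {X : Scheme.{u}} (δ : X → ℤ) (ξ : X) (f : X.residueField ξ) (hf : f ≠ 0)
    (x : X) : Cyc.divFun δ ξ f⁻¹ x = - Cyc.divFun δ ξ f x := by
  unfold Cyc.divFun
  split_ifs with hc
  · exact ordFrac_inv' _ _ f hf
  · rw [neg_zero]

theorem divFun_ne_zero_imp {X : Scheme.{u}} (δ : X → ℤ) (ξ : X) (f : X.residueField ξ) (x : X)
    (h : Cyc.divFun δ ξ f x ≠ 0) : ξ ⤳ x ∧ δ x + 1 = δ ξ := by
  by_contra hc
  apply h
  unfold Cyc.divFun
  rw [dif_neg hc]

end inv

section sums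

theorem finsum_split {ι : Type*} (P : ι → Prop) (g : ι → ℤ) (hfin : (Function.support g).Finite) :
    ∑ᶠ j, g j = ∑ᶠ j : {j // P j}, g j.1 + ∑ᶠ j : {j // ¬ P j}, g j.1 := by
  have e1 := finsum_subtype_eq_finsum_cond (f := g) P
  have e2 := finsum_subtype_eq_finsum_cond (f := g) (fun j => ¬ P j)
  rw [e1, e2]
  have h3 := finsum_mem_union' (f := g) (s := {j | P j}) (t := {j | ¬ P j})
    (by
      rw [Set.disjoint_left]
      intro j hj hj'
      exact hj' hj)
    (hfin.subset Set.inter_subset_right) (hfin.subset Set.inter_subset_right)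
  have h4 : ({j | P j} ∪ {j | ¬ P j} : Set ι) = Set.univ := by
    ext j
    simp only [Set.mem_union, Set.mem_ofPred_eq, Set.mem_univ, iff_true]
    exact em (P j)
  rw [h4, finsum_mem_univ] at h3
  exact h3

end sums

section sumDiv

variable {X : Scheme.{u}} [IsLocallyNoetherian X] (δ : X → ℤ) (hdim : Cyc.IsDimFun X δ)
  {ι : Type*} (ξ : ι → X) (f : (i : ι) → X.residueField (ξ i)) (hf : ∀ i, f i ≠ 0)
  (hlf : ∀ x : X, ∃ U : Set X, IsOpen U ∧ x ∈ U ∧ {i | (closure {ξ i} ∩ U).Nonempty}.Finite)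

include hlf in
theorem finite_support_divFun_family (x : X) :
    (Function.support (fun i => Cyc.divFun δ (ξ i) (f i) x)).Finite := by
  obtain ⟨U, hUo, hxU, hfin⟩ := hlf x
  refine hfin.subset ?_
  intro i hi
  have h1 := (divFun_ne_zero_imp δ (ξ i) (f i) x hi).1
  exact ⟨x, specializes_iff_mem_closure.mp h1, hxU⟩

include hdim hf hlf in
theorem locallyFinite_sumDivFun :
    ∀ z ∈ (Set.univ : Set X), ∃ t ∈ nhds z,
      Set.Finite (t ∩ Function.support (fun x => ∑ᶠ i, Cyc.divFun δ (ξ i) (f i) x)) := by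
  intro x _
  obtain ⟨W, hW, hxW, hfin⟩ := hlf x
  obtain ⟨W', hW', hxW', hW'W⟩ := exists_isAffineOpen_mem_and_subset (x := x)
    (U := (⟨W, hW⟩ : X.Opens)) hxW
  refine ⟨W', W'.isOpen.mem_nhds hxW', ?_⟩
  have hsub : (W' : Set X) ∩ Function.support (fun x => ∑ᶠ i, Cyc.divFun δ (ξ i) (f i) x) ⊆
      ⋃ i ∈ {i | (closure {ξ i} ∩ W).Nonempty},
        {z : X | z ∈ W' ∧ Cyc.divFun δ (ξ i) (f i) z ≠ 0} := by
    rintro z ⟨hzW', hzD⟩
    have hzD' : (∑ᶠ i, Cyc.divFun δ (ξ i) (f i) z) ≠ 0 := hzD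
    obtain ⟨i, hi⟩ : ∃ i, Cyc.divFun δ (ξ i) (f i) z ≠ 0 := by
      by_contra hall
      push Not at hall
      exact hzD' (finsum_eq_zero_of_forall_eq_zero hall)
    have hsp := (divFun_ne_zero_imp δ (ξ i) (f i) z hi).1
    refine Set.mem_biUnion (x := i) ?_ ⟨hzW', hi⟩
    exact ⟨z, specializes_iff_mem_closure.mp hsp, hW'W hzW'⟩
  refine (Set.Finite.biUnion hfin (fun i _ => ?_)).subset hsub
  exact finite_support_divFun_inter δ hdim W' hW' _ _ (hf i)

/-- a locally finite sum of principal divisors, as a cycle. -/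
noncomputable def sumDivCycle : AlgebraicCycle X ℤ :=
  { toFun := fun x => ∑ᶠ i, Cyc.divFun δ (ξ i) (f i) x
    supportWithinDomain' := fun _ _ => Set.mem_univ _
    supportLocallyFiniteWithinDomain' := locallyFinite_sumDivFun δ hdim ξ f hf hlf }

theorem sumDivCycle_apply (x : X) :
    sumDivCycle δ hdim ξ f hf hlf x = ∑ᶠ i, Cyc.divFun δ (ξ i) (f i) x := rfl

theorem sumDivFun_eq_zero_of_ne (k : ℤ) (hξ : ∀ i, δ (ξ i) = k + 1) (x : X) (hx : δ x ≠ k) :
    ∑ᶠ i, Cyc.divFun δ (ξ i) (f i) x = 0 := by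
  apply finsum_eq_zero_of_forall_eq_zero
  intro i
  by_contra hne
  have h2 := (divFun_ne_zero_imp δ (ξ i) (f i) x hne).2
  rw [hξ i] at h2
  apply hx
  omega

end sumDiv

section lf

theorem lf_of_map {W X : Type*} [TopologicalSpace W] [TopologicalSpace X] (i : W → X)
    (hi : Continuous i) {ι J : Type*} (ξ : ι → X) (w : J → W) (σ : J → ι)
    (hσ : Function.Injective σ) (hw : ∀ j, i (w j) = ξ (σ j))
    (hlf : ∀ x : X, ∃ U : Set X, IsOpen U ∧ x ∈ U ∧ {j | (closure {ξ j} ∩ U).Nonempty}.Finite) :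
    ∀ x : W, ∃ U : Set W, IsOpen U ∧ x ∈ U ∧ {j | (closure {w j} ∩ U).Nonempty}.Finite := by
  intro x
  obtain ⟨U, hUo, hxU, hfin⟩ := hlf (i x)
  refine ⟨i ⁻¹' U, hUo.preimage hi, hxU, (hfin.preimage hσ.injOn).subset ?_⟩
  rintro j ⟨x', hx'cl, hx'U⟩
  refine ⟨i x', ?_, hx'U⟩
  rw [← hw j]
  have h1 : w j ⤳ x' := specializes_iff_mem_closure.mpr hx'cl
  exact specializes_iff_mem_closure.mp (h1.map hi)

end lf

section ci

variable {W X : Scheme.{u}} (i : W ⟶ X) [IsClosedImmersion i]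

theorem ci_map_apply' (wx : W → ℤ) (wy : X → ℤ) (h : ∀ w, wx w = wy (i w))
    (D : AlgebraicCycle W ℤ) (w : W) : AlgebraicCycle.map i wx wy D (i w) = D w := by
  obtain rfl : wx = fun w => wy (i w) := funext h
  exact ci_map_apply i wy D w

theorem ci_map_apply_of_notMem' (wx : W → ℤ) (wy : X → ℤ) (h : ∀ w, wx w = wy (i w))
    (D : AlgebraicCycle W ℤ) (x : X) (hx : x ∉ Set.range i) :
    AlgebraicCycle.map i wx wy D x = 0 := by
  obtain rfl : wx = fun w => wy (i w) := funext h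
  exact ci_map_apply_of_notMem i wy D x hx

/-- restriction of a cycle to a closed subscheme (as a function on points). -/
noncomputable def ciPullCycle (D : AlgebraicCycle X ℤ) : AlgebraicCycle W ℤ :=
  { toFun := fun w => D (i w)
    supportWithinDomain' := fun _ _ => Set.mem_univ _
    supportLocallyFiniteWithinDomain' := by
      intro w _
      obtain ⟨t, ht, hfin⟩ := D.supportLocallyFiniteWithinDomain' (i w) trivial
      refine ⟨i ⁻¹' t, i.continuous.continuousAt.preimage_mem_nhds ht, ?_⟩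
      refine (hfin.preimage (ci_injective i).injOn).subset ?_
      rintro w' ⟨hw't, hw'⟩
      exact ⟨hw't, hw'⟩ }

theorem ciPullCycle_apply (D : AlgebraicCycle X ℤ) (w : W) : ciPullCycle i D w = D (i w) := rfl

variable [IsLocallyNoetherian X] (δ : X → ℤ) (hdim : Cyc.IsDimFun X δ)

include hdim in
/-- a principal divisor on `X` whose generic point lies on the closed subscheme `W` comes from
`W`. -/
theorem exists_divFun_ci (ξ : X) (hξ : ξ ∈ Set.range i) (f : X.residueField ξ) (hf : f ≠ 0) :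
    ∃ (w : W) (f' : W.residueField w), i w = ξ ∧ f' ≠ 0 ∧
      ∀ w', Cyc.divFun (fun x => δ (i x)) w f' w' = Cyc.divFun δ ξ f (i w') := by
  obtain ⟨w, rfl⟩ := hξ
  refine ⟨w, (i.residueFieldMap w).hom f, rfl, ?_, fun w' => ci_divFun i δ hdim w w' f⟩
  intro h
  apply hf
  apply (i.residueFieldMap w).hom.injective
  rw [h, map_zero]

theorem divFun_eq_zero_of_notMem_range (ξ : X) (hξ : ξ ∈ Set.range i) (f : X.residueField ξ)
    (x : X) (hx : x ∉ Set.range i) : Cyc.divFun δ ξ f x = 0 := by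
  obtain ⟨w, rfl⟩ := hξ
  exact ci_divFun_of_notMem i δ w x hx f

end ci

end Groth.Agent.Lib.Helper71.PushRat
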