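import Mathlib
import Groth.Prelude.Def_Cyc
import Groth.Agent.Lib.Helper71.PushRatD
import Groth.Agent.Lib.Helper71.PushRatE

set_option autoImplicit false
set_option linter.unusedSectionVars false
set_option linter.unusedVariables false
set_option linter.style.haveILetI false
universe u

namespace Groth.Agent.Lib.Helper71.PushRat

open CategoryTheory AlgebraicGeometry IsLocalRing

section mapLinear

variable {X Y : Scheme.{u}} (p : X ⟶ Y) [QuasiCompact p] (δX : X → ℤ) (δY : Y → ℤ)

theorem map_apply_eq (α : AlgebraicCycle X ℤ) (y : Y) :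
    AlgebraicCycle.map p δX δY α y =
      ∑ᶠ x ∈ p ⁻¹' {y}, α x * ((AlgebraicCycle.mapCoeff p δX δY x : ℕ) : ℤ) := rfl

theorem finite_fiber_support (α : AlgebraicCycle X ℤ) (y : Y) :
    (p ⁻¹' {y} ∩ Function.support
      (fun x => α x * ((AlgebraicCycle.mapCoeff p δX δY x : ℕ) : ℤ))).Finite := by
  have hK : IsCompact (p ⁻¹' {y}) := p.isCompact_preimage_singleton y
  refine (α.locallyFiniteSupport.finite_inter_support_of_isCompact hK).subset ?_
  rintro x ⟨hxK, hx⟩
  refine ⟨hxK, ?_⟩
  intro h0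
  apply hx
  have h0' : α x = 0 := h0
  show α x * _ = 0
  rw [h0', zero_mul]

theorem map_add (α β : AlgebraicCycle X ℤ) :
    AlgebraicCycle.map p δX δY (α + β) =
      AlgebraicCycle.map p δX δY α + AlgebraicCycle.map p δX δY β := by
  ext y
  rw [Function.locallyFinsuppWithin.coe_add]
  show AlgebraicCycle.map p δX δY (α + β) y =
    AlgebraicCycle.map p δX δY α y + AlgebraicCycle.map p δX δY β y
  rw [map_apply_eq, map_apply_eq, map_apply_eq,
    ← finsum_mem_add_distrib' (finite_fiber_support p δX δY α y) (finite_fiber_support p δX δY β y)]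
  apply finsum_mem_congr rfl
  intro x _
  rw [Function.locallyFinsuppWithin.coe_add]
  show (α x + β x) * _ = _
  ring

theorem map_neg (α : AlgebraicCycle X ℤ) :
    AlgebraicCycle.map p δX δY (-α) = - AlgebraicCycle.map p δX δY α := by
  have h := map_add p δX δY α (-α)
  rw [add_neg_cancel, map_zero_cycle] at h
  exact eq_neg_of_add_eq_zero_right h.symm

theorem map_sub (α β : AlgebraicCycle X ℤ) :
    AlgebraicCycle.map p δX δY (α - β) =
      AlgebraicCycle.map p δX δY α - AlgebraicCycle.map p δX δY β := by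
  rw [sub_eq_add_neg, map_add, map_neg, ← sub_eq_add_neg]

end mapLinear

section mapSum

variable {X Y : Scheme.{u}} [IsLocallyNoetherian X] (p : X ⟶ Y) [QuasiCompact p]
  (δX : X → ℤ) (δY : Y → ℤ) (hdim : Cyc.IsDimFun X δX)
  {ι : Type*} (ξ : ι → X) (f : (i : ι) → X.residueField (ξ i)) (hf : ∀ i, f i ≠ 0)
  (hlf : ∀ x : X, ∃ U : Set X, IsOpen U ∧ x ∈ U ∧ {i | (closure {ξ i} ∩ U).Nonempty}.Finite)

/-- the push-forward of a locally finite sum of principal divisors, pointwise. -/
theorem map_sumDivCycle (y : Y) :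
    AlgebraicCycle.map p δX δY (sumDivCycle δX hdim ξ f hf hlf) y =
      ∑ᶠ i, AlgebraicCycle.map p δX δY (divCycle δX hdim (ξ i) (f i) (hf i)) y := by
  have hK : IsCompact (p ⁻¹' {y}) := p.isCompact_preimage_singleton y
  have hLF : LocallyFinite (fun i => closure ({ξ i} : Set X)) := by
    intro x
    obtain ⟨U, hUo, hxU, hUfin⟩ := hlf x
    exact ⟨U, hUo.mem_nhds hxU, hUfin⟩
  have hI₀ : {i | (closure ({ξ i} : Set X) ∩ p ⁻¹' {y}).Nonempty}.Finite :=
    hLF.finite_nonempty_inter_compact hK
  have e4 : AlgebraicCycle.map p δX δY (sumDivCycle δX hdim ξ f hf hlf) y =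
      ∑ᶠ x ∈ p ⁻¹' {y}, ∑ᶠ i, Cyc.divFun δX (ξ i) (f i) x *
        ((AlgebraicCycle.mapCoeff p δX δY x : ℕ) : ℤ) := by
    rw [map_apply_eq]
    apply finsum_mem_congr rfl
    intro x _
    rw [sumDivCycle_apply, finsum_mul]
  rw [e4, finsum_mem_finsum_comm (p ⁻¹' {y})
    (fun i x => Cyc.divFun δX (ξ i) (f i) x * ((AlgebraicCycle.mapCoeff p δX δY x : ℕ) : ℤ)) _ hI₀]
  · rfl
  · intro i hi x hx
    have : Cyc.divFun δX (ξ i) (f i) x = 0 := by
      by_contra hne
      apply hi
      exact ⟨x, specializes_iff_mem_closure.mp (divFun_ne_zero_imp δX (ξ i) (f i) x hne).1, hx⟩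
    show Cyc.divFun δX (ξ i) (f i) x * _ = 0
    rw [this, zero_mul]
  · intro i _
    exact finite_fiber_support p δX δY (divCycle δX hdim (ξ i) (f i) (hf i)) y

end mapSum

section lift

variable {W V X Y : Scheme.{u}} [IsIntegral W] [IsIntegral V] (iW : W ⟶ X) (iV : V ⟶ Y)
  (p : X ⟶ Y) (q : W ⟶ V) [IsClosedImmersion iW] [IsClosedImmersion iV] [IsProper p]
  (hsq : q ≫ iV = iW ≫ p) (δX : X → ℤ) (δY : Y → ℤ) (hX : Cyc.IsSetup X δX)
  (hY : Cyc.IsSetup Y δY) (hδ : Cyc.DeltaCompat p δX δY)

include hsq in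
theorem sq_residueDegree (w : W) : q.residueDegree w = p.residueDegree (iW w) := by
  have h1 := Groth.Agent.Lib.Helper55.residueDegree_comp q iV w
  have h2 := Groth.Agent.Lib.Helper55.residueDegree_comp iW p w
  rw [ci_residueDegree iV (q w), one_mul] at h1
  rw [ci_residueDegree iW w, mul_one] at h2
  rw [← h1, ← h2]
  exact congrArg (fun t : W ⟶ Y => t.residueDegree w) hsq

theorem normGen_residueFieldMap {X Y : Scheme.{u}} (q : X ⟶ Y) (x : X) (hdeg : q.residueDegree x = 1)
    (r : Y.residueField (q x)) : Cyc.normGen q x ((q.residueFieldMap x).hom r) = r := by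
  unfold Cyc.normGen
  letI := (q.residueFieldMap x).hom.toAlgebra
  have h1 : (q.residueFieldMap x).hom r = algebraMap (Y.residueField (q x)) (X.residueField x) r :=
    rfl
  rw [h1, Algebra.norm_algebraMap]
  have h2 : Module.finrank (Y.residueField (q x)) (X.residueField x) = 1 := hdeg
  rw [h2, pow_one]

include hsq hX hY hδ in
theorem lift_div_square (ξ : X) (η : Y) (hξ : iW (genericPoint W) = ξ)
    (hη : iV (genericPoint V) = η) (hpξ : p ξ = η) (hdeg : p.residueDegree ξ = 1)
    (hn : δX ξ = δY η) (g : Y.residueField η) (hg : g ≠ 0) :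
    ∃ f : X.residueField ξ, f ≠ 0 ∧ ∀ A : AlgebraicCycle X ℤ, ⇑A = Cyc.divFun δX ξ f →
      ∀ y, AlgebraicCycle.map p δX δY A y = Cyc.divFun δY η g y := by
  subst hξ hη
  have hXN : IsLocallyNoetherian X := hX.1
  have hYN : IsLocallyNoetherian Y := hY.1
  have hWN : IsLocallyNoetherian W := ci_isLocallyNoetherian iW
  have hVN : IsLocallyNoetherian V := ci_isLocallyNoetherian iV
  have hW : Cyc.IsSetup W (fun w => δX (iW w)) := ci_isSetup iW δX hX
  have hV : Cyc.IsSetup V (fun v => δY (iV v)) := ci_isSetup iV δY hY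
  have hq : IsProper q := sq_isProper iW iV p q hsq
  have hδq : Cyc.DeltaCompat q (fun w => δX (iW w)) (fun v => δY (iV v)) :=
    sq_deltaCompat iW iV p q hsq δX δY hδ
  have hdom : q (genericPoint W) = genericPoint V := by
    apply ci_injective iV
    rw [sq_apply iW iV p q hsq, hpξ]
  have hqdeg : q.residueDegree (genericPoint W) = 1 := by
    rw [sq_residueDegree iW iV p q hsq, hdeg]
  have key : ∀ v, q (genericPoint W) = v → ∀ g : Y.residueField (iV v), g ≠ 0 →
      ∃ f : X.residueField (iW (genericPoint W)), f ≠ 0 ∧ ∀ A : AlgebraicCycle X ℤ,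
        ⇑A = Cyc.divFun δX (iW (genericPoint W)) f →
        ∀ y, AlgebraicCycle.map p δX δY A y = Cyc.divFun δY (iV v) g y := by
    rintro _ rfl g hg
    -- the function on `W`
    have hr0 : (iV.residueFieldMap (q (genericPoint W))).hom g ≠ 0 := by
      intro h
      apply hg
      apply (iV.residueFieldMap (q (genericPoint W))).hom.injective
      rw [h, map_zero]
    have hfW0 : (q.residueFieldMap (genericPoint W)).hom
        ((iV.residueFieldMap (q (genericPoint W))).hom g) ≠ 0 := by
      intro h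
      apply hr0
      apply (q.residueFieldMap (genericPoint W)).hom.injective
      rw [h, map_zero]
    obtain ⟨f, hfeq⟩ := (ci_residueFieldMap_bijective iW (genericPoint W)).2
      ((q.residueFieldMap (genericPoint W)).hom
        ((iV.residueFieldMap (q (genericPoint W))).hom g))
    have hf0 : f ≠ 0 := by
      rintro rfl
      apply hfW0
      rw [← hfeq, map_zero]
    refine ⟨f, hf0, fun A hA y => ?_⟩
    have hfW : (iW.residueFieldMap (genericPoint W)).hom f ≠ 0 := by
      rw [hfeq]
      exact hfW0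
    let DW : AlgebraicCycle W ℤ := divCycle (fun w => δX (iW w)) hW.2.2 (genericPoint W)
      ((iW.residueFieldMap (genericPoint W)).hom f) hfW
    have hDW : ⇑DW = Cyc.divFun (fun w => δX (iW w)) (genericPoint W)
      ((iW.residueFieldMap (genericPoint W)).hom f) := rfl
    have hA' : A = AlgebraicCycle.map iW (fun w => δX (iW w)) δX DW := by
      ext x
      have hAx : A x = Cyc.divFun δX (iW (genericPoint W)) f x := congrFun hA x
      rw [hAx]
      by_cases hx : x ∈ Set.range iW
      · obtain ⟨w, rfl⟩ := hx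
        rw [ci_map_apply iW δX DW w]
        exact (ci_divFun iW δX hX.2.2 (genericPoint W) w f).symm
      · rw [ci_map_apply_of_notMem iW δX DW x hx]
        exact ci_divFun_of_notMem iW δX (genericPoint W) x hx f
    have h1 : AlgebraicCycle.map p δX δY (AlgebraicCycle.map iW (fun w => δX (iW w)) δX DW) =
        AlgebraicCycle.map (iW ≫ p) (fun w => δX (iW w)) δY DW :=
      Groth.Agent.Lib.Helper55.map_map_of_le iW p (fun w => δX (iW w)) δX δY
        (fun w => le_refl _) (deltaCompat_le p δX δY hδ) DW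
    have h2 : AlgebraicCycle.map iV (fun v => δY (iV v)) δY
        (AlgebraicCycle.map q (fun w => δX (iW w)) (fun v => δY (iV v)) DW) =
        AlgebraicCycle.map (q ≫ iV) (fun w => δX (iW w)) δY DW :=
      Groth.Agent.Lib.Helper55.map_map_of_le q iV (fun w => δX (iW w)) (fun v => δY (iV v)) δY
        (deltaCompat_le q _ _ hδq) (fun v => le_refl _) DW
    have h3 : AlgebraicCycle.map (q ≫ iV) (fun w => δX (iW w)) δY DW =
        AlgebraicCycle.map (iW ≫ p) (fun w => δX (iW w)) δY DW :=
      map_congr_hom _ _ hsq _ _ _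
    have hS := Groth.Agent.S1906.result W V (fun w => δX (iW w)) (fun v => δY (iV v)) hW hV q hδq
      hdom hn ((iW.residueFieldMap (genericPoint W)).hom f) hfW DW hDW
    rw [hfeq, normGen_residueFieldMap q (genericPoint W) hqdeg] at hS
    rw [hA', h1, ← h3, ← h2]
    by_cases hy : y ∈ Set.range iV
    · obtain ⟨v', rfl⟩ := hy
      rw [ci_map_apply iV δY _ v', congrFun hS v']
      exact ci_divFun iV δY hY.2.2 (q (genericPoint W)) v' g
    · rw [ci_map_apply_of_notMem iV δY _ y hy]
      exact (ci_divFun_of_notMem iV δY (q (genericPoint W)) y hy g).symm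
  exact key _ hdom g hg

end lift

section liftPoint

variable {X Y : Scheme.{u}} (δX : X → ℤ) (δY : Y → ℤ) (hX : Cyc.IsSetup X δX)
  (hY : Cyc.IsSetup Y δY) (p : X ⟶ Y) [IsProper p] (hδ : Cyc.DeltaCompat p δX δY)

include hX hY hδ in
/-- lifting principal divisors along a proper morphism through a point with trivial residue field
extension. -/
theorem exists_lift_div (ξ : X) (η : Y) (hη : p ξ = η) (hdeg : p.residueDegree ξ = 1)
    (hn : δX ξ = δY η) (g : Y.residueField η) (hg : g ≠ 0) :
    ∃ f : X.residueField ξ, f ≠ 0 ∧ ∀ A : AlgebraicCycle X ℤ, ⇑A = Cyc.divFun δX ξ f →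
      ∀ y, AlgebraicCycle.map p δX δY A y = Cyc.divFun δY η g y := by
  subst hη
  have := isIntegral_clSub ξ
  have := isIntegral_clSub (p ξ)
  exact lift_div_square (clι ξ) (clι (p ξ)) p (clMap ξ p) (clMap_clι ξ p) δX δY hX hY hδ ξ (p ξ)
    (genericPoint_clSub ξ) (genericPoint_clSub (p ξ)) rfl hdeg hn g hg

end liftPoint

end Groth.Agent.Lib.Helper71.PushRat
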