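import Mathlib
import Groth.Prelude.Def_Cyc
import Groth.Agent.Lib.Helper71.PushRatF

set_option autoImplicit false
set_option linter.unusedSectionVars false
set_option linter.unusedVariables false
set_option linter.style.haveILetI false
universe u

namespace Groth.Agent.Lib.Helper71.PushRat

open CategoryTheory AlgebraicGeometry IsLocalRing Limits

section point

/-- a point of a fibre product over two given points, one of which has trivial residue field
extension. -/
theorem exists_point_pullback {X Y Y' : Scheme.{u}} (f : Y ⟶ X) (g : Y' ⟶ X) (y : Y) (y' : Y')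
    (hyy' : g y' = f y) (hs : Function.Surjective (g.residueFieldMap y').hom) :
    ∃ z : ↥(pullback f g), pullback.fst f g z = y ∧ pullback.snd f g z = y' ∧
      Function.Surjective ((pullback.fst f g).residueFieldMap z).hom := by
  have hbij : Function.Bijective (g.residueFieldMap y').hom :=
    ⟨(g.residueFieldMap y').hom.injective, hs⟩
  have hiso : IsIso (g.residueFieldMap y') := by
    rw [ConcreteCategory.isIso_iff_bijective]
    exact hbij
  let K : Type u := Y.residueField y
  let ψ : Y'.residueField y' ⟶ X.residueField (g y') := inv (g.residueFieldMap y')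
  let b : Spec (Y.residueField y) ⟶ Y' :=
    Spec.map (ψ ≫ (X.residueFieldCongr hyy').hom ≫ f.residueFieldMap y) ≫
      Y'.fromSpecResidueField y'
  have hcomm : Y.fromSpecResidueField y ≫ f = b ≫ g := by
    simp only [b, Category.assoc]
    rw [← Scheme.Hom.SpecMap_residueFieldMap_fromSpecResidueField g y',
      ← Spec.map_comp_assoc]
    simp only [ψ, IsIso.hom_inv_id_assoc]
    rw [Spec.map_comp_assoc, Scheme.residueFieldCongr_fromSpecResidueField,
      Scheme.Hom.SpecMap_residueFieldMap_fromSpecResidueField]
  let l : Spec (CommRingCat.of K) ⟶ pullback f g :=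
    pullback.lift (Y.fromSpecResidueField y) b hcomm
  have hl : l ≫ pullback.fst f g = Y.fromSpecResidueField y := pullback.lift_fst _ _ _
  have hl2 : l ≫ pullback.snd f g = b := pullback.lift_snd _ _ _
  refine ⟨l (IsLocalRing.closedPoint K), ?_, ?_, ?_⟩
  · change (l ≫ pullback.fst f g) _ = y
    have := Scheme.fromSpecResidueField_apply y (IsLocalRing.closedPoint K)
    rw [← hl] at this
    exact this
  · change (l ≫ pullback.snd f g) _ = y'
    rw [hl2]
    simp only [b, Scheme.Hom.comp_apply]
    exact Scheme.fromSpecResidueField_apply y' _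
  · have h1 := Scheme.descResidueField_stalkClosedPointTo_comp (f := pullback.fst f g) l
    have h2 : Scheme.SpecToEquivOfField K Y (l ≫ pullback.fst f g) =
        ⟨y, 𝟙 _⟩ := by
      rw [hl]
      have := (Scheme.SpecToEquivOfField K Y).apply_symm_apply ⟨y, 𝟙 _⟩
      simp only [Scheme.SpecToEquivOfField_symm_apply, Spec.map_id] at this
      exact this
    rw [Scheme.SpecToEquivOfField_eq_iff] at h2
    obtain ⟨e, he⟩ := h2
    simp only [Scheme.SpecToEquivOfField_apply_snd, Category.comp_id] at he
    have h1' := h1.symm.trans he
    intro z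
    set φ := Scheme.descResidueField (Scheme.stalkClosedPointTo l) with hφ
    refine ⟨(Y.residueFieldCongr e).inv (φ z), ?_⟩
    apply φ.hom.injective
    have h3 := congrArg (fun m => m.hom ((Y.residueFieldCongr e).inv (φ z))) h1'
    refine h3.trans ?_
    exact Iso.inv_hom_id_apply (Y.residueFieldCongr e) _

end point

end Groth.Agent.Lib.Helper71.PushRat
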