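import Mathlib
import Groth.Prelude.Def_Cyc
import Groth.Prelude.Def_W4stkchowintpicEnv
import Groth.Agent.Lib.Helper71.PushRatG

set_option autoImplicit false
set_option linter.unusedSectionVars false
set_option linter.unusedVariables false
set_option linter.style.haveILetI false
universe u

namespace Groth.Agent.Lib.Helper71.PushRat

open CategoryTheory AlgebraicGeometry IsLocalRing Limits

section envelope

theorem trdeg_nat_eq_zero_of_surjective {K L : Type u} [Field K] [Field L] [Algebra K L]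
    (h : Function.Surjective (algebraMap K L)) (n : ℕ) (hn : Algebra.trdeg K L = n) : n = 0 := by
  have h0 := trdeg_eq_zero_of_surjective h
  rw [h0] at hn
  exact_mod_cast hn.symm

theorem delta_eq_of_surjective {X Y : Scheme.{u}} (p : X ⟶ Y) (δX : X → ℤ) (δY : Y → ℤ)
    (hδ : Cyc.DeltaCompat p δX δY) (x : X) (hs : Function.Surjective (p.residueFieldMap x).hom) :
    δX x = δY (p x) := by
  obtain ⟨n, hn, hδn⟩ := hδ x
  letI := (p.residueFieldMap x).hom.toAlgebra
  have hn0 : n = 0 := trdeg_nat_eq_zero_of_surjective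
    (K := Y.residueField (p x)) (L := X.residueField x) hs n hn
  rw [hδn, hn0]
  simp

theorem residueDegree_eq_one_of_surjective {X Y : Scheme.{u}} (p : X ⟶ Y) (x : X)
    (hs : Function.Surjective (p.residueFieldMap x).hom) : p.residueDegree x = 1 := by
  unfold Scheme.Hom.residueDegree
  letI := (p.residueFieldMap x).hom.toAlgebra
  exact finrank_eq_one_of_surjective hs

variable {X Y : Scheme.{u}} (δ : X → ℤ) (δY : Y → ℤ) (hX : Cyc.IsSetup X δ)
  (hY : Cyc.IsSetup Y δY) (f : Y ⟶ X) [IsProper f] (hcd : Cyc.IsCompletelyDecomposed f)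
  (hδ : Cyc.DeltaCompat f δY δ) (δ2 : ↥(pullback f f) → ℤ)
  (hδ2 : Cyc.DeltaCompat (pullback.fst f f) δ2 δY)

include hX hY hcd hδ hδ2 in
/-- exactness of `Z_k(Y ×_X Y) → CH_k(Y) → CH_k(X)` for an envelope. -/
theorem envelope_exact (k : ℤ) (β : AlgebraicCycle Y ℤ) (hβ : β ∈ Cyc.Zk Y δY k)
    (h0 : Cyc.RatEquivZero δ k (AlgebraicCycle.map f δY δ β)) :
    ∃ γ : AlgebraicCycle (pullback f f) ℤ, γ ∈ Cyc.Zk (pullback f f) δ2 k ∧
      Cyc.RatEquiv δY k β (AlgebraicCycle.map (pullback.fst f f) δ2 δY γ -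
        AlgebraicCycle.map (pullback.snd f f) δ2 δY γ) := by
  classical
  have hXN : IsLocallyNoetherian X := hX.1
  have hYN : IsLocallyNoetherian Y := hY.1
  choose s hs1 hs2 using hcd
  have hdeg : ∀ x, f.residueDegree (s x) = 1 := fun x =>
    residueDegree_eq_one_of_surjective f (s x) (hs2 x)
  have hδs : ∀ x, δY (s x) = δ x := fun x => by
    rw [delta_eq_of_surjective f δY δ hδ (s x) (hs2 x), hs1]
  have hsinj : Function.Injective s := fun a b hab => by
    rw [← hs1 a, ← hs1 b, hab]
  obtain ⟨ι, ξ, r, hξ, hr, hlf, hsum⟩ := h0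
  -- lifting the divisors
  have hl : ∀ i, ∃ r' : Y.residueField (s (ξ i)), r' ≠ 0 ∧ ∀ A : AlgebraicCycle Y ℤ,
      ⇑A = Cyc.divFun δY (s (ξ i)) r' →
      ∀ x, AlgebraicCycle.map f δY δ A x = Cyc.divFun δ (ξ i) (r i) x :=
    fun i => exists_lift_div δY δ hY hX f hδ (s (ξ i)) (ξ i) (hs1 _) (hdeg _) (hδs _) (r i) (hr i)
  choose r' hr' hlift using hl
  have hlfY := lf_of_map f f.continuous ξ (fun i => s (ξ i)) id Function.injective_id
    (fun i => hs1 _) hlf
  let B : AlgebraicCycle Y ℤ := sumDivCycle δY hY.2.2 (fun i => s (ξ i)) r' hr' hlfY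
  have hδB : ∀ i, δY (s (ξ i)) = k + 1 := fun i => by rw [hδs]; exact hξ i
  have hBk : ∀ y, δY y ≠ k → B y = 0 := fun y hy =>
    sumDivFun_eq_zero_of_ne δY (fun i => s (ξ i)) r' k hδB y hy
  have hfB : AlgebraicCycle.map f δY δ B = AlgebraicCycle.map f δY δ β := by
    ext x
    rw [map_sumDivCycle f δY δ hY.2.2 (fun i => s (ξ i)) r' hr' hlfY x, hsum x]
    exact finsum_congr (fun i => hlift i _ rfl x)
  have hβ'k : ∀ y, δY y ≠ k → (β - B) y = 0 := fun y hy => by
    rw [Function.locallyFinsuppWithin.coe_sub]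
    show β y - B y = 0
    rw [hβ y hy, hBk y hy, sub_zero]
  have hfβ' : AlgebraicCycle.map f δY δ (β - B) = 0 := by
    rw [map_sub, hfB, sub_self]
  -- points of the fibre product
  have hz : ∀ y : Y, ∃ z : ↥(pullback f f), pullback.fst f f z = y ∧
      pullback.snd f f z = s (f y) ∧
      Function.Surjective ((pullback.fst f f).residueFieldMap z).hom :=
    fun y => exists_point_pullback f f y (s (f y)) (hs1 (f y)) (hs2 (f y))
  choose z hz1 hz2 hz3 using hz
  have hzinj : Function.Injective z := fun a b hab => by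
    rw [← hz1 a, ← hz1 b, hab]
  have hfstdeg : ∀ y, (pullback.fst f f).residueDegree (z y) = 1 := fun y =>
    residueDegree_eq_one_of_surjective _ (z y) (hz3 y)
  have hδ2z : ∀ y, δ2 (z y) = δY y := fun y => by
    rw [delta_eq_of_surjective _ δ2 δY hδ2 (z y) (hz3 y), hz1]
  have hc₁ : ∀ y, AlgebraicCycle.mapCoeff (pullback.fst f f) δ2 δY (z y) = 1 := by
    intro y
    unfold AlgebraicCycle.mapCoeff
    rw [if_pos (by rw [hδ2z]; exact congrArg δY (hz1 y).symm), hfstdeg]
  have hsnddeg : ∀ y, (pullback.snd f f).residueDegree (z y) = f.residueDegree y := by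
    intro y
    have h1 := Groth.Agent.Lib.Helper55.residueDegree_comp (pullback.fst f f) f (z y)
    have h2 := Groth.Agent.Lib.Helper55.residueDegree_comp (pullback.snd f f) f (z y)
    rw [hz1, hfstdeg, mul_one] at h1
    rw [hz2, hdeg, one_mul] at h2
    rw [← h1, ← h2]
    exact congrArg (fun t : pullback f f ⟶ X => t.residueDegree (z y))
      (pullback.condition (f := f) (g := f)).symm
  have hc₂ : ∀ y, AlgebraicCycle.mapCoeff (pullback.snd f f) δ2 δY (z y) =
      AlgebraicCycle.mapCoeff f δY δ y := by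
    intro y
    unfold AlgebraicCycle.mapCoeff
    have e1 : δ2 (z y) = δY ((pullback.snd f f) (z y)) ↔ δY y = δ (f y) := by
      rw [hδ2z, hz2, hδs]
    by_cases hc : δY y = δ (f y)
    · rw [if_pos (e1.mpr hc), if_pos hc, hsnddeg]
    · rw [if_neg (fun h => hc (e1.mp h)), if_neg hc]
  -- the cycle on the fibre product
  let γfun : ↥(pullback f f) → ℤ :=
    fun z' => if z' = z (pullback.fst f f z') then (β - B) (pullback.fst f f z') else 0
  have hsupp : ∀ z', γfun z' ≠ 0 →
      z' = z (pullback.fst f f z') ∧ (β - B) (pullback.fst f f z') ≠ 0 := by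
    intro z' hz'
    by_cases h : z' = z (pullback.fst f f z')
    · refine ⟨h, ?_⟩
      simpa [γfun, if_pos h] using hz'
    · exact absurd (by simp [γfun, if_neg h]) hz'
  have hγz : ∀ y, γfun (z y) = (β - B) y := by
    intro y
    have : z y = z (pullback.fst f f (z y)) := by rw [hz1 y]
    simp only [γfun, if_pos this, hz1 y]
  let γ : AlgebraicCycle (pullback f f) ℤ :=
    { toFun := γfun
      supportWithinDomain' := by simp
      supportLocallyFiniteWithinDomain' := by
        intro z' _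
        obtain ⟨t, ht, hfin⟩ :=
          (β - B).supportLocallyFiniteWithinDomain' (pullback.fst f f z') trivial
        refine ⟨pullback.fst f f ⁻¹' t,
          (pullback.fst f f).continuous.continuousAt.preimage_mem_nhds ht, ?_⟩
        refine (hfin.image z).subset ?_
        rintro z'' ⟨hz''t, hz''⟩
        obtain ⟨h1, h2⟩ := hsupp z'' hz''
        exact ⟨pullback.fst f f z'', ⟨hz''t, h2⟩, h1.symm⟩ }
  have hγ : ∀ z', γ z' = γfun z' := fun z' => rfl
  have hp₁ : AlgebraicCycle.map (pullback.fst f f) δ2 δY γ = β - B := by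
    ext y
    show (∑ᶠ z' ∈ pullback.fst f f ⁻¹' {y}, γ z' *
      ((AlgebraicCycle.mapCoeff (pullback.fst f f) δ2 δY z' : ℕ) : ℤ)) = (β - B) y
    rw [finsum_mem_def, finsum_eq_single _ (z y)]
    · have hmem : z y ∈ pullback.fst f f ⁻¹' {y} := hz1 y
      rw [Set.indicator_of_mem hmem, hγ, hγz, hc₁]
      simp
    · intro z' hz'
      by_cases hmem : z' ∈ pullback.fst f f ⁻¹' {y}
      · rw [Set.indicator_of_mem hmem]
        have hfy : pullback.fst f f z' = y := hmem
        have : γfun z' = 0 := by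
          by_contra hne
          obtain ⟨h1, -⟩ := hsupp z' hne
          rw [hfy] at h1
          exact hz' h1
        rw [hγ, this, zero_mul]
      · rw [Set.indicator_of_notMem hmem]
  have hp₂ : AlgebraicCycle.map (pullback.snd f f) δ2 δY γ = 0 := by
    ext y'
    show (∑ᶠ z' ∈ pullback.snd f f ⁻¹' {y'}, γ z' *
      ((AlgebraicCycle.mapCoeff (pullback.snd f f) δ2 δY z' : ℕ) : ℤ)) = 0
    have e1 : (∑ᶠ z' ∈ pullback.snd f f ⁻¹' {y'}, γ z' *
        ((AlgebraicCycle.mapCoeff (pullback.snd f f) δ2 δY z' : ℕ) : ℤ)) =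
        ∑ᶠ z' ∈ z '' {y | s (f y) = y'}, γ z' *
        ((AlgebraicCycle.mapCoeff (pullback.snd f f) δ2 δY z' : ℕ) : ℤ) := by
      apply finsum_mem_inter_support_eq
      ext z'
      simp only [Set.mem_inter_iff, Set.mem_preimage, Set.mem_singleton_iff, Function.mem_support,
        Set.mem_image, Set.mem_ofPred_eq]
      constructor
      · rintro ⟨hz'T, hne⟩
        refine ⟨?_, hne⟩
        have hγne : γfun z' ≠ 0 := by
          intro h0
          apply hne
          rw [hγ, h0, zero_mul]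
        obtain ⟨h1, -⟩ := hsupp z' hγne
        refine ⟨pullback.fst f f z', ?_, h1.symm⟩
        rw [← hz2, ← h1]
        exact hz'T
      · rintro ⟨⟨y, hy, rfl⟩, hne⟩
        refine ⟨?_, hne⟩
        rw [hz2]
        exact hy
    rw [e1, finsum_mem_image hzinj.injOn]
    have e2 : ∀ y ∈ {y | s (f y) = y'}, γ (z y) *
        ((AlgebraicCycle.mapCoeff (pullback.snd f f) δ2 δY (z y) : ℕ) : ℤ) =
        (β - B) y * ((AlgebraicCycle.mapCoeff f δY δ y : ℕ) : ℤ) := by
      intro y _
      rw [hγ, hγz, hc₂]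
    rw [finsum_mem_congr rfl e2]
    by_cases hy' : y' ∈ Set.range s
    · obtain ⟨x, rfl⟩ := hy'
      have hset : {y | s (f y) = s x} = f ⁻¹' {x} := by
        ext y
        simp only [Set.mem_ofPred_eq, Set.mem_preimage, Set.mem_singleton_iff]
        exact ⟨fun h => hsinj h, fun h => by rw [h]⟩
      rw [hset]
      have := congrArg (fun c : AlgebraicCycle X ℤ => c x) hfβ'
      exact this
    · have hset : {y | s (f y) = y'} = ∅ := by
        ext y
        simp only [Set.mem_ofPred_eq, Set.mem_empty_iff_false, iff_false]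
        exact fun h => hy' ⟨f y, h⟩
      rw [hset, finsum_mem_empty]
  refine ⟨γ, ?_, ?_⟩
  · intro z' hz'
    by_contra hne
    obtain ⟨h1, h2⟩ := hsupp z' hne
    apply hz'
    rw [h1, hδ2z]
    by_contra hk
    exact h2 (hβ'k _ hk)
  · show Cyc.RatEquivZero δY k _
    rw [hp₁, hp₂, sub_zero, sub_sub_cancel]
    exact ⟨ι, fun i => s (ξ i), r', hδB, hr', hlfY, fun y => rfl⟩

end envelope

end Groth.Agent.Lib.Helper71.PushRat
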