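import Mathlib
import Groth.Prelude.Def_Bivar2
import Groth.Agent.Lib.Helper71.PushRatH
import Groth.Agent.Lib.Helper55.DimFun
import Groth.Agent.Lib.Helper98.UnivCatenary

set_option autoImplicit false
set_option linter.unusedSectionVars false
set_option linter.unusedVariables false
set_option linter.style.haveILetI false
universe u

namespace Groth.Agent.Lib.Helper71.PushRat

open CategoryTheory AlgebraicGeometry IsLocalRing Limits

section rings

/-- universal catenarity passes to finite type algebras. -/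
theorem isUC_of_finiteType {A B : Type u} [CommRing A] [CommRing B] [Algebra A B]
    (hA : CAlg.IsUniversallyCatenary A) (hft : Algebra.FiniteType A B) :
    CAlg.IsUniversallyCatenary B := by
  have hN : IsNoetherianRing A := hA.1
  refine ⟨Algebra.FiniteType.isNoetherianRing A B, ?_⟩
  intro T _ _ hT
  let _ : Algebra A T := ((algebraMap B T).comp (algebraMap A B)).toAlgebra
  have : IsScalarTower A B T := IsScalarTower.of_algebraMap_eq' rfl
  exact hA.2 T (Algebra.FiniteType.trans hft hT)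

/-- universal catenarity passes to localizations. -/
theorem isUC_of_isLocalization {R : Type u} [CommRing R] (M : Submonoid R) (Rm : Type u)
    [CommRing Rm] [Algebra R Rm] [IsLocalization M Rm] (hR : CAlg.IsUniversallyCatenary R) :
    CAlg.IsUniversallyCatenary Rm := by
  obtain ⟨hN, hcat⟩ := hR
  refine ⟨IsLocalization.isNoetherianRing M Rm hN, ?_⟩
  intro S _ _ hft
  letI : Algebra R S := ((algebraMap Rm S).comp (algebraMap R Rm)).toAlgebra
  haveI : IsScalarTower R Rm S := IsScalarTower.of_algebraMap_eq' rfl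
  exact Groth.Agent.Lib.Helper98.isCatenary_of_finiteType_over_localization M Rm hcat S hft

end rings

section setup

/-- The standing hypotheses pass to schemes locally of finite type with the induced dimension
function. -/
theorem isSetup_of_lft {X' X : Scheme.{u}} (g : X' ⟶ X) [LocallyOfFiniteType g] (δ' : X' → ℤ)
    (δ : X → ℤ) (hX : Cyc.IsSetup X δ) (hδ : Cyc.DeltaCompat g δ' δ) : Cyc.IsSetup X' δ' := by
  haveI : IsLocallyNoetherian X := hX.1
  haveI : IsLocallyNoetherian X' := LocallyOfFiniteType.isLocallyNoetherian g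
  refine ⟨inferInstance, ?_, Groth.Agent.Lib.Helper55.isDimFun_of_deltaCompat g δ hX δ' hδ⟩
  intro x'
  obtain ⟨V, hV, hgV, -⟩ := exists_isAffineOpen_mem_and_subset (x := g x') (U := ⊤) trivial
  obtain ⟨U, hU, hxU, e⟩ := exists_isAffineOpen_mem_and_subset (x := x') (U := g ⁻¹ᵁ V) hgV
  have hA : CAlg.IsUniversallyCatenary Γ(X, V) :=
    Groth.Agent.Lib.Helper55.isUniversallyCatenary_sections hV hX.2.1
  let _ : Algebra Γ(X, V) Γ(X', U) := (g.appLE V U e).hom.toAlgebra
  have hft : Algebra.FiniteType Γ(X, V) Γ(X', U) := g.finiteType_appLE hV hU e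
  have hB := isUC_of_finiteType hA hft
  let _ : Algebra Γ(X', U) (X'.presheaf.stalk x') := (X'.presheaf.germ U x' hxU).hom.toAlgebra
  have hloc : IsLocalization.AtPrime (X'.presheaf.stalk x')
      (hU.primeIdealOf ⟨x', hxU⟩).asIdeal := hU.isLocalization_stalk ⟨x', hxU⟩
  exact isUC_of_isLocalization (hU.primeIdealOf ⟨x', hxU⟩).asIdeal.primeCompl _ hB

/-- existence of the induced dimension function along a morphism locally of finite type. -/
theorem exists_deltaCompat {X' X : Scheme.{u}} (g : X' ⟶ X) [LocallyOfFiniteType g] (δ : X → ℤ) :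
    ∃ δ' : X' → ℤ, Cyc.DeltaCompat g δ' δ := by
  have hfin : ∀ x' : X', ∃ n : ℕ, @Algebra.trdeg (X.residueField (g x')) (X'.residueField x') _ _
      (g.residueFieldMap x').hom.toAlgebra = n := by
    intro x'
    letI := (g.residueFieldMap x').hom.toAlgebra
    have h1 : (g.residueFieldMap x').hom.EssFiniteType :=
      RingHom.EssFiniteType.residueFieldMap (LocallyOfFiniteType.stalkMap g x')
    have h2 : Algebra.EssFiniteType (X.residueField (g x')) (X'.residueField x') := h1
    have h3 := trdeg_lt_aleph0 (X.residueField (g x')) (X'.residueField x')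
    obtain ⟨n, hn⟩ := Cardinal.lt_aleph0.mp h3
    exact ⟨n, hn⟩
  choose n hn using hfin
  exact ⟨fun x' => δ (g x') + n x', fun x' => ⟨n x', hn x', rfl⟩⟩

/-- cancellation: if `δA` is induced from `δC` along `h ≫ g` and `δB` from `δC` along `g` then
`δA` is induced from `δB` along `h`. -/
theorem deltaCompat_of_comp {A B C : Scheme.{u}} (h : A ⟶ B) (g : B ⟶ C) (δA : A → ℤ) (δB : B → ℤ)
    (δC : C → ℤ) (hhg : Cyc.DeltaCompat (h ≫ g) δA δC) (hg : Cyc.DeltaCompat g δB δC) :
    Cyc.DeltaCompat h δA δB := by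
  intro a
  obtain ⟨N, hN1, hN2⟩ := hhg a
  obtain ⟨m, hm1, hm2⟩ := hg (h a)
  have key := trdeg_comp h g a
  rw [hN1, hm1] at key
  have hlt : @Algebra.trdeg (B.residueField (h a)) (A.residueField a) _ _
      (h.residueFieldMap a).hom.toAlgebra < Cardinal.aleph0 := by
    refine lt_of_le_of_lt ?_ (Cardinal.natCast_lt_aleph0 (n := N))
    rw [← key]
    exact le_add_self
  obtain ⟨n, hn⟩ := Cardinal.lt_aleph0.mp hlt
  refine ⟨n, hn, ?_⟩
  rw [hn] at key
  have hmn : m + n = N := by exact_mod_cast key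
  rw [hN2, hm2, ← hmn]
  push_cast
  change δC (g (h a)) + (m + n) = δC (g (h a)) + m + n
  ring

end setup

section chow

variable {X Y : Scheme.{u}} (δX : X → ℤ) (δY : Y → ℤ) (hX : Cyc.IsSetup X δX)
  (hY : Cyc.IsSetup Y δY) (p : X ⟶ Y) [IsProper p] (hδ : Cyc.DeltaCompat p δX δY)

/-- proper pushforward on `k`-cycles as a group homomorphism. -/
noncomputable def zkMap (k : ℤ) : ↥(ChowOps.zk X δX k) →+ ↥(ChowOps.zk Y δY k) where
  toFun a := ⟨AlgebraicCycle.map p δX δY a.1, Bivar.cycMap_mem_Zk p δX δY k a.2⟩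
  map_zero' := Subtype.ext (Bivar.cycMap_zero p δX δY)
  map_add' a b := Subtype.ext (Bivar.cycMap_add p δX δY a.1 b.1)

include hX hY hδ in
theorem ratTriv_le_comap (k : ℤ) :
    ChowOps.ratTriv X δX k ≤ (ChowOps.ratTriv Y δY k).comap (zkMap δX δY p k) := by
  unfold ChowOps.ratTriv
  rw [AddSubgroup.closure_le]
  intro a ha
  apply AddSubgroup.subset_closure
  change Cyc.RatEquivZero δY k (AlgebraicCycle.map p δX δY a.1)
  have h1 : Cyc.RatEquiv δX k a.1 0 := by
    change Cyc.RatEquivZero δX k (a.1 - 0)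
    rw [sub_zero]
    exact ha
  have h2 := ratEquiv_map δX δY hX hY p hδ k a.1 0 h1
  change Cyc.RatEquivZero δY k _ at h2
  rwa [Bivar.cycMap_zero, sub_zero] at h2

/-- proper pushforward on Chow groups. -/
noncomputable def chMap (k : ℤ) : ChowOps.CH X δX k →+ ChowOps.CH Y δY k :=
  QuotientAddGroup.map (ChowOps.ratTriv X δX k) (ChowOps.ratTriv Y δY k) (zkMap δX δY p k)
    (ratTriv_le_comap δX δY hX hY p hδ k)

theorem chMap_cl (k : ℤ) (β : AlgebraicCycle X ℤ) (hβ : β ∈ Cyc.Zk X δX k) :
    chMap δX δY hX hY p hδ k (ChowOps.cl β hβ) =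
      ChowOps.cl (AlgebraicCycle.map p δX δY β) (Bivar.cycMap_mem_Zk p δX δY k hβ) := rfl

include hX hY hδ in
/-- proper pushforward of cycles passes to rational equivalence. -/
theorem cl_map_congr (k : ℤ) (β₁ β₂ : AlgebraicCycle X ℤ) (h₁ : β₁ ∈ Cyc.Zk X δX k)
    (h₂ : β₂ ∈ Cyc.Zk X δX k) (h : ChowOps.cl β₁ h₁ = ChowOps.cl β₂ h₂) :
    ChowOps.cl (AlgebraicCycle.map p δX δY β₁) (Bivar.cycMap_mem_Zk p δX δY k h₁) =
      ChowOps.cl (AlgebraicCycle.map p δX δY β₂) (Bivar.cycMap_mem_Zk p δX δY k h₂) := by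
  have e1 := chMap_cl δX δY hX hY p hδ k β₁ h₁
  have e2 := chMap_cl δX δY hX hY p hδ k β₂ h₂
  rw [← e1, ← e2, h]

end chow

end Groth.Agent.Lib.Helper71.PushRat

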