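import Mathlib
import Groth.Prelude.Def_Bivar2
import Groth.Agent.Lib.Helper71.PushRatI
import Groth.Agent.S6482

set_option autoImplicit false
set_option linter.unusedSectionVars false
set_option linter.unusedVariables false
set_option linter.style.haveILetI false
universe u

namespace Groth.Agent.Lib.Helper71.PushRat

open CategoryTheory AlgebraicGeometry IsLocalRing Limits

section squares

variable {X Y : Scheme.{u}} {f : X ⟶ Y} {δX : X → ℤ} {δY : Y → ℤ}

theorem sq_lft_g' (s : Bivar.Sq f δX δY) : LocallyOfFiniteType s.g' := by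
  haveI := s.lft
  exact MorphismProperty.of_isPullback (P := @LocallyOfFiniteType) s.isPullback inferInstance

theorem sq_isSetupY (hY : Cyc.IsSetup Y δY) (s : Bivar.Sq f δX δY) : Cyc.IsSetup s.Y' s.δY' := by
  haveI := s.lft
  exact isSetup_of_lft s.g s.δY' δY hY s.compatY

theorem sq_isSetupX (hX : Cyc.IsSetup X δX) (s : Bivar.Sq f δX δY) : Cyc.IsSetup s.X' s.δX' := by
  haveI := sq_lft_g' s
  exact isSetup_of_lft s.g' s.δX' δX hX s.compatX

/-- the morphism of fibre products induced by a morphism of test schemes. -/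
noncomputable def sqLift (s t : Bivar.Sq f δX δY) (h : t.Y' ⟶ s.Y') (w : h ≫ s.g = t.g) :
    t.X' ⟶ s.X' :=
  s.isPullback.lift (t.f' ≫ h) t.g' (by rw [Category.assoc, w, t.isPullback.w])

@[reassoc]
theorem sqLift_f' (s t : Bivar.Sq f δX δY) (h : t.Y' ⟶ s.Y') (w : h ≫ s.g = t.g) :
    sqLift s t h w ≫ s.f' = t.f' ≫ h := s.isPullback.lift_fst _ _ _

@[reassoc]
theorem sqLift_g' (s t : Bivar.Sq f δX δY) (h : t.Y' ⟶ s.Y') (w : h ≫ s.g = t.g) :
    sqLift s t h w ≫ s.g' = t.g' := s.isPullback.lift_snd _ _ _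

theorem sqLift_isPullback (s t : Bivar.Sq f δX δY) (h : t.Y' ⟶ s.Y') (w : h ≫ s.g = t.g) :
    IsPullback t.f' (sqLift s t h w) h s.f' := by
  have h1 : IsPullback t.f' t.g' (h ≫ s.g) f := by rw [w]; exact t.isPullback
  exact IsPullback.of_bot' h1 s.isPullback

theorem sqLift_isProper (s t : Bivar.Sq f δX δY) (h : t.Y' ⟶ s.Y') (w : h ≫ s.g = t.g)
    [IsProper h] : IsProper (sqLift s t h w) :=
  MorphismProperty.of_isPullback (P := @IsProper) (sqLift_isPullback s t h w) inferInstance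

theorem sq_deltaCompatY (s t : Bivar.Sq f δX δY) (h : t.Y' ⟶ s.Y') (w : h ≫ s.g = t.g) :
    Cyc.DeltaCompat h t.δY' s.δY' :=
  deltaCompat_of_comp h s.g t.δY' s.δY' δY (by rw [w]; exact t.compatY) s.compatY

theorem sq_deltaCompatX (s t : Bivar.Sq f δX δY) (h : t.Y' ⟶ s.Y') (w : h ≫ s.g = t.g) :
    Cyc.DeltaCompat (sqLift s t h w) t.δX' s.δX' :=
  deltaCompat_of_comp (sqLift s t h w) s.g' t.δX' s.δX' δX
    (by rw [sqLift_g']; exact t.compatX) s.compatX

/-- two bivariant classes agreeing on an envelope `t.Y' ⟶ s.Y'` of a test scheme agree on the test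
scheme. -/
theorem op_eq_of_envelope (hX : Cyc.IsSetup X δX) (hY : Cyc.IsSetup Y δY) {p : ℤ}
    (c₁ c₂ : Bivar.Cl p f δX δY) (s t : Bivar.Sq f δX δY) (h : t.Y' ⟶ s.Y') [IsProper h]
    (hcd : Cyc.IsCompletelyDecomposed h) (w : h ≫ s.g = t.g) (k : ℤ)
    (heq : c₁.op t k = c₂.op t k) : c₁.op s k = c₂.op s k := by
  apply AddMonoidHom.ext
  intro a
  obtain ⟨α, hα, rfl⟩ := Bivar.exists_rep a
  have hsY := sq_isSetupY hY s
  have htY := sq_isSetupY hY t
  have hsX := sq_isSetupX hX s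
  have htX := sq_isSetupX hX t
  have hδh := sq_deltaCompatY s t h w
  haveI : IsProper (sqLift s t h w) := sqLift_isProper s t h w
  have hδh' := sq_deltaCompatX s t h w
  obtain ⟨β, hβ, hβα⟩ := Groth.Agent.S6482.result s.Y' t.Y' s.δY' t.δY' hsY htY h hcd hδh k α hα
  obtain ⟨β₁, hβ₁, e₁, E₁⟩ := c₁.push s t h (sqLift s t h w) w (sqLift_f' s t h w)
    (sqLift_g' s t h w) k β hβ
  obtain ⟨β₂, hβ₂, e₂, E₂⟩ := c₂.push s t h (sqLift s t h w) w (sqLift_f' s t h w)
    (sqLift_g' s t h w) k β hβ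
  have hcl : ChowOps.cl β₁ hβ₁ = ChowOps.cl β₂ hβ₂ := by rw [← e₁, ← e₂, heq]
  have hpush := cl_map_congr t.δX' s.δX' htX hsX (sqLift s t h w) hδh' (k - p) β₁ β₂ hβ₁ hβ₂ hcl
  have hα' : ChowOps.cl α hα = ChowOps.cl (AlgebraicCycle.map h t.δY' s.δY' β)
      (Bivar.cycMap_mem_Zk h t.δY' s.δY' k hβ) := Bivar.cl_congr hβα.symm _ _
  rw [hα', E₁, E₂, hpush]

end squares

end Groth.Agent.Lib.Helper71.PushRat

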