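import Mathlib
import Groth.Prelude.Def_Bivar2
import Groth.Agent.Lib.Helper71.PushRatJ

set_option autoImplicit false
set_option linter.unusedSectionVars false
set_option linter.unusedVariables false
set_option linter.style.haveILetI false
universe u

namespace Groth.Agent.Lib.Helper71.PushRat

open CategoryTheory AlgebraicGeometry IsLocalRing Limits

section ratalg

variable {X : Scheme.{u}} (δ : X → ℤ) (k : ℤ)

theorem finite_support_divFun_family' {ι : Type*} (ξ : ι → X) (f : (i : ι) → X.residueField (ξ i))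
    (hlf : ∀ x : X, ∃ U : Set X, IsOpen U ∧ x ∈ U ∧ {i | (closure {ξ i} ∩ U).Nonempty}.Finite)
    (x : X) : (Function.support (fun i => Cyc.divFun δ (ξ i) (f i) x)).Finite := by
  obtain ⟨U, hUo, hxU, hfin⟩ := hlf x
  refine hfin.subset ?_
  intro i hi
  have h1 := (divFun_ne_zero_imp δ (ξ i) (f i) x hi).1
  exact ⟨x, specializes_iff_mem_closure.mp h1, hxU⟩

theorem ratEquivZero_zero : Cyc.RatEquivZero δ k (0 : AlgebraicCycle X ℤ) := by
  refine ⟨PEmpty, fun i => i.elim, fun i => i.elim, fun i => i.elim, fun i => i.elim, ?_, ?_⟩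
  · intro x
    refine ⟨Set.univ, isOpen_univ, Set.mem_univ x, ?_⟩
    exact Set.toFinite _
  · intro x
    rw [finsum_of_isEmpty]
    rfl

theorem ratEquivZero_neg (α : AlgebraicCycle X ℤ) (h : Cyc.RatEquivZero δ k α) :
    Cyc.RatEquivZero δ k (-α) := by
  obtain ⟨ι, ξ, f, hξ, hf, hlf, hsum⟩ := h
  refine ⟨ι, ξ, fun i => (f i)⁻¹, hξ, fun i => inv_ne_zero (hf i), hlf, ?_⟩
  intro x
  have h1 : (fun i => Cyc.divFun δ (ξ i) (f i)⁻¹ x) = fun i => - Cyc.divFun δ (ξ i) (f i) x := by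
    funext i
    exact divFun_inv δ (ξ i) (f i) (hf i) x
  rw [h1, finsum_neg_distrib, ← hsum x]
  rfl

theorem ratEquivZero_add (α β : AlgebraicCycle X ℤ) (hα : Cyc.RatEquivZero δ k α)
    (hβ : Cyc.RatEquivZero δ k β) : Cyc.RatEquivZero δ k (α + β) := by
  obtain ⟨ι₁, ξ₁, f₁, hξ₁, hf₁, hlf₁, hsum₁⟩ := hα
  obtain ⟨ι₂, ξ₂, f₂, hξ₂, hf₂, hlf₂, hsum₂⟩ := hβ
  refine ⟨ι₁ ⊕ ι₂, Sum.elim ξ₁ ξ₂, fun i => Sum.rec (motive := fun i => X.residueField
    (Sum.elim ξ₁ ξ₂ i)) f₁ f₂ i, ?_, ?_, ?_, ?_⟩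
  · rintro (i | i)
    · exact hξ₁ i
    · exact hξ₂ i
  · rintro (i | i)
    · exact hf₁ i
    · exact hf₂ i
  · intro x
    obtain ⟨U₁, hU₁, hx₁, hfin₁⟩ := hlf₁ x
    obtain ⟨U₂, hU₂, hx₂, hfin₂⟩ := hlf₂ x
    refine ⟨U₁ ∩ U₂, hU₁.inter hU₂, ⟨hx₁, hx₂⟩, ?_⟩
    refine ((hfin₁.image Sum.inl).union (hfin₂.image Sum.inr)).subset ?_
    rintro (i | i) ⟨z, hz1, hz2⟩
    · exact Or.inl ⟨i, ⟨z, hz1, hz2.1⟩, rfl⟩
    · exact Or.inr ⟨i, ⟨z, hz1, hz2.2⟩, rfl⟩
  · intro x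
    have hfin₁ := finite_support_divFun_family' δ ξ₁ f₁ hlf₁ x
    have hfin₂ := finite_support_divFun_family' δ ξ₂ f₂ hlf₂ x
    have hsplit : ∑ᶠ i : ι₁ ⊕ ι₂, Cyc.divFun δ (Sum.elim ξ₁ ξ₂ i)
        (Sum.rec (motive := fun i => X.residueField (Sum.elim ξ₁ ξ₂ i)) f₁ f₂ i) x =
        ∑ᶠ i, Cyc.divFun δ (ξ₁ i) (f₁ i) x + ∑ᶠ i, Cyc.divFun δ (ξ₂ i) (f₂ i) x := by
      set F : ι₁ ⊕ ι₂ → ℤ := fun i => Cyc.divFun δ (Sum.elim ξ₁ ξ₂ i)
        (Sum.rec (motive := fun i => X.residueField (Sum.elim ξ₁ ξ₂ i)) f₁ f₂ i) x with hF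
      have hFfin : (Function.support F).Finite := by
        refine ((hfin₁.image Sum.inl).union (hfin₂.image Sum.inr)).subset ?_
        rintro (i | i) hi
        · exact Or.inl ⟨i, hi, rfl⟩
        · exact Or.inr ⟨i, hi, rfl⟩
      rw [finsum_eq_sum_of_support_subset F (s := hFfin.toFinset) (by simp),
        finsum_eq_sum_of_support_subset (fun i => Cyc.divFun δ (ξ₁ i) (f₁ i) x)
          (s := hfin₁.toFinset) (by simp),
        finsum_eq_sum_of_support_subset (fun i => Cyc.divFun δ (ξ₂ i) (f₂ i) x)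
          (s := hfin₂.toFinset) (by simp)]
      have hsub : hFfin.toFinset ⊆ hfin₁.toFinset.disjSum hfin₂.toFinset := by
        intro i hi
        rw [Set.Finite.mem_toFinset] at hi
        rcases i with i | i
        · exact Finset.inl_mem_disjSum.mpr ((Set.Finite.mem_toFinset _).mpr hi)
        · exact Finset.inr_mem_disjSum.mpr ((Set.Finite.mem_toFinset _).mpr hi)
      rw [Finset.sum_subset hsub (fun i _ hi => by
        rw [Set.Finite.mem_toFinset] at hi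
        exact Function.notMem_support.mp hi), Finset.sum_disjSum]
      rfl
    rw [hsplit, ← hsum₁ x, ← hsum₂ x]
    rfl

theorem ratEquivZero_of_mem_ratTriv (a : ↥(ChowOps.zk X δ k)) (ha : a ∈ ChowOps.ratTriv X δ k) :
    Cyc.RatEquivZero δ k (a : AlgebraicCycle X ℤ) := by
  unfold ChowOps.ratTriv at ha
  induction ha using AddSubgroup.closure_induction with
  | mem x hx => exact hx
  | zero => exact ratEquivZero_zero δ k
  | add x y _ _ hx hy => exact ratEquivZero_add δ k _ _ hx hy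
  | neg x _ hx => exact ratEquivZero_neg δ k _ hx

theorem cl_eq_zero_iff (β : AlgebraicCycle X ℤ) (hβ : β ∈ Cyc.Zk X δ k) :
    ChowOps.cl β hβ = 0 ↔ Cyc.RatEquivZero δ k β := by
  unfold ChowOps.cl ChowOps.clHom
  rw [QuotientAddGroup.mk'_apply, QuotientAddGroup.eq_zero_iff]
  constructor
  · intro h
    exact ratEquivZero_of_mem_ratTriv δ k ⟨β, hβ⟩ h
  · intro h
    exact AddSubgroup.subset_closure h

end ratalg

end Groth.Agent.Lib.Helper71.PushRat

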