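import Mathlib
import Groth.Prelude.Def_Bivar2
import Groth.Agent.Lib.Helper71.PushRatK

set_option autoImplicit false
set_option linter.unusedSectionVars false
set_option linter.unusedVariables false
set_option linter.style.haveILetI false
universe u

namespace Groth.Agent.Lib.Helper71.PushRat

open CategoryTheory AlgebraicGeometry IsLocalRing Limits

section openImm

variable {U X : Scheme.{u}} (v : U ⟶ X) [IsOpenImmersion v]

theorem oi_injective : Function.Injective v := v.isOpenEmbedding.injective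

theorem oi_specializes_iff (a b : U) : v a ⤳ v b ↔ a ⤳ b :=
  v.isOpenEmbedding.toIsInducing.specializes_iff

/-- the range of an open immersion is stable under generization. -/
theorem oi_mem_range_of_specializes (w : U) (x : X) (h : x ⤳ v w) : x ∈ Set.range v :=
  h.mem_open v.isOpenEmbedding.isOpen_range ⟨w, rfl⟩

theorem oi_stalkMap_bijective (w : U) : Function.Bijective (v.stalkMap w).hom :=
  ConcreteCategory.bijective_of_isIso (v.stalkMap w)

theorem oi_residueFieldMap_bijective (w : U) : Function.Bijective (v.residueFieldMap w).hom :=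
  ConcreteCategory.bijective_of_isIso (v.residueFieldMap w)

theorem oi_delta_eq (δU : U → ℤ) (δ : X → ℤ) (hδ : Cyc.DeltaCompat v δU δ) (w : U) :
    δU w = δ (v w) :=
  delta_eq_of_surjective v δU δ hδ w (oi_residueFieldMap_bijective v w).2

theorem oi_residueDegree (w : U) : v.residueDegree w = 1 :=
  residueDegree_eq_one_of_surjective v w (oi_residueFieldMap_bijective v w).2

/-- a dimension function restricts to open subschemes. -/
theorem oi_isDimFun (δ : X → ℤ) (hdim : Cyc.IsDimFun X δ) :
    Cyc.IsDimFun U (fun w => δ (v w)) := by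
  intro x y hxy hne
  have hxy' : v x ⤳ v y := hxy.map v.continuous
  have hne' : v x ≠ v y := fun h => hne (oi_injective v h)
  obtain ⟨h1, h2⟩ := hdim _ _ hxy' hne'
  refine ⟨h1, fun himm => h2 ?_⟩
  intro z' hz1 hz2
  obtain ⟨z, rfl⟩ := oi_mem_range_of_specializes v y z' hz2
  rcases himm z ((oi_specializes_iff v x z).mp hz1) ((oi_specializes_iff v z y).mp hz2) with h | h
  · exact Or.inl (congrArg _ h)
  · exact Or.inr (congrArg _ h)

/-- open immersions have relative dimension zero. -/
theorem oi_hasRelDim : Cyc.HasRelDim v 0 := by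
  intro y T hT
  have hsub : Subsingleton ↥(v.fiber y) := by
    refine ⟨fun a b => ?_⟩
    apply (v.fiberHomeo y).injective
    apply Subtype.ext
    apply oi_injective v
    rw [((v.fiberHomeo y) a).2, ((v.fiberHomeo y) b).2]
  have hne : T.Nonempty := hT.1.1
  haveI : Nonempty ↥T := hne.to_subtype
  haveI : Subsingleton ↥T := inferInstance
  have h0 : topologicalKrullDim ↥T ≤ 0 := by
    haveI : DiscreteTopology ↥T := inferInstance
    exact topologicalKrullDim_zero_of_discreteTopology _
  have h1 : (0 : WithBot ℕ∞) ≤ topologicalKrullDim ↥T := by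
    unfold topologicalKrullDim
    rw [Order.krullDim_nonneg_iff]
    obtain ⟨t⟩ := ‹Nonempty ↥T›
    exact ⟨⟨{t}, isIrreducible_singleton, isClosed_singleton⟩⟩
  simpa using le_antisymm h0 h1

theorem oi_pullFun (δU : U → ℤ) (δ : X → ℤ) (hδ : Cyc.DeltaCompat v δU δ) (α : X → ℤ) (w : U) :
    Cyc.pullFun v δU δ 0 α w = α (v w) := by
  unfold Cyc.pullFun
  rw [if_pos (by rw [oi_delta_eq v δU δ hδ w, add_zero])]
  have hmap : Ideal.map (v.stalkMap w).hom (IsLocalRing.maximalIdeal (X.presheaf.stalk (v w))) =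
      IsLocalRing.maximalIdeal (U.presheaf.stalk w) := by
    exact IsLocalRing.map_maximalIdeal_of_surjective _ (oi_stalkMap_bijective v w).2
  rw [hmap]
  have hlen : Module.length (U.presheaf.stalk w)
      (U.presheaf.stalk w ⧸ IsLocalRing.maximalIdeal (U.presheaf.stalk w)) = 1 := by
    rw [Module.length_eq_one_iff]
    exact isSimpleModule_iff_quot_maximal.mpr ⟨_, IsLocalRing.maximalIdeal.isMaximal _,
      ⟨LinearEquiv.refl _ _⟩⟩
  rw [hlen]
  simp

end openImm

section openImmDiv

variable {U X : Scheme.{u}} (v : U ⟶ X) [IsOpenImmersion v] [IsLocallyNoetherian X]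
  (δ : X → ℤ) (hdim : Cyc.IsDimFun X δ)

include v in
theorem oi_isLocallyNoetherian : IsLocallyNoetherian U :=
  LocallyOfFiniteType.isLocallyNoetherian v

include hdim in
/-- the principal divisor of a rational function on an open subscheme. -/
theorem oi_divFun (w₀ w : U) (g : X.residueField (v w₀)) :
    Cyc.divFun (fun w => δ (v w)) w₀ ((v.residueFieldMap w₀).hom g) w =
      Cyc.divFun δ (v w₀) g (v w) := by
  have hN : IsLocallyNoetherian U := oi_isLocallyNoetherian v
  unfold Cyc.divFun
  by_cases h : w₀ ⤳ w ∧ δ (v w) + 1 = δ (v w₀)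
  · rw [dif_pos h, dif_pos ⟨h.1.map v.continuous, h.2⟩]
    exact ordAt_of_stalkMap_surjective v δ hdim (oi_isDimFun v δ hdim)
      (fun u => (oi_stalkMap_bijective v u).2) h.1 h.2 g
  · rw [dif_neg h, dif_neg]
    rintro ⟨h1, h2⟩
    exact h ⟨(oi_specializes_iff v w₀ w).mp h1, h2⟩

/-- the principal divisor vanishes off a clopen subscheme. -/
theorem divFun_of_notMem_closed (hcl : IsClosed (Set.range v)) (w₀ : U) (x : X)
    (hx : x ∉ Set.range v) (g : X.residueField (v w₀)) : Cyc.divFun δ (v w₀) g x = 0 := by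
  unfold Cyc.divFun
  rw [dif_neg]
  rintro ⟨h1, -⟩
  exact hx (h1.mem_closed hcl ⟨w₀, rfl⟩)

end openImmDiv

section clopen

variable {X : Scheme.{u}} {I : Type u} (U : I → Scheme.{u}) (v : ∀ i, U i ⟶ X)
  [∀ i, IsOpenImmersion (v i)]
  (hcov : ∀ x : X, ∃ i, x ∈ Set.range (v i))
  (hdisj : ∀ i j, i ≠ j → Disjoint (Set.range (v i)) (Set.range (v j)))

include hcov hdisj in
theorem isClosed_range_of_disjoint_cover (i : I) : IsClosed (Set.range (v i)) := by
  have h : (Set.range (v i))ᶜ = ⋃ j ∈ {j | j ≠ i}, Set.range (v j) := by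
    ext x
    simp only [Set.mem_compl_iff, Set.mem_iUnion, Set.mem_ofPred_eq, exists_prop]
    constructor
    · intro hx
      obtain ⟨j, hj⟩ := hcov x
      refine ⟨j, ?_, hj⟩
      rintro rfl
      exact hx hj
    · rintro ⟨j, hji, hj⟩ hx
      exact (Set.disjoint_left.mp (hdisj j i hji) hj) hx
  rw [← isOpen_compl_iff, h]
  exact isOpen_biUnion fun j _ => (v j).isOpenEmbedding.isOpen_range

end clopen

section glue

variable {X : Scheme.{u}} [IsLocallyNoetherian X] (δ : X → ℤ) (hdim : Cyc.IsDimFun X δ) (k : ℤ)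
  {I : Type u} (U : I → Scheme.{u}) (v : ∀ i, U i ⟶ X) [∀ i, IsOpenImmersion (v i)]
  (hcov : ∀ x : X, ∃ i, x ∈ Set.range (v i))
  (hdisj : ∀ i j, i ≠ j → Disjoint (Set.range (v i)) (Set.range (v j)))

include hdim hcov hdisj in
/-- a cycle on a disjoint union of open subschemes which is rationally equivalent to zero on
each piece is rationally equivalent to zero. -/
theorem ratEquivZero_glue (δU : ∀ i, U i → ℤ) (hδU : ∀ i w, δU i w = δ (v i w))
    (β : AlgebraicCycle X ℤ) (βU : ∀ i, AlgebraicCycle (U i) ℤ)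
    (hβ : ∀ i w, βU i w = β (v i w)) (h : ∀ i, Cyc.RatEquivZero (δU i) k (βU i)) :
    Cyc.RatEquivZero δ k β := by
  classical
  have hδU' : ∀ i, δU i = fun w => δ (v i w) := fun i => funext (hδU i)
  choose ι ξ f hξ hf hlf hsum using h
  have hg : ∀ i (j : ι i), ∃ g : X.residueField (v i (ξ i j)),
      ((v i).residueFieldMap (ξ i j)).hom g = f i j :=
    fun i j => (oi_residueFieldMap_bijective (v i) (ξ i j)).2 (f i j)
  choose g hg using hg
  have hcl := isClosed_range_of_disjoint_cover U v hcov hdisj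
  -- the divisors on the pieces
  have hdiv : ∀ i (j : ι i) (w : U i),
      Cyc.divFun δ (v i (ξ i j)) (g i j) (v i w) = Cyc.divFun (δU i) (ξ i j) (f i j) w := by
    intro i j w
    rw [hδU' i, ← hg i j]
    exact (oi_divFun (v i) δ hdim (ξ i j) w (g i j)).symm
  have hdiv0 : ∀ i (j : ι i) (x : X), x ∉ Set.range (v i) →
      Cyc.divFun δ (v i (ξ i j)) (g i j) x = 0 :=
    fun i j x hx => divFun_of_notMem_closed (v i) δ (hcl i) (ξ i j) x hx (g i j)
  refine ⟨Σ i, ι i, fun p => v p.1 (ξ p.1 p.2), fun p => g p.1 p.2, ?_, ?_, ?_, ?_⟩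
  · rintro ⟨i, j⟩
    rw [← hδU i]
    exact hξ i j
  · rintro ⟨i, j⟩ h0
    apply hf i j
    rw [← hg i j]
    have h0' : g i j = 0 := h0
    rw [h0', map_zero]
  · intro x
    obtain ⟨i, w, rfl⟩ := hcov x
    obtain ⟨V, hV, hwV, hfin⟩ := hlf i w
    refine ⟨v i '' V, (v i).isOpenEmbedding.isOpenMap V hV, ⟨w, hwV, rfl⟩, ?_⟩
    refine (hfin.image (fun j => (⟨i, j⟩ : Σ i, ι i))).subset ?_
    rintro ⟨i', j⟩ ⟨z, hz1, ⟨w', hw'V, rfl⟩⟩
    have hz1' : v i' (ξ i' j) ⤳ v i w' := specializes_iff_mem_closure.mpr hz1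
    have hii' : i' = i := by
      by_contra hne
      have hmem : v i w' ∈ Set.range (v i') := hz1'.mem_closed (hcl i') ⟨_, rfl⟩
      exact (Set.disjoint_left.mp (hdisj i' i hne) hmem) ⟨w', rfl⟩
    subst hii'
    refine ⟨j, ⟨w', ?_, hw'V⟩, rfl⟩
    exact specializes_iff_mem_closure.mp ((oi_specializes_iff (v i') _ _).mp hz1')
  · intro x
    obtain ⟨i, w, rfl⟩ := hcov x
    rw [← hβ i w, hsum i w]
    set F : (Σ i, ι i) → ℤ := fun p => Cyc.divFun δ (v p.1 (ξ p.1 p.2)) (g p.1 p.2) (v i w)
      with hF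
    have hsupp : Function.support F ⊆ Set.range (Sigma.mk i : ι i → Σ i, ι i) := by
      rintro ⟨i', j⟩ hp
      have hii' : i' = i := by
        by_contra hne
        apply hp
        apply hdiv0 i' j
        intro hmem
        exact (Set.disjoint_left.mp (hdisj i' i hne) hmem) ⟨w, rfl⟩
      subst hii'
      exact ⟨j, rfl⟩
    have e1 : ∑ᶠ p, F p = ∑ᶠ p ∈ Set.range (Sigma.mk i : ι i → Σ i, ι i), F p := by
      rw [← finsum_mem_univ]
      apply finsum_mem_inter_support_eq'
      intro p hp
      simp only [Set.mem_univ, true_iff]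
      exact hsupp hp
    rw [e1, finsum_mem_range sigma_mk_injective]
    exact finsum_congr fun j => (hdiv i j w).symm

end glue

end Groth.Agent.Lib.Helper71.PushRat

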