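import Mathlib
import Groth.Prelude.Def_Bivar2
import Groth.Agent.Lib.Helper71.PushRatL

set_option autoImplicit false
set_option linter.unusedSectionVars false
set_option linter.unusedVariables false
set_option linter.style.haveILetI false
universe u

namespace Groth.Agent.Lib.Helper71.PushRat

open CategoryTheory AlgebraicGeometry IsLocalRing Limits

section sigma

variable {I : Type u} (Y : I → Scheme.{u})

theorem sigma_exists_rep (z : (∐ Y : Scheme.{u})) : ∃ i, ∃ y : Y i, Sigma.ι Y i y = z := by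
  obtain ⟨⟨i, y⟩, rfl⟩ := (sigmaMk Y).surjective z
  exact ⟨i, y, (sigmaMk_mk Y i y).symm⟩

theorem sigma_cover (z : (∐ Y : Scheme.{u})) : ∃ i, z ∈ Set.range (Sigma.ι Y i) := by
  obtain ⟨i, y, h⟩ := sigma_exists_rep Y z
  exact ⟨i, y, h⟩

theorem sigma_disjoint (i j : I) (h : i ≠ j) :
    Disjoint (Set.range (Sigma.ι Y i)) (Set.range (Sigma.ι Y j)) := by
  rw [Set.disjoint_left]
  rintro _ ⟨a, rfl⟩ ⟨b, hb⟩
  obtain ⟨rfl⟩ := (sigmaι_eq_iff Y _ _ _ _).mp hb
  exact h rfl

theorem sigma_isClosed_range (i : I) : IsClosed (Set.range (Sigma.ι Y i)) :=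
  isClosed_range_of_disjoint_cover Y (fun i => Sigma.ι Y i) (sigma_cover Y) (sigma_disjoint Y) i

theorem sigma_ι_injective (i : I) : Function.Injective (Sigma.ι Y i) :=
  (Sigma.ι Y i).isOpenEmbedding.injective

theorem sigma_ι_eq_imp {i j : I} {a : Y i} {b : Y j} (h : Sigma.ι Y i a = Sigma.ι Y j b) :
    i = j := by
  obtain ⟨rfl⟩ := (sigmaι_eq_iff Y _ _ _ _).mp h
  rfl

end sigma

section proper

variable {I : Type u} (Y : I → Scheme.{u}) {Z : Scheme.{u}} (g : ∀ i, Y i ⟶ Z)

theorem sigmaDesc_apply (i : I) (y : Y i) : (Sigma.desc g) (Sigma.ι Y i y) = g i y := by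
  rw [← Scheme.Hom.comp_apply, Sigma.ι_desc]

/-- quasi-compactness of the map from a locally finite disjoint union. -/
theorem quasiCompact_sigmaDesc [∀ i, QuasiCompact (g i)]
    (hlf : ∀ z : Z, ∃ V : Set Z, IsOpen V ∧ z ∈ V ∧ {i | (Set.range (g i) ∩ V).Nonempty}.Finite) :
    QuasiCompact (Sigma.desc g) := by
  refine ⟨fun W hWo hWc => ?_⟩
  -- finitely many components meet `W`
  have hfin : {i | (Set.range (g i) ∩ W).Nonempty}.Finite := by
    choose V hVo hzV hVfin using hlf
    obtain ⟨t, ht⟩ := hWc.elim_finite_subcover (fun z => V z) hVo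
      (fun z _ => Set.mem_iUnion.mpr ⟨z, hzV z⟩)
    refine (t.finite_toSet.biUnion (fun z _ => hVfin z)).subset ?_
    rintro i ⟨x, hx1, hx2⟩
    obtain ⟨z, hz⟩ := Set.mem_iUnion.mp (ht hx2)
    obtain ⟨hzt, hxz⟩ := Set.mem_iUnion.mp hz
    exact Set.mem_biUnion hzt ⟨x, hx1, hxz⟩
  have heq : (Sigma.desc g) ⁻¹' W =
      ⋃ i ∈ {i | (Set.range (g i) ∩ W).Nonempty}, (Sigma.ι Y i) '' ((g i) ⁻¹' W) := by
    ext z
    simp only [Set.mem_preimage, Set.mem_iUnion, Set.mem_image, Set.mem_ofPred_eq, exists_prop]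
    constructor
    · intro hz
      obtain ⟨i, y, rfl⟩ := sigma_exists_rep Y z
      rw [sigmaDesc_apply] at hz
      exact ⟨i, ⟨g i y, ⟨y, rfl⟩, hz⟩, y, hz, rfl⟩
    · rintro ⟨i, -, y, hy, rfl⟩
      rw [sigmaDesc_apply]
      exact hy
  rw [heq]
  refine hfin.isCompact_biUnion fun i _ => ?_
  exact (QuasiCompact.isCompact_preimage (f := g i) W hWo hWc).image (Sigma.ι Y i).continuous

/-- the valuative criterion for the map from a disjoint union. -/
theorem valuativeCriterion_sigmaDesc [∀ i, IsProper (g i)] :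
    ValuativeCriterion (Sigma.desc g) := by
  rw [ValuativeCriterion.iff]
  have hEx : ∀ i, ValuativeCriterion.Existence (g i) := by
    intro i
    have h : UniversallyClosed (g i) := inferInstance
    rw [UniversallyClosed.eq_valuativeCriterion] at h
    exact h.1
  have hUn : ∀ i, ValuativeCriterion.Uniqueness (g i) := fun i =>
    IsSeparated.valuativeCriterion (g i)
  -- the generic point
  have key : ∀ S : ValuativeCommSq (Sigma.desc g), ∃ i, ∃ hr : Set.range S.i₁ ⊆
      Set.range (Sigma.ι Y i), (∀ l : Spec (.of S.R) ⟶ (∐ Y : Scheme.{u}),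
        Spec.map (CommRingCat.ofHom (algebraMap S.R S.K)) ≫ l = S.i₁ →
        Set.range l ⊆ Set.range (Sigma.ι Y i)) := by
    intro S
    let x₀ : Spec (.of S.K) := IsLocalRing.closedPoint S.K
    have hx₀ : ∀ x : Spec (.of S.K), x = x₀ := fun x => Subsingleton.elim (α := PrimeSpectrum S.K) _ _
    obtain ⟨i, y, hy⟩ := sigma_exists_rep Y (S.i₁ x₀)
    refine ⟨i, ?_, ?_⟩
    · rintro _ ⟨x, rfl⟩
      rw [hx₀ x]
      exact ⟨y, hy⟩
    · intro l hl
      rintro _ ⟨p, rfl⟩
      have hη : l (Spec.map (CommRingCat.ofHom (algebraMap S.R S.K)) x₀) = S.i₁ x₀ := by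
        rw [← Scheme.Hom.comp_apply, hl]
      have hspec : (Spec.map (CommRingCat.ofHom (algebraMap S.R S.K)) x₀) ⤳ p := by
        rw [Spec.map_apply]
        refine (PrimeSpectrum.le_iff_specializes
          (PrimeSpectrum.comap (algebraMap S.R S.K) (show PrimeSpectrum S.K from x₀))
          (show PrimeSpectrum S.R from p)).mp ?_
        intro r hr
        have h0 : algebraMap S.R S.K r = 0 := by
          have : algebraMap S.R S.K r ∈ (IsLocalRing.maximalIdeal S.K) := hr
          rwa [IsLocalRing.maximalIdeal_eq_bot, Ideal.mem_bot] at this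
        have : r = 0 := (IsFractionRing.injective S.R S.K) (by rw [h0, map_zero])
        rw [this]
        exact Ideal.zero_mem _
      have h2 : l (Spec.map (CommRingCat.ofHom (algebraMap S.R S.K)) x₀) ⤳ l p :=
        hspec.map l.continuous
      rw [hη] at h2
      exact h2.mem_closed (sigma_isClosed_range Y i) ⟨y, hy⟩
  refine ⟨?_, ?_⟩
  · intro S
    obtain ⟨i, hr, -⟩ := key S
    let i₁' : Spec (.of S.K) ⟶ Y i := IsOpenImmersion.lift (Sigma.ι Y i) S.i₁ hr
    have hi₁' : i₁' ≫ Sigma.ι Y i = S.i₁ := IsOpenImmersion.lift_fac _ _ _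
    have hsq : CommSq i₁' (Spec.map (CommRingCat.ofHom (algebraMap S.R S.K))) (g i) S.i₂ := by
      refine ⟨?_⟩
      rw [← S.commSq.w, ← hi₁', Category.assoc, Sigma.ι_desc]
    let S' : ValuativeCommSq (g i) :=
      { R := S.R, K := S.K, i₁ := i₁', i₂ := S.i₂, commSq := hsq }
    obtain ⟨⟨l⟩⟩ := hEx i S'
    refine ⟨⟨⟨l.l ≫ Sigma.ι Y i, ?_, ?_⟩⟩⟩
    · rw [← Category.assoc, l.fac_left, hi₁']
    · rw [Category.assoc, Sigma.ι_desc, l.fac_right]
  · intro S
    obtain ⟨i, hr, hl⟩ := key S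
    let i₁' : Spec (.of S.K) ⟶ Y i := IsOpenImmersion.lift (Sigma.ι Y i) S.i₁ hr
    have hi₁' : i₁' ≫ Sigma.ι Y i = S.i₁ := IsOpenImmersion.lift_fac _ _ _
    have hsq : CommSq i₁' (Spec.map (CommRingCat.ofHom (algebraMap S.R S.K))) (g i) S.i₂ := by
      refine ⟨?_⟩
      rw [← S.commSq.w, ← hi₁', Category.assoc, Sigma.ι_desc]
    let S' : ValuativeCommSq (g i) :=
      { R := S.R, K := S.K, i₁ := i₁', i₂ := S.i₂, commSq := hsq }
    have hsub := hUn i S'
    refine ⟨fun l₁ l₂ => ?_⟩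
    have mk : ∀ l : S.commSq.LiftStruct, ∃ l' : S'.commSq.LiftStruct, l'.l ≫ Sigma.ι Y i = l.l := by
      intro l
      have hrange := hl l.l l.fac_left
      refine ⟨⟨IsOpenImmersion.lift (Sigma.ι Y i) l.l hrange, ?_, ?_⟩, IsOpenImmersion.lift_fac _ _ _⟩
      · rw [← cancel_mono (Sigma.ι Y i), Category.assoc, IsOpenImmersion.lift_fac, l.fac_left, hi₁']
      · have := l.fac_right
        rw [← IsOpenImmersion.lift_fac (Sigma.ι Y i) l.l hrange, Category.assoc, Sigma.ι_desc] at this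
        exact this
    obtain ⟨l₁', h₁⟩ := mk l₁
    obtain ⟨l₂', h₂⟩ := mk l₂
    have : l₁' = l₂' := Subsingleton.elim _ _
    apply CommSq.LiftStruct.ext
    rw [← h₁, ← h₂, this]

set_option backward.isDefEq.respectTransparency.types false in
/-- a locally finite disjoint union of proper morphisms is proper. -/
theorem isProper_sigmaDesc [IsLocallyNoetherian Z] [∀ i, IsProper (g i)]
    (hlf : ∀ z : Z, ∃ V : Set Z, IsOpen V ∧ z ∈ V ∧ {i | (Set.range (g i) ∩ V).Nonempty}.Finite) :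
    IsProper (Sigma.desc g) := by
  haveI : LocallyOfFiniteType (Sigma.desc g) :=
    IsZariskiLocalAtSource.sigmaDesc (fun i => inferInstance)
  haveI : IsLocallyNoetherian (∐ Y : Scheme.{u}) :=
    LocallyOfFiniteType.isLocallyNoetherian (Sigma.desc g)
  haveI : QuasiCompact (Sigma.desc g) := quasiCompact_sigmaDesc Y g hlf
  haveI : QuasiSeparated (Sigma.desc g) := inferInstance
  exact IsProper.of_valuativeCriterion _ (valuativeCriterion_sigmaDesc Y g)

end proper

end Groth.Agent.Lib.Helper71.PushRat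

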