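import Mathlib
import Groth.Prelude.Def_Bivar2
import Groth.Agent.Lib.Helper71.PushRatM

set_option autoImplicit false
set_option linter.unusedSectionVars false
set_option linter.unusedVariables false
set_option linter.style.haveILetI false
universe u

namespace Groth.Agent.Lib.Helper71.PushRat

open CategoryTheory AlgebraicGeometry IsLocalRing Limits

section pointCycle

variable {X : Scheme.{u}}

open Classical in
/-- the cycle `n·[x]`. -/
noncomputable def pointCycle (x : X) (n : ℤ) : AlgebraicCycle X ℤ :=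
  { toFun := fun y => if y = x then n else 0
    supportWithinDomain' := fun _ _ => Set.mem_univ _
    supportLocallyFiniteWithinDomain' := by
      intro z _
      refine ⟨Set.univ, Filter.univ_mem, ?_⟩
      refine (Set.finite_singleton x).subset ?_
      intro y hy
      by_contra hne
      apply hy.2
      exact if_neg hne }

open Classical in
theorem pointCycle_apply (x : X) (n : ℤ) (y : X) :
    pointCycle x n y = if y = x then n else 0 := rfl

theorem pointCycle_self (x : X) (n : ℤ) : pointCycle x n x = n := by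
  rw [pointCycle_apply, if_pos rfl]

theorem pointCycle_of_ne (x : X) (n : ℤ) (y : X) (h : y ≠ x) : pointCycle x n y = 0 := by
  rw [pointCycle_apply, if_neg h]

theorem pointCycle_mem_Zk (δ : X → ℤ) (x : X) (n : ℤ) : pointCycle x n ∈ Cyc.Zk X δ (δ x) := by
  intro y hy
  apply pointCycle_of_ne
  rintro rfl
  exact hy rfl

theorem zsmul_pointCycle (x : X) (n : ℤ) : n • pointCycle x 1 = pointCycle x n := by
  ext y
  rw [Function.locallyFinsuppWithin.coe_zsmul, Pi.smul_apply]
  by_cases h : y = x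
  · subst h
    rw [pointCycle_self, pointCycle_self, smul_eq_mul, mul_one]
  · rw [pointCycle_of_ne _ _ _ h, pointCycle_of_ne _ _ _ h, smul_zero]

theorem cl_zsmul (δ : X → ℤ) (k : ℤ) (n : ℤ) (α : AlgebraicCycle X ℤ) (hα : α ∈ Cyc.Zk X δ k)
    (h : n • α ∈ Cyc.Zk X δ k) : ChowOps.cl (n • α) h = n • ChowOps.cl α hα := by
  unfold ChowOps.cl
  rw [← map_zsmul]
  rfl

theorem cl_sub (δ : X → ℤ) (k : ℤ) (α β : AlgebraicCycle X ℤ) (hα : α ∈ Cyc.Zk X δ k)
    (hβ : β ∈ Cyc.Zk X δ k) (h : α - β ∈ Cyc.Zk X δ k) :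
    ChowOps.cl (α - β) h = ChowOps.cl α hα - ChowOps.cl β hβ := by
  unfold ChowOps.cl
  rw [← _root_.map_sub]
  rfl

end pointCycle

section oiPull

variable {U X : Scheme.{u}} (v : U ⟶ X) [IsOpenImmersion v]

/-- restriction of a cycle to an open subscheme. -/
noncomputable def oiPullCycle (D : AlgebraicCycle X ℤ) : AlgebraicCycle U ℤ :=
  { toFun := fun w => D (v w)
    supportWithinDomain' := fun _ _ => Set.mem_univ _
    supportLocallyFiniteWithinDomain' := by
      intro w _
      obtain ⟨t, ht, hfin⟩ := D.supportLocallyFiniteWithinDomain' (v w) trivial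
      refine ⟨v ⁻¹' t, v.continuous.continuousAt.preimage_mem_nhds ht, ?_⟩
      refine (hfin.preimage (oi_injective v).injOn).subset ?_
      rintro w' ⟨hw't, hw'⟩
      exact ⟨hw't, hw'⟩ }

theorem oiPullCycle_apply (D : AlgebraicCycle X ℤ) (w : U) : oiPullCycle v D w = D (v w) := rfl

theorem coe_oiPullCycle (δU : U → ℤ) (δ : X → ℤ) (hδ : Cyc.DeltaCompat v δU δ)
    (D : AlgebraicCycle X ℤ) (r : ℤ) (hr : r = 0) :
    ⇑(oiPullCycle v D) = Cyc.pullFun v δU δ r ⇑D := by
  subst hr
  funext w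
  rw [oi_pullFun v δU δ hδ]
  rfl

end oiPull

section sigmaCycle

variable {I : Type u} (Y : I → Scheme.{u}) (η : ∀ i, Y i) (n : I → ℤ)

open Classical in
/-- the cycle `∑ n_i [η_i]` on a disjoint union. -/
noncomputable def sigmaPtCycle : AlgebraicCycle (∐ Y : Scheme.{u}) ℤ :=
  { toFun := fun z => if ((sigmaMk Y).symm z).2 = η ((sigmaMk Y).symm z).1 then
      n ((sigmaMk Y).symm z).1 else 0
    supportWithinDomain' := fun _ _ => Set.mem_univ _
    supportLocallyFiniteWithinDomain' := by
      intro z _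
      obtain ⟨i, y, rfl⟩ := sigma_exists_rep Y z
      refine ⟨Set.range (Sigma.ι Y i),
        (Sigma.ι Y i).isOpenEmbedding.isOpen_range.mem_nhds ⟨y, rfl⟩, ?_⟩
      refine (Set.finite_singleton (Sigma.ι Y i (η i))).subset ?_
      rintro _ ⟨⟨y', rfl⟩, hy'⟩
      rw [Set.mem_singleton_iff]
      by_contra hne
      apply hy'
      have h1 : (sigmaMk Y).symm (Sigma.ι Y i y') = ⟨i, y'⟩ := by
        rw [Homeomorph.symm_apply_eq, sigmaMk_mk]
      change (if ((sigmaMk Y).symm (Sigma.ι Y i y')).2 = η ((sigmaMk Y).symm (Sigma.ι Y i y')).1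
        then n ((sigmaMk Y).symm (Sigma.ι Y i y')).1 else 0) = 0
      rw [h1]
      rw [if_neg]
      intro h2
      apply hne
      change y' = η i at h2
      rw [h2] }

open Classical in
theorem sigmaPtCycle_apply (i : I) (y : Y i) :
    sigmaPtCycle Y η n (Sigma.ι Y i y) = if y = η i then n i else 0 := by
  have h1 : (sigmaMk Y).symm (Sigma.ι Y i y) = ⟨i, y⟩ := by
    rw [Homeomorph.symm_apply_eq, sigmaMk_mk]
  change (if ((sigmaMk Y).symm (Sigma.ι Y i y)).2 = η ((sigmaMk Y).symm (Sigma.ι Y i y)).1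
    then n ((sigmaMk Y).symm (Sigma.ι Y i y)).1 else 0) = _
  rw [h1]

theorem sigmaPtCycle_ne_zero_imp (z : (∐ Y : Scheme.{u})) (hz : sigmaPtCycle Y η n z ≠ 0) :
    ∃ i, z = Sigma.ι Y i (η i) ∧ n i ≠ 0 := by
  classical
  obtain ⟨i, y, rfl⟩ := sigma_exists_rep Y z
  rw [sigmaPtCycle_apply] at hz
  by_cases hy : y = η i
  · rw [if_pos hy] at hz
    exact ⟨i, by rw [hy], hz⟩
  · rw [if_neg hy] at hz
    exact absurd rfl hz

end sigmaCycle

end Groth.Agent.Lib.Helper71.PushRat

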