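import Mathlib
import Groth.Prelude.Def_Bivar2
import Groth.Agent.Lib.Helper71.PushRatN
import Groth.Agent.S1856

set_option autoImplicit false
set_option linter.unusedSectionVars false
set_option linter.unusedVariables false
set_option linter.style.haveILetI false
universe u

namespace Groth.Agent.Lib.Helper71.PushRat

open CategoryTheory AlgebraicGeometry IsLocalRing Limits

section lemmas

variable {X Y : Scheme.{u}} {f : X ⟶ Y} {δX : X → ℤ} {δY : Y → ℤ}

theorem sqLift_isOpenImmersion (s t : Bivar.Sq f δX δY) (h : t.Y' ⟶ s.Y') (w : h ≫ s.g = t.g)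
    [IsOpenImmersion h] : IsOpenImmersion (sqLift s t h w) :=
  MorphismProperty.of_isPullback (P := @IsOpenImmersion) (sqLift_isPullback s t h w) inferInstance

/-- a bivariant class kills a cycle class on a test scheme as soon as it kills the pushforward
source. -/
theorem op_map_eq_zero (hX : Cyc.IsSetup X δX) (hY : Cyc.IsSetup Y δY) {p : ℤ}
    (c : Bivar.Cl p f δX δY) (s T : Bivar.Sq f δX δY) (G : T.Y' ⟶ s.Y') [IsProper G]
    (w : G ≫ s.g = T.g) (k : ℤ) (α3 : AlgebraicCycle T.Y' ℤ) (hα3 : α3 ∈ Cyc.Zk T.Y' T.δY' k)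
    (h0 : c.op T k (ChowOps.cl α3 hα3) = 0) :
    c.op s k (ChowOps.cl (AlgebraicCycle.map G T.δY' s.δY' α3)
      (Bivar.cycMap_mem_Zk G T.δY' s.δY' k hα3)) = 0 := by
  haveI : IsProper (sqLift s T G w) := sqLift_isProper s T G w
  obtain ⟨β, hβ, e1, e2⟩ := c.push s T G (sqLift s T G w) w (sqLift_f' s T G w)
    (sqLift_g' s T G w) k α3 hα3
  rw [e2]
  have hcl : ChowOps.cl β hβ = ChowOps.cl (0 : AlgebraicCycle T.X' ℤ)
      ((ChowOps.zk T.X' T.δX' (k - p)).zero_mem) := by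
    rw [← e1, h0]
    rfl
  have h1 := cl_map_congr T.δX' s.δX' (sq_isSetupX hX T) (sq_isSetupX hX s) (sqLift s T G w)
    (sq_deltaCompatX s T G w) (k - p) β 0 hβ ((ChowOps.zk T.X' T.δX' (k - p)).zero_mem) hcl
  rw [h1]
  rw [Bivar.cl_congr (Bivar.cycMap_zero (sqLift s T G w) T.δX' s.δX') _
    ((ChowOps.zk s.X' s.δX' (k - p)).zero_mem)]
  rfl

/-- a bivariant class kills a cycle class on a test scheme which is a disjoint union of open
subschemes as soon as it kills the restrictions to the pieces. -/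
theorem op_eq_zero_of_open_cover (hX : Cyc.IsSetup X δX) (hY : Cyc.IsSetup Y δY) {p : ℤ}
    (c : Bivar.Cl p f δX δY) (T : Bivar.Sq f δX δY) {I : Type u} (S : I → Bivar.Sq f δX δY)
    (u : ∀ i, (S i).Y' ⟶ T.Y') [∀ i, IsOpenImmersion (u i)] (w : ∀ i, u i ≫ T.g = (S i).g)
    (hcov : ∀ z : T.Y', ∃ i, z ∈ Set.range (u i))
    (hdisj : ∀ i j, i ≠ j → Disjoint (Set.range (u i)) (Set.range (u j)))
    (k : ℤ) (α3 : AlgebraicCycle T.Y' ℤ) (hα3 : α3 ∈ Cyc.Zk T.Y' T.δY' k)
    (hz : ∀ i (h : oiPullCycle (u i) α3 ∈ Cyc.Zk (S i).Y' (S i).δY' (k + ((0 : ℕ) : ℤ))),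
      c.op (S i) (k + ((0 : ℕ) : ℤ)) (ChowOps.cl (oiPullCycle (u i) α3) h) = 0) :
    c.op T k (ChowOps.cl α3 hα3) = 0 := by
  obtain ⟨β, hβ, e⟩ := Bivar.exists_rep (c.op T k (ChowOps.cl α3 hα3))
  rw [← e, cl_eq_zero_iff]
  have hTX := sq_isSetupX hX T
  haveI : IsLocallyNoetherian T.X' := hTX.1
  haveI : ∀ i, IsOpenImmersion (sqLift T (S i) (u i) (w i)) :=
    fun i => sqLift_isOpenImmersion T (S i) (u i) (w i)
  have hcov' : ∀ x : T.X', ∃ i, x ∈ Set.range (sqLift T (S i) (u i) (w i)) := by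
    intro x
    obtain ⟨i, y', hy'⟩ := hcov (T.f' x)
    obtain ⟨q, -, hq⟩ := Scheme.exists_preimage_of_isPullback
      (sqLift_isPullback T (S i) (u i) (w i)) y' x hy'
    exact ⟨i, q, hq⟩
  have hdisj' : ∀ i j, i ≠ j → Disjoint (Set.range (sqLift T (S i) (u i) (w i)))
      (Set.range (sqLift T (S j) (u j) (w j))) := by
    intro i j hij
    rw [Set.disjoint_left]
    rintro _ ⟨a, rfl⟩ ⟨b, hb⟩
    have h1 : T.f' (sqLift T (S i) (u i) (w i) a) = u i ((S i).f' a) := by
      rw [← Scheme.Hom.comp_apply, sqLift_f', Scheme.Hom.comp_apply]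
    have h2 : T.f' (sqLift T (S j) (u j) (w j) b) = u j ((S j).f' b) := by
      rw [← Scheme.Hom.comp_apply, sqLift_f', Scheme.Hom.comp_apply]
    rw [hb, h1] at h2
    exact Set.disjoint_left.mp (hdisj i j hij) ⟨_, rfl⟩ ⟨_, h2.symm⟩
  refine ratEquivZero_glue T.δX' hTX.2.2 (k - p) (fun i => (S i).X')
    (fun i => sqLift T (S i) (u i) (w i)) hcov' hdisj' (fun i => (S i).δX')
    (fun i x => oi_delta_eq _ _ _ (sq_deltaCompatX T (S i) (u i) (w i)) x) β
    (fun i => oiPullCycle (sqLift T (S i) (u i) (w i)) β) (fun i x => rfl) ?_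
  intro i
  have hδu := sq_deltaCompatY T (S i) (u i) (w i)
  have hδv := sq_deltaCompatX T (S i) (u i) (w i)
  obtain ⟨β', hβ', e', H'⟩ := c.pull T (S i) (u i) (sqLift T (S i) (u i) (w i)) 0
    (oi_hasRelDim (u i)) (oi_hasRelDim _) (w i) (sqLift_f' T (S i) (u i) (w i))
    (sqLift_g' T (S i) (u i) (w i)) k α3 hα3
  have hα₁ : ⇑(oiPullCycle (u i) α3) = Cyc.pullFun (u i) (S i).δY' T.δY' ((0 : ℕ) : ℤ) ⇑α3 :=
    coe_oiPullCycle (u i) _ _ hδu α3 _ Nat.cast_zero
  have hmem : oiPullCycle (u i) α3 ∈ Cyc.Zk (S i).Y' (S i).δY' (k + ((0 : ℕ) : ℤ)) :=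
    Bivar.pullFun_mem_Zk (u i) _ _ _ k hα3 _ hα₁
  obtain ⟨β₁, hβ₁, hβ₁coe, e₁⟩ := H' (oiPullCycle (u i) α3) hα₁ hmem
  rw [hz i hmem] at e₁
  have hβ₁0 : Cyc.RatEquivZero (S i).δX' (k + ((0 : ℕ) : ℤ) - p) β₁ :=
    (cl_eq_zero_iff _ _ β₁ hβ₁).mp e₁.symm
  have hβ₁eq : β₁ = oiPullCycle (sqLift T (S i) (u i) (w i)) β' :=
    DFunLike.coe_injective (hβ₁coe.trans
      (coe_oiPullCycle _ _ _ hδv β' _ Nat.cast_zero).symm)
  have hrat : Cyc.RatEquiv T.δX' (k - p) β β' := by
    change Cyc.RatEquivZero _ _ (β - β')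
    have hsub : β - β' ∈ Cyc.Zk T.X' T.δX' (k - p) :=
      (ChowOps.zk T.X' T.δX' (k - p)).sub_mem hβ hβ'
    rw [← cl_eq_zero_iff _ _ _ hsub, cl_sub _ _ _ _ hβ hβ', e, e', sub_self]
  have h56 := Groth.Agent.S1856.result (S i).X' T.X' (S i).δX' T.δX' (sq_isSetupX hX (S i)) hTX
    (sqLift T (S i) (u i) (w i)) 0 (oi_hasRelDim _) hδv (k - p) β β' hβ hβ' hrat
    (oiPullCycle (sqLift T (S i) (u i) (w i)) β) (oiPullCycle (sqLift T (S i) (u i) (w i)) β')
    (coe_oiPullCycle _ _ _ hδv β _ Nat.cast_zero) (coe_oiPullCycle _ _ _ hδv β' _ Nat.cast_zero)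
  have e0 : k - p + ((0 : ℕ) : ℤ) = k - p := by simp
  have e0' : k + ((0 : ℕ) : ℤ) - p = k - p := by simp
  rw [e0] at h56
  rw [e0', hβ₁eq] at hβ₁0
  have h3 := ratEquivZero_add _ _ _ _ h56 hβ₁0
  rwa [sub_add_cancel] at h3

end lemmas

section ptdata

variable {X Y : Scheme.{u}} {f : X ⟶ Y} {δX : X → ℤ} {δY : Y → ℤ}

theorem residueFieldMap_surjective_of_comp {A B C : Scheme.{u}} (a : A ⟶ B) (b : B ⟶ C)
    (g : A ⟶ C) (e : a ≫ b = g) (x : A) (hs : Function.Surjective (g.residueFieldMap x).hom) :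
    Function.Surjective (b.residueFieldMap (a x)).hom := by
  subst e
  intro z
  obtain ⟨c, hc⟩ := hs ((a.residueFieldMap x).hom z)
  refine ⟨c, ?_⟩
  apply (a.residueFieldMap x).hom.injective
  rw [← hc]
  have h := Scheme.residueFieldMap_comp a b x
  exact (congr(($h).hom c)).symm

/-- the data attached to a point `y` of a test scheme: a square whose test scheme is irreducible
and maps properly and birationally onto the closure of `y`, on which the class `c` kills the
fundamental cycle. -/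
structure PtData {p : ℤ} (c : Bivar.Cl p f δX δY) (s : Bivar.Sq f δX δY) (y : s.Y') :
    Type (u + 1) where
  S : Bivar.Sq f δX δY
  [irr : IrreducibleSpace S.Y']
  G : S.Y' ⟶ s.Y'
  [proper : IsProper G]
  w : G ≫ s.g = S.g
  gen : G (genericPoint S.Y') = y
  surj : Function.Surjective (G.residueFieldMap (genericPoint S.Y')).hom
  zero : ∀ (k : ℤ) (e : AlgebraicCycle S.Y' ℤ) (he : e ∈ Cyc.Zk S.Y' S.δY' k),
    e (genericPoint S.Y') = 1 → (∀ y', y' ≠ genericPoint S.Y' → e y' = 0) →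
      c.op S k (ChowOps.cl e he) = 0

/-- a bivariant class kills every cycle class as soon as every point of the support admits
`PtData`. -/
theorem op_eq_zero_of_ptData (hX : Cyc.IsSetup X δX) (hY : Cyc.IsSetup Y δY) {p : ℤ}
    (c : Bivar.Cl p f δX δY) (s : Bivar.Sq f δX δY) (k : ℤ) (α : AlgebraicCycle s.Y' ℤ)
    (hα : α ∈ Cyc.Zk s.Y' s.δY' k) (H : ∀ y, α y ≠ 0 → Nonempty (PtData c s y)) :
    c.op s k (ChowOps.cl α hα) = 0 := by
  classical
  have hsY := sq_isSetupY hY s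
  haveI : IsLocallyNoetherian s.Y' := hsY.1
  haveI := s.lft
  have D : ∀ i : {y : s.Y' // α y ≠ 0}, PtData c s i.1 := fun i => (H i.1 i.2).some
  haveI : ∀ i, IrreducibleSpace (D i).S.Y' := fun i => (D i).irr
  haveI : ∀ i, IsProper (D i).G := fun i => (D i).proper
  have hrange : ∀ i, Set.range (D i).G ⊆ closure {i.1} := by
    intro i
    rintro _ ⟨y', rfl⟩
    have h1 : genericPoint (D i).S.Y' ⤳ y' := (genericPoint_spec _).specializes (by trivial)
    have h2 := h1.map (D i).G.continuous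
    rw [(D i).gen] at h2
    exact specializes_iff_mem_closure.mp h2
  have hlf : ∀ z : s.Y', ∃ V : Set s.Y', IsOpen V ∧ z ∈ V ∧
      {i | (Set.range (D i).G ∩ V).Nonempty}.Finite := by
    intro z
    obtain ⟨t, ht, hfin⟩ := α.supportLocallyFiniteWithinDomain' z trivial
    refine ⟨interior t, isOpen_interior, mem_interior_iff_mem_nhds.mpr ht, ?_⟩
    refine (hfin.preimage (Subtype.val_injective.injOn)).subset ?_
    rintro i ⟨x, hx1, hx2⟩
    have h3 : i.1 ⤳ x := specializes_iff_mem_closure.mpr (hrange i hx1)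
    have h4 : i.1 ∈ interior t := h3.mem_open isOpen_interior hx2
    exact ⟨interior_subset h4, i.2⟩
  haveI : IsProper (Sigma.desc fun i => (D i).G) :=
    isProper_sigmaDesc (fun i => (D i).S.Y') (fun i => (D i).G) hlf
  obtain ⟨δ3, hδ3⟩ := exists_deltaCompat (Sigma.desc fun i => (D i).G) s.δY'
  haveI : LocallyOfFiniteType (pullback.snd (Sigma.desc fun i => (D i).G) s.f') := inferInstance
  obtain ⟨δX3, hδX3⟩ := exists_deltaCompat (pullback.snd (Sigma.desc fun i => (D i).G) s.f') s.δX'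
  let T' : Bivar.Sq s.f' s.δX' s.δY' :=
    { Y' := ∐ fun i => (D i).S.Y'
      X' := pullback (Sigma.desc fun i => (D i).G) s.f'
      g := Sigma.desc fun i => (D i).G
      f' := pullback.fst _ _
      g' := pullback.snd _ _
      isPullback := IsPullback.of_hasPullback _ _
      lft := inferInstance
      δY' := δ3
      δX' := δX3
      compatY := hδ3
      compatX := hδX3 }
  -- the compatibilities of the pieces
  have hw : ∀ i, Sigma.ι (fun i => (D i).S.Y') i ≫ (s.paste T').g = (D i).S.g := by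
    intro i
    change Sigma.ι (fun i => (D i).S.Y') i ≫ ((Sigma.desc fun i => (D i).G) ≫ s.g) = (D i).S.g
    rw [← Category.assoc, Sigma.ι_desc]
    exact (D i).w
  have hδι : ∀ i, Cyc.DeltaCompat (Sigma.ι (fun i => (D i).S.Y') i) (D i).S.δY' δ3 :=
    fun i => sq_deltaCompatY (s.paste T') (D i).S _ (hw i)
  have hδG : ∀ i, Cyc.DeltaCompat (D i).G (D i).S.δY' s.δY' :=
    fun i => sq_deltaCompatY s (D i).S (D i).G (D i).w
  have hk : ∀ i : {y : s.Y' // α y ≠ 0}, s.δY' i.1 = k := by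
    intro i
    by_contra hne
    exact i.2 (hα i.1 hne)
  have hδgen : ∀ i, (D i).S.δY' (genericPoint (D i).S.Y') = k := by
    intro i
    rw [delta_eq_of_surjective (D i).G _ _ (hδG i) _ (D i).surj, (D i).gen, hk i]
  have hδ3gen : ∀ i, δ3 (Sigma.ι (fun i => (D i).S.Y') i (genericPoint (D i).S.Y')) = k := by
    intro i
    rw [← oi_delta_eq _ _ _ (hδι i), hδgen i]
  have hGgen : ∀ i, (Sigma.desc fun i => (D i).G)
      (Sigma.ι (fun i => (D i).S.Y') i (genericPoint (D i).S.Y')) = i.1 := by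
    intro i
    rw [sigmaDesc_apply]
    exact (D i).gen
  -- the cycle on the disjoint union
  set α3 : AlgebraicCycle (∐ fun i => (D i).S.Y' : Scheme.{u}) ℤ :=
    sigmaPtCycle (fun i => (D i).S.Y') (fun i => genericPoint (D i).S.Y') (fun i => α i.1)
    with hα3def
  have hα3 : α3 ∈ Cyc.Zk (∐ fun i => (D i).S.Y' : Scheme.{u}) δ3 k := by
    intro z hz
    by_contra hne
    obtain ⟨i, rfl, -⟩ := sigmaPtCycle_ne_zero_imp _ _ _ z hne
    exact hz (hδ3gen i)
  -- its pushforward is `α`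
  have hpush : AlgebraicCycle.map (Sigma.desc fun i => (D i).G) δ3 s.δY' α3 = α := by
    ext y
    rw [map_apply_eq]
    by_cases hy : α y = 0
    · rw [hy]
      apply finsum_mem_eq_zero_of_forall_eq_zero
      intro z hz
      by_contra hne
      have hne' : α3 z ≠ 0 := left_ne_zero_of_mul hne
      obtain ⟨i, rfl, -⟩ := sigmaPtCycle_ne_zero_imp _ _ _ z hne'
      have h1 : i.1 = y := by rw [← hGgen i]; exact hz
      exact i.2 (h1 ▸ hy)
    · set i₀ : {y : s.Y' // α y ≠ 0} := ⟨y, hy⟩ with hi₀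
      set z₀ := Sigma.ι (fun i => (D i).S.Y') i₀ (genericPoint (D i₀).S.Y') with hz₀
      have hz₀y : (Sigma.desc fun i => (D i).G) z₀ = y := hGgen i₀
      have hsupp : (Sigma.desc fun i => (D i).G) ⁻¹' {y} ∩ Function.support (fun z => α3 z *
          ((AlgebraicCycle.mapCoeff (Sigma.desc fun i => (D i).G) δ3 s.δY' z : ℕ) : ℤ)) =
          {z₀} ∩ Function.support (fun z => α3 z *
          ((AlgebraicCycle.mapCoeff (Sigma.desc fun i => (D i).G) δ3 s.δY' z : ℕ) : ℤ)) := by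
        ext z
        constructor
        · rintro ⟨hz1, hz2⟩
          refine ⟨?_, hz2⟩
          have hne' : α3 z ≠ 0 := left_ne_zero_of_mul hz2
          obtain ⟨i, rfl, -⟩ := sigmaPtCycle_ne_zero_imp _ _ _ z hne'
          have h1 : i.1 = y := by rw [← hGgen i]; exact hz1
          have h2 : i = i₀ := Subtype.ext h1
          subst h2
          rfl
        · rintro ⟨hz1, hz2⟩
          refine ⟨?_, hz2⟩
          rw [Set.mem_singleton_iff] at hz1
          rw [hz1]
          exact hz₀y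
      rw [finsum_mem_inter_support_eq _ _ _ hsupp, finsum_mem_singleton]
      have h1 : α3 z₀ = α y := by
        rw [hα3def, hz₀, sigmaPtCycle_apply, if_pos rfl]
      have h2 : AlgebraicCycle.mapCoeff (Sigma.desc fun i => (D i).G) δ3 s.δY' z₀ = 1 := by
        unfold AlgebraicCycle.mapCoeff
        have h3 : δ3 z₀ = s.δY' ((Sigma.desc fun i => (D i).G) z₀) := by
          rw [hz₀y, hδ3gen i₀]
          exact (hk i₀).symm
        rw [if_pos h3]
        apply residueDegree_eq_one_of_surjective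
        exact residueFieldMap_surjective_of_comp (Sigma.ι (fun i => (D i).S.Y') i₀)
          (Sigma.desc fun i => (D i).G) (D i₀).G (Sigma.ι_desc _ _) _ (D i₀).surj
      rw [h1, h2]
      simp
  -- the class is killed on the disjoint union
  have h0 : c.op (s.paste T') k (ChowOps.cl α3 hα3) = 0 := by
    refine op_eq_zero_of_open_cover hX hY c (s.paste T') (fun i => (D i).S)
      (fun i => Sigma.ι (fun i => (D i).S.Y') i) hw (sigma_cover _) (sigma_disjoint _) k α3 hα3 ?_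
    intro i h
    have heq : oiPullCycle (Sigma.ι (fun i => (D i).S.Y') i) α3 =
        (α i.1) • pointCycle (genericPoint (D i).S.Y') 1 := by
      rw [zsmul_pointCycle]
      ext y'
      rw [oiPullCycle_apply, hα3def, sigmaPtCycle_apply, pointCycle_apply]
    have hk' : (D i).S.δY' (genericPoint (D i).S.Y') = k + ((0 : ℕ) : ℤ) := by
      rw [hδgen i]; simp
    have he : pointCycle (genericPoint (D i).S.Y') 1 ∈
        Cyc.Zk (D i).S.Y' (D i).S.δY' (k + ((0 : ℕ) : ℤ)) :=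
      hk' ▸ pointCycle_mem_Zk (D i).S.δY' (genericPoint (D i).S.Y') 1
    have hsm : (α i.1) • pointCycle (genericPoint (D i).S.Y') 1 ∈
        Cyc.Zk (D i).S.Y' (D i).S.δY' (k + ((0 : ℕ) : ℤ)) := heq ▸ h
    rw [Bivar.cl_congr heq h hsm, cl_zsmul _ _ _ _ he hsm, map_zsmul,
      (D i).zero _ _ he (pointCycle_self _ _) (fun y' hy' => pointCycle_of_ne _ _ _ hy'),
      smul_zero]
  have h1 := op_map_eq_zero hX hY c s (s.paste T') (Sigma.desc fun i => (D i).G) rfl k α3 hα3 h0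
  rw [Bivar.cl_congr hpush.symm hα (Bivar.cycMap_mem_Zk _ δ3 s.δY' k hα3)]
  exact h1

end ptdata

end Groth.Agent.Lib.Helper71.PushRat

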