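import Mathlib
import Groth.Prelude.Def_Cyc
import Groth.Agent.Lib.Helper71.PushRatF
import Groth.Agent.Lib.Helper85.IntMult.SecOrd

set_option autoImplicit false
set_option linter.unusedSectionVars false
set_option linter.unusedVariables false
set_option linter.style.haveILetI false
universe u

namespace Groth.Agent.Lib.Helper71.PushRat

open CategoryTheory AlgebraicGeometry IsLocalRing

section basics

theorem divFun_congr_point {X : Scheme.{u}} (δ : X → ℤ) {x y : X} (h : x = y)
    (c : X.residueField x) (z : X) :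
    Cyc.divFun δ y ((X.residueFieldCongr h).hom c) z = Cyc.divFun δ x c z := by
  subst h
  simp

theorem divFun_pow {X : Scheme.{u}} (δ : X → ℤ) (ξ : X) (c : X.residueField ξ) (hc : c ≠ 0)
    (n : ℕ) (x : X) : Cyc.divFun δ ξ (c ^ n) x = (n : ℤ) * Cyc.divFun δ ξ c x := by
  have h := Groth.Agent.Lib.Helper85.SecOrd.divFun_zpow δ ξ c hc (n : ℤ) x
  rwa [zpow_natCast] at h

theorem normGen_residueFieldMap_pow {X Y : Scheme.{u}} (q : X ⟶ Y) (x : X)
    (r : Y.residueField (q x)) :
    Cyc.normGen q x ((q.residueFieldMap x).hom r) = r ^ q.residueDegree x := by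
  unfold Cyc.normGen
  letI := (q.residueFieldMap x).hom.toAlgebra
  have h1 : (q.residueFieldMap x).hom r = algebraMap (Y.residueField (q x)) (X.residueField x) r :=
    rfl
  rw [h1, Algebra.norm_algebraMap]
  rfl

end basics

section sqres

variable {W V X Y : Scheme.{u}} (iW : W ⟶ X) (iV : V ⟶ Y) (p : X ⟶ Y) (q : W ⟶ V)
  (hsq : q ≫ iV = iW ≫ p)

include hsq in
theorem sq_apply' (w : W) : iV (q w) = p (iW w) := by
  have := congrArg (fun t : W ⟶ Y => t w) hsq
  simpa using this

include hsq in
/-- the residue field maps of a commutative square. -/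
theorem sq_residueFieldMap (w : W) (c : Y.residueField (p (iW w))) :
    (iW.residueFieldMap w).hom ((p.residueFieldMap (iW w)).hom c) =
      (q.residueFieldMap w).hom ((iV.residueFieldMap (q w)).hom
        ((Y.residueFieldCongr (sq_apply' iW iV p q hsq w).symm).hom c)) := by
  have h1 := Scheme.Hom.residueFieldMap_congr hsq.symm w
  rw [Scheme.residueFieldMap_comp, Scheme.residueFieldMap_comp] at h1
  exact congr(($h1).hom c)

end sqres

section singlePull

variable {W V X Y : Scheme.{u}} [IsIntegral W] [IsIntegral V] (iW : W ⟶ X) (iV : V ⟶ Y)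
  (p : X ⟶ Y) (q : W ⟶ V) [IsClosedImmersion iW] [IsClosedImmersion iV] [IsProper p]
  (hsq : q ≫ iV = iW ≫ p) (δX : X → ℤ) (δY : Y → ℤ) (hX : Cyc.IsSetup X δX)
  (hY : Cyc.IsSetup Y δY) (hδ : Cyc.DeltaCompat p δX δY)

include hsq hX hY hδ in
theorem map_divCycle_square_pull (ξ : X) (hξ : iW (genericPoint W) = ξ)
    (hη : iV (genericPoint V) = p ξ)
    (c : Y.residueField (p ξ)) (hc : c ≠ 0) (A : AlgebraicCycle X ℤ)
    (hA : ⇑A = Cyc.divFun δX ξ ((p.residueFieldMap ξ).hom c)) :
    ∀ y, AlgebraicCycle.map p δX δY A y =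
      if δX ξ = δY (p ξ) then (p.residueDegree ξ : ℤ) * Cyc.divFun δY (p ξ) c y else 0 := by
  subst hξ
  have hXN : IsLocallyNoetherian X := hX.1
  have hYN : IsLocallyNoetherian Y := hY.1
  have hWN : IsLocallyNoetherian W := ci_isLocallyNoetherian iW
  have hVN : IsLocallyNoetherian V := ci_isLocallyNoetherian iV
  have hW : Cyc.IsSetup W (fun w => δX (iW w)) := ci_isSetup iW δX hX
  have hV : Cyc.IsSetup V (fun v => δY (iV v)) := ci_isSetup iV δY hY
  have hq : IsProper q := sq_isProper iW iV p q hsq
  have hδq : Cyc.DeltaCompat q (fun w => δX (iW w)) (fun v => δY (iV v)) :=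
    sq_deltaCompat iW iV p q hsq δX δY hδ
  have hdom : q (genericPoint W) = genericPoint V := by
    apply ci_injective iV
    rw [sq_apply iW iV p q hsq, hη]
  have hf : (p.residueFieldMap (iW (genericPoint W))).hom c ≠ 0 := by
    intro h
    apply hc
    apply (p.residueFieldMap (iW (genericPoint W))).hom.injective
    rw [h, map_zero]
  have hfW : (iW.residueFieldMap (genericPoint W)).hom
      ((p.residueFieldMap (iW (genericPoint W))).hom c) ≠ 0 := by
    intro h
    apply hf
    apply (iW.residueFieldMap (genericPoint W)).hom.injective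
    rw [h, map_zero]
  let DW : AlgebraicCycle W ℤ := divCycle (fun w => δX (iW w)) hW.2.2 (genericPoint W)
    ((iW.residueFieldMap (genericPoint W)).hom
      ((p.residueFieldMap (iW (genericPoint W))).hom c)) hfW
  have hDW : ⇑DW = Cyc.divFun (fun w => δX (iW w)) (genericPoint W)
    ((iW.residueFieldMap (genericPoint W)).hom
      ((p.residueFieldMap (iW (genericPoint W))).hom c)) := rfl
  have hA' : A = AlgebraicCycle.map iW (fun w => δX (iW w)) δX DW := by
    ext x
    have hAx : A x = Cyc.divFun δX (iW (genericPoint W))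
      ((p.residueFieldMap (iW (genericPoint W))).hom c) x := congrFun hA x
    rw [hAx]
    by_cases hx : x ∈ Set.range iW
    · obtain ⟨w, rfl⟩ := hx
      rw [ci_map_apply iW δX DW w]
      exact (ci_divFun iW δX hX.2.2 (genericPoint W) w _).symm
    · rw [ci_map_apply_of_notMem iW δX DW x hx]
      exact ci_divFun_of_notMem iW δX (genericPoint W) x hx _
  have h1 : AlgebraicCycle.map p δX δY (AlgebraicCycle.map iW (fun w => δX (iW w)) δX DW) =
      AlgebraicCycle.map (iW ≫ p) (fun w => δX (iW w)) δY DW :=
    Groth.Agent.Lib.Helper55.map_map_of_le iW p (fun w => δX (iW w)) δX δY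
      (fun w => le_refl _) (deltaCompat_le p δX δY hδ) DW
  have h2 : AlgebraicCycle.map iV (fun v => δY (iV v)) δY
      (AlgebraicCycle.map q (fun w => δX (iW w)) (fun v => δY (iV v)) DW) =
      AlgebraicCycle.map (q ≫ iV) (fun w => δX (iW w)) δY DW :=
    Groth.Agent.Lib.Helper55.map_map_of_le q iV (fun w => δX (iW w)) (fun v => δY (iV v)) δY
      (deltaCompat_le q _ _ hδq) (fun v => le_refl _) DW
  have h3 : AlgebraicCycle.map (q ≫ iV) (fun w => δX (iW w)) δY DW =
      AlgebraicCycle.map (iW ≫ p) (fun w => δX (iW w)) δY DW :=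
    map_congr_hom _ _ hsq _ _ _
  intro y
  by_cases hn : δX (iW (genericPoint W)) = δY (p (iW (genericPoint W)))
  · rw [if_pos hn]
    have hn' : δX (iW (genericPoint W)) = δY (iV (genericPoint V)) := by rw [hη]; exact hn
    have hS := Groth.Agent.S1906.result W V (fun w => δX (iW w)) (fun v => δY (iV v)) hW hV q hδq
      hdom hn' _ hfW DW hDW
    have hpt : p (iW (genericPoint W)) = iV (q (genericPoint W)) :=
      (sq_apply' iW iV p q hsq (genericPoint W)).symm
    set g' : Y.residueField (iV (q (genericPoint W))) := (Y.residueFieldCongr hpt).hom c with hg'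
    have hg'0 : g' ≠ 0 := by
      intro h
      apply hc
      apply (Y.residueFieldCongr hpt).hom.hom.injective
      rw [← hg', h, map_zero]
    have hnorm : Cyc.normGen q (genericPoint W) ((iW.residueFieldMap (genericPoint W)).hom
        ((p.residueFieldMap (iW (genericPoint W))).hom c)) =
        (iV.residueFieldMap (q (genericPoint W))).hom (g' ^ q.residueDegree (genericPoint W)) := by
      rw [sq_residueFieldMap iW iV p q hsq (genericPoint W) c, normGen_residueFieldMap_pow, map_pow]
    have hd : q.residueDegree (genericPoint W) = p.residueDegree (iW (genericPoint W)) :=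
      sq_residueDegree iW iV p q hsq (genericPoint W)
    have hcongr : ∀ z, Cyc.divFun δY (iV (q (genericPoint W))) g' z =
        Cyc.divFun δY (p (iW (genericPoint W))) c z := fun z => divFun_congr_point δY hpt c z
    rw [hA', h1, ← h3, ← h2]
    by_cases hy : y ∈ Set.range iV
    · obtain ⟨v', rfl⟩ := hy
      rw [ci_map_apply iV δY _ v', congrFun hS v', hnorm,
        ci_divFun iV δY hY.2.2 (q (genericPoint W)) v' _, divFun_pow δY _ g' hg'0, hcongr, hd]
    · rw [ci_map_apply_of_notMem iV δY _ y hy, ← hcongr,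
        ci_divFun_of_notMem iV δY (q (genericPoint W)) y hy g', mul_zero]
  · rw [if_neg hn]
    have hn' : δX (iW (genericPoint W)) ≠ δY (iV (genericPoint V)) := by rw [hη]; exact hn
    have hS := Groth.Agent.S16921.result W V (fun w => δX (iW w)) (fun v => δY (iV v)) hW hV q hδq
      hdom hn' _ hfW DW hDW
    rw [hA', h1, ← h3, ← h2, hS, map_zero_cycle]
    rfl

end singlePull

section pointPull

variable {X Y : Scheme.{u}} (δX : X → ℤ) (δY : Y → ℤ) (hX : Cyc.IsSetup X δX)
  (hY : Cyc.IsSetup Y δY) (p : X ⟶ Y) [IsProper p] (hδ : Cyc.DeltaCompat p δX δY)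

include hX hY hδ in
/-- the proper push-forward of the principal divisor of a pulled-back rational function. -/
theorem map_divCycle_point_pull (ξ : X) (c : Y.residueField (p ξ)) (hc : c ≠ 0)
    (A : AlgebraicCycle X ℤ) (hA : ⇑A = Cyc.divFun δX ξ ((p.residueFieldMap ξ).hom c)) :
    ∀ y, AlgebraicCycle.map p δX δY A y =
      if δX ξ = δY (p ξ) then (p.residueDegree ξ : ℤ) * Cyc.divFun δY (p ξ) c y else 0 := by
  have := isIntegral_clSub ξ
  have := isIntegral_clSub (p ξ)
  exact map_divCycle_square_pull (clι ξ) (clι (p ξ)) p (clMap ξ p) (clMap_clι ξ p) δX δY hX hY hδ ξ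
    (genericPoint_clSub ξ) (genericPoint_clSub (p ξ)) c hc A hA

end pointPull

end Groth.Agent.Lib.Helper71.PushRat

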