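import Mathlib
import Groth.Prelude.Def_C1
import Groth.Agent.Lib.Helper71.PushRatP
import Groth.Agent.Lib.Helper85.IntMult.C1Sum

set_option autoImplicit false
set_option linter.unusedSectionVars false
set_option linter.unusedVariables false
set_option linter.style.haveILetI false
universe u

namespace Groth.Agent.Lib.Helper71.PushRat

open CategoryTheory AlgebraicGeometry IsLocalRing

section sums

theorem mul_finsum_mem' {β : Type*} (a : ℤ) (g : β → ℤ) (K : Set β)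
    (h : (K ∩ Function.support g).Finite) : ∑ᶠ x ∈ K, a * g x = a * ∑ᶠ x ∈ K, g x :=
  ((AddMonoidHom.mulLeft a).map_finsum_mem' h).symm

theorem finsum_mem_mul' {β : Type*} (a : ℤ) (g : β → ℤ) (K : Set β)
    (h : (K ∩ Function.support g).Finite) : ∑ᶠ x ∈ K, g x * a = (∑ᶠ x ∈ K, g x) * a :=
  ((AddMonoidHom.mulRight a).map_finsum_mem' h).symm

/-- summing over the fibres of a map. -/
theorem finsum_fiberwise {α β : Type*} (φ : α → β) (G : α → ℤ) (hG : (Function.support G).Finite) :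
    ∑ᶠ b, ∑ᶠ a ∈ φ ⁻¹' {b}, G a = ∑ᶠ a, G a := by
  classical
  have h1 : ∀ b, ∑ᶠ a ∈ φ ⁻¹' {b}, G a = ∑ᶠ a, (if φ a = b then G a else 0) := by
    intro b
    rw [finsum_mem_def]
    apply finsum_congr
    intro a
    by_cases h : φ a = b
    · rw [if_pos h, Set.indicator_of_mem (show a ∈ φ ⁻¹' {b} from h)]
    · rw [if_neg h, Set.indicator_of_notMem (show a ∉ φ ⁻¹' {b} from h)]
  simp_rw [h1]
  have hfin : (Function.support (Function.uncurry fun b a => if φ a = b then G a else 0)).Finite := by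
    refine (hG.image (fun a => (φ a, a))).subset ?_
    rintro ⟨b, a⟩ hne
    have hne' : (if φ a = b then G a else 0) ≠ 0 := hne
    by_cases h : φ a = b
    · rw [if_pos h] at hne'
      exact ⟨a, hne', Prod.ext h rfl⟩
    · rw [if_neg h] at hne'
      exact absurd rfl hne'
  rw [Groth.Agent.Lib.Helper85.C1Sum.finsum_comm_of_finite _ hfin]
  apply finsum_congr
  intro a
  rw [finsum_eq_single _ (φ a) (fun b hb => if_neg (fun h => hb h.symm)), if_pos rfl]

end sums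

section core

variable {X Y : Scheme.{u}} (δX : X → ℤ) (δY : Y → ℤ) (hX : Cyc.IsSetup X δX)
  (hY : Cyc.IsSetup Y δY) (p : X ⟶ Y) [IsProper p] (hδ : Cyc.DeltaCompat p δX δY)

/-- the points of the support of a cycle whose image specializes to `y` form a finite set. -/
theorem finite_support_image_specializes (α : AlgebraicCycle X ℤ) (y : Y) :
    {ξ : X | α ξ ≠ 0 ∧ p ξ ⤳ y}.Finite := by
  obtain ⟨V, hV, hyV, -⟩ := exists_isAffineOpen_mem_and_subset (x := y) (U := ⊤) trivial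
  have hc : IsCompact (p ⁻¹ᵁ V : Set X) := p.isSpectralMap.2 V.isOpen hV.isCompact
  refine (α.locallyFiniteSupport.finite_inter_support_of_isCompact hc).subset ?_
  rintro ξ ⟨h1, h2⟩
  exact ⟨h2.mem_open V.isOpen hyV, h1⟩

include hX hY hδ in
/-- the projection formula at the level of coefficient functions, for a family of rational
functions on `Y`. -/
theorem push_c1_core (c : (η : Y) → Y.residueField η) (hc : ∀ η, c η ≠ 0)
    (α : AlgebraicCycle X ℤ) (y : Y) :
    ∑ᶠ x ∈ p ⁻¹' {y},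
        (∑ᶠ ξ, α ξ * Cyc.divFun δX ξ ((p.residueFieldMap ξ).hom (c (p ξ))) x) *
          ((AlgebraicCycle.mapCoeff p δX δY x : ℕ) : ℤ) =
      ∑ᶠ η, (AlgebraicCycle.map p δX δY α) η * Cyc.divFun δY η (c η) y := by
  classical
  have hXN : IsLocallyNoetherian X := hX.1
  have hI₀ : {ξ : X | α ξ ≠ 0 ∧ p ξ ⤳ y}.Finite := finite_support_image_specializes p α y
  have hfne : ∀ ξ, (p.residueFieldMap ξ).hom (c (p ξ)) ≠ 0 := by
    intro ξ h
    apply hc (p ξ)
    apply (p.residueFieldMap ξ).hom.injective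
    rw [h, map_zero]
  set H : Y → ℤ := fun η => Cyc.divFun δY η (c η) y with hH
  set F : X → X → ℤ := fun ξ x =>
    α ξ * (Cyc.divFun δX ξ ((p.residueFieldMap ξ).hom (c (p ξ))) x *
      ((AlgebraicCycle.mapCoeff p δX δY x : ℕ) : ℤ)) with hF
  have hFne : ∀ ξ x, F ξ x ≠ 0 → α ξ ≠ 0 ∧ ξ ⤳ x := by
    intro ξ x h
    refine ⟨left_ne_zero_of_mul h, ?_⟩
    have h2 := left_ne_zero_of_mul (right_ne_zero_of_mul h)
    exact (divFun_ne_zero_imp δX ξ _ x h2).1
  -- step 1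
  have e1 : ∀ x, (∑ᶠ ξ, α ξ * Cyc.divFun δX ξ ((p.residueFieldMap ξ).hom (c (p ξ))) x) *
      ((AlgebraicCycle.mapCoeff p δX δY x : ℕ) : ℤ) = ∑ᶠ ξ, F ξ x := by
    intro x
    rw [finsum_mul]
    apply finsum_congr
    intro ξ
    exact mul_assoc _ _ _
  rw [finsum_mem_congr rfl (fun x _ => e1 x)]
  -- step 2
  have hKfin : ∀ ξ, (p ⁻¹' {y} ∩ Function.support (fun x =>
      Cyc.divFun δX ξ ((p.residueFieldMap ξ).hom (c (p ξ))) x *
      ((AlgebraicCycle.mapCoeff p δX δY x : ℕ) : ℤ))).Finite := fun ξ =>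
    finite_fiber_support p δX δY (divCycle δX hX.2.2 ξ _ (hfne ξ)) y
  rw [finsum_mem_finsum_comm (p ⁻¹' {y}) F {ξ : X | α ξ ≠ 0 ∧ p ξ ⤳ y} hI₀ ?_ ?_]
  rotate_left
  · intro ξ hξ x hx
    by_contra hne
    obtain ⟨h1, h2⟩ := hFne ξ x hne
    apply hξ
    refine ⟨h1, ?_⟩
    have h3 := h2.map p.continuous
    rwa [show p x = y from hx] at h3
  · intro ξ _
    refine (hKfin ξ).subset ?_
    rintro x ⟨hx1, hx2⟩
    exact ⟨hx1, right_ne_zero_of_mul hx2⟩
  -- step 3
  have e3 : ∀ ξ, ∑ᶠ x ∈ p ⁻¹' {y}, F ξ x =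
      α ξ * ((AlgebraicCycle.mapCoeff p δX δY ξ : ℕ) : ℤ) * H (p ξ) := by
    intro ξ
    have hm : AlgebraicCycle.map p δX δY (divCycle δX hX.2.2 ξ _ (hfne ξ)) y =
        ∑ᶠ x ∈ p ⁻¹' {y}, Cyc.divFun δX ξ ((p.residueFieldMap ξ).hom (c (p ξ))) x *
          ((AlgebraicCycle.mapCoeff p δX δY x : ℕ) : ℤ) := rfl
    rw [hF]
    simp only
    rw [mul_finsum_mem' _ _ _ (hKfin ξ), ← hm,
      map_divCycle_point_pull δX δY hX hY p hδ ξ (c (p ξ)) (hc (p ξ)) _ rfl y]
    unfold AlgebraicCycle.mapCoeff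
    by_cases hn : δX ξ = δY (p ξ)
    · rw [if_pos hn, if_pos hn]
      ring
    · rw [if_neg hn, if_neg hn]
      simp
  rw [finsum_congr e3]
  -- step 4
  have hGfin : (Function.support fun ξ =>
      α ξ * ((AlgebraicCycle.mapCoeff p δX δY ξ : ℕ) : ℤ) * H (p ξ)).Finite := by
    refine hI₀.subset ?_
    intro ξ hξ
    have h1 : α ξ ≠ 0 := left_ne_zero_of_mul (left_ne_zero_of_mul hξ)
    have h2 : H (p ξ) ≠ 0 := right_ne_zero_of_mul hξ
    exact ⟨h1, (divFun_ne_zero_imp δY (p ξ) _ y h2).1⟩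
  rw [← finsum_fiberwise p _ hGfin]
  apply finsum_congr
  intro η
  rw [map_apply_eq, ← finsum_mem_mul' _ _ _ (finite_fiber_support p δX δY α η)]
  apply finsum_mem_congr rfl
  intro ξ hξ
  rw [show p ξ = η from hξ]

end core

end Groth.Agent.Lib.Helper71.PushRat

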