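import Mathlib
import Groth.Prelude.Def_C1
import Groth.Agent.Lib.Helper71.PushRatQ
import Groth.Agent.Lib.Helper85.IntMult.FlatC1

set_option autoImplicit false
set_option linter.unusedSectionVars false
set_option linter.unusedVariables false
set_option linter.style.haveILetI false
universe u

namespace Groth.Agent.Lib.Helper71.PushRat

open CategoryTheory AlgebraicGeometry IsLocalRing
open Groth.Agent.Lib.Helper45 Groth.Agent.Lib.Helper49 Groth.Agent.Lib.Helper45.InvOrd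
open Groth.Agent.Lib.Helper85.SecOrd
open Groth.Agent.Lib.Helper85.C1Tensor Groth.Agent.Lib.Helper85.C1Comm
open Groth.Agent.Lib.Helper85.C1Sum Groth.Agent.Lib.Helper85.Gysin
open Groth.Agent.Lib.Helper85.PullDict Groth.Agent.Lib.Helper11.PullbackBasis
open Groth.Agent.Lib.Helper85.DivPull Groth.Agent.Lib.Helper85.DivPullRat
open Groth.Agent.Lib.Helper85.FlatC1

section cyc

variable {X : Scheme.{u}} [IsLocallyNoetherian X] (δ : X → ℤ) (hdim : Cyc.IsDimFun X δ)

include hdim in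
/-- `Σ α(ξ) div(F ξ)` is a cycle. -/
theorem exists_cycle_finsum_divFun (α : AlgebraicCycle X ℤ) (F : (ξ : X) → X.residueField ξ)
    (hF : ∀ ξ, F ξ ≠ 0) :
    ∃ Δ : AlgebraicCycle X ℤ, ∀ x, Δ x = ∑ᶠ ξ, α ξ * Cyc.divFun δ ξ (F ξ) x := by
  classical
  have hlf : ∀ x : X, ∃ U : Set X, IsOpen U ∧ x ∈ U ∧
      {i : {ξ : X // α ξ ≠ 0} | (closure {i.1} ∩ U).Nonempty}.Finite := by
    intro x
    obtain ⟨t, ht, hfin⟩ := α.supportLocallyFiniteWithinDomain' x (Set.mem_univ x)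
    obtain ⟨U, hUt, hUo, hxU⟩ := mem_nhds_iff.mp ht
    refine ⟨U, hUo, hxU, ?_⟩
    apply Set.Finite.of_finite_image (f := Subtype.val) ?_ Subtype.val_injective.injOn
    apply hfin.subset
    rintro _ ⟨i, ⟨y, hy, hyU⟩, rfl⟩
    have hsp : i.1 ⤳ y := specializes_iff_mem_closure.mpr hy
    exact ⟨hUt (hsp.mem_open hUo hyU), i.2⟩
  refine ⟨sumDivCycle δ hdim (fun i : {ξ : X // α ξ ≠ 0} => i.1)
    (fun i => (F i.1) ^ (α i.1)) (fun i => zpow_ne_zero _ (hF i.1)) hlf, fun x => ?_⟩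
  rw [sumDivCycle_apply]
  rw [← finsum_subtype_of_support_subset
    (fun ξ => α ξ * Cyc.divFun δ ξ (F ξ) x) (fun ξ => α ξ ≠ 0)
    (fun ξ hne h0 => hne (by rw [h0, zero_mul]))]
  apply finsum_congr
  intro i
  rw [divFun_zpow _ _ _ (hF i.1)]

end cyc

section proj

variable {X Y : Scheme.{u}} (δX : X → ℤ) (δY : Y → ℤ) (hX : Cyc.IsSetup X δX)
  (hY : Cyc.IsSetup Y δY) (p : X ⟶ Y) [IsProper p] (hδ : Cyc.DeltaCompat p δX δY)

include hX hY hδ in
/-- **Projection formula**: `p_*(c_1(p^*L) ∩ α) ∼ c_1(L) ∩ p_*α`. -/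
theorem projection_formula (L : Y.Modules) (hL : PicF.IsInvertible L) (k : ℤ)
    (α : AlgebraicCycle X ℤ) (hα : α ∈ Cyc.Zk X δX (k + 1))
    (u : (ξ : X) → Cyc.secFibre ((Scheme.Modules.pullback p).obj L) ξ) (hu : ∀ ξ, u ξ ≠ 0)
    (v : (η : Y) → Cyc.secFibre L η) (hv : ∀ η, v η ≠ 0) (γ : AlgebraicCycle X ℤ)
    (hγ : ⇑γ = Cyc.c1CapFun δX ((Scheme.Modules.pullback p).obj L) ⇑α u)
    (γ' : AlgebraicCycle Y ℤ)
    (hγ' : ⇑γ' = Cyc.c1CapFun δY L ⇑(AlgebraicCycle.map p δX δY α) v) :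
    Cyc.RatEquiv δY k (AlgebraicCycle.map p δX δY γ) γ' := by
  classical
  have hXN : IsLocallyNoetherian X := hX.1
  have hL' : PicF.IsInvertible ((Scheme.Modules.pullback p).obj L) :=
    Groth.Agent.Lib.Helper11.GenLocus.isInvertible_of_forall_exists_isBasisOn (fun d => by
      obtain ⟨V, hV, τ, hτ⟩ := exists_isBasisOn_of_isInvertible hL (p d)
      exact ⟨p ⁻¹ᵁ V, hV, pullS p L V τ, isBasisOn_pullS p V L τ hτ⟩)
  choose u₀ hu₀0 hu₀ using fun ξ => exists_pull_section p L hL ξ (v (p ξ)) (hv (p ξ))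
  obtain ⟨F, hF0, hF⟩ := c1Cap_indep_family δX hL' α u u₀ hu hu₀0
  obtain ⟨Δ, hΔ⟩ := exists_cycle_finsum_divFun δX hX.2.2 α F hF0
  have hΔ0 : Cyc.RatEquivZero δX k Δ := ratEquivZero_of_finsum_divFun δX k α hα F hF0 Δ hΔ
  have hpΔ : Cyc.RatEquivZero δY k (AlgebraicCycle.map p δX δY Δ) := by
    have h1 : Cyc.RatEquiv δX k Δ 0 := by
      change Cyc.RatEquivZero δX k (Δ - 0)
      rwa [sub_zero]
    have h2 := ratEquiv_map δX δY hX hY p hδ k Δ 0 h1
    change Cyc.RatEquivZero δY k _ at h2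
    rwa [map_zero_cycle, sub_zero] at h2
  -- the cycle computed with the pulled-back sections
  have hγ₀ : ∀ x, (γ - Δ) x = Cyc.c1CapFun δX ((Scheme.Modules.pullback p).obj L) ⇑α u₀ x := by
    intro x
    rw [Function.locallyFinsuppWithin.coe_sub, Pi.sub_apply, hΔ x, ← hF x, hγ]
    ring
  -- the exact identity
  have hexact : AlgebraicCycle.map p δX δY (γ - Δ) = γ' := by
    ext y
    obtain ⟨V, hyV, τ, hτ⟩ := exists_isBasisOn_of_isInvertible hL y
    -- coordinates of `v` with respect to `τ`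
    have hcoord : ∀ η : Y, ∃ c : Y.residueField η, c ≠ 0 ∧ (∀ hη : η ∈ V,
        ∃ b : Y.presheaf.stalk η, v η = Submodule.Quotient.mk (b • L.presheaf.germ V η hη τ) ∧
          Y.residue η b = c) := by
      intro η
      by_cases hη : η ∈ V
      · obtain ⟨b, hb⟩ := exists_coord hτ η hη (v η)
        refine ⟨Y.residue η b, residue_coord_ne_zero hτ η hη b (by rw [← hb]; exact hv η),
          fun _ => ⟨b, hb, rfl⟩⟩
      · exact ⟨1, one_ne_zero, fun h => absurd h hη⟩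
    choose c hc0 hc using hcoord
    have hcore := push_c1_core δX δY hX hY p hδ c hc0 α y
    rw [map_apply_eq, hγ']
    unfold Cyc.c1CapFun
    convert hcore using 1
    · apply finsum_mem_congr rfl
      intro x hx
      congr 1
      rw [hγ₀ x]
      unfold Cyc.c1CapFun
      apply finsum_congr
      intro ξ
      congr 1
      by_cases hsp : ξ ⤳ x
      · have hpx : p x ∈ V := by rw [show p x = y from hx]; exact hyV
        have hpξ : p ξ ∈ V := (hsp.map p.continuous).mem_open V.isOpen hpx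
        obtain ⟨b, hb, hbc⟩ := hc (p ξ) hpξ
        rw [← hbc]
        exact (divFun_res_eq_secDivFun p L δX ξ x hτ hpx hpξ b (u₀ ξ)
          (hu₀ ξ V τ hτ hpξ b hb)).symm
      · unfold Cyc.secDivFun Cyc.divFun
        rw [dif_neg (fun h => hsp h.1), dif_neg (fun h => hsp h.1)]
    · apply finsum_congr
      intro η
      congr 1
      by_cases hsp : η ⤳ y
      · have hη : η ∈ V := hsp.mem_open V.isOpen hyV
        obtain ⟨b, hb, hbc⟩ := hc η hη
        unfold Cyc.secDivFun Cyc.divFun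
        by_cases hcond : η ⤳ y ∧ δY y + 1 = δY η
        · rw [dif_pos hcond, dif_pos hcond, hb, secOrdAt_basis hτ y hyV η hcond.1, hbc]
        · rw [dif_neg hcond, dif_neg hcond]
      · unfold Cyc.secDivFun Cyc.divFun
        rw [dif_neg (fun h => hsp h.1), dif_neg (fun h => hsp h.1)]
  -- conclusion
  change Cyc.RatEquivZero δY k _
  have hfinal : AlgebraicCycle.map p δX δY γ - γ' = AlgebraicCycle.map p δX δY Δ := by
    rw [← hexact, ← map_sub p δX δY, sub_sub_cancel]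
  rw [hfinal]
  exact hpΔ

end proj

end Groth.Agent.Lib.Helper71.PushRat

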