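import Mathlib
import Groth.Prelude.Def_C1
import Groth.Agent.Lib.Helper71.PushRatR

set_option autoImplicit false
set_option linter.unusedSectionVars false
set_option linter.unusedVariables false
set_option linter.style.haveILetI false
universe u

namespace Groth.Agent.Lib.Helper71.PushRat

open CategoryTheory AlgebraicGeometry IsLocalRing
open Groth.Agent.Lib.Helper45 Groth.Agent.Lib.Helper49 Groth.Agent.Lib.Helper45.InvOrd
open Groth.Agent.Lib.Helper85.SecOrd
open Groth.Agent.Lib.Helper85.C1Tensor Groth.Agent.Lib.Helper85.C1Comm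
open Groth.Agent.Lib.Helper85.C1Sum Groth.Agent.Lib.Helper85.Gysin
open Groth.Agent.Lib.Helper85.PullDict Groth.Agent.Lib.Helper11.PullbackBasis
open Groth.Agent.Lib.Helper85.DivPull Groth.Agent.Lib.Helper85.DivPullRat
open Groth.Agent.Lib.Helper85.FlatC1

section projexact

variable {X Y : Scheme.{u}} (δX : X → ℤ) (δY : Y → ℤ) (hX : Cyc.IsSetup X δX)
  (hY : Cyc.IsSetup Y δY) (p : X ⟶ Y) [IsProper p] (hδ : Cyc.DeltaCompat p δX δY)

include hX hY hδ in
/-- **Projection formula, exact form**: if the rational sections `u₀` of `p^*L` are the pullbacks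
of the rational sections `v` of `L` (in local coordinates), then
`p_*(c_1(p^*L) ∩ α) = c_1(L) ∩ p_*α` on the nose, as coefficient functions. -/
theorem map_c1Cap_pull_eq (L : Y.Modules) (hL : PicF.IsInvertible L)
    (α : AlgebraicCycle X ℤ)
    (v : (η : Y) → Cyc.secFibre L η) (hv : ∀ η, v η ≠ 0)
    (u₀ : (ξ : X) → Cyc.secFibre ((Scheme.Modules.pullback p).obj L) ξ)
    (hu₀ : ∀ (ξ : X) (V : Y.Opens) (τ : Γ(L, V)) (_ : IsBasisOn L V τ) (hV : p ξ ∈ V)
        (b : Y.presheaf.stalk (p ξ)),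
        v (p ξ) = Submodule.Quotient.mk (b • L.presheaf.germ V (p ξ) hV τ) →
        u₀ ξ = Submodule.Quotient.mk ((p.stalkMap ξ b) •
          ((Scheme.Modules.pullback p).obj L).presheaf.germ (p ⁻¹ᵁ V) ξ hV (pullS p L V τ)))
    (γ₀ : AlgebraicCycle X ℤ)
    (hγ₀ : ⇑γ₀ = Cyc.c1CapFun δX ((Scheme.Modules.pullback p).obj L) ⇑α u₀) (y : Y) :
    AlgebraicCycle.map p δX δY γ₀ y =
      Cyc.c1CapFun δY L ⇑(AlgebraicCycle.map p δX δY α) v y := by
  classical
  have hXN : IsLocallyNoetherian X := hX.1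
  obtain ⟨V, hyV, τ, hτ⟩ := exists_isBasisOn_of_isInvertible hL y
  -- coordinates of `v` with respect to `τ`
  have hcoord : ∀ η : Y, ∃ c : Y.residueField η, c ≠ 0 ∧ (∀ hη : η ∈ V,
      ∃ b : Y.presheaf.stalk η, v η = Submodule.Quotient.mk (b • L.presheaf.germ V η hη τ) ∧
        Y.residue η b = c) := by
    intro η
    by_cases hη : η ∈ V
    · obtain ⟨b, hb⟩ := exists_coord hτ η hη (v η)
      refine ⟨Y.residue η b, residue_coord_ne_zero hτ η hη b (by rw [← hb]; exact hv η),
        fun _ => ⟨b, hb, rfl⟩⟩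
    · exact ⟨1, one_ne_zero, fun h => absurd h hη⟩
  choose c hc0 hc using hcoord
  have hcore := push_c1_core δX δY hX hY p hδ c hc0 α y
  rw [map_apply_eq]
  unfold Cyc.c1CapFun
  convert hcore using 1
  · apply finsum_mem_congr rfl
    intro x hx
    congr 1
    rw [hγ₀]
    unfold Cyc.c1CapFun
    apply finsum_congr
    intro ξ
    congr 1
    by_cases hsp : ξ ⤳ x
    · have hpx : p x ∈ V := by rw [show p x = y from hx]; exact hyV
      have hpξ : p ξ ∈ V := (hsp.map p.continuous).mem_open V.isOpen hpx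
      obtain ⟨b, hb, hbc⟩ := hc (p ξ) hpξ
      rw [← hbc]
      exact (divFun_res_eq_secDivFun p L δX ξ x hτ hpx hpξ b (u₀ ξ)
        (hu₀ ξ V τ hτ hpξ b hb)).symm
    · unfold Cyc.secDivFun Cyc.divFun
      rw [dif_neg (fun h => hsp h.1), dif_neg (fun h => hsp h.1)]
  · apply finsum_congr
    intro η
    congr 1
    by_cases hsp : η ⤳ y
    · have hη : η ∈ V := hsp.mem_open V.isOpen hyV
      obtain ⟨b, hb, hbc⟩ := hc η hη
      unfold Cyc.secDivFun Cyc.divFun
      by_cases hcond : η ⤳ y ∧ δY y + 1 = δY η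
      · rw [dif_pos hcond, dif_pos hcond, hb, secOrdAt_basis hτ y hyV η hcond.1, hbc]
      · rw [dif_neg hcond, dif_neg hcond]
    · unfold Cyc.secDivFun Cyc.divFun
      rw [dif_neg (fun h => hsp h.1), dif_neg (fun h => hsp h.1)]

end projexact

end Groth.Agent.Lib.Helper71.PushRat
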