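import Mathlib
import Groth.Agent.Lib.Helper71.TorCrit2
import Groth.Agent.S6313

/-!
# Flatness criterion along a finitely generated ideal (helper71)

`M_{f_i}` flat over `A_{f_i}`, `M/IM` flat over `A/I`, `Tor_k^A(M, A/I) = 0` for `1 ≤ k ≤ r + 1`
(`I = (f_1, …, f_r)`) imply `M` flat.
-/

set_option autoImplicit false
universe u
open CategoryTheory CategoryTheory.Limits MonoidalCategory TensorProduct

namespace Groth.Agent.Lib.Helper71.TorCrit

variable {A : Type u} [CommRing A]

/-- `N` is `g`-power torsion. -/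
def PowTors (g : A) (N : Type u) [AddCommGroup N] [Module A N] : Prop :=
  ∀ x : N, ∃ m : ℕ, g ^ m • x = 0

theorem PowTors.submodule {g : A} {N : Type u} [AddCommGroup N] [Module A N] (h : PowTors g N)
    (S : Submodule A N) : PowTors g S := by
  intro x
  obtain ⟨m, hm⟩ := h x.1
  exact ⟨m, Subtype.ext (by simpa using hm)⟩

theorem TZ_of_subsingleton (k : ℕ) (hk : 1 ≤ k) (X N : Type u) [AddCommGroup X] [Module A X]
    [AddCommGroup N] [Module A N] [Subsingleton N] : TZ (A := A) k X N := by
  rw [TZ_iff_subsingleton]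
  have : Module.Flat A N := inferInstance
  exact (Groth.Agent.S3527.result A N X k (by omega)).2

section step

variable (X : Type u) [AddCommGroup X] [Module A X]

/-- One step of dévissage: from modules killed by `g` to `g`-power torsion modules. -/
theorem TZ_of_powTors_step (k : ℕ) (hk : 1 ≤ k) (g : A)
    (C : ∀ (N : Type u) [AddCommGroup N] [Module A N], Prop)
    (hCsub : ∀ (N : Type u) [AddCommGroup N] [Module A N], C N → ∀ S : Submodule A N, C S)
    (hyp : ∀ (N : Type u) [AddCommGroup N] [Module A N], C N → (∀ x : N, g • x = 0) →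
      TZ (A := A) k X N) :
    ∀ (N : Type u) [AddCommGroup N] [Module A N], C N → PowTors g N → TZ (A := A) k X N := by
  have hA : ∀ m : ℕ, ∀ (N : Type u) [AddCommGroup N] [Module A N], C N →
      (∀ x : N, g ^ m • x = 0) → TZ (A := A) k X N := by
    intro m
    induction m with
    | zero =>
      intro N _ _ _ hN
      have : Subsingleton N := ⟨fun a b => by
        have ha := hN a
        have hb := hN b
        rw [pow_zero, one_smul] at ha hb
        rw [ha, hb]⟩
      exact TZ_of_subsingleton k hk X N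
    | succ m ih =>
      intro N _ _ hC hN
      let φ : N →ₗ[A] N := LinearMap.lsmul A N g
      have hφ : ∀ x, φ x = g • x := fun x => rfl
      have hex : Function.Exact (LinearMap.ker φ.rangeRestrict).subtype φ.rangeRestrict :=
        LinearMap.exact_subtype_ker_map _
      refine TZ_mid X (LinearMap.ker φ.rangeRestrict).subtype φ.rangeRestrict hex
        Subtype.val_injective φ.surjective_rangeRestrict k ?_ ?_
      · refine hyp _ (hCsub N hC _) ?_
        intro x
        have hx : φ.rangeRestrict x.1 = 0 := x.2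
        have hx' : φ x.1 = 0 := by
          exact congrArg Subtype.val hx
        exact Subtype.ext (by simpa [hφ] using hx')
      · refine ih _ (hCsub N hC _) ?_
        intro y
        obtain ⟨y, x, rfl⟩ := y
        refine Subtype.ext ?_
        change g ^ m • φ x = 0
        rw [hφ, smul_smul, ← pow_succ]
        exact hN x
  intro N _ _ hC hP
  let S : ℕ → Submodule A N := fun m => LinearMap.ker (LinearMap.lsmul A N (g ^ m))
  have hSmem : ∀ m (x : N), x ∈ S m ↔ g ^ m • x = 0 := fun m x => by
    simp [S, LinearMap.mem_ker]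
  have hS : Monotone S := by
    intro m m' hmm' x hx
    rw [hSmem] at hx ⊢
    obtain ⟨d, rfl⟩ := Nat.exists_eq_add_of_le hmm'
    rw [pow_add, _root_.mul_comm, mul_smul, hx, smul_zero]
  have hcov : ∀ x : N, ∃ m, x ∈ S m := fun x => by
    obtain ⟨m, hm⟩ := hP x
    exact ⟨m, (hSmem m x).mpr hm⟩
  refine TZ_of_chain S hS hcov X k hk (fun m => hA m (S m) (hCsub N hC (S m)) ?_)
  intro x
  exact Subtype.ext (by simpa using (hSmem m x.1).mp x.2)

end step

section classes

variable {r : ℕ} (f : Fin r → A)

/-- `f_j`-power torsion for `j < t`, killed by `f_j` for `j ≥ t`. -/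
def ClassD (t : ℕ) (N : Type u) [AddCommGroup N] [Module A N] : Prop :=
  (∀ j : Fin r, j.val < t → PowTors (f j) N) ∧ (∀ j : Fin r, t ≤ j.val → ∀ x : N, f j • x = 0)

/-- `f_j`-power torsion for `j ≥ s`. -/
def ClassC (s : ℕ) (N : Type u) [AddCommGroup N] [Module A N] : Prop :=
  ∀ j : Fin r, s ≤ j.val → PowTors (f j) N

theorem TZ_of_classD (X : Type u) [AddCommGroup X] [Module A X]
    (hfl : Module.Flat (A ⧸ Ideal.span (Set.range f)) ((A ⧸ Ideal.span (Set.range f)) ⊗[A] X))
    (n : ℕ) (hT : ∀ k, 1 ≤ k → k ≤ n → TZ (A := A) k X (A ⧸ Ideal.span (Set.range f)))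
    (t : ℕ) (ht : t ≤ r) :
    ∀ (N : Type u) [AddCommGroup N] [Module A N], ClassD f t N →
      ∀ k, 1 ≤ k → k ≤ n → TZ (A := A) k X N := by
  induction t with
  | zero =>
    intro N _ _ hD
    refine TZ_of_killed (Ideal.span (Set.range f)) X hfl n hT N ?_
    intro a ha x
    have hle : Ideal.span (Set.range f) ≤ Module.annihilator A N := by
      rw [Ideal.span_le]
      rintro _ ⟨j, rfl⟩
      exact Module.mem_annihilator.mpr (hD.2 j (Nat.zero_le _))
    exact Module.mem_annihilator.mp (hle ha) x
  | succ t ih =>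
    intro N _ _ hD k hk hkn
    have ht' : t < r := ht
    refine TZ_of_powTors_step X k hk (f ⟨t, ht'⟩)
      (fun N _ _ => (∀ j : Fin r, j.val < t → PowTors (f j) N) ∧
        (∀ j : Fin r, t + 1 ≤ j.val → ∀ x : N, f j • x = 0)) ?_ ?_ N ?_ ?_
    · intro N _ _ hC S
      refine ⟨fun j hj => (hC.1 j hj).submodule S, fun j hj x => ?_⟩
      exact Subtype.ext (by simpa using hC.2 j hj x.1)
    · intro N _ _ hC hg
      refine ih (by omega) N ⟨hC.1, ?_⟩ k hk hkn
      intro j hj x
      rcases Nat.eq_or_lt_of_le hj with h | h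
      · have : j = ⟨t, ht'⟩ := Fin.ext h.symm
        rw [this]
        exact hg x
      · exact hC.2 j h x
    · exact ⟨fun j hj => hD.1 j (by omega), hD.2⟩
    · exact hD.1 ⟨t, ht'⟩ (by simp)

end classes

section localized

variable (g : A) (N : Type u) [AddCommGroup N] [Module A N]

/-- the kernel of `N → N_g` is `g`-power torsion -/
theorem powTors_ker_mkLinearMap :
    PowTors g (LinearMap.ker
      (LocalizedModule.mkLinearMap (Submonoid.powers g) N).rangeRestrict) := by
  intro x
  have hx : (LocalizedModule.mkLinearMap (Submonoid.powers g) N).rangeRestrict x.1 = 0 := x.2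
  have hx' : LocalizedModule.mkLinearMap (Submonoid.powers g) N x.1 = 0 :=
    congrArg Subtype.val hx
  obtain ⟨⟨c, m, rfl⟩, hc⟩ := (IsLocalizedModule.eq_zero_iff (Submonoid.powers g)
    (LocalizedModule.mkLinearMap (Submonoid.powers g) N)).mp hx'
  exact ⟨m, Subtype.ext hc⟩

/-- the cokernel of `N → N_g` is `g`-power torsion -/
theorem powTors_coker_mkLinearMap :
    PowTors g (LocalizedModule (Submonoid.powers g) N ⧸
      LinearMap.range (LocalizedModule.mkLinearMap (Submonoid.powers g) N)) := by
  intro y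
  obtain ⟨y, rfl⟩ := Submodule.mkQ_surjective _ y
  obtain ⟨⟨x, ⟨c, m, rfl⟩⟩, hx⟩ := IsLocalizedModule.surj (Submonoid.powers g)
    (LocalizedModule.mkLinearMap (Submonoid.powers g) N) y
  refine ⟨m, ?_⟩
  rw [← map_smul, Submodule.mkQ_apply, Submodule.Quotient.mk_eq_zero]
  exact ⟨x, hx.symm⟩

/-- localization preserves power torsion -/
theorem PowTors.localizedModule {h : A} (hN : PowTors h N) :
    PowTors h (LocalizedModule (Submonoid.powers g) N) := by
  intro y
  obtain ⟨⟨x, c⟩, hx⟩ := IsLocalizedModule.surj (Submonoid.powers g)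
    (LocalizedModule.mkLinearMap (Submonoid.powers g) N) y
  obtain ⟨m, hm⟩ := hN x
  refine ⟨m, ?_⟩
  apply IsLocalizedModule.smul_injective (LocalizedModule.mkLinearMap (Submonoid.powers g) N) c
  change c • (h ^ m • y) = c • (0 : LocalizedModule (Submonoid.powers g) N)
  rw [smul_zero, smul_comm]
  rw [hx, ← map_smul, hm, map_zero]

theorem PowTors.quotient {h : A} (hN : PowTors h N) (S : Submodule A N) : PowTors h (N ⧸ S) := by
  intro y
  obtain ⟨y, rfl⟩ := Submodule.mkQ_surjective _ y
  obtain ⟨m, hm⟩ := hN y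
  exact ⟨m, by rw [← map_smul, hm, map_zero]⟩

end localized

section classC

variable {r : ℕ} (f : Fin r → A)

theorem TZ_of_classC (M : Type u) [AddCommGroup M] [Module A M]
    (h1 : ∀ i, Module.Flat (Localization.Away (f i))
      (LocalizedModule (Submonoid.powers (f i)) M))
    (hE : ∀ (N : Type u) [AddCommGroup N] [Module A N], (∀ j, PowTors (f j) N) →
      ∀ k, 1 ≤ k → k ≤ r + 1 → TZ (A := A) k M N)
    (s : ℕ) (hs : s ≤ r) :
    ∀ (N : Type u) [AddCommGroup N] [Module A N], ClassC f s N →
      ∀ k, 1 ≤ k → k + s ≤ r + 1 → TZ (A := A) k M N := by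
  induction s with
  | zero =>
    intro N _ _ hC k hk hks
    exact hE N (fun j => hC j (Nat.zero_le _)) k hk (by omega)
  | succ s ih =>
    intro N _ _ hC k hk hks
    have hs' : s < r := hs
    let φ := LocalizedModule.mkLinearMap (Submonoid.powers (f ⟨s, hs'⟩)) N
    -- the kernel
    have hΓ : ClassC f s (LinearMap.ker φ.rangeRestrict) := by
      intro j hj
      rcases Nat.eq_or_lt_of_le hj with h | h
      · have : j = ⟨s, hs'⟩ := Fin.ext h.symm
        rw [this]
        exact powTors_ker_mkLinearMap (f ⟨s, hs'⟩) N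
      · exact (hC j h).submodule _
    -- the cokernel
    have hH : ClassC f s (LocalizedModule (Submonoid.powers (f ⟨s, hs'⟩)) N ⧸
        LinearMap.range φ) := by
      intro j hj
      rcases Nat.eq_or_lt_of_le hj with h | h
      · have : j = ⟨s, hs'⟩ := Fin.ext h.symm
        rw [this]
        exact powTors_coker_mkLinearMap (f ⟨s, hs'⟩) N
      · exact ((hC j h).localizedModule (f ⟨s, hs'⟩) N).quotient _ _
    have hNg : TZ (A := A) k M (LocalizedModule (Submonoid.powers (f ⟨s, hs'⟩)) N) :=
      TZ_of_localized_flat (f ⟨s, hs'⟩) M (h1 _) _ k hk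
    have hIm : TZ (A := A) k M (LinearMap.range φ) :=
      TZ_left M (LinearMap.range φ).subtype (LinearMap.range φ).mkQ
        (LinearMap.exact_subtype_mkQ _) Subtype.val_injective (Submodule.mkQ_surjective _) k hNg
        (ih (by omega) _ hH (k + 1) (by omega) (by omega))
    exact TZ_mid M (LinearMap.ker φ.rangeRestrict).subtype φ.rangeRestrict
      (LinearMap.exact_subtype_ker_map _) Subtype.val_injective φ.surjective_rangeRestrict k
      (ih (by omega) _ hΓ k hk (by omega)) hIm

/-- **Flatness criterion.** -/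
theorem flat_of_flat_away_of_flat_mod_of_tor (M : Type u) [AddCommGroup M] [Module A M]
    (h1 : ∀ i, Module.Flat (Localization.Away (f i))
      (LocalizedModule (Submonoid.powers (f i)) M))
    (h2 : Module.Flat (A ⧸ Ideal.span (Set.range f)) ((A ⧸ Ideal.span (Set.range f)) ⊗[A] M))
    (h3 : ∀ k, 1 ≤ k → k ≤ r + 1 → TZ (A := A) k M (A ⧸ Ideal.span (Set.range f))) :
    Module.Flat A M := by
  have hE : ∀ (N : Type u) [AddCommGroup N] [Module A N], (∀ j, PowTors (f j) N) →
      ∀ k, 1 ≤ k → k ≤ r + 1 → TZ (A := A) k M N := by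
    intro N _ _ hN
    exact TZ_of_classD f M h2 (r + 1) h3 r le_rfl N
      ⟨fun j _ => hN j, fun j hj => absurd j.2 (by omega)⟩
  have hall : ∀ (N : Type u) [AddCommGroup N] [Module A N], TZ (A := A) 1 M N := by
    intro N _ _
    exact TZ_of_classC f M h1 hE r le_rfl N (fun j hj => absurd j.2 (by omega)) 1 le_rfl
      (by omega)
  rw [Groth.Agent.S6313.result A M]
  intro J _
  exact hall (A ⧸ J)

end classC

end Groth.Agent.Lib.Helper71.TorCrit
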