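import Mathlib
import Groth.Agent.Lib.Helper71.Curvilinear

/-!
Helper71: truncated polynomial rings `k[X]/(X^n)`: local, divisibility is total; subalgebras over
which a ring with total divisibility is flat have principal maximal ideal.
-/

set_option autoImplicit false
universe u

namespace Groth.Agent.Lib.Helper71
open Polynomial


section truncated
variable (k : Type u) [Field k] (n : ℕ)

/-- every element of `k[X]/(X^n)` is zero or `X^i * unit`. -/
theorem truncated_eq_zero_or (x : k[X] ⧸ Ideal.span {(X : k[X]) ^ n}) :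
    x = 0 ∨ ∃ (i : ℕ) (u : k[X] ⧸ Ideal.span {(X : k[X]) ^ n}),
      IsUnit u ∧ x = (Ideal.Quotient.mk _ X) ^ i * u := by
  obtain ⟨p, rfl⟩ := Ideal.Quotient.mk_surjective x
  by_cases hp : p = 0
  · left; simp [hp]
  right
  obtain ⟨q, hq, hnd⟩ := exists_eq_pow_rootMultiplicity_mul_and_not_dvd p hp 0
  simp only [map_zero, sub_zero] at hq hnd
  refine ⟨rootMultiplicity 0 p, Ideal.Quotient.mk _ q, ?_, ?_⟩
  · have hcop : IsCoprime ((X : k[X]) ^ n) q :=
      IsCoprime.pow_left ((irreducible_X (R := k)).coprime_iff_not_dvd.mpr hnd)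
    obtain ⟨a, b, hab⟩ := hcop
    have h1 : Ideal.Quotient.mk (Ideal.span {(X : k[X]) ^ n}) (b * q) = 1 := by
      have h2 : Ideal.Quotient.mk (Ideal.span {(X : k[X]) ^ n}) (a * X ^ n + b * q) = 1 := by
        rw [hab, map_one]
      rw [map_add] at h2
      have h3 : Ideal.Quotient.mk (Ideal.span {(X : k[X]) ^ n}) (a * X ^ n) = 0 :=
        Ideal.Quotient.eq_zero_iff_mem.mpr
          (Ideal.mul_mem_left _ _ (Ideal.subset_span (Set.mem_singleton _)))
      rwa [h3, zero_add] at h2
    rw [map_mul] at h1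
    exact IsUnit.of_mul_eq_one _ (by rw [mul_comm]; exact h1)
  · conv_lhs => rw [hq]
    rw [map_mul, map_pow]

theorem truncated_dvd_total (x y : k[X] ⧸ Ideal.span {(X : k[X]) ^ n}) : x ∣ y ∨ y ∣ x := by
  rcases truncated_eq_zero_or k n x with rfl | ⟨i, u, hu, rfl⟩
  · right; exact dvd_zero _
  rcases truncated_eq_zero_or k n y with rfl | ⟨j, v, hv, rfl⟩
  · left; exact dvd_zero _
  rcases le_total i j with hij | hij
  · left
    rw [hu.mul_right_dvd, hv.dvd_mul_right]
    exact pow_dvd_pow _ hij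
  · right
    rw [hv.mul_right_dvd, hu.dvd_mul_right]
    exact pow_dvd_pow _ hij

theorem truncated_isLocalRing (hn : 0 < n) : IsLocalRing (k[X] ⧸ Ideal.span {(X : k[X]) ^ n}) := by
  have hnt : Nontrivial (k[X] ⧸ Ideal.span {(X : k[X]) ^ n}) := by
    rw [Ideal.Quotient.nontrivial_iff, Ne, Ideal.span_singleton_eq_top]
    intro h
    exact not_isUnit_X ((isUnit_pow_iff hn.ne').mp h)
  apply IsLocalRing.of_isUnit_or_isUnit_one_sub_self
  intro x
  rcases truncated_eq_zero_or k n x with rfl | ⟨i, u, hu, rfl⟩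
  · right; simp
  · rcases Nat.eq_zero_or_pos i with rfl | hi
    · left; simpa using hu
    · right
      apply IsNilpotent.isUnit_one_sub
      refine ⟨n, ?_⟩
      rw [mul_pow, ← pow_mul, mul_comm i n, pow_mul, ← map_pow]
      have : Ideal.Quotient.mk (Ideal.span {(X : k[X]) ^ n}) (X ^ n) = 0 :=
        Ideal.Quotient.eq_zero_iff_mem.mpr (Ideal.subset_span (Set.mem_singleton _))
      rw [this, zero_pow hi.ne', zero_mul]

theorem truncated_finite : Module.Finite k (k[X] ⧸ Ideal.span {(X : k[X]) ^ n}) := by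
  have hne : (X : k[X]) ^ n ≠ 0 := pow_ne_zero _ X_ne_zero
  exact (AdjoinRoot.powerBasis hne).finite

end truncated



theorem subalgebra_principal_of_dvd_total (k : Type u) [Field k]
    (B : Type u) [CommRing B] [IsLocalRing B] [Algebra k B] [Module.Finite k B]
    (hdiv : ∀ x y : B, x ∣ y ∨ y ∣ x) (A : Subalgebra k B) [Module.Flat A B] :
    ∃ (_ : IsLocalRing A), (IsLocalRing.maximalIdeal A).IsPrincipal := by
  have hint : Algebra.IsIntegral A B := Algebra.IsIntegral.tower_top (R := k)
  have hff : Module.FaithfullyFlat A B := by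
    apply Module.FaithfullyFlat.of_comap_surjective
    intro P
    have hker : RingHom.ker (algebraMap A B) ≤ P.asIdeal := by
      intro a ha
      rw [RingHom.mem_ker] at ha
      have : a = 0 := Subtype.ext ha
      rw [this]; exact zero_mem _
    have hP : P.asIdeal.IsPrime := P.isPrime
    obtain ⟨Q, -, hQ, hQP⟩ := Ideal.exists_ideal_over_prime_of_isIntegral (S := B) P.asIdeal ⊥
      (by rw [← RingHom.ker_eq_comap_bot]; exact hker)
    exact ⟨⟨Q, hQ⟩, PrimeSpectrum.ext hQP⟩
  have hloc : IsLocalRing A := Module.FaithfullyFlat.isLocalRing A B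
  refine ⟨hloc, ?_⟩
  have hnoeth : IsNoetherianRing A := IsNoetherianRing.of_finite k A
  -- maximal principal ideal inside the maximal ideal
  let S : Set (Ideal A) := {I | ∃ a ∈ IsLocalRing.maximalIdeal A, I = Ideal.span {a}}
  have hS : S.Nonempty := ⟨Ideal.span {0}, 0, zero_mem _, rfl⟩
  obtain ⟨I, ⟨a₀, ha₀, rfl⟩, hmax⟩ := set_has_maximal_iff_noetherian.mpr hnoeth S hS
  have hcontr : ∀ a b : A, (a : B) ∣ (b : B) → b ∈ Ideal.span {a} := by
    intro a b hab
    rw [← Ideal.comap_map_eq_self_of_faithfullyFlat (B := B) (Ideal.span {a}), Ideal.mem_comap,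
      Ideal.map_span, Set.image_singleton, Ideal.mem_span_singleton]
    exact hab
  refine ⟨a₀, le_antisymm ?_ ?_⟩
  · intro a ha
    rcases hdiv (a₀ : B) (a : B) with h | h
    · exact hcontr _ _ h
    · have h1 : a₀ ∈ Ideal.span {a} := hcontr _ _ h
      have h2 : Ideal.span {a₀} ≤ Ideal.span {a} := (Ideal.span_singleton_le_iff_mem _).mpr h1
      have h3 : ¬ Ideal.span {a₀} < Ideal.span {a} := hmax _ ⟨a, ha, rfl⟩
      have h4 : Ideal.span {a₀} = Ideal.span {a} := by
        by_contra hne
        exact h3 (lt_of_le_of_ne h2 hne)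
      show a ∈ Ideal.span {a₀}
      rw [h4]; exact Ideal.subset_span (Set.mem_singleton _)
  · show Ideal.span {a₀} ≤ _
    exact (Ideal.span_singleton_le_iff_mem _).mpr ha₀


end Groth.Agent.Lib.Helper71
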